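import Mathlib
import Cfsg.Agent.Lib.Helper27.GolayWeights

set_option autoImplicit false
open Cfsg

/-! Counting the words of given weight in the length-24 code, on top of the bit-mask model of
`Cfsg.Agent.Helper27`. -/

namespace Cfsg.Agent.Helper29

open Cfsg.Agent.Helper27
open Cfsg.Agent.S0358 (idx)

/-- number of `n < N` with `pop24 (cw n) = k` -/
def countW (k : ℕ) : ℕ → ℕ
  | 0 => 0
  | n + 1 => countW k n + if pop24 (cw n) = k then 1 else 0

theorem countW_eq (k N : ℕ) :
    countW k N = ((Finset.range N).filter (fun n => pop24 (cw n) = k)).card := by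
  induction N with
  | zero => simp [countW]
  | succ N ih =>
    rw [countW, ih, Finset.range_add_one, Finset.filter_insert]
    split_ifs with h
    · rw [Finset.card_insert_of_notMem]
      intro hmem
      rw [Finset.mem_filter, Finset.mem_range] at hmem
      exact lt_irrefl _ hmem.1
    · rfl

/-- the twelve basis masks -/
def maskList : List ℕ := [340831, 681662, 1363324, 2726648, 5453296, 2517985, 5035970, 1683333,
  3366666, 6733332, 5078057, 16777215]

theorem ofMask_mask_mem : ∀ M ∈ maskList, ofMask M ∈ golayCode := by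
  have h0 : ∀ i : Fin 11, ofMask (cw (2 ^ i.val)) ∈ golayCode := by
    intro i
    have h1 := qrWord_eq_ofMask ((i.val : ℕ) : ZMod 23)
    have h2 : Cfsg.Agent.S0358.coefMask ((i.val : ℕ) : ZMod 23) = 2 ^ i.val := by
      revert i; decide
    rw [h2] at h1
    rw [← h1]
    exact qrWord_mem _
  have h11 : ofMask (cw 2048) ∈ golayCode := by
    rw [← one_eq_ofMask]; exact one_mem_golayCode
  have hcw : ∀ i : Fin 11, cw (2 ^ i.val) = maskList.getD i.val 0 := by decide
  have hcw11 : cw 2048 = 16777215 := by decide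
  intro M hM
  simp only [maskList, List.mem_cons, List.not_mem_nil, or_false] at hM
  rcases hM with rfl | rfl | rfl | rfl | rfl | rfl | rfl | rfl | rfl | rfl | rfl | rfl
  · have := h0 0; rwa [hcw 0] at this
  · have := h0 1; rwa [hcw 1] at this
  · have := h0 2; rwa [hcw 2] at this
  · have := h0 3; rwa [hcw 3] at this
  · have := h0 4; rwa [hcw 4] at this
  · have := h0 5; rwa [hcw 5] at this
  · have := h0 6; rwa [hcw 6] at this
  · have := h0 7; rwa [hcw 7] at this
  · have := h0 8; rwa [hcw 8] at this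
  · have := h0 9; rwa [hcw 9] at this
  · have := h0 10; rwa [hcw 10] at this
  · rwa [hcw11] at h11

theorem ofMask_bit_mul_mem (n i M : ℕ) (hM : M ∈ maskList) : ofMask (bit' n i * M) ∈ golayCode := by
  rcases bit'_le_one n i with h | h
  · rw [h, zero_mul, ofMask_zero]; exact golayCode.zero_mem
  · rw [h, one_mul]; exact ofMask_mask_mem M hM

/-- every word `ofMask (cw n)` lies in the code -/
theorem cw_mem (n : ℕ) : ofMask (cw n) ∈ golayCode := by
  unfold cw
  simp only [ofMask_xor]
  refine golayCode.add_mem (golayCode.add_mem (golayCode.add_mem (golayCode.add_mem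
    (golayCode.add_mem (golayCode.add_mem (golayCode.add_mem (golayCode.add_mem
    (golayCode.add_mem (golayCode.add_mem (golayCode.add_mem ?_ ?_) ?_) ?_) ?_) ?_) ?_) ?_) ?_)
    ?_) ?_) ?_ <;>
  · apply ofMask_bit_mul_mem
    simp [maskList]

theorem bit_mul_lt (n i M : ℕ) (hM : M < 2 ^ 24) : bit' n i * M < 2 ^ 24 := by
  rcases bit'_le_one n i with h | h
  · rw [h, zero_mul]; positivity
  · rw [h, one_mul]; exact hM

theorem cw_lt (n : ℕ) : cw n < 2 ^ 24 := by
  unfold cw
  refine Nat.xor_lt_two_pow (Nat.xor_lt_two_pow (Nat.xor_lt_two_pow (Nat.xor_lt_two_pow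
    (Nat.xor_lt_two_pow (Nat.xor_lt_two_pow (Nat.xor_lt_two_pow (Nat.xor_lt_two_pow
    (Nat.xor_lt_two_pow (Nat.xor_lt_two_pow (Nat.xor_lt_two_pow ?_ ?_) ?_) ?_) ?_) ?_) ?_) ?_) ?_)
    ?_) ?_) ?_ <;>
  · apply bit_mul_lt
    norm_num

/-- check that no nonzero index below `N` gives the zero word -/
def nzOK : ℕ → Bool
  | 0 => true
  | n + 1 => (n == 0 || cw n != 0) && nzOK n

set_option maxRecDepth 1000000 in
theorem nzOK_4096 : nzOK 4096 = true := by decide +kernel

theorem nz_of_nzOK : ∀ N : ℕ, nzOK N = true → ∀ n < N, cw n = 0 → n = 0 := by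
  intro N
  induction N with
  | zero => intro _ n hn; exact absurd hn (Nat.not_lt_zero n)
  | succ N ih =>
    intro h n hn hcw
    rw [nzOK, Bool.and_eq_true] at h
    rcases Nat.lt_succ_iff_lt_or_eq.mp hn with h1 | rfl
    · exact ih h.2 n h1 hcw
    · have h1 := h.1
      rw [Bool.or_eq_true] at h1
      rcases h1 with h1 | h1
      · exact beq_iff_eq.mp h1
      · rw [bne_iff_ne] at h1
        exact absurd hcw h1

theorem cw_injOn {n m : ℕ} (hn : n < 4096) (hm : m < 4096) (h : cw n = cw m) : n = m := by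
  have h1 : cw (n ^^^ m) = 0 := by rw [cw_xor, h, Nat.xor_self]
  have h2 : n ^^^ m < 4096 := Nat.xor_lt_two_pow (n := 12) hn hm
  have h3 := nz_of_nzOK 4096 nzOK_4096 _ h2 h1
  exact Nat.xor_eq_zero_iff.mp h3

theorem ofMask_inj {a b : ℕ} (ha : a < 2 ^ 24) (hb : b < 2 ^ 24) (h : ofMask a = ofMask b) :
    a = b := by
  apply Nat.eq_of_testBit_eq
  intro j
  by_cases hj : j < 24
  · have h1 := congrFun h (idxEquiv.symm ⟨j, hj⟩)
    have h2 : idx (idxEquiv.symm ⟨j, hj⟩) = j := by
      rw [← idxEquiv_val, Equiv.apply_symm_apply]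
    unfold ofMask at h1
    rw [h2] at h1
    cases ha' : a.testBit j <;> cases hb' : b.testBit j <;> simp_all
  · have hj' : 24 ≤ j := not_lt.mp hj
    rw [Nat.testBit_lt_two_pow (lt_of_lt_of_le ha (Nat.pow_le_pow_right (by norm_num) hj')),
      Nat.testBit_lt_two_pow (lt_of_lt_of_le hb (Nat.pow_le_pow_right (by norm_num) hj'))]

theorem support₂_injective {α : Type*} [Fintype α] :
    Function.Injective (support₂ : (α → ZMod 2) → Finset α) := by
  intro v w h
  funext a
  have h1 : a ∈ support₂ v ↔ a ∈ support₂ w := by rw [h]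
  unfold support₂ at h1
  simp only [Finset.mem_filter, Finset.mem_univ, true_and] at h1
  have key : ∀ x y : ZMod 2, (x ≠ 0 ↔ y ≠ 0) → x = y := by decide
  exact key _ _ h1

theorem wordsOfWeight_eq (k : ℕ) :
    wordsOfWeight (golayCode : Set (GolayPt → ZMod 2)) k =
      (fun n => support₂ (ofMask (cw n))) '' {n : ℕ | n < 4096 ∧ pop24 (cw n) = k} := by
  ext b
  unfold wordsOfWeight supports
  constructor
  · rintro ⟨⟨w, hw, rfl⟩, hcard⟩
    obtain ⟨n, hn, rfl⟩ := exists_cw_of_mem hw
    refine ⟨n, ⟨hn, ?_⟩, rfl⟩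
    rw [← card_support₂_ofMask]; exact hcard
  · rintro ⟨n, ⟨hn, hk⟩, rfl⟩
    refine ⟨⟨ofMask (cw n), cw_mem n, rfl⟩, ?_⟩
    rw [card_support₂_ofMask]; exact hk

theorem ncard_wordsOfWeight (k : ℕ) :
    (wordsOfWeight (golayCode : Set (GolayPt → ZMod 2)) k).ncard = countW k 4096 := by
  have hinj : Set.InjOn (fun n => support₂ (ofMask (cw n)))
      {n : ℕ | n < 4096 ∧ pop24 (cw n) = k} := by
    intro n hn m hm h
    have h1 := support₂_injective h
    have h2 := ofMask_inj (cw_lt n) (cw_lt m) h1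
    exact cw_injOn hn.1 hm.1 h2
  rw [wordsOfWeight_eq, Set.InjOn.ncard_image hinj, countW_eq]
  rw [← Set.ncard_coe_finset]
  congr 1
  ext n
  simp [Finset.mem_range]

end Cfsg.Agent.Helper29
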