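import Mathlib
import Cfsg.Agent.Lib.Helper27.GolayWeights
import Cfsg.Agent.Lib.Helper17.SchreierSims

set_option autoImplicit false
open Cfsg

/-! A verified stabilizer chain for the group generated by the three standard generators of the
group of the length-24 code. All permutations are encoded as natural numbers (5 bits per point);
the data were found by a computer search and are checked here by kernel evaluation. -/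

namespace Cfsg.Agent.Helper29.M24

open Cfsg.Agent.Helper27
open Cfsg.Agent.S0358 (idx)

/-- image of the point `i` under the encoded permutation `c` -/
def app (c i : ℕ) : ℕ := (c >>> (5 * i)) &&& 31

/-- decode a position -/
def dec (k : ℕ) : GolayPt := if h : k < 23 then some ((⟨k, h⟩ : Fin 23)) else none

theorem idx_dec : ∀ k : Fin 24, idx (dec k.val) = k.val := by decide

theorem dec_idx : ∀ p : GolayPt, dec (idx p) = p := by decide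

theorem idx_lt : ∀ p : GolayPt, idx p < 24 := by decide

theorem idx_injective : Function.Injective idx := by
  intro p q h
  have := congrArg dec h
  rwa [dec_idx, dec_idx] at this

def gtab : List (ℕ × ℕ) := [(956302485175575353788796878166559809, 983478296959358443554250846857397270),
  (1795248432537898728475572672376535, 1795248432537898728475572672376535),
  (974380510768821363662145534143076928, 980275914351787324191492553553580224),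
  (979237512961369782767096800185331296, 963308040770195303783117345656492384),
  (979583992404381547555516355153417248, 971068082619117087126432367650285600),
  (979440941935200233464249839734345760, 973031000525147552946444930843725856),
  (982251114264959631096782468745988128, 983238193231949244611641028452616224),
  (980670515492242546655962587769243680, 978123896637869359048685621472397344),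
  (982125237077252311731715764534741024, 966039336168793943308839874394687520),
  (967812279691448225500382947153381408, 967812279691448225500382947153381408),
  (975346028712660580592452217730074656, 975346028712660580592452217730074656),
  (961365507626256404119956257276790816, 961365507626256404119956257276790816),
  (971592882964418941354553515258775584, 971592882964418941354553515258775584)]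

def dtab : List ℕ := [1, 0, 2, 2, 3, 3, 4, 4, 5, 6, 6, 6, 6]

def slptab : List (List ℕ × List ℕ) := [([], []),
  ([], []),
  ([], []),
  ([0, 1, 0, 0, 0], [0, 2, 2, 1, 0, 2, 1, 2, 1, 2, 0, 2, 2]),
  ([1, 0, 0, 0, 1, 0, 2, 2, 0, 3, 3, 2], [2, 3, 1, 2, 2, 0, 1, 3, 1, 1, 3, 0, 2]),
  ([0, 2, 0, 2, 2, 2, 3], [3, 0, 1, 2, 3, 2, 2, 1, 2, 3, 3, 2]),
  ([0, 0, 2, 0, 3, 3, 2, 4, 4, 4, 5], [4, 5, 3, 4, 0, 2, 5, 4, 1, 1, 3]),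
  ([1, 5], [1, 1, 2, 3, 4, 6, 5, 1, 2, 3, 4]),
  ([2, 0, 0, 3, 3, 3, 2, 5, 6, 6, 6, 6], [5, 7, 2, 2, 5, 3, 1, 1, 2, 0, 2]),
  ([1, 3, 4, 4, 5, 6, 7, 6], [3, 5, 3, 1, 3, 4, 3, 7, 4, 7, 8, 6, 6]),
  ([3, 2, 2, 2, 4, 4, 4, 5, 4, 7, 6, 6, 7, 6, 8, 8], [1, 4, 4, 4, 2, 9, 4, 8, 1]),
  ([2, 0, 0, 3, 2, 2, 3, 4, 4, 4, 4, 4, 5, 4, 7, 6, 7], [3, 3, 6, 2, 8, 3, 5, 5, 0, 9, 10, 8, 6]),
  ([1, 0, 2, 0, 2, 3, 2, 2, 3, 4, 4, 4, 5, 7, 7, 6, 8, 8], [1, 3, 0, 8, 2, 3, 10])]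

def btab : List ℕ := [23, 0, 1, 2, 3, 5, 4]

def otab : List (List ℕ) := [[0, 1, 2, 3, 4, 5, 6, 7, 8, 9, 10, 11, 12, 13, 14, 15, 16, 17, 18, 19, 20, 21, 22, 23],
  [0, 1, 2, 3, 4, 5, 6, 7, 8, 9, 10, 11, 12, 13, 14, 15, 16, 17, 18, 19, 20, 21, 22],
  [1, 2, 3, 4, 5, 6, 7, 8, 9, 10, 11, 12, 13, 14, 15, 16, 17, 18, 19, 20, 21, 22],
  [2, 3, 4, 5, 6, 7, 8, 9, 10, 11, 12, 13, 14, 15, 16, 17, 18, 19, 20, 21, 22],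
  [3, 4, 5, 6, 7, 8, 9, 10, 11, 12, 13, 14, 15, 16, 17, 18, 19, 20, 21, 22],
  [5, 14, 17],
  [4, 6, 7, 8, 9, 10, 11, 12, 13, 15, 16, 18, 19, 20, 21, 22]]

def twtab : List (List (List ℕ)) := [[[1], [0, 1], [0, 0, 1], [0, 0, 0, 1], [2, 2, 0, 1], [0, 2, 2, 0, 1], [2, 0, 0, 1], [0, 2, 0, 0, 1], [2, 0, 1, 0, 0, 1], [1, 0, 2, 2, 0, 1], [2, 0, 0, 2, 0, 1], [1, 0, 0, 1], [0, 1, 0, 0, 1], [0, 0, 1, 0, 0, 1], [2, 1, 0, 1], [1, 0, 0, 0, 1], [0, 1, 0, 0, 0, 1], [2, 2, 1, 0, 1], [2, 0, 1], [0, 2, 0, 1], [0, 0, 2, 0, 1], [1, 0, 1, 0, 0, 1], [1, 0, 1], []],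
  [[], [0], [0, 0], [0, 0, 0], [2, 2, 0], [0, 2, 2, 0], [2, 0, 0], [0, 2, 0, 0], [0, 0, 2, 0, 0], [0, 0, 0, 2, 0, 0], [2, 0, 0, 2, 0], [0, 2, 0, 0, 2, 0], [2, 0, 0, 0, 2, 0, 0], [2, 2, 0, 0, 2, 0, 0], [2, 2, 0, 2, 0], [0, 2, 2, 0, 2, 0], [2, 0, 0, 2, 0, 0], [2, 2, 2, 0, 2, 0], [2, 0], [0, 2, 0], [0, 0, 2, 0], [0, 0, 0, 2, 0], [2, 0, 2, 0], []],
  [[], [], [2, 2, 2], [3, 2], [2, 2], [2, 3, 2, 2], [3, 3], [3, 2, 2], [3, 2, 2, 3], [2, 3, 3, 2, 2], [3, 2, 3, 2, 2], [3, 2, 2, 2], [3, 3, 3, 2], [3, 3, 2, 2], [2, 2, 3], [3, 2, 2, 2, 3], [2, 3, 2, 2, 3], [2, 2, 2, 3], [2], [3], [2, 3, 3, 2], [3, 3, 2], [2, 3], []],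
  [[], [], [], [5, 5, 4], [4, 4, 4, 5], [4, 5, 5, 4], [5, 4, 4, 4, 5], [5, 4, 5, 4], [4, 5, 4, 5, 4], [5, 4, 4, 4, 4, 5], [4, 4, 4, 4, 5], [4, 5, 4], [4, 4, 5, 4], [5, 4, 4, 5, 4], [4, 5, 4, 4, 5, 4], [4, 4, 4, 4, 4, 5, 4], [4, 4, 5], [5, 4], [4, 4, 4, 4, 5, 4], [4, 5], [5], [4], [4, 4, 4, 5, 4], []],
  [[], [], [], [], [6, 6], [6, 6, 7, 6], [6], [7, 6, 6], [7, 7, 6], [6, 7], [7, 6], [7, 6, 7], [6, 7, 6], [7], [6, 7, 6, 7], [6, 6, 6], [7, 6, 6, 7, 6], [7, 6, 7, 6], [6, 6, 6, 6], [6, 6, 6, 7, 6], [7, 6, 6, 6, 7, 6], [6, 6, 7, 6, 7], [7, 7, 6, 7, 6], []],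
  [[], [], [], [], [], [], [], [], [], [], [], [], [], [], [8, 8], [], [], [8], [], [], [], [], [], []],
  [[], [], [], [], [], [], [12, 9], [12, 11, 9], [12, 10, 9], [11, 9], [9], [12], [12, 11], [10, 9], [], [11, 10], [11, 10, 9], [], [12, 11, 10, 9], [12, 10], [10], [12, 11, 10], [11], []]]

def ctab : List (List (List (List ℕ))) := [
  [[[], [], [], [3, 2, 2, 2, 5, 4, 7, 6, 12, 11, 10, 9], [], [3, 2, 2, 2, 4, 4, 4, 5, 4, 6, 7, 8, 11, 10, 9], [], [2, 0, 0, 0, 2, 0, 0, 3, 2, 3, 2, 2, 4, 5, 5, 4, 7, 6, 7, 8, 8, 10], [0, 2, 2, 0, 2, 3, 2, 2, 5, 5, 4, 7, 6, 11, 9], [2, 2, 0, 3, 3, 2, 4, 4, 4, 4, 4, 5, 4, 6, 6, 6, 6, 8, 12, 9], [2, 0, 0, 0, 2, 0, 0, 2, 2, 4, 4, 5, 6, 6, 8, 8, 10, 9], [], [], [2, 0, 3, 5, 4, 7, 6, 8, 8, 12, 10], [2, 0, 0, 3, 2, 3, 2, 2, 4, 4, 5,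 7, 6, 6, 6, 7, 6, 8], [], [0, 2, 0, 0, 2, 3, 2, 2, 5, 7, 6, 7, 8, 8, 12, 10], [0, 0, 0, 2, 0, 0, 3, 4, 5, 4, 4, 5, 4, 8, 8, 12, 10], [], [], [0, 2, 3, 3, 2, 2, 4, 5, 4, 5, 4, 6, 7, 9], [], [2, 0, 2, 0, 2, 6, 6, 11, 10], [0]],
   [[], [], [], [], [], [], [2, 2, 0, 2, 0, 3, 2, 7, 7, 6, 8, 8, 12], [2, 0, 0, 2, 0, 0, 2, 2, 4, 5, 4, 7, 6, 6, 6, 7, 6, 8, 12, 11], [0, 0, 2, 0, 2, 2, 4, 5, 4, 7, 7, 6, 7, 6, 8, 11, 10], [], [2, 0, 0, 0, 2, 0, 0, 2, 2, 4, 4, 5, 6, 6, 8, 8, 10, 9], [], [], [2, 2, 0, 2, 0, 3, 3, 2, 4, 5, 5, 4, 7, 6, 6, 8, 8, 12, 11], [], [], [0, 2, 0, 0, 2, 4, 5, 5, 4, 7, 7, 6, 8, 8], [], [], [2, 0, 0, 0, 2, 0, 0, 3, 3, 2, 2, 4, 4, 4, 5, 6, 6, 7, 6, 8, 8, 12, 9], [0, 3, 4, 5, 4, 7, 6, 7, 6, 8, 8, 9], [], [], []],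
   [[2], [], [], [3, 2, 2, 2, 3, 4, 4, 4, 4, 5, 6, 6, 8, 12], [3, 3, 3, 2, 4, 5, 5, 4, 7, 7, 6, 7, 6, 8, 12, 11], [0, 3, 2, 2, 3, 4, 5, 4, 7, 6, 7, 8, 8, 12, 10, 9], [3, 2, 2, 2, 3, 4, 4, 4, 5, 6, 6, 6, 6, 8, 8, 10, 9], [3, 5, 4, 7, 7, 6, 10], [0, 0, 0, 2, 0, 3, 3, 3, 2, 4, 5, 4, 4, 5, 4, 7, 6, 8, 8, 12, 9], [0, 3, 2, 2, 3, 4, 5, 4, 7, 6, 7, 8, 8, 12, 10, 9], [3, 3, 3, 2, 4, 4, 4, 4, 5, 7, 6, 7, 12, 11], [2, 2, 0, 2, 0, 3, 2, 7, 7, 6, 8, 8, 12], [], [0, 0, 0, 2, 0, 0, 2, 4, 7, 6, 8, 11, 10, 9], [], [3, 2, 2, 2, 3, 4, 4, 4, 4, 5, 6, 6, 8, 12], [0, 0, 2, 0, 3, 2, 4, 4, 4, 4, 5, 6, 6, 7, 6, 10, 9], [3, 3, 3, 2, 4, 5, 5, 4, 7, 7, 6, 7, 6, 8, 12, 11], [], [0, 3, 3, 4, 5, 4, 5, 4, 7, 6, 7, 6, 8, 12, 11, 9], [], [0, 0, 2, 0, 2, 2, 4, 5, 4, 7, 7, 6, 7, 6, 8, 11, 10],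 [], [2]],
   [[2, 2, 3, 6, 6, 7, 6, 8, 8, 10, 9], [2, 2, 3, 4, 7, 7, 6, 7, 6, 8, 12, 11], [2, 0, 0, 0, 2, 0, 0, 3, 2, 2, 2, 3, 4, 4, 4, 4, 4, 5, 4, 6, 7, 6, 7, 8, 11, 9], [0, 3, 2, 2, 4, 4, 5, 7, 12, 11, 9], [2, 2, 5, 4, 4, 4, 5, 7, 6, 6, 12, 11, 10, 9], [3, 3, 2, 4, 5, 7, 6, 7, 6, 8, 8, 12], [0, 2, 2, 2, 3, 4, 5, 6, 6, 6, 8, 8, 12, 11, 10], [2, 0, 0, 0, 2, 0, 0, 3, 3, 2, 5, 4, 4, 4, 5, 8, 8, 11, 9], [0, 2, 0, 0, 2, 0, 2, 2, 5, 4, 5, 4, 7, 6, 8], [2, 0, 0, 0, 2, 0, 0, 3, 3, 5, 5, 4, 6, 6, 8, 8, 11], [0, 3, 3, 2, 4, 4, 4, 4, 5, 6, 6, 8, 12, 10, 9], [0, 3, 2, 5, 4, 4, 4, 4, 5, 7, 7, 6, 12, 11, 10, 9], [0, 2, 0, 0, 3, 3, 4, 7, 11, 10, 9], [0, 0, 2, 0, 0, 3, 2, 2, 3, 4, 4, 4, 4, 5, 6, 6, 6, 7, 6, 8, 12, 11], [0, 3, 2, 2, 2, 4, 5, 4, 4, 5, 4, 6, 7, 6], [3, 4, 4, 5,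 6, 8, 12, 10, 9], [2, 0, 2, 0, 2, 2, 2, 4, 5, 4, 5, 4, 9], [3, 2, 2, 3, 4, 5, 4, 5, 4, 6, 6, 7, 6, 7, 8, 8, 12, 11], [3, 2, 2, 3, 4, 5, 4, 5, 4, 6, 6, 7, 6, 8, 11, 10], [2, 3, 2, 2, 4, 4, 4, 4, 5, 4, 6, 7, 6, 7, 9], [2, 3, 2, 2, 5, 4, 4, 4, 5, 6, 7, 6, 8, 11, 10], [0, 2, 0, 0, 2, 0, 2, 2, 3, 4, 4, 5, 6, 6, 7, 6, 8, 8, 10, 9], [0, 2, 3, 7, 6, 6, 6, 7, 6, 8, 8, 11, 10], [3]],
   [[2, 2, 3, 4, 4, 4, 5, 8, 12, 9], [4, 4, 5, 4, 6, 6, 7, 6, 8, 8, 12, 10, 9], [0, 3, 2, 2, 2, 3, 4, 4, 5, 4, 7, 6, 6, 6, 7, 6, 8, 12, 11, 9], [2, 2, 2, 3, 4, 4, 4, 5, 7, 6, 6, 8, 8, 11, 9], [2, 2, 2, 3, 4, 7, 6, 7, 6, 10], [2, 0, 0, 0, 2, 0, 0, 5, 4, 5, 4, 6, 6, 6, 8, 12, 10], [0, 3, 2, 3, 2, 2, 4, 5, 4, 5, 4, 7, 6, 6, 12, 11, 9], [2, 0, 0, 0, 2, 0, 0, 2, 2, 5, 4, 4, 4, 4, 5, 6, 6, 8, 11],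 [0, 0, 0, 2, 0, 3, 3, 5, 4, 4, 5, 4, 7, 6, 6, 7, 6, 8, 8, 12, 11, 10], [2, 2, 0, 3, 3, 4, 5, 5, 4, 6, 7, 8, 9], [3, 2, 5, 4, 4, 4, 5, 7, 6, 6, 8, 12, 10, 9], [0, 3, 2, 3, 2, 2, 4, 7, 6, 6, 6, 7, 6, 8, 8, 11, 9], [2, 0, 0, 0, 2, 0, 0, 3, 4, 4, 4, 4, 5, 4, 6, 6, 8, 8, 12, 9], [0, 0, 2, 0, 3, 2, 2, 3, 4, 5, 4, 4, 5, 4, 7, 8, 8, 10, 9], [2, 3, 2, 2, 3, 4, 5, 4, 6, 6, 12, 11, 10], [2, 0, 0, 0, 2, 0, 0, 2, 2, 3, 4, 4, 4, 4, 4, 5, 4, 6, 6, 7, 6, 8, 8, 10], [2, 0, 2, 0, 2, 3, 3, 2, 2, 4, 5, 6, 6, 6, 7, 6, 8, 8, 12, 11, 10], [3, 3, 3, 2, 4, 4, 4, 4, 5, 4, 7, 8, 8, 11, 10, 9], [0, 0, 2, 0, 0, 3, 2, 4, 4, 4, 4, 4, 5, 4, 6, 7, 6, 8, 12], [0, 0, 2, 0, 0, 3, 2, 5, 4, 5, 4, 7, 6, 12, 10, 9], [3, 2, 2, 3, 5, 4, 7, 6, 8, 8, 11], [2, 2, 0, 0, 2, 0, 0, 3, 2, 7, 6, 9], [0, 2, 3,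 4, 5, 5, 4, 6, 6, 6, 6, 8, 8, 12, 11], [4]],
   [[2, 2, 3, 4, 5, 4, 4, 5, 4, 6, 8, 8, 12, 11, 10, 9], [4, 6, 8, 8, 11, 9], [2, 2, 3, 4, 4, 4, 4, 4, 5, 4, 6, 6, 6, 8, 8, 12, 11, 9], [2, 3, 2, 2, 3, 5, 5, 4, 12, 11], [3, 3, 3, 2, 5, 6, 6, 6, 8, 8, 12, 10, 9], [2, 0, 0, 0, 2, 0, 0, 3, 2, 2, 2, 4, 5, 4, 6, 6, 6, 6, 12, 11], [2, 0, 0, 0, 2, 0, 0, 2, 3, 3, 2, 2, 4, 7, 6, 6, 10, 9], [0, 0, 2, 0, 0, 3, 2, 2, 3, 5, 4, 4, 5, 4, 6, 6, 6, 8, 11], [2, 2, 2, 0, 2, 0, 2, 5, 4, 4, 4, 4, 5, 6, 7, 6, 7, 9], [2, 2, 2, 0, 2, 0, 3, 5, 6, 6, 7, 6, 7, 8, 8, 12, 9], [2, 0, 0, 2, 0, 0, 2, 3, 4, 4, 4, 5, 4, 6, 7, 6, 7, 8, 9], [2, 2, 0, 3, 3, 4, 5, 4, 7, 11, 9], [0, 3, 2, 2, 2, 3, 4, 6, 6, 6, 6, 8, 8, 9], [2, 2, 0, 0, 2, 0, 0, 3, 2, 2, 2, 3, 5, 4, 5, 4, 7, 6, 7, 12, 11, 9], [0, 2, 3, 4,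 4, 4, 4, 5, 4, 6, 7, 6, 7, 8, 11, 10], [2, 3, 2, 2, 3, 4, 5, 4, 5, 4, 6, 6, 6, 11], [0, 2, 3, 3, 2, 4, 5, 4, 5, 4, 7, 7, 6, 7, 6, 8, 11, 10], [0, 0, 2, 0, 0, 3, 2, 4, 5, 5, 4, 6, 6, 8, 8, 11], [2, 0, 0, 0, 2, 0, 0, 4, 4, 4, 4, 5, 4, 6, 6, 8, 8, 12, 11, 10], [0, 3, 2, 2, 2, 3, 4, 4, 4, 4, 5, 4, 7, 6, 7, 8, 8, 12, 9], [2, 2, 3, 4, 5, 4, 4, 5, 4, 6, 6, 6, 9], [2, 2, 0, 2, 0, 2, 3, 2, 2, 5, 4, 4, 5, 4, 7, 6, 6, 8, 12], [0, 2, 3, 5, 7, 6, 7, 6, 8, 8, 11, 9], [5]],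
   [[3, 2, 2, 3, 6, 6, 7, 6, 7, 10], [5, 4, 6, 6, 6, 7, 6, 12], [5, 4, 4, 5, 4, 6, 7, 8, 10, 9], [3, 2, 2, 2, 4, 5, 7, 8, 12, 11, 9], [0, 0, 2, 0, 0, 3, 2, 4, 4, 5, 6, 7, 11, 9], [4, 4, 4, 5, 4, 7, 7, 6, 8, 8], [3, 2, 2, 2, 4, 4, 5, 6, 7, 6, 8, 11, 10, 9], [2, 0, 0, 0, 2, 0, 0, 3, 3, 3, 2, 7, 8, 10, 9], [2, 0, 2, 3, 4, 4, 4, 4, 5, 4, 6, 7, 6, 8, 12, 11, 10], [0, 2, 5, 4, 4, 5, 4, 6, 7, 6, 8, 12, 11, 10, 9], [2, 0, 0, 0, 2, 0, 0, 3, 2, 2, 3, 5, 5, 4, 12, 11, 10], [2, 2, 2, 5, 7, 11], [0, 3, 2, 2, 2, 3, 5, 4, 4, 4, 5, 6, 7, 8, 8, 12], [0, 0, 2, 0, 0, 3, 3, 3, 2, 4, 4, 4, 4, 5, 6, 7, 9], [2, 0, 0, 0, 2, 0, 0, 4, 5, 4, 6, 6, 6, 7, 6, 11], [0, 3, 2, 2, 2, 5, 6, 11, 9], [2, 2, 0, 2, 3, 2, 2, 3, 5, 4, 5, 4, 6, 6, 12, 9], [2, 2, 0, 2, 3, 4, 5, 4, 5, 4, 6, 7, 6, 7, 8,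 12, 11], [3, 2, 2, 3, 7, 6, 6, 6, 7, 6, 8, 11, 10, 9], [0, 0, 2, 0, 0, 3, 2, 5, 4, 4, 4, 4, 5, 7, 6, 7, 8, 10, 9], [2, 0, 0, 0, 2, 0, 0, 2, 3, 2, 2, 3, 4, 6, 6, 6, 6, 8, 8, 12, 11, 10, 9], [2, 2, 0, 0, 2, 0, 0, 3, 3, 2, 4, 6, 7, 6, 7, 12, 11, 9], [2, 2, 2, 0, 2, 0, 2, 4, 4, 5, 4, 7, 6], [6]],
   [[3, 3, 5, 4, 4, 4, 5, 11, 9], [4, 4, 4, 4, 5, 6, 7, 6, 12, 9], [5, 4, 6, 6, 6, 8, 8, 12, 11, 10, 9], [2, 0, 0, 0, 2, 0, 0, 3, 5, 4, 4, 4, 4, 5, 6, 7, 6, 8, 12, 11, 9], [2, 2, 4, 4, 4, 5, 7, 6, 6, 6, 7, 6, 8, 12, 10, 9], [0, 0, 2, 0, 0, 3, 2, 5, 4, 6, 6, 8, 12, 11, 10, 9], [3, 4, 4, 4, 5, 4, 6, 12, 9], [2, 0, 0, 2, 0, 0, 3, 3, 2, 4, 5, 4, 6, 6, 7, 6, 8, 8, 12, 10], [0, 2, 0, 0, 2, 0, 3, 2, 2, 2, 5, 5, 4, 6, 6, 7, 6, 7, 8, 8, 11], [2, 2, 2, 3, 4, 5, 4, 6, 7, 6, 8, 11, 10,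 9], [2, 0, 0, 0, 2, 0, 0, 3, 2, 2, 2, 3, 5, 4, 4, 5, 4, 6, 7, 6, 11], [2, 3, 6, 6, 6, 6, 12, 10, 9], [2, 0, 0, 2, 0, 0, 3, 2, 5, 8, 12, 11, 9], [0, 2, 0, 0, 2, 0, 5, 5, 4, 7, 7, 6, 12, 11, 9], [0, 2, 3, 5, 5, 4, 7, 6, 6, 7, 6, 8, 8, 10], [0, 3, 2, 2, 2, 5, 4, 6, 6, 7, 6, 7, 8, 12, 11, 10, 9], [2, 0, 0, 2, 0, 0, 3, 2, 3, 2, 2, 5, 5, 4, 6, 7, 6, 8, 8], [5, 4, 4, 4, 5, 6, 6, 6, 7, 6, 8, 8, 11, 10, 9], [2, 3, 2, 2, 3, 7, 6, 7, 8, 8, 9], [2, 2, 3, 4, 4, 4, 5, 7, 7, 6, 7, 6, 8, 8, 12], [2, 0, 0, 0, 2, 0, 0, 3, 2, 2, 2, 5, 4, 4, 5, 4, 7, 6, 6, 12, 10], [0, 2, 2, 0, 2, 0, 3, 2, 3, 2, 2, 4, 4, 4, 5, 4, 6, 7, 8, 11, 10], [2, 2, 0, 2, 0, 2, 4, 4, 5, 4, 7, 6, 7, 8, 8, 12, 10], [7]],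
   [[3, 2, 2, 3, 4, 5, 4, 6, 6, 6, 7, 6, 12, 10, 9], [4, 4, 4, 4, 4, 5, 4, 6, 7, 12, 10], [5, 4, 5, 4, 7, 6, 12, 10], [4, 5, 4, 6, 6, 8, 8, 11], [2, 2, 2, 3, 5, 4, 4, 5, 4, 6, 6, 7, 6, 7, 8, 11, 9], [0, 3, 2, 2, 2, 3, 7, 6, 8, 11, 9], [0, 2, 2, 3, 4, 4, 4, 4, 4, 5, 4, 7, 6, 6, 7, 6, 11, 10, 9], [2, 3, 3, 2, 2, 4, 5, 4, 7, 6, 7, 8, 8], [0, 2, 2, 0, 3, 2, 3, 2, 2, 5, 4, 4, 4, 4, 5, 6, 12], [0, 3, 2, 2, 4, 5, 4, 5, 4, 7, 7, 6, 8, 8, 12, 11], [2, 0, 0, 0, 2, 0, 0, 3, 2, 3, 2, 2, 4, 4, 4, 4, 5, 6, 12, 11, 9], [2, 0, 0, 2, 0, 0, 5, 8, 11, 10], [2, 0, 2, 0, 3, 3, 5, 4, 7, 6, 8, 8, 12, 11], [0, 0, 2, 0, 2, 2, 2, 3, 4, 4, 4, 4, 5, 7, 7, 6, 7, 6, 12, 10], [2, 0, 0, 2, 0, 0, 3, 2, 5, 5, 4, 7, 6, 6, 7, 6, 8, 8, 11], [2, 3, 3, 2, 2, 5, 4, 4, 4, 5, 6, 6, 6, 6, 12, 10, 9], [0,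 2, 0, 2, 3, 2, 2, 4, 7, 6, 7, 6, 8], [5, 4, 7, 8, 12, 10, 9], [0, 0, 2, 0, 0, 2, 5, 4, 4, 4, 5, 6, 6, 7, 6, 7, 12, 11, 10, 9], [2, 2, 2, 3, 4, 5, 4, 5, 4, 8, 8, 11, 9], [2, 0, 0, 0, 2, 0, 0, 3, 2, 2, 3, 5, 4, 6, 6, 6, 12, 10], [2, 0, 0, 2, 0, 0, 3, 2, 4, 4, 5, 7, 7, 6, 8, 12, 11], [2, 2, 2, 0, 2, 0, 2, 4, 6, 6, 6, 7, 6, 10, 9], [8]],
   [[2, 3, 2, 2, 4, 4, 4, 4, 5, 4, 7, 6, 7, 6, 8, 8, 11], [4, 5, 7, 8, 11, 10, 9], [4, 5, 4, 4, 5, 4, 6, 7, 6, 8, 12, 10], [6, 7, 6, 7, 11, 10, 9], [2, 2, 2, 3, 4, 4, 4, 4, 5, 4, 7, 6, 6], [7, 6, 7, 11, 9], [2, 0, 0, 0, 2, 0, 0, 2, 3, 2, 2, 5, 4, 6, 7, 11, 9], [2, 0, 0, 0, 2, 0, 0, 2, 2, 5, 4, 4, 4, 4, 5, 6, 6, 6, 6, 8, 8, 12, 10], [0, 0, 2, 0, 0, 3, 2, 2, 4, 5, 4, 7, 6, 7, 6, 8, 12, 10], [2, 2, 2, 3, 4, 4, 4, 4, 5, 4, 7, 7, 6, 7,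 6, 8, 8, 12, 10, 9], [3, 2, 2, 5, 5, 4, 6, 7, 8, 9], [2, 0, 0, 0, 2, 0, 0, 2, 2, 4, 5, 8], [2, 0, 0, 0, 2, 0, 0, 3, 3, 2, 2, 4, 4, 4, 4, 5, 4, 7, 6, 6, 8, 8, 12, 11, 10, 9], [0, 3, 3, 2, 2, 5, 4, 4, 4, 4, 5, 7, 7, 6, 7, 6, 12, 11, 10, 9], [4, 5, 5, 4, 7, 8, 8], [2, 0, 0, 0, 2, 0, 0, 3, 2, 3, 2, 2, 6, 7, 6, 8, 8, 12, 11], [2, 0, 0, 3, 3, 4, 4, 4, 4, 4, 5, 4, 6, 6, 6, 8, 8, 12, 11], [4, 4, 5, 4, 7, 6, 7, 6, 8], [0, 3, 2, 2, 2, 4, 4, 4, 4, 5, 6, 6, 8, 12], [2, 0, 0, 0, 2, 0, 0, 2, 2, 3, 4, 4, 4, 5, 4, 7, 6, 7, 6, 8, 12, 10], [2, 0, 0, 0, 2, 0, 0, 3, 5, 4, 4, 4, 4, 5, 6, 7, 8, 10], [0, 0, 0, 2, 0, 2, 3, 3, 2, 5, 4, 6, 6, 6, 8, 8, 11, 10, 9], [2, 3, 2, 2, 3, 5, 4, 4, 4, 4, 5, 6, 6, 7, 6, 11, 10, 9], [9]],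
   [[3, 2, 4, 5, 4, 7, 6, 6, 7, 6, 12, 11, 10, 9], [4, 5, 4, 5, 4, 7, 6, 10], [5, 7, 6, 7, 6, 11], [7, 6, 7, 6, 11, 10, 9], [2, 2, 2, 3, 4, 4, 5, 4, 7, 6, 7, 8, 11, 10, 9], [6, 6, 7, 6, 7, 8, 8, 12, 11, 9], [2, 0, 0, 0, 2, 0, 0, 3, 2, 2, 5, 4, 4, 4, 4, 5, 6, 6, 6, 7, 6, 8, 8, 11, 10], [3, 2, 3, 2, 2, 4, 5, 4, 4, 5, 4, 7, 6, 8, 12, 11, 10], [0, 0, 2, 0, 3, 5, 4, 4, 4, 5, 12, 11, 10, 9], [2, 0, 0, 0, 2, 0, 0, 3, 3, 2, 4, 4, 5, 4, 7, 7, 6, 7, 6, 12], [2, 0, 0, 0, 2, 0, 0, 3, 3, 2, 2, 5, 4, 6, 6, 6, 8, 8, 12, 9], [2, 2, 0, 2, 0, 3, 2, 2, 3, 4, 5, 5, 4, 6, 6, 6, 10, 9], [2, 0, 0, 2, 0, 0, 3, 2, 2, 3, 4, 4, 5, 7, 6, 6, 6, 7, 6, 8, 8, 11, 10, 9], [0, 2, 2, 0, 2, 0, 3, 2, 5, 4, 6, 6, 6, 7, 6, 8, 8, 12, 11, 10], [5, 4, 5, 4, 6, 6, 7, 6, 8, 8, 11], [2, 3, 3, 2, 2, 5, 6,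 7, 6, 7, 12, 10], [0, 2, 0, 4, 4, 4, 5, 6, 6, 7, 6, 7, 11, 10, 9], [5, 4, 4, 4, 5, 7, 7, 6, 7, 6, 8, 11], [2, 2, 4, 4, 5, 6, 6, 6, 6, 8, 12], [2, 0, 0, 0, 2, 0, 0, 3, 2, 2, 2, 4, 4, 4, 4, 5, 4, 7, 6, 8, 12, 11, 9], [2, 2, 4, 5, 4, 5, 4, 6, 12, 10], [2, 0, 0, 2, 0, 2, 3, 3, 2, 2, 4, 4, 4, 4, 5, 6, 6, 7, 6, 8, 8, 11, 9], [3, 2, 2, 3, 4, 7, 7, 6, 12, 11, 10], [10]],
   [[2, 2, 2, 3, 4, 5, 5, 4, 6, 7, 6, 7, 8, 12, 11, 10], [4, 4, 5, 6, 7, 8], [4, 4, 4, 4, 5, 4, 7, 6, 6, 11, 9], [6, 7, 8, 11, 10], [0, 2, 3, 4, 5, 4, 7, 6, 7, 6, 11], [7, 6, 6, 6, 7, 6, 12, 10, 9], [2, 3, 3, 2, 4, 4, 4, 5, 4, 6, 6, 7, 6, 7, 8, 11], [3, 2, 2, 2, 3, 4, 4, 4, 5, 6, 7, 8, 12, 11, 10], [0, 0, 2, 3, 4, 5, 6, 6, 6], [2, 2, 2, 0, 2, 0, 2, 3, 2, 2, 3, 4, 4, 4, 4, 5, 4, 7, 6, 7, 10, 9], [2, 0,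 0, 2, 0, 0, 4, 4, 4, 4, 4, 5, 4, 7, 7, 6], [0, 3, 3, 5, 5, 4, 6, 6, 11], [0, 0, 2, 0, 0, 3, 2, 4, 4, 4, 4, 4, 5, 4, 7, 6, 7, 6, 12, 11], [2, 0, 0, 3, 3, 2, 5, 7, 6, 6, 6, 7, 6, 8], [4, 5, 4, 7, 7, 6, 8, 8, 12, 11, 10], [2, 2, 2, 0, 2, 0, 3, 3, 2, 2, 5, 4, 4, 4, 4, 5, 6, 6, 8, 8, 12, 11], [0, 2, 2, 3, 4, 6, 6, 7, 6, 8], [4, 5, 5, 4, 7, 6, 6, 7, 6, 11, 10], [2, 0, 0, 0, 2, 0, 0, 4, 5, 7, 6, 6, 12, 10, 9], [0, 3, 2, 2, 2, 3, 4, 4, 4, 4, 5, 4, 6, 6, 6, 6, 8, 12], [0, 0, 2, 0, 0, 2, 3, 4, 4, 4, 4, 5, 7, 6, 6, 8, 8, 12, 9], [0, 2, 0, 0, 2, 0, 3, 3, 2, 2, 4, 4, 5, 7, 6, 8, 12, 11, 10], [0, 2, 3, 5, 4, 5, 4, 6, 6, 6, 6, 11, 9], [11]],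
   [[3, 3, 2, 5, 4, 5, 4, 7, 6, 6, 7, 6, 8, 11], [4, 4, 5, 4, 7, 7, 6, 8, 12, 10, 9], [4, 5, 6, 8, 8, 12, 11], [7, 6, 6, 8, 11, 9], [2, 0, 0, 0, 2, 0, 0, 3, 5, 6, 8, 12, 11, 10, 9], [6, 6, 7, 6, 8, 8, 12, 11, 10, 9], [2, 3, 4, 5, 4, 5, 4, 7, 6, 7, 6, 8, 12], [2, 0, 0, 2, 0, 0, 3, 3, 2, 5, 6, 6, 6, 8, 12, 11], [2, 0, 0, 2, 0, 4, 4, 4, 4, 5, 7, 6, 6, 6, 7, 6, 8, 11, 9], [2, 2, 0, 2, 2, 2, 6, 6, 6, 6, 8, 12, 10], [2, 2, 3, 4, 4, 4, 5, 4, 6, 7, 6, 8, 8, 10], [0, 2, 3, 3, 2, 4, 4, 4, 5, 4, 6, 6, 6, 7, 6, 10], [2, 0, 0, 0, 2, 0, 0, 3, 4, 5, 5, 4, 6, 6, 6, 6, 8, 8, 12, 11, 10, 9], [0, 2, 0, 0, 3, 2, 2, 5, 4, 4, 5, 4, 6, 7, 6, 7, 8, 9], [4, 4, 4, 5, 4, 6, 6, 7, 6, 7, 11, 10, 9], [2, 0, 0, 0, 2, 0, 0, 2, 3, 4, 5, 5, 4, 7, 6, 6, 7, 6, 8, 12], [0, 0, 0, 2, 0, 0, 3, 2, 2,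 2, 3, 4, 6, 7, 6, 7, 8, 8, 11, 9], [4, 4, 4, 4, 5, 7, 7, 6, 8, 12, 11, 10], [0, 0, 2, 0, 0, 2, 4, 4, 4, 4, 5, 7, 6, 6, 8, 8, 12, 11], [2, 2, 3, 4, 4, 4, 4, 5, 7, 6, 7, 12, 11, 10, 9], [2, 3, 3, 2, 2, 4, 5, 5, 4, 7, 6, 6, 7, 6, 8, 12, 9], [2, 2, 0, 2, 0, 3, 2, 2, 2, 5, 5, 4, 7, 6, 6, 7, 6, 12], [0, 3, 2, 2, 2, 4, 4, 4, 4, 4, 5, 4, 7, 6, 6, 6, 7, 6, 8, 12, 11, 9], [12]]],
  [[[], [], [], [2, 3, 3, 2, 2, 4, 5, 4, 6, 8, 8, 9], [], [4, 5, 5, 4, 7, 6, 6, 11, 10], [], [], [], [3, 2, 2, 2, 4, 4, 4, 4, 5, 4, 7, 7, 6, 8, 12, 11, 10], [], [3, 2, 5, 4, 4, 4, 5, 7, 6, 6, 7, 6, 12], [3, 3, 5, 6, 7, 6, 7, 8, 9], [4, 4, 4, 4, 5, 7, 6, 8, 11, 10], [], [3, 2, 4, 5, 12, 11, 9], [3, 2, 2, 5, 4, 4, 4, 5, 6, 6, 6, 7, 6, 8, 10], [2, 2, 5, 5, 4, 7, 6, 7, 12, 10], [], [], [], [3, 2, 3,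 2, 2, 4, 5, 4, 5, 4, 6, 6, 6, 8, 8, 12, 11, 10], [3, 3, 4, 4, 4, 5, 4, 6, 8, 11, 10, 9], []],
   [[], [], [], [], [], [], [], [], [], [], [], [], [], [], [], [], [], [], [], [], [], [], [], []],
   [[2], [], [], [2, 3, 4, 5, 4, 6, 6, 6, 7, 6, 8, 11, 9], [2, 3, 2, 2, 3, 4, 4, 4, 4, 5, 6, 7, 6, 7, 8, 12, 9], [2, 2, 2, 12, 11], [2, 2, 2, 5, 7, 7, 6, 8, 12, 11, 10, 9], [5, 4, 7, 6, 7, 6, 8, 8, 11, 10], [], [], [3, 2, 2, 4, 4, 4, 4, 4, 5, 4, 6, 6, 6, 7, 6, 8, 12, 10], [3, 5, 4, 6, 7, 6, 11, 10, 9], [3, 3, 4, 5, 6, 6, 7, 6, 10], [3, 2, 2, 3, 4, 5, 6, 6, 6, 7, 6, 8, 12, 11, 10, 9], [], [2, 3, 3, 2, 2, 4, 5, 4, 4, 5, 4, 6, 6, 8, 8, 12, 10, 9], [], [2, 3, 2, 2, 3, 4, 4, 4, 5, 7, 6, 6, 6, 7, 6, 10, 9], [], [], [], [3, 4, 4, 4, 5, 4, 7, 6, 7, 6, 8, 8, 12, 11, 10, 9], [],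 []],
   [[3], [3, 4, 4, 5, 4, 7, 6, 6, 7, 6, 12, 10, 9], [3, 2, 3, 2, 2, 4, 5, 5, 4, 7, 7, 6, 11, 10], [2, 2, 2, 3, 4, 5, 4, 4, 5, 4, 7, 6, 8, 8, 12, 11], [2, 3, 6, 6, 6, 6, 8, 11], [2, 2, 3, 4, 4, 5, 8, 8], [2, 2, 2, 3, 5, 5, 4, 7, 8, 9], [2, 3, 4, 4, 4, 5, 7, 6, 7, 6, 8, 11, 9], [2, 3, 3, 2, 4, 6, 12], [3, 3, 3, 2, 5, 4, 4, 4, 5, 8, 8, 11, 9], [3, 4, 4, 5, 7, 6, 8, 10, 9], [2, 2, 3, 5, 4, 4, 4, 5, 6, 6, 8, 12, 11, 10], [3, 3, 2, 2, 4, 5, 4, 4, 5, 4, 7, 6, 6, 6, 7, 6, 10], [5, 4, 4, 4, 5, 7, 6, 6, 7, 6, 12, 11], [2, 4, 5, 4, 6, 6, 6, 7, 6, 8, 12], [3, 3, 2, 2, 4, 4, 4, 5, 6, 6, 6, 6, 8, 11, 10, 9], [3, 2, 2, 3, 5, 4, 4, 4, 5, 6, 7, 8, 8, 12, 11, 10], [2, 3, 2, 2, 4, 5, 5, 4, 6, 6, 6, 7, 6, 8, 8, 11, 10], [3, 4, 4, 4, 5, 4, 6, 12, 11, 10], [2, 2, 3, 4, 4, 4, 4,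 4, 5, 4, 7, 6, 6, 7, 6, 8, 12, 11], [2, 2, 2, 5, 4, 4, 5, 4, 7, 8, 8, 12, 11, 10, 9], [2, 3, 2, 2, 4, 5, 5, 4, 6, 6, 7, 6, 12, 9], [3, 5, 4, 4, 4, 4, 5, 6, 6, 6, 6, 8, 8, 12, 10], []],
   [[4], [2, 3, 3, 2, 6, 6, 6, 6, 8, 12, 9], [3, 2, 4, 4, 4, 4, 4, 5, 4, 12], [3, 2, 2, 2, 3, 4, 5, 5, 4, 7, 6, 6, 6, 7, 6, 8, 12, 10], [2, 2, 2, 3, 4, 4, 4, 5, 4, 7, 6, 7, 8, 12, 11, 10, 9], [2, 3, 2, 2, 5, 7, 6, 7, 11], [3, 2, 3, 2, 2, 4, 5, 4, 5, 4, 7, 6, 6, 6, 7, 6, 8, 8, 12, 11, 10, 9], [3, 2, 3, 2, 2, 4, 7, 7, 6, 7, 6, 11, 10], [3, 2, 3, 2, 2, 4, 5, 4, 6, 7, 6, 8, 11, 10], [3, 3, 4, 5, 4, 5, 4, 6, 6, 6, 7, 6, 8, 8, 12], [2, 2, 2, 6, 7, 6, 7, 8, 8, 12, 10, 9], [2, 3, 3, 2, 4, 5, 7, 6, 7, 8, 11, 10], [3, 3, 4, 7, 7, 6, 7, 6, 8, 8], [3, 2, 2, 5, 4, 4, 4, 4, 5, 7, 6, 8, 10], [3,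 3, 3, 2, 5, 5, 4, 6, 7, 10, 9], [2, 3, 4, 4, 5, 4, 7, 6, 6, 7, 6, 8, 12, 10], [2, 2, 4, 4, 4, 5, 6, 6, 6, 8], [2, 4, 4, 4, 4, 5, 4, 7, 6, 8, 9], [2, 3, 2, 2, 3, 5, 6, 6, 6, 7, 6, 8, 12, 10, 9], [2, 4, 5, 7, 6, 8, 8, 10], [3, 2, 4, 4, 4, 5, 4, 7, 6, 7, 6, 12, 11, 10], [3, 3, 5, 4, 4, 4, 4, 5, 6, 6, 7, 6, 8, 8, 10], [3, 2, 2, 2, 3, 5, 4, 5, 4, 6, 6, 10, 9], []],
   [[5], [3, 4, 4, 4, 5, 4, 6, 6, 6, 10, 9], [3, 3, 2, 2, 4, 4, 4, 4, 5, 7, 7, 6, 8, 8], [3, 3, 4, 5, 4, 7, 6, 6, 7, 6, 8, 8, 12, 11, 10, 9], [2, 2, 4, 4, 5, 6, 7, 8, 12, 9], [3, 3, 3, 2, 5, 4, 7, 6, 7, 6, 11, 10], [3, 3, 3, 2, 5, 4, 4, 4, 5, 6, 6, 7, 6, 8, 8], [3, 3, 2, 4, 6, 7], [3, 2, 2, 2, 3, 4, 4, 4, 5, 8, 11], [3, 4, 4, 5, 7, 6, 6, 11, 9], [2, 2, 2, 5, 4, 5, 4, 6, 6, 8, 8, 12, 11, 10, 9], [2, 2, 2,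 4, 4, 5, 6, 6, 6, 8, 8, 12, 11, 10, 9], [3, 3, 2, 5, 4, 7, 6, 8, 11, 9], [2, 2, 2, 5, 4, 4, 4, 4, 5, 6, 7, 6, 7, 8, 10], [3, 3, 2, 4, 5, 4, 5, 4, 7, 7, 6, 7, 6, 12, 10, 9], [2, 2, 5, 4, 5, 4, 8, 8], [3, 2, 2, 2, 4, 5, 4, 5, 4, 7, 6, 8, 8, 12, 11, 9], [2, 3, 5, 4, 4, 5, 4, 6, 6, 12, 11, 10, 9], [3, 2, 2, 2, 5, 7, 7, 6, 7, 6, 8, 9], [3, 2, 2, 2, 3, 4, 4, 4, 5, 7, 6, 6, 6, 7, 6, 8, 8, 12, 11, 10, 9], [3, 3, 3, 2, 5, 6, 8, 11, 9], [2, 2, 2, 3, 5, 4, 5, 4, 6, 6, 6, 11, 10], [2, 3, 2, 2, 3, 4, 4, 4, 4, 5, 4, 6, 6, 6, 7, 6, 8], []],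
   [[6], [4, 5, 5, 4, 7, 7, 6, 7, 6, 8, 8, 12, 11], [2, 2, 4, 5, 4, 5, 4, 6, 6, 7, 6, 8, 8, 10], [3, 3, 2, 2, 4, 4, 4, 5, 4, 7, 7, 6, 7, 6, 12, 10], [2, 5, 4, 4, 4, 4, 5, 7, 12, 11, 9], [2, 3, 2, 2, 4, 5, 4, 5, 4, 7, 8, 8, 11, 9], [3, 2, 5, 7, 6, 7, 8, 12, 10, 9], [2, 2, 3, 4, 4, 4, 5, 4, 6, 7, 6, 7, 8, 12, 10], [3, 2, 2, 2, 3, 4, 4, 4, 4, 5, 4, 7, 6, 8, 8, 12, 11, 10], [2, 2, 2, 4, 4, 5, 6, 6, 6, 7, 6], [3, 3, 3, 2, 5, 4, 6, 6, 6, 8, 10], [3, 2, 3, 2, 2, 5, 4, 4, 5, 4, 6, 6, 6, 6, 8, 12], [2, 3, 5, 7, 6, 6, 10, 9], [3, 2, 3, 2, 2, 5, 4, 5, 4, 6, 6, 7, 6, 7, 8, 12, 11, 10, 9], [3, 2, 3, 2, 2, 4, 4, 5, 7, 6, 7, 12, 9], [2, 3, 3, 2, 5, 6, 6, 7, 6, 8, 8, 12, 11], [3, 3, 2, 2, 4, 5, 4, 7, 6, 8, 8], [2, 4, 5, 5, 4, 6, 7, 6, 7, 12, 10, 9], [5, 5, 4, 7, 6, 7], [2, 3,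 3, 2, 4, 5, 4, 7, 8, 11, 9], [4, 4, 4, 4, 5, 4, 7, 8, 9], [2, 3, 2, 2, 3, 5, 4, 4, 4, 4, 5, 7, 6, 7, 8, 11, 10], [3, 3, 2, 2, 5, 4, 6, 7, 6, 7, 8, 8, 12, 11, 10, 9], []],
   [[7], [4, 4, 5, 4, 6, 7, 6, 11], [3, 2, 2, 2, 4, 4, 5, 4, 7, 6, 7, 8, 11], [2, 3, 4, 5, 4, 6, 6, 8, 8, 12, 11, 10], [3, 3, 2, 4, 4, 5, 4, 6, 7, 6, 7, 8, 12, 11, 10], [2, 2, 2, 4, 5, 5, 4, 6, 6, 7, 6, 8, 8, 12, 9], [3, 3, 2, 4, 5, 6, 6, 6, 7, 6, 8, 10, 9], [2, 3, 2, 2, 3, 4, 4, 5, 7, 6, 7, 6, 8], [3, 3, 2, 2, 4, 5, 7, 6, 8, 12], [2, 3, 2, 2, 3, 5, 4, 4, 4, 5, 6, 7, 12, 11], [2, 3, 3, 2, 2, 5, 4, 7, 6, 11, 9], [3, 4, 4, 4, 5, 6, 6, 6, 6, 8, 8, 9], [2, 2, 2, 4, 4, 4, 4, 5, 7, 6, 12, 11, 10, 9], [3, 2, 2, 4, 5, 4, 6, 6, 6, 8, 8, 9], [2, 2, 3, 5, 4, 4, 5, 4, 7, 7, 6, 7, 6, 8, 11], [3, 2, 3, 2,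 2, 4, 5, 4, 5, 4, 6, 6, 7, 6, 8, 8, 10], [3, 2, 2, 3, 7, 6, 6, 8, 9], [3, 2, 2, 2, 4, 5, 4, 4, 5, 4, 6, 6, 8, 8, 12, 9], [3, 2, 2, 2, 3, 4, 5, 5, 4, 6, 6, 6, 6, 10, 9], [2, 3, 3, 2, 2, 5, 4, 4, 5, 4, 7, 7, 6, 7, 6, 12], [3, 3, 2, 4, 4, 4, 4, 5, 6, 7, 6, 12, 9], [2, 3, 3, 2, 4, 5, 4, 7, 8, 12, 11, 9], [2, 2, 3, 4, 5, 5, 4, 6, 6, 7, 6, 12, 11], []],
   [[8], [6, 7, 8, 12, 10, 9], [4, 5, 4, 5, 4, 7, 7, 6, 7, 6, 8, 8, 11, 10, 9], [3, 2, 2, 4, 4, 5, 4, 7, 6, 6, 7, 6, 8, 8, 12, 11, 10], [2, 2, 2, 3, 4, 4, 5, 4, 7, 6, 6, 7, 6], [2, 3, 4, 4, 5, 7, 6, 7, 8, 11, 10], [2, 3, 4, 5, 4, 6, 12, 11, 10], [3, 2, 2, 2, 5, 4, 5, 4, 6, 7, 6], [3, 2, 2, 2, 3, 4, 4, 5, 4, 6, 7, 8, 8, 10, 9], [2, 2, 4, 5, 4, 5, 4, 7, 6, 7, 8, 9], [2, 5, 7, 7, 6, 7, 6, 8, 8, 10, 9], [3, 3, 3, 2, 4, 7,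 6, 6, 12, 11], [4, 4, 5, 6, 6, 8, 12, 10], [3, 2, 3, 2, 2, 5, 4, 4, 5, 4, 6, 7, 6, 7, 8, 8, 11, 10, 9], [2, 3, 2, 2, 4, 5, 4, 8, 8, 11, 10], [3, 3, 3, 2, 5, 4, 4, 4, 5, 7, 7, 6, 12, 10], [3, 3, 4, 5, 5, 4, 7, 6, 6, 6, 7, 6, 8, 8, 12, 11], [3, 2, 2, 2, 4, 4, 5, 4, 7, 8, 8, 11, 10, 9], [4, 4, 4, 5, 7, 6, 6, 8, 8, 10, 9], [3, 2, 2, 3, 7, 6, 6, 7, 6, 8, 8, 10], [3, 5, 4, 5, 4, 7, 7, 6, 8, 8, 12, 11], [3, 3, 2, 2, 5, 4, 5, 4, 7, 11, 10, 9], [2, 2, 3, 6, 6, 7, 6, 8, 8, 12, 10, 9], []],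
   [[9], [6, 7, 10, 9], [4, 5, 4, 5, 4, 6, 6, 6, 6, 8, 8, 12, 11, 9], [3, 2, 2, 4, 5, 5, 4, 6, 6, 7, 6, 7, 8, 8, 11], [2, 2, 2, 3, 4, 4, 5, 4, 7, 12, 11, 10], [4, 4, 4, 4, 4, 5, 4, 6, 6, 8, 12], [3, 2, 5, 7, 8, 10, 9], [3, 3, 3, 2, 4, 5, 6, 6, 7, 6, 7, 8, 8, 12, 11], [2, 2, 2, 3, 5, 4, 4, 4, 4, 5], [3, 2, 2, 4, 5, 4, 4, 5, 4, 7, 7, 6, 8, 10], [2, 2, 3, 4, 5, 5, 4, 6, 6, 6, 6, 11, 10], [3, 3, 3, 2, 5, 4, 4, 4, 4, 5, 6, 7, 12, 11, 10], [3, 3, 2, 5, 5, 4, 7, 6, 6, 6, 7, 6, 8], [2, 3, 2, 2, 3, 5, 4, 6, 6, 7, 6, 7, 8, 11, 10], [3, 3, 4, 4, 4, 4, 5, 6, 6, 12, 11, 10, 9], [3, 2, 2, 2, 3, 7, 7, 6, 7, 6], [2, 2, 4, 4, 4, 4, 5, 7, 8, 11], [2, 3, 2, 2, 3, 4, 4, 4, 4, 4, 5, 4, 7, 8, 12, 9], [3, 2, 2, 2, 4, 4, 4, 4, 5, 4, 6, 6, 7, 6, 8, 12, 11], [2, 5, 7, 7, 6, 7, 6, 8, 8,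 12, 10, 9], [3, 3, 2, 2, 4, 5, 4, 5, 4, 6, 6, 7, 6, 10, 9], [2, 4, 5, 4, 5, 4, 7, 6, 6, 11, 10], [2, 2, 2, 4, 5, 6, 7, 6, 7, 11], []],
   [[10], [6, 6, 6, 7, 6, 8, 12, 11], [4, 4, 4, 4, 5, 4, 7, 6, 6, 11, 9], [2, 2, 2, 3, 4, 5, 4, 11, 10, 9], [2, 5, 4, 5, 4, 6, 7, 8, 12, 10, 9], [4, 4, 5, 6, 7, 8], [2, 2, 5, 4, 5, 4, 6, 7, 8, 11, 9], [2, 3, 3, 2, 4, 4, 4, 5, 4, 6, 6, 6, 6, 8, 8, 10], [2, 3, 2, 2, 4, 4, 4, 4, 5, 4, 7, 6, 7, 12, 11, 10], [2, 5, 4, 5, 4, 6, 6, 6, 6, 8, 12, 10], [2, 3, 3, 2, 5, 7, 6, 11, 9], [3, 2, 2, 5, 5, 4, 7, 8, 8, 9], [2, 2, 5, 4, 4, 5, 4, 6, 8, 8, 12, 11, 10, 9], [3, 2, 2, 6, 7, 8, 8, 12, 11, 9], [3, 2, 2, 3, 4, 4, 4, 5, 4, 6, 6, 7, 6, 7, 8, 8, 12, 9], [3, 3, 2, 4, 5, 4, 6, 8, 12, 11], [3, 2, 2, 2, 4, 5, 5, 4, 7, 6, 7, 6, 11], [3, 3, 4, 4, 5,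 4, 8, 8, 12, 11, 10, 9], [3, 2, 2, 3, 5, 4, 4, 5, 4, 6, 6, 7, 6, 8, 8, 11, 10, 9], [3, 2, 2, 3, 4, 4, 4, 5, 7, 6, 6, 6, 7, 6, 8, 8, 12, 10, 9], [3, 2, 4, 4, 4, 4, 4, 5, 4, 6, 7, 6, 8, 9], [2, 3, 2, 2, 4, 7, 6, 6, 6, 7, 6, 8, 8, 11, 9], [2, 3, 4, 4, 4, 5, 7, 6, 6, 7, 6, 12, 10], []],
   [[11], [6, 6, 7, 6, 7, 8, 8, 12, 11, 9], [5, 7, 6, 7, 6, 11], [3, 5, 6, 8, 8, 12, 10], [3, 3, 4, 4, 4, 5, 4, 6, 6, 8, 8, 12], [5, 4, 4, 4, 5, 8, 12, 11, 10], [2, 2, 2, 5, 4, 4, 4, 5, 6, 7, 6, 7, 8, 8, 11, 9], [2, 2, 2, 3, 4, 5, 4, 5, 4, 7, 7, 6, 7, 6, 8, 12, 10, 9], [3, 3, 5, 4, 4, 4, 5, 7, 6, 8, 10, 9], [3, 2, 2, 2, 4, 5, 4, 4, 5, 4, 6, 6, 6, 6, 8, 12, 10, 9], [2, 6, 7, 6, 7, 8, 11, 9], [3, 2, 2, 2, 3, 5, 5, 4, 6, 6, 7, 6, 8], [2, 2, 5, 4, 4, 4, 5, 7, 7, 6, 12, 11, 10, 9], [2,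 2, 3, 5, 5, 4, 6, 6, 7, 6, 8, 12, 10, 9], [3, 2, 2, 4, 4, 4, 4, 5, 6, 6, 6, 6, 12, 11, 9], [3, 2, 5, 7, 6, 12, 10], [3, 3, 2, 2, 7, 6, 7, 11, 10, 9], [3, 3, 2, 5, 4, 4, 4, 4, 5, 7, 7, 6, 8, 8, 12, 9], [2, 3, 2, 2, 4, 5, 4, 7, 6, 7, 6, 8, 10], [2, 2, 2, 4, 5, 5, 4, 7, 8, 8, 12, 11], [2, 2, 4, 5, 4, 6, 7, 6, 7, 11, 10, 9], [3, 3, 3, 2, 4, 6, 6, 6, 7, 6, 8, 11, 10, 9], [2, 3, 3, 2, 2, 4, 4, 5, 6, 6, 6, 7, 6, 8, 8, 12, 11, 9], []],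
   [[12], [7, 6, 8, 11, 10], [5, 4, 4, 4, 4, 5, 7, 8, 10, 9], [3, 2, 2, 3, 5, 4, 4, 5, 4, 6, 6, 6, 12, 11, 10], [2, 2, 5, 5, 4, 6, 7, 6, 8, 8, 12, 11, 10], [5, 6, 8, 12, 9], [2, 3, 2, 2, 5, 4, 4, 4, 5, 6, 12, 11], [3, 2, 3, 2, 2, 5, 4, 4, 4, 5, 8, 12, 11], [3, 2, 3, 2, 2, 4, 5, 4, 7, 6, 7, 8, 11, 10, 9], [3, 2, 2, 2, 4, 5, 4, 5, 4, 6, 6, 6, 6, 12, 10, 9], [2, 3, 5, 4, 4, 4, 4, 5, 6, 6, 6, 6, 8, 11, 9], [3, 3, 2, 5, 5, 4, 6, 7, 6, 7, 8, 12, 10], [3, 3, 4, 4, 4, 4, 5, 4, 6, 6, 7, 6, 12], [3, 3, 3, 2, 4, 4, 4, 4, 5, 12, 11], [3, 3, 2, 4, 5, 5, 4, 6, 6, 7, 6, 7, 10], [3, 3, 3, 2, 4, 6, 7, 6, 7, 11, 10], [2, 2, 3, 4, 4, 4, 4, 5, 4, 7, 7, 6, 8, 10, 9], [3, 2, 2, 2, 3, 4, 4, 4, 5, 6, 7, 8, 8, 11, 10, 9], [2, 3, 4, 4, 4, 5, 4, 7, 6, 6, 8, 12, 11], [2, 3, 3, 2, 2, 4, 4,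 4, 5, 4, 6, 6, 6, 7, 6, 8, 8, 11, 10, 9], [3, 2, 2, 3, 5, 5, 4, 6, 6, 7, 6, 7, 8, 8, 11, 9], [2, 2, 2, 4, 5, 4, 7, 6, 6, 7, 6, 12, 10, 9], [2, 3, 2, 2, 3, 6, 7, 6, 7, 12, 10, 9], []]],
  [[[], [], [], [], [], [], [], [], [], [], [], [], [], [], [], [], [], [], [], [], [], [], [], []],
   [[], [], [], [], [], [], [], [], [], [], [], [], [], [], [], [], [], [], [], [], [], [], [], []],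
   [[], [], [4, 5, 4, 4, 5, 4, 7, 7, 6, 7, 6, 8, 8, 10, 9], [4, 5, 4, 5, 4, 7, 6, 7, 6, 8, 8, 11], [], [5, 4, 4, 5, 4, 7, 6, 6, 8, 8, 12, 11], [4, 4, 4, 4, 5, 4, 7, 6, 7, 8, 12, 11], [], [], [4, 5, 4, 7, 6, 7, 8, 8, 9], [5, 4, 4, 4, 4, 5, 7, 6, 6, 9], [4, 4, 4, 4, 5, 4, 6, 6, 6, 6, 8, 11], [4, 5, 7, 6, 7, 6, 12, 11, 10, 9], [], [], [4, 5, 4, 4, 5, 4, 7, 7, 6, 8, 12, 10, 9], [5, 4, 4, 5, 4, 6, 6, 8], [4, 5, 5, 4, 6, 6, 6, 7, 6, 8, 8, 12, 11, 10], [], [], [5, 5, 4, 6, 6, 7, 6, 7, 8, 11, 10], [], [], []],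
   [[], [], [], [], [], [], [8, 12, 11], [], [5, 5, 4, 6, 6, 6, 6, 8, 8, 11], [4, 4, 4, 5, 4, 6, 7, 8, 8, 12, 11], [4, 4, 4, 4, 5, 4, 7, 7, 6, 7, 6, 8, 11, 9], [4, 7, 6, 7, 8, 8, 10, 9], [4, 4, 4, 4, 5, 6, 6, 11, 9], [8, 12, 10], [], [4, 4, 4, 5, 7, 6, 6, 7, 6, 8, 8, 11, 10, 9], [4, 4, 5, 4, 6, 6, 7, 6, 7, 8, 12, 9], [], [], [], [4, 6, 6, 6, 8, 8, 12, 11, 9], [], [6, 6, 12, 11, 10], []],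
   [[], [4], [5, 6, 7, 11, 9], [4, 5, 4, 4, 5, 4, 6, 7, 6], [4, 6, 6, 6, 7, 6, 8, 8], [4, 4, 4, 5, 7, 6, 7, 6, 8, 12, 9], [4, 5, 4, 5, 4, 7, 6, 7, 8, 12], [5, 4, 4, 4, 4, 5, 7, 7, 6, 7, 6, 12, 11, 10, 9], [4, 5, 4, 4, 5, 4, 7, 6, 6, 12, 11, 9], [4, 5, 4, 4, 5, 4, 6, 6, 7, 6, 8, 12, 10, 9], [4, 4, 4, 4, 4, 5, 4, 7, 6, 6, 6, 7, 6, 8, 8, 12, 11], [4, 4, 4, 4, 5, 4, 7, 6, 6, 8, 11, 10], [4, 4, 4, 5, 7, 6, 6, 8, 12, 11, 10, 9], [5, 4, 4, 4, 5, 6, 7, 8, 8, 12, 11, 10, 9], [4, 4, 4, 4, 5, 4, 6, 7, 6, 7, 8, 8, 10], [4, 4, 4, 5, 4, 6, 6, 6, 7, 6, 12], [4, 6, 6, 7, 6, 12, 11, 10, 9], [4, 4, 4, 4, 4, 5, 4, 6, 6, 7, 6, 10, 9], [5, 4, 4, 5, 4, 7, 6, 6, 6, 7, 6, 8, 12, 10], [5, 4, 6, 7, 6, 8, 8, 12, 11, 10], [4, 5, 5, 4, 7, 6, 7, 11, 10], [5, 6, 6, 7, 6, 7, 8, 12, 11, 9], [4,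 5, 4, 5, 4, 6, 6, 7, 6, 7, 8, 8, 9], []],
   [[], [5], [4, 5, 4, 4, 5, 4, 6, 6, 7, 6, 7, 8, 8, 11], [4, 4, 4, 5, 4, 7, 7, 6, 8, 12, 11, 9], [7, 6, 7, 8, 11], [5, 4, 7, 6, 7, 6, 8, 11, 9], [4, 4, 5, 6, 6, 7, 6, 7, 8, 12, 11, 10, 9], [4, 5, 4, 4, 5, 4, 6, 6, 7, 6, 7, 8, 8], [5, 4, 5, 4, 7, 7, 6, 7, 6, 8, 10], [4, 7, 6, 6, 6, 7, 6, 12, 11, 10, 9], [4, 4, 4, 5, 4, 6, 6, 7, 6, 8, 8], [6, 6, 7, 6, 7, 8, 8, 10, 9], [4, 5, 4, 4, 5, 4, 7, 6, 8, 10, 9], [4, 6, 7, 6, 7, 8, 8, 10, 9], [5, 4, 4, 4, 5, 6, 7, 6, 8, 11, 10, 9], [4, 4, 4, 4, 4, 5, 4, 6, 6, 6, 6, 8, 8, 11, 10, 9], [4, 5, 5, 4, 7, 6, 6, 11, 10, 9], [4, 4, 5, 4, 6, 8, 8, 10, 9], [5, 4, 4, 5, 4, 6, 6, 6, 7, 6, 8, 12, 11, 9], [4, 4, 5, 4, 7, 6, 6, 8, 8, 9], [4, 4, 4, 4, 5, 4, 6, 7, 6, 10], [5, 4, 4, 4, 4, 5, 6, 7,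 12, 11, 10], [4, 5, 5, 4, 7, 6, 7, 6, 8, 12, 11], []],
   [[], [6], [5, 5, 4, 6, 6, 7, 6, 8, 12, 11, 10, 9], [4, 7, 6, 6, 6, 7, 6, 8, 12, 11, 10], [5, 4, 4, 4, 5, 6, 7, 6, 12], [4, 4, 5, 4, 7, 8, 8], [7, 6, 12, 11], [4, 4, 4, 4, 4, 5, 4, 7, 7, 6, 7, 6], [4, 4, 4, 4, 5, 4, 7, 6, 6, 8, 12, 10], [4, 4, 5, 7, 6, 7, 8], [6, 6, 7, 6, 8, 8, 12], [4, 5, 4, 5, 4, 7, 6, 6, 8, 9], [4, 5, 5, 4, 7, 6, 8, 8, 12, 9], [4, 4, 4, 5, 7, 6, 6, 7, 6, 8, 12], [4, 5, 5, 4, 7, 6, 6, 7, 6, 8, 8, 10], [4, 5, 4, 4, 5, 4, 7, 6, 8, 12, 10], [4, 4, 5, 4, 7, 6, 6, 6, 7, 6, 8, 12, 11, 10, 9], [5, 5, 4, 6, 6, 7, 6, 7, 12, 10, 9], [4, 4, 5, 4, 7, 6, 6, 7, 6, 8, 8, 11], [4, 5, 4, 5, 4, 7, 6, 8], [4, 5, 7, 6, 7, 6, 9], [4, 4, 4, 4, 5, 4, 7, 6, 6, 6, 7, 6, 8, 8, 12, 9], [4, 5, 4, 5, 4, 7, 8, 12,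 11, 10], []],
   [[], [7], [5, 6, 6, 6, 6, 12, 11, 10], [4, 5, 4, 4, 5, 4, 6, 6, 7, 6, 7, 8, 9], [4, 5, 4, 4, 5, 4, 7, 6, 6, 6, 7, 6, 8, 12], [4, 4, 4, 5, 4, 6, 7, 6, 12, 11, 10, 9], [4, 6, 6, 7, 6, 8, 8, 12, 10, 9], [5, 4, 4, 4, 5, 7, 6, 6, 6, 7, 6, 8, 8, 11, 10], [4, 4, 5, 6, 7, 6, 7, 8], [4, 4, 4, 5, 4, 6, 7, 8, 11], [4, 5, 4, 4, 5, 4, 7, 6, 12, 11, 10, 9], [4, 5, 4, 4, 5, 4, 7, 7, 6, 8, 12, 11, 9], [4, 6, 7, 6, 7, 11, 10, 9], [5, 4, 4, 5, 4, 7, 6, 8, 9], [5, 4, 6, 6, 8, 8, 9], [5, 5, 4, 7, 6, 8, 8, 12, 11, 10], [4, 4, 5, 4, 6, 11], [4, 4, 4, 5, 4, 7, 6, 7, 8], [5, 4, 4, 5, 4, 7, 6, 6, 8, 10], [4, 5, 4, 7, 6, 6, 6, 7, 6, 12, 11, 9], [4, 4, 4, 5, 4, 6, 7, 8, 8, 12], [4, 6, 6, 7, 6, 8, 8, 12, 11, 9], [4, 4, 5, 4, 6, 7, 6, 7, 8, 11, 9], []],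
   [[], [8], [5, 4, 4, 4, 4, 5, 7, 10, 9], [5, 4, 4, 4, 4, 5, 6, 6, 6, 7, 6, 12, 11, 10, 9], [4, 7, 12, 11, 10], [4, 4, 4, 5, 6, 7, 6, 12, 11, 9], [4, 4, 4, 5, 6, 6, 7, 6, 7, 8, 8, 11, 10], [5, 4, 6, 6, 7, 6, 7, 8], [4, 5, 4, 4, 5, 4, 6, 6, 7, 6, 8, 8, 12, 10, 9], [5, 4, 4, 4, 5, 7, 6, 8, 12, 10], [4, 5, 4, 4, 5, 4, 6, 6, 6, 6, 12, 10], [4, 5, 4, 7, 6, 7, 12, 10], [5, 5, 4, 6, 7, 6, 7, 8, 12, 10], [4, 4, 4, 4, 5, 4, 6, 6, 6, 7, 6, 8, 11, 10, 9], [5, 5, 4, 6, 6, 6, 6, 12, 10], [4, 4, 4, 4, 5, 4, 6, 7, 6, 7, 12, 11, 10], [5, 4, 5, 4, 6, 7, 6, 8, 8, 11, 9], [4, 5, 5, 4, 6, 6, 6, 7, 6, 8, 9], [4, 5, 4, 4, 5, 4, 7, 8, 10], [4, 4, 4, 5, 6, 6, 6, 12, 11, 9], [4, 5, 5, 4, 8, 10, 9], [5, 4, 4, 4, 4, 5, 6, 6, 6, 6, 12, 11], [5, 4, 4, 4, 4, 5, 7, 12, 11, 10], []],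
   [[], [9], [4, 4, 4, 4, 5, 7, 7, 6, 8, 8, 11], [4, 4, 4, 4, 4, 5, 4, 7, 12, 11, 10, 9], [4, 7, 8, 8, 10, 9], [5, 7, 6, 6, 8, 8, 10], [4, 4, 4, 5, 4, 6, 6, 7, 6, 8, 12, 11, 10], [5, 4, 4, 5, 4, 6, 6, 6, 12, 10, 9], [5, 5, 4, 6, 6, 12, 10, 9], [4, 5, 6, 7, 8, 11], [5, 4, 5, 4, 7, 7, 6, 7, 6, 11], [4, 4, 4, 5, 4, 6, 6, 7, 6, 8, 12, 11, 10], [5, 4, 4, 4, 5, 7, 6, 6, 8, 8, 11, 10, 9], [5, 4, 5, 4, 6, 6, 8, 10], [5, 4, 4, 4, 4, 5, 7, 6, 11, 10, 9], [4, 4, 4, 5, 4, 8, 12, 10, 9], [4, 4, 5, 4, 7, 6, 8, 8, 10, 9], [6, 7, 8, 11, 10], [4, 7, 6, 6, 6, 7, 6, 8, 8, 12, 9], [4, 4, 4, 4, 5, 12, 10], [4, 5, 4, 5, 4, 8, 8], [4, 5, 5, 4, 7, 6, 6, 8, 12, 10], [5, 5, 4, 6, 6, 6, 6, 8, 8, 12, 10], []],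
   [[], [10], [4, 7, 7, 6, 8, 10, 9], [4, 5, 4, 4, 5, 4, 6, 6, 6, 6, 12, 10], [5, 4, 4, 4, 5, 7, 6, 8, 10], [4, 4, 4, 5, 4, 6, 6, 6, 6, 8, 8], [4, 4, 5, 6, 6, 6, 6, 8, 8, 9], [5, 4, 6, 6, 8, 12, 11], [4, 5, 4, 5, 4, 7, 6, 6, 7, 6, 10], [4, 4, 4, 4, 5, 7, 6, 7, 11], [5, 4, 4, 4, 4, 5, 6, 6, 6, 8, 12, 10, 9], [4, 4, 4, 4, 5, 4, 6, 7, 12, 11, 9], [4, 5, 6, 6, 6, 6, 8, 11, 10], [4, 4, 4, 5, 7, 8, 12, 9], [5, 4, 7, 6, 6, 8, 8, 11, 9], [5, 6, 6, 6, 6], [5, 4, 4, 4, 5, 6, 6, 6, 7, 6], [7, 6, 6, 6, 7, 6, 8, 12], [4, 5, 6, 6, 6, 10, 9], [4, 4, 4, 5, 8, 8, 10], [4, 5, 5, 4, 7, 6, 7, 6, 8, 9], [4, 4, 4, 5, 4, 6, 6, 7, 6, 7, 12, 9], [4, 5, 4, 6, 6, 8, 11, 10], []],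
   [[], [11], [5, 4, 4, 5, 4, 6, 6, 6, 6, 11, 10, 9], [4, 4, 5, 4, 6, 7, 6, 8, 11, 10], [4, 5, 7, 8, 8], [4, 5, 4, 7, 7, 6, 7, 6, 8, 12, 11, 9], [4, 5, 4, 4, 5, 4, 6, 8, 8, 11], [4, 4, 4, 4, 5, 4, 6, 7, 6, 8, 8, 10, 9], [4, 4, 5, 4, 6, 6, 6, 7, 6, 8, 8, 12, 11, 9], [4, 7, 6, 8, 8, 12, 11, 10, 9], [5, 5, 4, 6, 8, 9], [6, 6, 12, 11], [6, 6, 6, 7, 6, 8, 11, 10], [4, 5, 5, 4, 7, 6, 6, 7, 6, 8, 8], [4, 5, 4, 7, 6, 6, 8, 10, 9], [4, 4, 4, 5, 7, 7, 6, 12, 11], [5, 4, 6, 8, 8, 12, 11, 9], [7, 7, 6, 7, 6, 8, 8, 11], [4, 5, 4, 7, 6, 12, 11, 10], [5, 5, 4, 7, 6, 6, 6, 7, 6, 12], [4, 4, 4, 5, 4, 7, 7, 6, 12, 9], [4, 5, 4, 4, 5, 4, 7, 6, 7, 12, 10], [5, 4, 5, 4, 6, 7, 6, 9], []],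
   [[], [12], [5, 4, 4, 4, 4, 5, 7, 8, 8, 11, 10], [4, 5, 5, 4, 7, 7, 6, 7, 6, 11, 10, 9], [4, 4, 4, 5, 4, 6, 7, 11, 9], [4, 4, 4, 4, 4, 5, 4, 7, 6, 6, 7, 6, 11, 10], [4, 11, 10, 9], [5, 4, 4, 4, 5, 7, 6, 6, 6, 7, 6, 8, 8, 11, 9], [4, 4, 4, 4, 4, 5, 4, 7, 6, 6, 6, 7, 6, 8, 8, 11, 10, 9], [4, 5, 4, 4, 5, 4, 7, 6, 6, 6, 7, 6, 8, 8, 11, 9], [4, 4, 4, 4, 4, 5, 4, 6, 7, 6, 10], [5, 5, 4, 6, 6, 6, 6, 8, 8, 11], [4, 4, 4, 4, 5, 4, 7, 7, 6, 8, 11, 10], [4, 5, 5, 4, 11, 10], [5, 4, 5, 4, 6, 6, 6, 6, 8, 12, 10, 9], [4, 4, 4, 4, 5, 4, 7, 6, 7, 8, 12, 11], [5, 4, 6, 7, 6, 12, 11, 10, 9], [6, 7, 6, 7, 11, 10, 9], [5, 4, 5, 4, 6, 6, 6, 8, 12, 11, 10], [7, 6, 6, 6, 7, 6, 8, 11, 10, 9], [7, 6, 6, 8, 8, 11], [4, 5, 4, 4, 5, 4, 7, 7, 6, 7, 6, 8, 8, 10, 9], [5, 5, 4, 7, 6, 6], []]],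
  [[[], [], [], [], [], [], [], [], [], [], [], [], [], [], [], [], [], [], [], [], [], [], [], []],
   [[], [], [], [], [], [], [], [], [], [], [], [], [], [], [], [], [], [], [], [], [], [], [], []],
   [[], [], [], [], [], [], [], [], [], [], [], [], [], [], [], [], [], [], [], [], [], [], [], []],
   [[], [], [], [], [], [], [], [], [], [], [], [], [], [], [], [], [], [], [], [], [], [], [], []],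
   [[], [], [], [], [], [6, 6, 6, 6, 8, 11, 10], [7, 6, 7, 6, 8, 8, 12, 11, 9], [], [6, 7, 6, 7, 8, 12, 11], [6, 6, 6, 8, 12, 11, 10], [6, 6, 7, 6, 7, 8, 8, 12, 11, 10, 9], [], [], [], [6, 6, 6, 7, 6, 8, 12], [6, 7, 6, 7, 8, 9], [], [], [], [], [], [6, 7, 6, 8, 10], [], []],
   [[], [], [], [12, 10, 9], [], [7, 6, 7, 8, 11, 9], [7, 6, 7, 12, 11, 10], [6, 6, 7, 6, 8, 12, 11], [7, 6, 6, 8, 12, 11], [11, 10], [], [], [], [7, 6, 6, 7, 6, 8, 12, 11], [6, 6, 6, 6, 8, 12, 10], [6, 6, 6, 7, 6, 8, 8, 12, 11, 9], [6, 6, 6, 6, 8, 8, 12, 10], [], [6, 6, 7, 6, 8, 10, 9], [12, 10, 9], [6, 6, 7, 6, 7, 11, 10], [], [6, 6, 6, 6, 8, 8, 12, 10], []],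
   [[], [], [6], [6, 6, 8, 8, 12, 11], [6, 7, 6, 9], [6, 6, 8, 12, 11, 9], [7, 7, 6, 8, 10, 9], [6, 7, 12, 10], [7, 6, 6, 6, 7, 6, 8, 8, 12, 11, 10, 9], [6, 6, 7, 6, 7, 8, 11, 10, 9], [7, 8, 12, 11, 10, 9], [6, 6, 6, 6, 12, 11], [7, 7, 6, 8, 11, 10, 9], [7, 8, 8, 12, 11, 9], [7, 7, 6, 7, 6, 8, 8, 11, 10], [7, 6, 6, 6, 7, 6, 11, 10, 9], [6, 6, 7, 6], [7, 6, 7, 6, 12], [6, 6, 7, 6, 8, 8, 9], [7, 6, 6, 8, 12, 11, 10], [7, 7, 6, 8, 12, 10], [6, 6, 7, 6, 7, 8, 12, 9], [7, 6, 7, 6, 10, 9], []],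
   [[], [], [7], [6, 7, 12, 9], [6, 6, 6, 6, 8, 12, 10, 9], [7, 6, 7, 8, 8, 12, 9], [7, 7, 6, 7, 6, 8, 11], [6, 6, 6, 7, 6, 8], [7, 6, 6, 8, 12], [12, 9], [7, 6, 6, 8, 8, 10], [7, 7, 6, 8, 8, 12, 10, 9], [7, 7, 6, 12, 11, 10, 9], [6, 6, 6, 7, 6, 12, 11, 10, 9], [6, 6, 7, 6, 8, 8, 12, 11, 9], [7, 6, 8, 8, 11], [6, 7, 8, 12, 11], [6, 8, 8, 12], [7, 6, 7, 8, 12, 11], [6, 6, 6, 7, 6, 11, 10, 9], [6, 6, 7, 6, 7, 8, 12], [6, 7, 6, 7, 8, 8, 12, 10], [7, 6, 7, 6, 11], []],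
   [[], [], [8], [8, 9], [6, 6, 6, 8, 8, 12, 11], [6, 6, 7, 6, 8, 8, 11, 10], [7, 7, 6, 7, 6, 8, 8, 12, 10, 9], [6, 7, 6, 12, 9], [7, 6, 7, 6, 12, 11], [7, 6, 7, 8, 12, 10, 9], [7, 11, 10, 9], [6, 6, 6, 7, 6, 8, 12, 10, 9], [6, 7, 8, 8, 10, 9], [6, 7, 6, 7, 8, 12, 10], [7, 6, 6, 6, 7, 6, 8, 8, 12, 11], [6, 6, 7, 6, 7, 8, 11], [7, 6, 7, 6, 8, 11], [7, 6, 12, 11, 9], [6, 6, 12, 9], [8, 10], [6, 7, 6, 8, 10], [6, 6, 8, 8, 12, 11], [7, 6, 6, 8, 8, 11, 9], []],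
   [[], [], [9], [6, 7, 6, 8], [6, 6, 6, 7, 6, 8, 12, 10, 9], [6, 6, 7, 6, 7, 8, 8, 12, 11, 9], [7, 7, 6, 7, 6, 12, 10], [6, 6, 7, 6, 7, 12, 10, 9], [6, 7, 6, 8, 12], [6, 6, 6, 8, 8, 11], [7, 6, 6, 8, 8, 12, 11], [6, 6, 6, 8, 8, 11, 9], [7, 8, 8, 12, 10], [6, 6, 6, 7, 6, 8, 12, 10], [7, 6, 7, 6, 11, 10, 9], [6, 6, 8, 8, 12, 10], [7, 6, 6, 6, 7, 6, 12, 9], [7, 6, 6, 7, 6, 12], [6, 6, 6, 7, 6, 8, 8, 10, 9], [7, 7, 6, 7, 6, 8, 12, 11, 9], [6, 7, 6, 8, 11, 10], [6, 6, 8, 12, 9], [6, 7], []],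
   [[], [], [10], [6, 6, 7, 6, 8, 8, 12, 10, 9], [6, 7, 6, 11, 10], [6, 6, 6, 6, 11, 10], [6, 6, 6, 8, 8, 12, 10], [7, 6, 8, 12, 11, 9], [7, 7, 6, 8, 8, 10, 9], [12, 10, 9], [6, 6, 7, 6, 7, 8, 8, 11], [7, 6, 6, 6, 7, 6, 8, 8, 10, 9], [6, 6, 6, 6, 12, 11, 10, 9], [7, 6, 6, 7, 6, 9], [7, 7, 6, 7, 6, 8, 8, 11], [7, 6, 6, 12, 10], [12, 10, 9], [7, 7, 6, 8, 8, 12, 11, 10], [6, 6, 6, 7, 6, 12, 9], [7, 6, 6, 9], [6, 6, 6, 8, 8, 12, 11, 9], [6, 6, 6, 8, 10, 9], [6, 10], []],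
   [[], [], [11], [7, 12], [6, 6, 6, 7, 6, 8, 12, 11, 9], [7, 6, 7, 11, 9], [7, 6, 6, 8, 11], [6, 7, 6, 12, 11, 9], [6, 6, 6, 8, 8], [6, 6, 7, 6, 12, 11], [6, 7, 6, 7, 8, 8, 12, 11, 9], [7, 6, 6, 7, 6, 12, 10], [6, 7, 8, 11], [7, 6, 12, 11], [7, 6, 6, 6, 7, 6, 8, 12], [7, 6, 7, 8, 8, 11, 10], [6, 12, 11, 10], [7, 7, 6, 7, 6, 8, 11, 9], [7, 6, 8, 9], [6, 6, 7, 6, 8, 12, 11], [7, 7, 6, 12, 11, 10, 9], [7, 6, 7, 6, 8, 9], [7, 7, 6, 12, 11, 9], []],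
   [[], [], [12], [6, 7, 6, 7, 10, 9], [6, 6, 6, 6, 8, 11], [6, 7, 10, 9], [7, 6, 6, 7, 6, 12, 10], [6, 6, 6, 6, 8, 8, 12], [6, 6, 8, 8, 12, 11, 10], [6, 6, 6, 12, 11, 10, 9], [6, 7, 8, 11], [6, 6, 7, 6, 7, 8, 12, 9], [7, 6, 6, 7, 6, 8, 8, 11, 10], [6, 6, 6, 8, 8, 9], [6, 6, 7, 6, 7, 8, 12], [6, 6, 12, 10, 9], [6, 7, 6, 8, 8, 11], [7, 8, 9], [6, 7, 8, 8, 11], [7, 7, 6, 7, 6, 8, 12, 10, 9], [6, 6, 6, 7, 6, 8, 10], [7, 6, 6, 8, 8, 11, 10], [7, 6, 8], []]],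
  [[[], [], [], [], [], [], [], [], [], [], [], [], [], [], [], [], [], [], [], [], [], [], [], []],
   [[], [], [], [], [], [], [], [], [], [], [], [], [], [], [], [], [], [], [], [], [], [], [], []],
   [[], [], [], [], [], [], [], [], [], [], [], [], [], [], [], [], [], [], [], [], [], [], [], []],
   [[], [], [], [], [], [], [], [], [], [], [], [], [], [], [], [], [], [], [], [], [], [], [], []],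
   [[], [], [], [], [], [], [], [], [], [], [], [], [], [], [], [], [], [], [], [], [], [], [], []],
   [[], [], [], [], [], [], [], [], [], [], [], [], [], [], [], [], [], [], [], [], [], [], [], []],
   [[], [], [], [], [], [], [], [8, 12, 10, 9], [8, 8, 12, 9], [12, 9], [], [], [], [], [], [], [8, 8, 10], [12, 10, 9], [], [8, 12], [8, 8, 12], [8, 11], [12, 10, 9], []],
   [[], [], [], [], [], [], [], [8, 8, 10], [8, 12, 11, 10, 9], [], [], [8, 8, 12, 10, 9], [], [8, 8, 11, 10], [8, 8, 11], [8, 11, 10, 9], [11, 10], [], [8, 12, 9], [], [8, 8, 11, 10, 9], [8, 12, 10], [8, 10, 9], []],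
   [[], [], [], [8], [8, 9], [8, 8, 12, 10], [8, 8, 12, 11], [8, 8, 11, 9], [12, 10, 9], [12, 11, 10, 9], [8, 12, 9], [8, 12, 11, 10, 9], [8, 10, 9], [8, 11, 10, 9], [12, 11, 10], [8, 12, 11, 9], [12, 9], [8, 11, 10, 9], [11, 10], [11, 10, 9], [8, 11, 10], [8, 12, 11, 10], [8, 8, 10], []],
   [[], [], [], [9], [8, 8, 12, 9], [12, 10, 9], [10], [8, 8, 10], [8, 9], [12, 10], [8, 11, 10], [10], [8, 12], [10], [10], [12, 11, 10, 9], [12, 11, 10, 9], [11, 10], [9], [8, 8, 12, 11, 9], [10], [9], [12, 10], []],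
   [[], [], [], [10], [8, 12, 11], [12, 11, 10, 9], [8], [12, 10], [8, 8], [8, 8, 9], [8, 8, 9], [8, 8, 12, 11, 10], [8, 11, 10], [8, 12, 11], [9], [8, 9], [8, 12, 11], [11, 9], [12, 10], [8, 11, 9], [8, 8, 9], [8, 8, 12, 9], [8, 8, 12, 11, 9], []],
   [[], [], [], [11], [8, 11, 10, 9], [11, 10, 9], [12, 11], [12, 11], [8, 8, 12, 9], [8, 9], [8, 8, 12, 11, 9], [8, 8, 12, 11], [8, 12, 11, 9], [8, 8, 12, 11], [11], [8, 12, 10], [8, 12, 11, 9], [11], [8, 11, 10], [8, 12, 11, 10], [8, 8, 12], [8, 8, 12, 10, 9], [8, 8, 11], []],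
   [[], [], [], [12], [8, 8, 12, 10, 9], [12, 11, 10], [12, 10], [8, 8, 12, 10, 9], [8, 11, 9], [8, 12, 11, 10], [12, 10], [8, 12, 11, 10], [12, 11], [8, 8, 12, 11, 10], [12, 11, 10, 9], [8, 8, 10, 9], [8, 8, 9], [12, 11], [8, 12, 11], [9], [9], [8, 11], [12, 11], []]],
  [[[], [], [], [], [], [], [], [], [], [], [], [], [], [], [], [], [], [], [], [], [], [], [], []],
   [[], [], [], [], [], [], [], [], [], [], [], [], [], [], [], [], [], [], [], [], [], [], [], []],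
   [[], [], [], [], [], [], [], [], [], [], [], [], [], [], [], [], [], [], [], [], [], [], [], []],
   [[], [], [], [], [], [], [], [], [], [], [], [], [], [], [], [], [], [], [], [], [], [], [], []],
   [[], [], [], [], [], [], [], [], [], [], [], [], [], [], [], [], [], [], [], [], [], [], [], []],
   [[], [], [], [], [], [], [], [], [], [], [], [], [], [], [], [], [], [], [], [], [], [], [], []],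
   [[], [], [], [], [], [], [], [], [], [], [], [], [], [], [], [], [], [], [], [], [], [], [], []],
   [[], [], [], [], [], [], [], [], [], [], [], [], [], [], [], [], [], [], [], [], [], [], [], []],
   [[], [], [], [], [], [], [], [], [], [], [], [], [], [], [], [], [], [], [], [], [], [], [], []],
   [[], [], [], [], [], [9], [], [], [], [], [], [], [], [], [12, 11, 9], [], [], [12, 11], [], [], [], [], [], []],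
   [[], [], [], [], [], [10], [], [], [], [], [], [], [], [], [12, 10], [], [], [12], [], [], [], [], [], []],
   [[], [], [], [], [], [11], [], [], [], [], [], [], [], [], [10, 9], [], [], [11, 10, 9], [], [], [], [], [], []],
   [[], [], [], [], [], [12], [], [], [], [], [], [], [], [], [10], [], [], [12, 10], [], [], [], [], [], []]],
  [[[], [], [], [], [], [], [], [], [], [], [], [], [], [], [], [], [], [], [], [], [], [], [], []],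
   [[], [], [], [], [], [], [], [], [], [], [], [], [], [], [], [], [], [], [], [], [], [], [], []],
   [[], [], [], [], [], [], [], [], [], [], [], [], [], [], [], [], [], [], [], [], [], [], [], []],
   [[], [], [], [], [], [], [], [], [], [], [], [], [], [], [], [], [], [], [], [], [], [], [], []],
   [[], [], [], [], [], [], [], [], [], [], [], [], [], [], [], [], [], [], [], [], [], [], [], []],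
   [[], [], [], [], [], [], [], [], [], [], [], [], [], [], [], [], [], [], [], [], [], [], [], []],
   [[], [], [], [], [], [], [], [], [], [], [], [], [], [], [], [], [], [], [], [], [], [], [], []],
   [[], [], [], [], [], [], [], [], [], [], [], [], [], [], [], [], [], [], [], [], [], [], [], []],
   [[], [], [], [], [], [], [], [], [], [], [], [], [], [], [], [], [], [], [], [], [], [], [], []],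
   [[], [], [], [], [], [], [], [], [], [], [], [], [], [], [], [], [], [], [], [], [], [], [], []],
   [[], [], [], [], [], [], [], [], [], [], [], [], [], [], [], [], [], [], [], [], [], [], [], []],
   [[], [], [], [], [], [], [], [], [], [], [], [], [], [], [], [], [], [], [], [], [], [], [], []],
   [[], [], [], [], [], [], [], [], [], [], [], [], [], [], [], [], [], [], [], [], [], [], [], []]]]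

/-- number of generators -/
def ngen : ℕ := 13

def gcode (j : ℕ) : ℕ := (gtab.getD j (0, 0)).1

def gicode (j : ℕ) : ℕ := (gtab.getD j (0, 0)).2

def depthOf (j : ℕ) : ℕ := dtab.getD j 0

set_option maxRecDepth 100000 in
theorem valid : ∀ j < ngen, ∀ i < 24, app (gcode j) i < 24 ∧ app (gicode j) i < 24 ∧
    app (gicode j) (app (gcode j) i) = i ∧ app (gcode j) (app (gicode j) i) = i := by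
  decide +kernel

/-- the function encoded by `c` -/
def gfun (c : ℕ) (p : GolayPt) : GolayPt := dec (app c (idx p))

theorem idx_gfun (j : ℕ) (hj : j < ngen) (p : GolayPt) :
    idx (gfun (gcode j) p) = app (gcode j) (idx p) := by
  unfold gfun
  have h := (valid j hj (idx p) (idx_lt p)).1
  exact idx_dec ⟨_, h⟩

theorem idx_gfun' (j : ℕ) (hj : j < ngen) (p : GolayPt) :
    idx (gfun (gicode j) p) = app (gicode j) (idx p) := by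
  unfold gfun
  have h := (valid j hj (idx p) (idx_lt p)).2.1
  exact idx_dec ⟨_, h⟩

theorem gfun_left (j : ℕ) (hj : j < ngen) (p : GolayPt) :
    gfun (gicode j) (gfun (gcode j) p) = p := by
  apply idx_injective
  rw [idx_gfun' j hj, idx_gfun j hj, (valid j hj _ (idx_lt p)).2.2.1]

theorem gfun_right (j : ℕ) (hj : j < ngen) (p : GolayPt) :
    gfun (gcode j) (gfun (gicode j) p) = p := by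
  apply idx_injective
  rw [idx_gfun j hj, idx_gfun' j hj, (valid j hj _ (idx_lt p)).2.2.2]

/-- the `j`-th generator -/
def gP (j : ℕ) : Equiv.Perm GolayPt :=
  if hj : j < ngen then
    ⟨gfun (gcode j), gfun (gicode j), gfun_left j hj, gfun_right j hj⟩
  else 1

theorem gP_apply (j : ℕ) (hj : j < ngen) (p : GolayPt) : gP j p = gfun (gcode j) p := by
  unfold gP
  rw [dif_pos hj]
  rfl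

theorem idx_gP (j : ℕ) (hj : j < ngen) (p : GolayPt) : idx (gP j p) = app (gcode j) (idx p) := by
  rw [gP_apply j hj, idx_gfun j hj]

/-- the product of the generators named by a word -/
def evalW (w : List ℕ) : Equiv.Perm GolayPt := (w.map gP).prod

/-- the action of a word on encoded points -/
def appW (w : List ℕ) (i : ℕ) : ℕ := w.foldr (fun j acc => app (gcode j) acc) i

theorem evalW_nil : evalW [] = 1 := rfl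

theorem evalW_cons (j : ℕ) (w : List ℕ) : evalW (j :: w) = gP j * evalW w := by
  simp [evalW]

theorem evalW_append (u v : List ℕ) : evalW (u ++ v) = evalW u * evalW v := by
  simp [evalW]

theorem idx_evalW (w : List ℕ) (hw : ∀ j ∈ w, j < ngen) (p : GolayPt) :
    idx (evalW w p) = appW w (idx p) := by
  induction w with
  | nil => rfl
  | cons j w ih =>
    rw [evalW_cons, Equiv.Perm.mul_apply, idx_gP j (hw j List.mem_cons_self),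
      ih (fun l hl => hw l (List.mem_cons_of_mem _ hl))]
    rfl

theorem evalW_eq_of_appW (w₁ w₂ : List ℕ) (h₁ : ∀ j ∈ w₁, j < ngen) (h₂ : ∀ j ∈ w₂, j < ngen)
    (h : ∀ x < 24, appW w₁ x = appW w₂ x) : evalW w₁ = evalW w₂ := by
  apply Equiv.ext
  intro p
  apply idx_injective
  rw [idx_evalW _ h₁, idx_evalW _ h₂, h _ (idx_lt p)]

/-- the three standard generators -/
theorem gP0 : gP 0 = Equiv.optionCongr (Equiv.addRight (1 : ZMod 23)) := by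
  apply Equiv.ext
  intro p
  rw [gP_apply 0 (by decide)]
  revert p
  decide +kernel

theorem gP1 : gP 1 = Cfsg.projInv := by
  apply Equiv.ext
  intro p
  rw [gP_apply 1 (by decide)]
  revert p
  decide +kernel

theorem gP2 : gP 2 = Cfsg.cubeTwist := by
  apply Equiv.ext
  intro p
  rw [gP_apply 2 (by decide)]
  show gfun (gcode 2) p = Cfsg.cubeTwistFun p
  revert p
  decide +kernel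


/-! ### Every generator is a word in the three standard ones -/

def slpU (j : ℕ) : List ℕ := (slptab.getD j ([], [])).1

def slpV (j : ℕ) : List ℕ := (slptab.getD j ([], [])).2

set_option maxRecDepth 100000 in
theorem slp_ok : ∀ j < ngen, 3 ≤ j → (∀ l ∈ slpU j, l < j) ∧ (∀ l ∈ slpV j, l < j) ∧
    ∀ x < 24, appW (slpU j ++ [j]) x = appW (slpV j) x := by
  decide +kernel

/-- the set of the three standard generators -/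
def stdGens : Set (Equiv.Perm GolayPt) :=
  {Equiv.optionCongr (Equiv.addRight (1 : ZMod 23)), Cfsg.projInv, Cfsg.cubeTwist}

theorem evalW_mem_of {K : Subgroup (Equiv.Perm GolayPt)} (w : List ℕ)
    (hw : ∀ l ∈ w, gP l ∈ K) : evalW w ∈ K := by
  unfold evalW
  apply Subgroup.list_prod_mem
  intro g hg
  obtain ⟨l, hl, rfl⟩ := List.mem_map.1 hg
  exact hw l hl

theorem gP_mem_closure (j : ℕ) (hj : j < ngen) : gP j ∈ Subgroup.closure stdGens := by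
  induction j using Nat.strong_induction_on with
  | _ j ih =>
    by_cases h3 : j < 3
    · apply Subgroup.subset_closure
      interval_cases j
      · rw [gP0]; exact Or.inl rfl
      · rw [gP1]; exact Or.inr (Or.inl rfl)
      · rw [gP2]; exact Or.inr (Or.inr rfl)
    · obtain ⟨hu, hv, heq⟩ := slp_ok j hj (by omega)
      have hU : evalW (slpU j) ∈ Subgroup.closure stdGens :=
        evalW_mem_of _ (fun l hl => ih l (hu l hl) (lt_trans (hu l hl) hj))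
      have hV : evalW (slpV j) ∈ Subgroup.closure stdGens :=
        evalW_mem_of _ (fun l hl => ih l (hv l hl) (lt_trans (hv l hl) hj))
      have e : evalW (slpU j) * gP j = evalW (slpV j) := by
        have h0 := evalW_eq_of_appW (slpU j ++ [j]) (slpV j)
          (fun l hl => by
            rcases List.mem_append.1 hl with h | h
            · exact lt_trans (hu l h) hj
            · rw [List.mem_singleton] at h; rw [h]; exact hj)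
          (fun l hl => lt_trans (hv l hl) hj) heq
        rwa [evalW_append, evalW_cons, evalW_nil, mul_one] at h0
      have e2 : gP j = (evalW (slpU j))⁻¹ * evalW (slpV j) := by
        rw [← e]; group
      rw [e2]
      exact Subgroup.mul_mem _ (Subgroup.inv_mem _ hU) hV

/-! ### The stabilizer chain -/

/-- the generators fixing the first `i` base points -/
def Sset (i : ℕ) : Set (Equiv.Perm GolayPt) := {g | ∃ j < ngen, i ≤ depthOf j ∧ gP j = g}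

/-- the `i`-th group of the chain -/
def grp (i : ℕ) : Subgroup (Equiv.Perm GolayPt) := Subgroup.closure (Sset i)

def bpt (i : ℕ) : ℕ := btab.getD i 0

def orb (i : ℕ) : List ℕ := otab.getD i []

def tw (i p : ℕ) : List ℕ := (twtab.getD i []).getD p []

def cert (i j p : ℕ) : List ℕ := ((ctab.getD i []).getD j []).getD p []

set_option maxRecDepth 100000 in
theorem ok1 : ∀ i < 7, bpt i ∈ orb i ∧ tw i (bpt i) = [] ∧ (orb i).Nodup ∧ ∀ p ∈ orb i, p < 24 := by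
  decide +kernel

set_option maxRecDepth 100000 in
theorem ok3 : ∀ i < 7, ∀ p ∈ orb i,
    (∀ l ∈ tw i p, l < ngen ∧ i ≤ depthOf l) ∧ appW (tw i p) (bpt i) = p := by
  decide +kernel

set_option maxRecDepth 100000 in
theorem ok4 : ∀ i < 7, ∀ j < ngen, i + 1 ≤ depthOf j → app (gcode j) (bpt i) = bpt i := by
  decide +kernel

/-- the check of one Schreier generator -/
def okEntry (i j p : ℕ) : Prop :=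
  app (gcode j) p ∈ orb i ∧ (∀ l ∈ cert i j p, l < ngen ∧ i + 1 ≤ depthOf l) ∧
    ∀ x < 24, appW (tw i (app (gcode j) p) ++ cert i j p) x = appW (j :: tw i p) x

instance (i j p : ℕ) : Decidable (okEntry i j p) := by
  unfold okEntry
  infer_instance

set_option maxRecDepth 1000000 in
theorem ok5 : ∀ i < 7, ∀ j < ngen, i ≤ depthOf j → ∀ p ∈ orb i, okEntry i j p := by
  decide +kernel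

theorem ok7 : ∀ j < ngen, depthOf j < 7 := by decide +kernel


theorem grp_mono {i i' : ℕ} (h : i ≤ i') : grp i' ≤ grp i := by
  apply Subgroup.closure_mono
  rintro g ⟨j, hj, hd, rfl⟩
  exact ⟨j, hj, le_trans h hd, rfl⟩

theorem evalW_mem_grp (i : ℕ) (w : List ℕ) (hw : ∀ l ∈ w, l < ngen ∧ i ≤ depthOf l) :
    evalW w ∈ grp i :=
  evalW_mem_of w (fun l hl => Subgroup.subset_closure ⟨l, (hw l hl).1, (hw l hl).2, rfl⟩)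

/-- the basic orbit as a finset of points -/
def orbF (i : ℕ) : Finset GolayPt := ((orb i).map dec).toFinset

theorem mem_orbF (i : ℕ) (hi : i < 7) (p : GolayPt) : p ∈ orbF i ↔ idx p ∈ orb i := by
  unfold orbF
  rw [List.mem_toFinset, List.mem_map]
  constructor
  · rintro ⟨k, hk, rfl⟩
    have hk24 := (ok1 i hi).2.2.2 k hk
    rw [idx_dec ⟨k, hk24⟩]
    exact hk
  · intro h
    exact ⟨idx p, h, dec_idx p⟩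

theorem card_orbF (i : ℕ) (hi : i < 7) : (orbF i).card = (orb i).length := by
  unfold orbF
  rw [List.toFinset_card_of_nodup, List.length_map]
  apply List.Nodup.map_on _ (ok1 i hi).2.2.1
  intro x hx y hy hxy
  have hx24 := (ok1 i hi).2.2.2 x hx
  have hy24 := (ok1 i hi).2.2.2 y hy
  have := congrArg idx hxy
  rwa [idx_dec ⟨x, hx24⟩, idx_dec ⟨y, hy24⟩] at this

theorem bpt_lt (i : ℕ) (hi : i < 7) : bpt i < 24 := (ok1 i hi).2.2.2 _ (ok1 i hi).1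

theorem idx_dec_bpt (i : ℕ) (hi : i < 7) : idx (dec (bpt i)) = bpt i :=
  idx_dec ⟨_, bpt_lt i hi⟩

theorem grp_succ_fix (i : ℕ) (hi : i < 7) : ∀ h ∈ grp (i + 1), h (dec (bpt i)) = dec (bpt i) := by
  have hle : grp (i + 1) ≤ MulAction.stabilizer (Equiv.Perm GolayPt) (dec (bpt i)) := by
    apply (Subgroup.closure_le _).2
    rintro g ⟨j, hj, hd, rfl⟩
    show gP j • dec (bpt i) = dec (bpt i)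
    rw [Equiv.Perm.smul_def]
    apply idx_injective
    rw [idx_gP j hj, idx_dec_bpt i hi]
    exact ok4 i hi j hj hd
  intro h hh
  exact hle hh

/-- one level of the chain -/
theorem level (i : ℕ) (hi : i < 7) :
    (∀ k ∈ grp i, k (dec (bpt i)) = dec (bpt i) → k ∈ grp (i + 1)) ∧
      Nat.card (grp i) = (orb i).length * Nat.card (grp (i + 1)) := by
  have h := Cfsg.Agent.Helper17.schreier_step (Sset i) (grp (i + 1)) (dec (bpt i)) (orbF i)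
    (fun p => evalW (tw i (idx p))) ?_ ?_ ?_ ?_ ?_ ?_ ?_
  · rw [card_orbF i hi] at h
    exact h
  · rw [mem_orbF i hi, idx_dec_bpt i hi]
    exact (ok1 i hi).1
  · show evalW (tw i (idx (dec (bpt i)))) = 1
    rw [idx_dec_bpt i hi, (ok1 i hi).2.1]
    rfl
  · intro p hp
    rw [mem_orbF i hi] at hp
    exact evalW_mem_grp i _ (ok3 i hi _ hp).1
  · intro p hp
    rw [mem_orbF i hi] at hp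
    show evalW (tw i (idx p)) • dec (bpt i) = p
    rw [Equiv.Perm.smul_def]
    apply idx_injective
    rw [idx_evalW _ (fun l hl => ((ok3 i hi _ hp).1 l hl).1), idx_dec_bpt i hi]
    exact (ok3 i hi _ hp).2
  · exact grp_mono (Nat.le_succ i)
  · intro h hh
    show h • dec (bpt i) = dec (bpt i)
    rw [Equiv.Perm.smul_def]
    exact grp_succ_fix i hi h hh
  · rintro g ⟨j, hj, hd, rfl⟩ p hp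
    rw [mem_orbF i hi] at hp
    obtain ⟨h1, h2, h3⟩ := ok5 i hi j hj hd (idx p) hp
    have hidx : idx (gP j • p) = app (gcode j) (idx p) := by
      rw [Equiv.Perm.smul_def, idx_gP j hj]
    refine ⟨?_, ?_⟩
    · rw [mem_orbF i hi, hidx]
      exact h1
    · have hq : app (gcode j) (idx p) ∈ orb i := h1
      have e0 := evalW_eq_of_appW (tw i (app (gcode j) (idx p)) ++ cert i j (idx p))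
        (j :: tw i (idx p))
        (fun l hl => by
          rcases List.mem_append.1 hl with h | h
          · exact ((ok3 i hi _ hq).1 l h).1
          · exact (h2 l h).1)
        (fun l hl => by
          rcases List.mem_cons.1 hl with h | h
          · rw [h]; exact hj
          · exact ((ok3 i hi _ hp).1 l h).1)
        h3
      rw [evalW_append, evalW_cons] at e0
      have e : (evalW (tw i (idx (gP j • p))))⁻¹ * gP j * evalW (tw i (idx p)) =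
          evalW (cert i j (idx p)) := by
        rw [hidx, mul_assoc, ← e0]
        group
      rw [e]
      exact evalW_mem_grp (i + 1) _ h2

theorem grp_seven : grp 7 = ⊥ := by
  unfold grp
  have : Sset 7 = ∅ := by
    ext g
    simp only [Sset, Set.mem_ofPred_eq, Set.mem_empty_iff_false, iff_false]
    rintro ⟨j, hj, hd, -⟩
    have := ok7 j hj
    omega
  rw [this, Subgroup.closure_empty]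

theorem orb_length : ∀ i < 7, (orb i).length = [24, 23, 22, 21, 20, 3, 16].getD i 0 := by
  decide +kernel

theorem card_grp (i : ℕ) (hi : i ≤ 7) :
    Nat.card (grp i) = [244823040, 10200960, 443520, 20160, 960, 48, 16, 1].getD i 0 := by
  have h7 : Nat.card (grp 7) = 1 := by rw [grp_seven]; exact Subgroup.card_bot
  have h6 : Nat.card (grp 6) = 16 := by
    rw [(level 6 (by norm_num)).2, orb_length 6 (by norm_num), h7]; rfl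
  have h5 : Nat.card (grp 5) = 48 := by
    rw [(level 5 (by norm_num)).2, orb_length 5 (by norm_num), h6]; rfl
  have h4 : Nat.card (grp 4) = 960 := by
    rw [(level 4 (by norm_num)).2, orb_length 4 (by norm_num), h5]; rfl
  have h3 : Nat.card (grp 3) = 20160 := by
    rw [(level 3 (by norm_num)).2, orb_length 3 (by norm_num), h4]; rfl
  have h2 : Nat.card (grp 2) = 443520 := by
    rw [(level 2 (by norm_num)).2, orb_length 2 (by norm_num), h3]; rfl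
  have h1 : Nat.card (grp 1) = 10200960 := by
    rw [(level 1 (by norm_num)).2, orb_length 1 (by norm_num), h2]; rfl
  have h0 : Nat.card (grp 0) = 244823040 := by
    rw [(level 0 (by norm_num)).2, orb_length 0 (by norm_num), h1]; rfl
  interval_cases i <;> assumption

/-- the top group of the chain is generated by the three standard generators -/
theorem grp_zero : grp 0 = Subgroup.closure stdGens := by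
  apply le_antisymm
  · apply (Subgroup.closure_le _).2
    rintro g ⟨j, hj, -, rfl⟩
    exact gP_mem_closure j hj
  · apply (Subgroup.closure_le _).2
    rintro g (rfl | rfl | rfl)
    · rw [← gP0]; exact Subgroup.subset_closure ⟨0, by decide, Nat.zero_le _, rfl⟩
    · rw [← gP1]; exact Subgroup.subset_closure ⟨1, by decide, Nat.zero_le _, rfl⟩
    · rw [← gP2]; exact Subgroup.subset_closure ⟨2, by decide, Nat.zero_le _, rfl⟩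

end Cfsg.Agent.Helper29.M24
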