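import Mathlib
import Cfsg.Agent.Lib.Helper29.M24Chain
import Cfsg.Agent.Lib.Helper29.GolayCount
import Cfsg.Agent.S0370
import Cfsg.Agent.S0372
import Cfsg.Agent.S0373

set_option autoImplicit false
open Cfsg

namespace Cfsg.Agent.Helper29.M24

open Cfsg.Agent.Helper27 Cfsg.Agent.Helper29
open Cfsg.Agent.S0358 (idx)

/-! ### Rigidity: an automorphism of the code fixing the seven base points is trivial -/

theorem mem_support₂_ofMask (a : ℕ) (p : GolayPt) :
    p ∈ support₂ (ofMask a) ↔ a.testBit (idx p) = true := by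
  unfold support₂ ofMask
  simp only [Finset.mem_filter, Finset.mem_univ, true_and]
  cases a.testBit (idx p) <;> simp

/-- the points whose bit is set in `F` are fixed by `σ` -/
def Fixes (σ : Equiv.Perm GolayPt) (F : ℕ) : Prop :=
  ∀ p : GolayPt, F.testBit (idx p) = true → σ p = p

/-- `σ` maps the set with mask `m` into itself -/
def Inv (σ : Equiv.Perm GolayPt) (m : ℕ) : Prop :=
  ∀ p : GolayPt, m.testBit (idx p) = true → m.testBit (idx (σ p)) = true

theorem card_unfixed (a F : ℕ) :
    ((support₂ (ofMask a)).filter (fun p => ¬ F.testBit (idx p) = true)).card + pop24 (a &&& F) =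
      pop24 a := by
  rw [← card_support₂_ofMask a, ← card_support₂_ofMask (a &&& F)]
  have h0 : support₂ (ofMask (a &&& F)) =
      (support₂ (ofMask a)).filter (fun p => F.testBit (idx p) = true) := by
    ext p
    rw [Finset.mem_filter, mem_support₂_ofMask, mem_support₂_ofMask, Nat.testBit_and,
      Bool.and_eq_true]
  rw [h0, add_comm]
  exact Finset.card_filter_add_card_filter_not _

theorem inv_of_word (σ : Equiv.Perm GolayPt) (hσ : σ ∈ M24) (F n : ℕ) (hF : Fixes σ F)
    (hpop : pop24 (cw n) ≤ pop24 (cw n &&& F) + 3) : Inv σ (cw n) := by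
  classical
  set a := cw n with ha
  set w := ofMask a with hw
  have hwmem : w ∈ golayCode := cw_mem n
  have hw'mem : permWord σ w ∈ golayCode := permWord_mem_of_mem_M24 hσ hwmem
  have hv : w + permWord σ w ∈ golayCode := golayCode.add_mem hwmem hw'mem
  have heq : permWord σ w = w := by
    by_contra hne
    have hv0 : w + permWord σ w ≠ 0 := by
      intro h0
      apply hne
      funext p
      have h1 := congrFun h0 p
      have key : ∀ x y : ZMod 2, x + y = 0 → y = x := by decide
      exact key _ _ h1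
    have h8 := golay_min_weight hv hv0
    set U := (support₂ w).filter (fun p => ¬ F.testBit (idx p) = true) with hU
    have hsub : support₂ (w + permWord σ w) ⊆ U ∪ U.image σ := by
      intro p hp
      unfold support₂ at hp
      rw [Finset.mem_filter] at hp
      have hp2 := hp.2
      simp only [Pi.add_apply] at hp2
      have key : ∀ x y : ZMod 2, x + y ≠ 0 → (x ≠ 0 ∧ y = 0) ∨ (x = 0 ∧ y ≠ 0) := by decide
      rcases key _ _ hp2 with ⟨h1, h2⟩ | ⟨h1, h2⟩
      · rw [Finset.mem_union]
        left
        rw [hU, Finset.mem_filter]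
        refine ⟨by unfold support₂; rw [Finset.mem_filter]; exact ⟨Finset.mem_univ _, h1⟩, ?_⟩
        intro hFp
        have hfix := hF p hFp
        have h3 : σ.symm p = p := by rw [Equiv.symm_apply_eq]; exact hfix.symm
        apply h1
        have h4 : permWord σ w p = w p := by
          show w (σ.symm p) = w p
          rw [h3]
        rw [← h4]; exact h2
      · rw [Finset.mem_union]
        right
        rw [Finset.mem_image]
        refine ⟨σ.symm p, ?_, Equiv.apply_symm_apply σ p⟩
        rw [hU, Finset.mem_filter]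
        have hq : w (σ.symm p) ≠ 0 := h2
        refine ⟨by unfold support₂; rw [Finset.mem_filter]; exact ⟨Finset.mem_univ _, hq⟩, ?_⟩
        intro hFq
        have hfix := hF (σ.symm p) hFq
        rw [Equiv.apply_symm_apply] at hfix
        apply hq
        rw [← hfix]; exact h1
    have hcardU : U.card ≤ 3 := by
      have h9 : U.card + pop24 (a &&& F) = pop24 a := card_unfixed a F
      omega
    have h6 : (support₂ (w + permWord σ w)).card ≤ 6 := by
      calc (support₂ (w + permWord σ w)).card ≤ (U ∪ U.image σ).card := Finset.card_le_card hsub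
        _ ≤ U.card + (U.image σ).card := Finset.card_union_le _ _
        _ ≤ U.card + U.card := Nat.add_le_add_left Finset.card_image_le _
        _ ≤ 6 := by omega
    omega
  intro p hp
  have h1 := congrFun heq (σ p)
  have h2 : permWord σ w (σ p) = w p := by
    show w (σ.symm (σ p)) = w p
    rw [Equiv.symm_apply_apply]
  rw [h2] at h1
  rw [← mem_support₂_ofMask] at hp ⊢
  unfold support₂ at hp ⊢
  rw [Finset.mem_filter] at hp ⊢
  refine ⟨Finset.mem_univ _, ?_⟩
  show w (σ p) ≠ 0
  rw [← h1]; exact hp.2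

/-- one step of the rigidity certificate -/
def rigStep (F : ℕ) (c : ℕ × ℕ × ℕ) : ℕ :=
  if pop24 (cw c.1) ≤ pop24 (cw c.1 &&& F) + 3 ∧ pop24 (cw c.2.1) ≤ pop24 (cw c.2.1 &&& F) + 3 ∧
      c.2.2 < 24 ∧ ((cw c.1 &&& cw c.2.1) ^^^ ((cw c.1 &&& cw c.2.1) &&& F)) = 2 ^ c.2.2
  then F ||| 2 ^ c.2.2 else F

theorem fixes_rigStep (σ : Equiv.Perm GolayPt) (hσ : σ ∈ M24) (F : ℕ) (c : ℕ × ℕ × ℕ)
    (h : Fixes σ F) : Fixes σ (rigStep F c) := by
  unfold rigStep
  split_ifs with hc
  · obtain ⟨h1, h2, hx, hX⟩ := hc
    have hA := inv_of_word σ hσ F c.1 h h1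
    have hB := inv_of_word σ hσ F c.2.1 h h2
    set q := dec c.2.2 with hq
    have hidxq : idx q = c.2.2 := idx_dec ⟨_, hx⟩
    have hXbit : ∀ j, ((cw c.1 &&& cw c.2.1) ^^^ ((cw c.1 &&& cw c.2.1) &&& F)).testBit j = true ↔
        j = c.2.2 := by
      intro j
      rw [hX, Nat.testBit_two_pow]
      simp [eq_comm]
    have hmemX : ∀ j, ((cw c.1 &&& cw c.2.1) ^^^ ((cw c.1 &&& cw c.2.1) &&& F)).testBit j = true ↔
        ((cw c.1).testBit j = true ∧ (cw c.2.1).testBit j = true ∧ F.testBit j = false) := by
      intro j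
      simp only [Nat.testBit_xor, Nat.testBit_and]
      generalize (cw c.1).testBit j = x
      generalize (cw c.2.1).testBit j = y
      generalize F.testBit j = z
      revert x y z
      decide
    have hqσ : σ q = q := by
      have hqX := (hmemX (idx q)).mp ((hXbit (idx q)).mpr hidxq)
      have h3 : F.testBit (idx (σ q)) = false := by
        by_contra hne
        have hne' : F.testBit (idx (σ q)) = true := by simpa using hne
        have h4 := h (σ q) hne'
        have h5 := σ.injective h4
        rw [h5, hqX.2.2] at hne'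
        exact Bool.false_ne_true hne'
      have hX' := (hmemX (idx (σ q))).mpr ⟨hA q hqX.1, hB q hqX.2.1, h3⟩
      have h6 := (hXbit _).mp hX'
      apply idx_injective
      rw [h6, hidxq]
    intro p hp
    rw [Nat.testBit_or, Bool.or_eq_true] at hp
    rcases hp with hp | hp
    · exact h p hp
    · rw [Nat.testBit_two_pow] at hp
      have h7 : idx p = c.2.2 := by simpa [eq_comm] using hp
      have h8 : p = q := idx_injective (by rw [h7, hidxq])
      rw [h8]; exact hqσ
  · exact h

/-- the rigidity certificate -/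
def rigCert : List (ℕ × ℕ × ℕ) := [(345, 2812, 12), (120, 608, 9), (120, 690, 8), (119, 135, 17),
  (15, 120, 20), (15, 163, 21), (14, 59, 16), (1, 15, 6), (1, 134, 18), (1, 14, 13), (16, 18, 22),
  (16, 32, 7), (2, 6, 19), (2, 16, 10), (2, 3, 14), (4, 32, 11), (4, 5, 15)]

theorem fixes_foldl (σ : Equiv.Perm GolayPt) (hσ : σ ∈ M24) (cert : List (ℕ × ℕ × ℕ)) :
    ∀ F : ℕ, Fixes σ F → Fixes σ (cert.foldl rigStep F) := by
  induction cert with
  | nil => intro F h; exact h
  | cons c cert ih =>
    intro F h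
    exact ih _ (fixes_rigStep σ hσ F c h)

/-- mask of the seven base points -/
def baseMask : ℕ := 8388671

theorem rig_ok : rigCert.foldl rigStep baseMask = 16777215 := by decide +kernel

theorem baseMask_spec : ∀ p : GolayPt, baseMask.testBit (idx p) = true → ∃ i < 7, p = dec (bpt i) := by
  decide +kernel

theorem all_bits : ∀ p : GolayPt, (16777215 : ℕ).testBit (idx p) = true := by decide +kernel

/-- an element of the group of the code fixing the seven base points is trivial -/
theorem rigid (σ : Equiv.Perm GolayPt) (hσ : σ ∈ M24)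
    (h : ∀ i < 7, σ (dec (bpt i)) = dec (bpt i)) : σ = 1 := by
  have h0 : Fixes σ baseMask := by
    intro p hp
    obtain ⟨i, hi, rfl⟩ := baseMask_spec p hp
    exact h i hi
  have h1 := fixes_foldl σ hσ rigCert baseMask h0
  rw [rig_ok] at h1
  apply Equiv.ext
  intro p
  exact h1 p (all_bits p)


/-! ### The group of the code is the top of the chain -/

theorem stdGens_le : Subgroup.closure stdGens ≤ M24 := by
  apply (Subgroup.closure_le _).2
  rintro g (rfl | rfl | rfl)
  · exact Cfsg.Agent.S0370.result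
  · exact Cfsg.Agent.S0372.result
  · exact Cfsg.Agent.S0373.result

theorem grp_le_M24 (i : ℕ) : grp i ≤ M24 := by
  refine (grp_mono (Nat.zero_le i)).trans ?_
  rw [grp_zero]
  exact stdGens_le

theorem orb_compl : ∀ i < 5, ∀ k < 24, k ∈ orb i ∨ ∃ i' < i, k = bpt i' := by decide +kernel

theorem bpt_ne : ∀ i < 7, ∀ i' < i, bpt i ≠ bpt i' := by decide +kernel

/-- mask of the octad through the first five base points -/
def octMask : ℕ := 8536111

theorem octMask_eq : cw 2503 = octMask := by decide +kernel

/-- mask of the first five base points -/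
def fiveMask : ℕ := 8388623

theorem oct_pop : pop24 (cw 2503) ≤ pop24 (cw 2503 &&& fiveMask) + 3 := by decide +kernel

theorem fiveMask_spec : ∀ p : GolayPt, fiveMask.testBit (idx p) = true → ∃ i < 5, p = dec (bpt i) := by
  decide +kernel

theorem orb5_spec : ∀ k < 24, octMask.testBit k = true → k ∈ orb 5 ∨ ∃ i' < 5, k = bpt i' := by
  decide +kernel

theorem orb6_spec : ∀ k < 24, octMask.testBit k = false → k ∈ orb 6 := by decide +kernel

theorem oct_b5 : octMask.testBit (bpt 5) = true := by decide +kernel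

theorem oct_b6 : octMask.testBit (bpt 6) = false := by decide +kernel

theorem inv_oct (σ : Equiv.Perm GolayPt) (hσ : σ ∈ M24)
    (hfix : ∀ i' < 5, σ (dec (bpt i')) = dec (bpt i')) : Inv σ octMask := by
  have h0 : Fixes σ fiveMask := by
    intro p hp
    obtain ⟨i, hi, rfl⟩ := fiveMask_spec p hp
    exact hfix i hi
  have := inv_of_word σ hσ fiveMask 2503 h0 oct_pop
  rwa [octMask_eq] at this

theorem not_earlier (σ : Equiv.Perm GolayPt) (i : ℕ) (hi : i < 7)
    (hfix : ∀ i' < i, σ (dec (bpt i')) = dec (bpt i')) :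
    ¬ ∃ i' < i, idx (σ (dec (bpt i))) = bpt i' := by
  rintro ⟨i', hi', h⟩
  have h1 : σ (dec (bpt i)) = dec (bpt i') := by
    apply idx_injective
    rw [h, idx_dec_bpt i' (lt_trans hi' hi)]
  rw [← hfix i' hi'] at h1
  have h2 := σ.injective h1
  have h3 := congrArg idx h2
  rw [idx_dec_bpt i hi, idx_dec_bpt i' (lt_trans hi' hi)] at h3
  exact bpt_ne i hi i' hi' h3

theorem image_mem_orb (σ : Equiv.Perm GolayPt) (hσ : σ ∈ M24) (i : ℕ) (hi : i < 7)
    (hfix : ∀ i' < i, σ (dec (bpt i')) = dec (bpt i')) : idx (σ (dec (bpt i))) ∈ orb i := by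
  have hne := not_earlier σ i hi hfix
  by_cases h5 : i < 5
  · rcases orb_compl i h5 _ (idx_lt _) with h | h
    · exact h
    · exact absurd h hne
  · have hfix5 : ∀ i' < 5, σ (dec (bpt i')) = dec (bpt i') :=
      fun i' hi' => hfix i' (by omega)
    have hinv := inv_oct σ hσ hfix5
    have hi56 : i = 5 ∨ i = 6 := by omega
    rcases hi56 with rfl | rfl
    · have h1 : octMask.testBit (idx (dec (bpt 5))) = true := by
        rw [idx_dec_bpt 5 hi]; exact oct_b5
      have h2 := hinv _ h1
      rcases orb5_spec _ (idx_lt _) h2 with h | h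
      · exact h
      · exact absurd h hne
    · apply orb6_spec _ (idx_lt _)
      by_contra hcon
      have hcon' : octMask.testBit (idx (σ (dec (bpt 6)))) = true := by simpa using hcon
      have hσ' : σ⁻¹ ∈ M24 := Subgroup.inv_mem _ hσ
      have hfix5' : ∀ i' < 5, σ⁻¹ (dec (bpt i')) = dec (bpt i') := by
        intro i' hi'
        rw [Equiv.Perm.inv_def, Equiv.symm_apply_eq]
        exact (hfix5 i' hi').symm
      have hinv' := inv_oct σ⁻¹ hσ' hfix5'
      have h3 := hinv' _ hcon'
      rw [Equiv.Perm.inv_def, Equiv.symm_apply_apply, idx_dec_bpt 6 hi, oct_b6] at h3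
      exact Bool.false_ne_true h3

theorem mem_grp_aux : ∀ d i : ℕ, i + d = 7 → ∀ σ : Equiv.Perm GolayPt, σ ∈ M24 →
    (∀ i' < i, σ (dec (bpt i')) = dec (bpt i')) → σ ∈ grp i := by
  intro d
  induction d with
  | zero =>
    intro i hi σ hσ hfix
    have hi7 : i = 7 := by omega
    subst hi7
    rw [rigid σ hσ hfix]
    exact Subgroup.one_mem _
  | succ d ih =>
    intro i hi σ hσ hfix
    have hi7 : i < 7 := by omega
    have hk := image_mem_orb σ hσ i hi7 hfix
    set k := idx (σ (dec (bpt i))) with hkdef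
    have hT : evalW (tw i k) ∈ grp i := evalW_mem_grp i _ (ok3 i hi7 k hk).1
    have hTb : evalW (tw i k) (dec (bpt i)) = σ (dec (bpt i)) := by
      apply idx_injective
      rw [idx_evalW _ (fun l hl => ((ok3 i hi7 k hk).1 l hl).1), idx_dec_bpt i hi7]
      exact (ok3 i hi7 k hk).2
    have hTfix : ∀ i' < i, evalW (tw i k) (dec (bpt i')) = dec (bpt i') := by
      intro i' hi'
      exact grp_succ_fix i' (lt_trans hi' hi7) _ (grp_mono (Nat.succ_le_of_lt hi') hT)
    have hσ' : (evalW (tw i k))⁻¹ * σ ∈ M24 :=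
      Subgroup.mul_mem _ (Subgroup.inv_mem _ (grp_le_M24 i hT)) hσ
    have hfix' : ∀ i' < i + 1, ((evalW (tw i k))⁻¹ * σ) (dec (bpt i')) = dec (bpt i') := by
      intro i' hi'
      rw [Equiv.Perm.mul_apply, Equiv.Perm.inv_def, Equiv.symm_apply_eq]
      rcases Nat.lt_succ_iff_lt_or_eq.mp hi' with h | h
      · rw [hfix i' h, hTfix i' h]
      · rw [h, hTb]
    have h1 := ih (i + 1) (by omega) _ hσ' hfix'
    have h2 : σ = evalW (tw i k) * ((evalW (tw i k))⁻¹ * σ) := by group
    rw [h2]
    exact Subgroup.mul_mem _ hT (grp_mono (Nat.le_succ i) h1)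

/-- elements of the group of the code fixing the first `i` base points form the `i`-th group of
the chain -/
theorem mem_grp_iff (i : ℕ) (hi : i ≤ 7) (σ : Equiv.Perm GolayPt) :
    σ ∈ grp i ↔ σ ∈ M24 ∧ ∀ i' < i, σ (dec (bpt i')) = dec (bpt i') := by
  constructor
  · intro h
    refine ⟨grp_le_M24 i h, fun i' hi' => ?_⟩
    exact grp_succ_fix i' (by omega) σ (grp_mono (Nat.succ_le_of_lt hi') h)
  · rintro ⟨h1, h2⟩
    exact mem_grp_aux (7 - i) i (by omega) σ h1 h2

theorem M24_eq_grp : M24 = grp 0 := by
  ext σ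
  rw [mem_grp_iff 0 (by norm_num)]
  constructor
  · intro h
    exact ⟨h, fun i' hi' => absurd hi' (Nat.not_lt_zero _)⟩
  · intro h
    exact h.1

theorem M24_eq_closure : M24 = Subgroup.closure stdGens := by
  rw [M24_eq_grp, grp_zero]

theorem card_M24 : Nat.card M24 = 244823040 := by
  rw [M24_eq_grp]
  exact card_grp 0 (by norm_num)

end Cfsg.Agent.Helper29.M24
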