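import Mathlib
import Cfsg.Agent.Lib.Helper29.M24Rigid
import Cfsg.Agent.Lib.Helper27.GolayRigid

set_option autoImplicit false
open Cfsg

namespace Cfsg.Agent.Helper29.M24

open Cfsg.Agent.Helper27 Cfsg.Agent.Helper29
open Cfsg.Agent.S0358 (idx)

/-! ### Transitivity properties derived from the chain -/

/-- the `i`-th base point -/
def bp (i : ℕ) : GolayPt := dec (bpt i)

theorem bp_injOn {i j : ℕ} (hi : i < 7) (hj : j < 7) (h : bp i = bp j) : i = j := by
  have h' : bpt i = bpt j := by
    have := congrArg idx h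
    unfold bp at this
    rwa [idx_dec_bpt i hi, idx_dec_bpt j hj] at this
  rcases lt_trichotomy i j with hlt | heq | hgt
  · exact absurd h'.symm (bpt_ne j hj i hlt)
  · exact heq
  · exact absurd h' (bpt_ne i hi j hgt)

/-- the group `grp i` moves the `i`-th base point to any point other than the earlier base points,
for `i < 5` -/
theorem exists_grp_map (i : ℕ) (hi : i < 5) (p : GolayPt) (hp : ∀ i' < i, p ≠ bp i') :
    ∃ g ∈ grp i, g (bp i) = p := by
  have hi7 : i < 7 := by omega
  rcases orb_compl i hi (idx p) (idx_lt p) with h | ⟨i', hi', h⟩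
  · refine ⟨evalW (tw i (idx p)), evalW_mem_grp i _ (ok3 i hi7 _ h).1, ?_⟩
    apply idx_injective
    unfold bp
    rw [idx_evalW _ (fun l hl => ((ok3 i hi7 _ h).1 l hl).1), idx_dec_bpt i hi7]
    exact (ok3 i hi7 _ h).2
  · exfalso
    apply hp i' hi'
    apply idx_injective
    unfold bp
    rw [h, idx_dec_bpt i' (by omega)]

theorem grp_fix (i : ℕ) (hi : i ≤ 7) (g : Equiv.Perm GolayPt) (hg : g ∈ grp i) (i' : ℕ)
    (hi' : i' < i) : g (bp i') = bp i' :=
  ((mem_grp_iff i hi g).1 hg).2 i' hi'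

/-- any injective sequence of `k ≤ 5` points is the image of the first base points under an
element of the group -/
theorem exists_map_base (x : ℕ → GolayPt) : ∀ k ≤ 5, (∀ i < k, ∀ j < k, x i = x j → i = j) →
    ∃ g ∈ M24, ∀ i < k, g (bp i) = x i := by
  intro k
  induction k with
  | zero =>
    intro _ _
    exact ⟨1, Subgroup.one_mem _, fun i hi => absurd hi (Nat.not_lt_zero i)⟩
  | succ k ih =>
    intro hk hinj
    obtain ⟨g, hg, hgx⟩ := ih (by omega) (fun i hi j hj => hinj i (by omega) j (by omega))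
    have hp : ∀ i' < k, g⁻¹ (x k) ≠ bp i' := by
      intro i' hi' h
      have h1 : x k = g (bp i') := by
        rw [← h, Equiv.Perm.inv_def, Equiv.apply_symm_apply]
      rw [hgx i' hi'] at h1
      have := hinj k (by omega) i' (by omega) h1
      omega
    obtain ⟨h, hh, hhx⟩ := exists_grp_map k (by omega) _ hp
    refine ⟨g * h, Subgroup.mul_mem _ hg (grp_le_M24 k hh), ?_⟩
    intro i hi
    rw [Equiv.Perm.mul_apply]
    rcases Nat.lt_succ_iff_lt_or_eq.1 hi with hlt | rfl
    · rw [grp_fix k (by omega) h hh i hlt, hgx i hlt]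
    · rw [hhx, Equiv.Perm.inv_def, Equiv.apply_symm_apply]

theorem exists_map_emb {k : ℕ} (hk : k ≤ 5) (x : Fin k ↪ GolayPt) :
    ∃ g ∈ M24, ∀ i : Fin k, g (bp i.val) = x i := by
  obtain ⟨g, hg, h⟩ := exists_map_base (fun i => if h : i < k then x ⟨i, h⟩ else none) k hk (by
    intro i hi j hj hij
    simp only [hi, hj, dite_true] at hij
    have := x.injective hij
    exact Fin.mk.inj_iff.1 this)
  refine ⟨g, hg, fun i => ?_⟩
  have := h i.val i.isLt
  simpa using this

theorem exists_map_emb₂ {k : ℕ} (hk : k ≤ 5) (x y : Fin k ↪ GolayPt) :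
    ∃ g ∈ M24, ∀ i : Fin k, g (x i) = y i := by
  obtain ⟨g, hg, hgx⟩ := exists_map_emb hk x
  obtain ⟨h, hh, hhy⟩ := exists_map_emb hk y
  refine ⟨h * g⁻¹, Subgroup.mul_mem _ hh (Subgroup.inv_mem _ hg), fun i => ?_⟩
  rw [Equiv.Perm.mul_apply, ← hgx i, Equiv.Perm.inv_def, Equiv.symm_apply_apply, hhy]

theorem multiplyPretransitive {k : ℕ} (hk : k ≤ 5) :
    MulAction.IsMultiplyPretransitive M24 GolayPt k := by
  rw [MulAction.isMultiplyPretransitive_iff]
  intro x y
  obtain ⟨g, hg, h⟩ := exists_map_emb₂ hk x y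
  refine ⟨⟨g, hg⟩, ?_⟩
  refine Function.Embedding.ext fun i => ?_
  exact h i

end Cfsg.Agent.Helper29.M24

namespace Cfsg.Agent.Helper29.M24

open Cfsg.Agent.Helper27 Cfsg.Agent.Helper29
open Cfsg.Agent.S0358 (idx)
open scoped Pointwise

/-- a finite set with at least `k` points contains the image of an embedding of `Fin k` -/
theorem exists_emb_subset (s : Finset GolayPt) (k : ℕ) (hk : k ≤ s.card) :
    ∃ x : Fin k ↪ GolayPt, ∀ i, x i ∈ s := by
  obtain ⟨t, hts, htc⟩ := Finset.exists_subset_card_eq hk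
  let e : Fin k ≃ t := (Fintype.equivFinOfCardEq (by rw [Fintype.card_coe, htc])).symm
  refine ⟨⟨fun i => (e i : GolayPt), ?_⟩, fun i => hts (e i).2⟩
  intro i j hij
  exact e.injective (Subtype.ext hij)

/-- the group of the code is transitive on octads -/
theorem octad_transitive (o o' : Finset GolayPt) (ho : o ∈ octads) (ho' : o' ∈ octads) :
    ∃ g ∈ M24, g • o = o' := by
  obtain ⟨x, hx⟩ := exists_emb_subset o 5 (by rw [ho.2]; norm_num)
  obtain ⟨y, hy⟩ := exists_emb_subset o' 5 (by rw [ho'.2]; norm_num)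
  obtain ⟨g, hg, hgxy⟩ := exists_map_emb₂ le_rfl x y
  refine ⟨g, hg, ?_⟩
  have hcard : (Finset.univ.image y).card = 5 := by
    rw [Finset.card_image_of_injective _ y.injective]; simp
  apply Cfsg.Agent.S0363.octad_unique (smul_mem_octads hg ho) ho' hcard
  · intro p hp
    obtain ⟨i, -, rfl⟩ := Finset.mem_image.1 hp
    rw [← hgxy i]
    exact Finset.smul_mem_smul_finset (hx i)
  · intro p hp
    obtain ⟨i, -, rfl⟩ := Finset.mem_image.1 hp
    exact hy i

end Cfsg.Agent.Helper29.M24
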