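import Mathlib
import Cfsg.Agent.Lib.Helper29.M24Trans

set_option autoImplicit false
open Cfsg

namespace Cfsg.Agent.Helper29.M24

open Cfsg.Agent.Helper27 Cfsg.Agent.Helper29
open Cfsg.Agent.S0358 (idx)
open scoped Pointwise

/-! ### Orders of point stabilizers -/

theorem card_of_map_eq (H : Subgroup M24) (K : Subgroup (Equiv.Perm GolayPt))
    (h : H.map M24.subtype = K) : Nat.card H = Nat.card K := by
  rw [← h, Subgroup.card_subtype]

theorem smul_def' (g : M24) (p : GolayPt) : g • p = (g : Equiv.Perm GolayPt) p := rfl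

theorem map_stab_bp0 : (MulAction.stabilizer M24 (bp 0)).map M24.subtype = grp 1 := by
  ext σ
  rw [Subgroup.mem_map, mem_grp_iff 1 (by norm_num)]
  constructor
  · rintro ⟨x, hx, rfl⟩
    refine ⟨x.2, fun i' hi' => ?_⟩
    obtain rfl : i' = 0 := by omega
    exact hx
  · rintro ⟨h1, h2⟩
    exact ⟨⟨σ, h1⟩, h2 0 (by norm_num), rfl⟩

theorem map_stab_bp01 : (MulAction.stabilizer M24 (bp 0) ⊓ MulAction.stabilizer M24 (bp 1)).map
    M24.subtype = grp 2 := by
  ext σ
  rw [Subgroup.mem_map, mem_grp_iff 2 (by norm_num)]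
  constructor
  · rintro ⟨x, hx, rfl⟩
    refine ⟨x.2, fun i' hi' => ?_⟩
    have : i' = 0 ∨ i' = 1 := by omega
    rcases this with rfl | rfl
    · exact hx.1
    · exact hx.2
  · rintro ⟨h1, h2⟩
    exact ⟨⟨σ, h1⟩, ⟨h2 0 (by norm_num), h2 1 (by norm_num)⟩, rfl⟩

theorem card_stab_point (p : GolayPt) : Nat.card (MulAction.stabilizer M24 p) = 10200960 := by
  obtain ⟨g, hg, hgp⟩ := exists_map_emb (k := 1) (by norm_num) ⟨fun _ => p, fun _ _ _ => Subsingleton.elim _ _⟩
  have h0 : p = (⟨g, hg⟩ : M24) • bp 0 := (hgp 0).symm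
  rw [h0, MulAction.stabilizer_smul_eq_stabilizer_map_conj,
    Subgroup.card_map_of_injective (MulEquiv.injective _), card_of_map_eq _ _ map_stab_bp0,
    card_grp 1 (by norm_num)]
  rfl

theorem card_stab_two (p q : GolayPt) (hpq : p ≠ q) :
    Nat.card ↥(MulAction.stabilizer M24 p ⊓ MulAction.stabilizer M24 q) = 443520 := by
  obtain ⟨g, hg, hgp⟩ := exists_map_emb (k := 2) (by norm_num)
    ⟨fun i => if i = 0 then p else q, by
      intro i j hij
      fin_cases i <;> fin_cases j <;> simp_all [eq_comm]⟩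
  have h0 : p = (⟨g, hg⟩ : M24) • bp 0 := (hgp 0).symm
  have h1 : q = (⟨g, hg⟩ : M24) • bp 1 := (hgp 1).symm
  rw [h0, h1, MulAction.stabilizer_smul_eq_stabilizer_map_conj,
    MulAction.stabilizer_smul_eq_stabilizer_map_conj, ← Subgroup.map_inf _ _ _ (MulEquiv.injective _),
    Subgroup.card_map_of_injective (MulEquiv.injective _), card_of_map_eq _ _ map_stab_bp01,
    card_grp 2 (by norm_num)]
  rfl

end Cfsg.Agent.Helper29.M24

namespace Cfsg.Agent.Helper29.M24

open Cfsg.Agent.Helper27 Cfsg.Agent.Helper29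
open Cfsg.Agent.S0358 (idx)
open scoped Pointwise

/-! ### The pointwise stabilizer of an octad -/

/-- the standard octad, through the first six base points -/
def oct0 : Finset GolayPt := maskSet octMask

theorem oct0_mem : oct0 ∈ octads := by
  unfold oct0
  rw [← octMask_eq]
  exact maskSet_cw_mem_octads 2503 (by decide +kernel)

theorem gens6_fix : ∀ j < ngen, 6 ≤ depthOf j → ∀ k < 24, octMask.testBit k = true →
    app (gcode j) k = k := by decide +kernel

theorem grp6_fix (σ : Equiv.Perm GolayPt) (hσ : σ ∈ grp 6) (p : GolayPt) (hp : p ∈ oct0) :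
    σ p = p := by
  unfold oct0 at hp
  rw [mem_maskSet] at hp
  unfold grp at hσ
  induction hσ using Subgroup.closure_induction with
  | mem g hg =>
    obtain ⟨j, hj, hd, rfl⟩ := hg
    apply idx_injective
    rw [idx_gP j hj]
    exact gens6_fix j hj hd _ (idx_lt p) hp
  | one => rfl
  | mul a b _ _ ha hb => rw [Equiv.Perm.mul_apply, hb, ha]
  | inv a _ ha =>
    rw [Equiv.Perm.inv_def, Equiv.symm_apply_eq]
    exact ha.symm

theorem bp_mem_oct0 : ∀ i < 6, bp i ∈ oct0 := by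
  intro i hi
  unfold oct0 bp
  rw [mem_maskSet, idx_dec_bpt i (by omega)]
  revert i
  decide +kernel

theorem inf_fixing_oct0 :
    M24 ⊓ fixingSubgroup (Equiv.Perm GolayPt) (oct0 : Set GolayPt) = grp 6 := by
  ext σ
  rw [Subgroup.mem_inf, mem_fixingSubgroup_iff, mem_grp_iff 6 (by norm_num)]
  constructor
  · rintro ⟨h1, h2⟩
    exact ⟨h1, fun i' hi' => h2 _ (Finset.mem_coe.2 (bp_mem_oct0 i' hi'))⟩
  · rintro ⟨h1, h2⟩
    have hσ : σ ∈ grp 6 := (mem_grp_iff 6 (by norm_num) σ).2 ⟨h1, h2⟩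
    exact ⟨h1, fun y hy => grp6_fix σ hσ y (Finset.mem_coe.1 hy)⟩

theorem sq6 : ∀ p ∈ orb 6, ∀ x < 24, appW (tw 6 p ++ tw 6 p) x = appW [] x := by decide +kernel

theorem grp6_sq (σ : Equiv.Perm GolayPt) (hσ : σ ∈ grp 6) : σ * σ = 1 := by
  have hM : σ ∈ M24 := grp_le_M24 6 hσ
  have hfix := ((mem_grp_iff 6 (by norm_num) σ).1 hσ).2
  have hp : idx (σ (dec (bpt 6))) ∈ orb 6 := image_mem_orb σ hM 6 (by norm_num) hfix
  set p := idx (σ (dec (bpt 6))) with hpdef
  have h3 := ok3 6 (by norm_num) p hp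
  have ht : evalW (tw 6 p) ∈ grp 6 := evalW_mem_grp 6 _ h3.1
  have htb : evalW (tw 6 p) (dec (bpt 6)) = σ (dec (bpt 6)) := by
    apply idx_injective
    rw [idx_evalW _ (fun l hl => (h3.1 l hl).1), idx_dec_bpt 6 (by norm_num)]
    exact h3.2
  have hmem : (evalW (tw 6 p))⁻¹ * σ ∈ grp 7 := by
    apply (level 6 (by norm_num)).1 _ (Subgroup.mul_mem _ (Subgroup.inv_mem _ ht) hσ)
    rw [Equiv.Perm.mul_apply, ← htb, Equiv.Perm.inv_def, Equiv.symm_apply_apply]
  rw [grp_seven, Subgroup.mem_bot] at hmem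
  have hσt : σ = evalW (tw 6 p) := by
    have := congrArg (fun z => evalW (tw 6 p) * z) hmem
    simpa [mul_assoc] using this
  rw [hσt, ← evalW_append]
  have := evalW_eq_of_appW (tw 6 p ++ tw 6 p) []
    (fun l hl => by
      rcases List.mem_append.1 hl with h | h <;> exact (h3.1 l h).1)
    (fun l hl => by simp at hl) (sq6 p hp)
  rw [this]
  rfl

theorem conj_mem_fixing (g σ : Equiv.Perm GolayPt) (s : Finset GolayPt) :
    σ ∈ fixingSubgroup (Equiv.Perm GolayPt) ((g • s : Finset GolayPt) : Set GolayPt) ↔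
      g⁻¹ * σ * g ∈ fixingSubgroup (Equiv.Perm GolayPt) (s : Set GolayPt) := by
  rw [mem_fixingSubgroup_iff, mem_fixingSubgroup_iff]
  constructor
  · intro h y hy
    have := h (g • y) (Finset.mem_coe.2 (Finset.smul_mem_smul_finset (Finset.mem_coe.1 hy)))
    simp only [Equiv.Perm.smul_def, Equiv.Perm.mul_apply] at this ⊢
    rw [this, Equiv.Perm.inv_def, Equiv.symm_apply_apply]
  · intro h y hy
    obtain ⟨z, hz, rfl⟩ := Finset.mem_smul_finset.1 (Finset.mem_coe.1 hy)
    have := h z (Finset.mem_coe.2 hz)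
    simp only [Equiv.Perm.smul_def, Equiv.Perm.mul_apply] at this ⊢
    rw [Equiv.Perm.inv_def, Equiv.symm_apply_eq] at this
    exact this

theorem octad_pointwise (o : Finset GolayPt) (ho : o ∈ octads) :
    Nat.card ↥(M24 ⊓ fixingSubgroup (Equiv.Perm GolayPt) (o : Set GolayPt)) = 16 ∧
      ∀ g ∈ M24 ⊓ fixingSubgroup (Equiv.Perm GolayPt) (o : Set GolayPt), g * g = 1 := by
  obtain ⟨g, hg, rfl⟩ := octad_transitive oct0 o oct0_mem ho
  have hmap : M24 ⊓ fixingSubgroup (Equiv.Perm GolayPt) ((g • oct0 : Finset GolayPt) : Set GolayPt) =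
      (grp 6).map (MulAut.conj g).toMonoidHom := by
    ext σ
    rw [Subgroup.mem_inf, conj_mem_fixing, Subgroup.mem_map_equiv, MulAut.conj_symm_apply,
      ← inf_fixing_oct0, Subgroup.mem_inf]
    constructor
    · rintro ⟨h1, h2⟩
      exact ⟨Subgroup.mul_mem _ (Subgroup.mul_mem _ (Subgroup.inv_mem _ hg) h1) hg, h2⟩
    · rintro ⟨h1, h2⟩
      refine ⟨?_, h2⟩
      have := Subgroup.mul_mem _ (Subgroup.mul_mem _ hg h1) (Subgroup.inv_mem _ hg)
      simpa [mul_assoc] using this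
  rw [hmap]
  refine ⟨?_, ?_⟩
  · rw [Subgroup.card_map_of_injective (MulEquiv.injective _), card_grp 6 (by norm_num)]
    rfl
  · rintro σ hσ
    obtain ⟨τ, hτ, rfl⟩ := Subgroup.mem_map.1 hσ
    have := grp6_sq τ hτ
    show g * τ * g⁻¹ * (g * τ * g⁻¹) = 1
    calc g * τ * g⁻¹ * (g * τ * g⁻¹) = g * (τ * τ) * g⁻¹ := by group
      _ = 1 := by rw [this]; group

end Cfsg.Agent.Helper29.M24
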