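import Mathlib
import Cfsg.Agent.Lib.Helper29.M24Stab
import Cfsg.Agent.S0361

set_option autoImplicit false
open Cfsg

namespace Cfsg.Agent.Helper29.M24

open Cfsg.Agent.Helper27 Cfsg.Agent.Helper29
open Cfsg.Agent.S0358 (idx)
open scoped Pointwise

/-! ### Dodecads: sharp 5-transitivity of the stabilizer -/

/-- the word `w` maps the set with mask `m` into itself -/
def invW (w : List ℕ) (m : ℕ) : Prop :=
  ∀ x < 24, m.testBit x = true → m.testBit (appW w x) = true

instance (w : List ℕ) (m : ℕ) : Decidable (invW w m) := by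
  unfold invW
  infer_instance

/-- the word `w` acts trivially -/
def trivW (w : List ℕ) : Prop := ∀ x < 24, appW w x = x

instance (w : List ℕ) : Decidable (trivW w) := by
  unfold trivW
  infer_instance

/-- the check for one word index -/
def dodEntry (n : ℕ) : Prop :=
  pop24 (cw n) = 12 → cw n &&& fiveMask = fiveMask →
    ∀ p ∈ orb 5, ∀ q ∈ orb 6, invW (tw 5 p ++ tw 6 q) (cw n) → trivW (tw 5 p ++ tw 6 q)

instance (n : ℕ) : Decidable (dodEntry n) := by
  unfold dodEntry
  infer_instance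

set_option maxRecDepth 1000000 in
/-- no non-trivial element of the stabilizer of the first five base points preserves a dodecad
through them -/
theorem dod_rigid : ∀ n < 4096, dodEntry n := by
  decide +kernel

/-- decomposition of an element of a group of the chain along the transversal -/
theorem grp_step (i : ℕ) (hi : i < 7) (σ : Equiv.Perm GolayPt) (hσ : σ ∈ grp i) :
    ∃ p ∈ orb i, ∃ τ ∈ grp (i + 1), σ = evalW (tw i p) * τ := by
  have hM : σ ∈ M24 := grp_le_M24 i hσ
  have hfix := ((mem_grp_iff i (by omega) σ).1 hσ).2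
  have hp : idx (σ (dec (bpt i))) ∈ orb i := image_mem_orb σ hM i hi hfix
  set p := idx (σ (dec (bpt i))) with hpdef
  have h3 := ok3 i hi p hp
  have ht : evalW (tw i p) ∈ grp i := evalW_mem_grp i _ h3.1
  have htb : evalW (tw i p) (dec (bpt i)) = σ (dec (bpt i)) := by
    apply idx_injective
    rw [idx_evalW _ (fun l hl => (h3.1 l hl).1), idx_dec_bpt i hi]
    exact h3.2
  have hmem : (evalW (tw i p))⁻¹ * σ ∈ grp (i + 1) := by
    apply (level i hi).1 _ (Subgroup.mul_mem _ (Subgroup.inv_mem _ ht) hσ)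
    rw [Equiv.Perm.mul_apply, ← htb, Equiv.Perm.inv_def, Equiv.symm_apply_apply]
  refine ⟨p, hp, _, hmem, ?_⟩
  group

theorem grp5_word (σ : Equiv.Perm GolayPt) (hσ : σ ∈ grp 5) :
    ∃ p ∈ orb 5, ∃ q ∈ orb 6, σ = evalW (tw 5 p ++ tw 6 q) := by
  obtain ⟨p, hp, τ, hτ, rfl⟩ := grp_step 5 (by norm_num) σ hσ
  obtain ⟨q, hq, τ', hτ', rfl⟩ := grp_step 6 (by norm_num) τ hτ
  rw [grp_seven, Subgroup.mem_bot] at hτ'
  subst hτ'
  exact ⟨p, hp, q, hq, by rw [evalW_append, mul_one]⟩

theorem smul_mem_dodecads {g : Equiv.Perm GolayPt} (hg : g ∈ M24) {d : Finset GolayPt}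
    (hd : d ∈ dodecads) : g • d ∈ dodecads := by
  have hσ : g • supports (golayCode : Set (GolayPt → ZMod 2))
      = supports (golayCode : Set (GolayPt → ZMod 2)) := MulAction.mem_stabilizer_iff.mp hg
  refine ⟨?_, ?_⟩
  · rw [← hσ]
    exact Set.smul_mem_smul_set hd.1
  · rw [Finset.card_smul_finset]
    exact hd.2

theorem fiveMask_lt : fiveMask < 2 ^ 24 := by decide

/-- an element of the group fixing the first five base points and a dodecad through them is
trivial -/
theorem dodecad_rigid_base (d : Finset GolayPt) (hd : d ∈ dodecads) (hb : ∀ i < 5, bp i ∈ d)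
    (σ : Equiv.Perm GolayPt) (hσ : σ ∈ M24) (hσd : σ • d = d)
    (hfix : ∀ i < 5, σ (bp i) = bp i) : σ = 1 := by
  obtain ⟨⟨w, hw, rfl⟩, hcard⟩ := hd
  obtain ⟨n, hn, rfl⟩ := exists_cw_of_mem hw
  rw [← maskSet_eq_support₂] at hcard hb hσd
  rw [card_maskSet] at hcard
  have h5 : cw n &&& fiveMask = fiveMask := by
    apply Nat.eq_of_testBit_eq
    intro j
    rw [Nat.testBit_and]
    by_cases hj : fiveMask.testBit j = true
    · have hj24 : j < 24 := by
        by_contra hcon
        have := Nat.testBit_lt_two_pow (lt_of_lt_of_le fiveMask_lt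
          (Nat.pow_le_pow_right (by norm_num) (not_lt.1 hcon)))
        rw [this] at hj
        exact Bool.false_ne_true hj
      have hidx : idx (dec j) = j := idx_dec ⟨j, hj24⟩
      obtain ⟨i, hi, hpi⟩ := fiveMask_spec (dec j) (by rw [hidx]; exact hj)
      have := hb i hi
      unfold bp at this
      rw [← hpi, mem_maskSet, hidx] at this
      rw [this, hj]; rfl
    · have : fiveMask.testBit j = false := by simpa using hj
      rw [this, Bool.and_false]
  have hσ5 : σ ∈ grp 5 := (mem_grp_iff 5 (by norm_num) σ).2 ⟨hσ, hfix⟩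
  obtain ⟨p, hp, q, hq, hσw⟩ := grp5_word σ hσ5
  have hvalid : ∀ l ∈ tw 5 p ++ tw 6 q, l < ngen := by
    intro l hl
    rcases List.mem_append.1 hl with h | h
    · exact ((ok3 5 (by norm_num) p hp).1 l h).1
    · exact ((ok3 6 (by norm_num) q hq).1 l h).1
  have hinv : invW (tw 5 p ++ tw 6 q) (cw n) := by
    intro x hx hbit
    have hidx : idx (dec x) = x := idx_dec ⟨x, hx⟩
    have h1 : dec x ∈ maskSet (cw n) := by rw [mem_maskSet, hidx]; exact hbit
    have h2 : σ (dec x) ∈ maskSet (cw n) := by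
      have : σ • dec x ∈ σ • maskSet (cw n) := Finset.smul_mem_smul_finset h1
      rwa [hσd] at this
    rw [mem_maskSet, hσw, idx_evalW _ hvalid, hidx] at h2
    exact h2
  have htriv := dod_rigid n hn hcard h5 p hp q hq hinv
  rw [hσw]
  have := evalW_eq_of_appW (tw 5 p ++ tw 6 q) [] hvalid (fun l hl => by simp at hl)
    (fun x hx => by rw [htriv x hx]; rfl)
  rw [this]; rfl

/-- an element of the group fixing a dodecad and five of its points is trivial -/
theorem dodecad_rigid (d : Finset GolayPt) (hd : d ∈ dodecads) (x : Fin 5 ↪ GolayPt)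
    (hx : ∀ i, x i ∈ d) (σ : Equiv.Perm GolayPt) (hσ : σ ∈ M24) (hσd : σ • d = d)
    (hσx : ∀ i, σ (x i) = x i) : σ = 1 := by
  obtain ⟨h, hh, hhx⟩ := exists_map_emb le_rfl x
  have hτ : h⁻¹ * σ * h = 1 := by
    apply dodecad_rigid_base (h⁻¹ • d) (smul_mem_dodecads (Subgroup.inv_mem _ hh) hd)
    · intro i hi
      have := hx ⟨i, hi⟩
      rw [← hhx ⟨i, hi⟩] at this
      rw [Finset.mem_smul_finset]
      exact ⟨_, this, by simp [Equiv.Perm.smul_def]⟩
    · exact Subgroup.mul_mem _ (Subgroup.mul_mem _ (Subgroup.inv_mem _ hh) hσ) hh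
    · rw [mul_smul, mul_smul, smul_inv_smul, hσd]
    · intro i hi
      have h1 := hhx ⟨i, hi⟩
      have h2 := hσx ⟨i, hi⟩
      simp only [Equiv.Perm.mul_apply]
      rw [h1, h2, ← h1, Equiv.Perm.inv_def, Equiv.symm_apply_apply]
  have : σ = h * (h⁻¹ * σ * h) * h⁻¹ := by group
  rw [this, hτ]; group

end Cfsg.Agent.Helper29.M24
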