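import Mathlib
import Cfsg.Agent.Lib.Helper29.M24Dodecad

set_option autoImplicit false
open Cfsg

namespace Cfsg.Agent.Helper29.M24

open Cfsg.Agent.Helper27 Cfsg.Agent.Helper29
open Cfsg.Agent.S0358 (idx)
open scoped Pointwise

/-! ### Dodecads: counting -/

theorem smul_finset_def' (g : M24) (d : Finset GolayPt) :
    g • d = (g : Equiv.Perm GolayPt) • d := rfl

/-- the map from the stabilizer of a dodecad to the 5-tuples of the dodecad -/
def tupMap (d : Finset GolayPt) (x : Fin 5 ↪ GolayPt) (hx : ∀ i, x i ∈ d)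
    (g : MulAction.stabilizer M24 d) : Fin 5 ↪ {p : GolayPt // p ∈ d} :=
  ⟨fun i => ⟨((g : M24) : Equiv.Perm GolayPt) (x i), by
      have h1 : (g : M24) • d = d := g.2
      have h2 : ((g : M24) : Equiv.Perm GolayPt) • x i ∈ ((g : M24) : Equiv.Perm GolayPt) • d :=
        Finset.smul_mem_smul_finset (hx i)
      rw [smul_finset_def'] at h1
      rw [h1] at h2
      exact h2⟩, by
    intro i j hij
    have := congrArg Subtype.val hij
    exact x.injective (((g : M24) : Equiv.Perm GolayPt).injective this)⟩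

theorem tupMap_injective (d : Finset GolayPt) (hd : d ∈ dodecads) (x : Fin 5 ↪ GolayPt)
    (hx : ∀ i, x i ∈ d) : Function.Injective (tupMap d x hx) := by
  intro g g' h
  have h1 : ∀ i, ((g : M24) : Equiv.Perm GolayPt) (x i) = ((g' : M24) : Equiv.Perm GolayPt) (x i) := by
    intro i
    have := congrArg (fun f => ((f i : {p : GolayPt // p ∈ d}) : GolayPt)) h
    exact this
  have hg : (g : M24) • d = d := g.2
  have hg' : (g' : M24) • d = d := g'.2
  rw [smul_finset_def'] at hg hg'
  have key : (((g : M24) : Equiv.Perm GolayPt))⁻¹ * ((g' : M24) : Equiv.Perm GolayPt) = 1 := by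
    apply dodecad_rigid d hd x hx
    · exact Subgroup.mul_mem _ (Subgroup.inv_mem _ (g : M24).2) (g' : M24).2
    · rw [mul_smul, hg', inv_smul_eq_iff, hg]
    · intro i
      rw [Equiv.Perm.mul_apply, ← h1 i, Equiv.Perm.inv_def, Equiv.symm_apply_apply]
  have : ((g : M24) : Equiv.Perm GolayPt) = ((g' : M24) : Equiv.Perm GolayPt) := by
    rw [inv_mul_eq_one] at key
    exact key
  exact Subtype.ext (Subtype.ext this)

theorem card_tuples (d : Finset GolayPt) (hd : d ∈ dodecads) :
    Nat.card (Fin 5 ↪ {p : GolayPt // p ∈ d}) = 95040 := by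
  rw [Nat.card_eq_fintype_card, Fintype.card_embedding_eq, Fintype.card_fin, Fintype.card_coe, hd.2]
  rfl

theorem card_stab_le (d : Finset GolayPt) (hd : d ∈ dodecads) :
    Nat.card (MulAction.stabilizer M24 d) ≤ 95040 := by
  obtain ⟨x, hx⟩ := exists_emb_subset d 5 (by rw [hd.2]; norm_num)
  rw [← card_tuples d hd]
  exact Nat.card_le_card_of_injective _ (tupMap_injective d hd x hx)

theorem orbit_subset (d : Finset GolayPt) (hd : d ∈ dodecads) :
    MulAction.orbit M24 d ⊆ dodecads := by
  rintro _ ⟨g, rfl⟩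
  exact smul_mem_dodecads g.2 hd

theorem dodecads_finite : (dodecads : Set (Finset GolayPt)).Finite := Set.toFinite _

theorem card_orbit_stab (d : Finset GolayPt) (hd : d ∈ dodecads) :
    (MulAction.orbit M24 d).ncard = 2576 ∧ Nat.card (MulAction.stabilizer M24 d) = 95040 := by
  have h1 : Nat.card (MulAction.orbit M24 d) * Nat.card (MulAction.stabilizer M24 d) =
      244823040 := by
    rw [← Nat.card_prod, Nat.card_congr (MulAction.orbitProdStabilizerEquivGroup M24 d), card_M24]
  have h2 : (MulAction.orbit M24 d).ncard ≤ 2576 := by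
    rw [← Cfsg.Agent.S0361.result]
    exact Set.ncard_le_ncard (orbit_subset d hd) dodecads_finite
  have h3 := card_stab_le d hd
  rw [Nat.card_coe_set_eq] at h1
  constructor
  · by_contra hne
    have hlt : (MulAction.orbit M24 d).ncard ≤ 2575 := by omega
    have := Nat.mul_le_mul hlt h3
    omega
  · by_contra hne
    have hlt : Nat.card (MulAction.stabilizer M24 d) ≤ 95039 := by omega
    have := Nat.mul_le_mul h2 hlt
    omega

theorem dodecad_transitive (d d' : Finset GolayPt) (hd : d ∈ dodecads) (hd' : d' ∈ dodecads) :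
    ∃ g : M24, g • d = d' := by
  have h := Set.eq_of_subset_of_ncard_le (orbit_subset d hd)
    (by rw [(card_orbit_stab d hd).1, Cfsg.Agent.S0361.result]) dodecads_finite
  rw [← h] at hd'
  exact hd'

theorem tupMap_bijective (d : Finset GolayPt) (hd : d ∈ dodecads) (x : Fin 5 ↪ GolayPt)
    (hx : ∀ i, x i ∈ d) : Function.Bijective (tupMap d x hx) := by
  apply Function.Injective.bijective_of_nat_card_le (tupMap_injective d hd x hx)
  rw [card_tuples d hd, (card_orbit_stab d hd).2]

theorem sharply_five (d : Finset GolayPt) (hd : d ∈ dodecads) (x y : Fin 5 ↪ GolayPt)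
    (hx : ∀ i, x i ∈ d) (hy : ∀ i, y i ∈ d) :
    ∃! g : MulAction.stabilizer M24 d, ∀ i, ((g : M24) : Equiv.Perm GolayPt) (x i) = y i := by
  have hb := tupMap_bijective d hd x hx
  let y' : Fin 5 ↪ {p : GolayPt // p ∈ d} := ⟨fun i => ⟨y i, hy i⟩, by
    intro i j hij
    exact y.injective (congrArg Subtype.val hij)⟩
  obtain ⟨g, hg⟩ := hb.2 y'
  refine ⟨g, ?_, ?_⟩
  · intro i
    have := congrArg (fun f => ((f i : {p : GolayPt // p ∈ d}) : GolayPt)) hg
    exact this
  · intro g' hg'
    apply hb.1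
    rw [hg]
    refine Function.Embedding.ext fun i => ?_
    exact Subtype.ext (hg' i)

/-- an embedding of `Fin (k+1)` into a finite set with prescribed first value -/
theorem exists_emb_cons (s : Finset GolayPt) (p : GolayPt) (hp : p ∈ s) (k : ℕ)
    (hk : k + 1 ≤ s.card) : ∃ x : Fin (k + 1) ↪ GolayPt, x 0 = p ∧ ∀ i, x i ∈ s := by
  obtain ⟨x', hx'⟩ := exists_emb_subset (s.erase p) k (by
    rw [Finset.card_erase_of_mem hp]; omega)
  refine ⟨⟨Fin.cons p x', ?_⟩, rfl, ?_⟩
  · rw [Fin.cons_injective_iff]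
    refine ⟨?_, x'.injective⟩
    rintro ⟨i, hi⟩
    have := hx' i
    rw [hi] at this
    exact (Finset.notMem_erase p s) this
  · intro i
    refine Fin.cases ?_ (fun j => ?_) i
    · exact hp
    · exact Finset.mem_of_mem_erase (hx' j)

/-- the stabilizer of a dodecad is transitive on it -/
theorem stab_transitive (d : Finset GolayPt) (hd : d ∈ dodecads) (p q : GolayPt) (hp : p ∈ d)
    (hq : q ∈ d) : ∃ g : MulAction.stabilizer M24 d, ((g : M24) : Equiv.Perm GolayPt) p = q := by
  obtain ⟨x, hx0, hx⟩ := exists_emb_cons d p hp 4 (by rw [hd.2]; norm_num)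
  obtain ⟨y, hy0, hy⟩ := exists_emb_cons d q hq 4 (by rw [hd.2]; norm_num)
  obtain ⟨g, hg, -⟩ := sharply_five d hd x y hx hy
  refine ⟨g, ?_⟩
  rw [← hx0, ← hy0]
  exact hg 0

theorem smul_mem_of_stab (d : Finset GolayPt) (g : MulAction.stabilizer M24 d) (p : GolayPt)
    (hp : p ∈ d) : ((g : M24) : Equiv.Perm GolayPt) p ∈ d := by
  have h1 : (g : M24) • d = d := g.2
  have h2 : ((g : M24) : Equiv.Perm GolayPt) • p ∈ ((g : M24) : Equiv.Perm GolayPt) • d :=
    Finset.smul_mem_smul_finset hp
  rw [smul_finset_def'] at h1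
  rw [h1] at h2
  exact h2

theorem orbit_stab_eq (d : Finset GolayPt) (hd : d ∈ dodecads) (p : GolayPt) (hp : p ∈ d) :
    MulAction.orbit (MulAction.stabilizer M24 d) p = (d : Set GolayPt) := by
  ext q
  constructor
  · rintro ⟨g, rfl⟩
    exact Finset.mem_coe.2 (smul_mem_of_stab d g p hp)
  · intro hq
    obtain ⟨g, hg⟩ := stab_transitive d hd p q hp (Finset.mem_coe.1 hq)
    exact ⟨g, hg⟩

theorem card_stab_dodecad_point (d : Finset GolayPt) (hd : d ∈ dodecads) (p : GolayPt)
    (hp : p ∈ d) :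
    Nat.card ↥(MulAction.stabilizer M24 d ⊓ MulAction.stabilizer M24 p) = 7920 := by
  have h1 : Nat.card (MulAction.orbit (MulAction.stabilizer M24 d) p) *
      Nat.card (MulAction.stabilizer (MulAction.stabilizer M24 d) p) = 95040 := by
    rw [← Nat.card_prod, Nat.card_congr (MulAction.orbitProdStabilizerEquivGroup _ p),
      (card_orbit_stab d hd).2]
  rw [orbit_stab_eq d hd p hp, Nat.card_coe_set_eq, Set.ncard_coe_finset, hd.2] at h1
  have h2 : (MulAction.stabilizer (MulAction.stabilizer M24 d) p).map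
      (MulAction.stabilizer M24 d).subtype =
      MulAction.stabilizer M24 d ⊓ MulAction.stabilizer M24 p := by
    ext g
    rw [Subgroup.mem_map, Subgroup.mem_inf]
    constructor
    · rintro ⟨h, hh, rfl⟩
      exact ⟨h.2, hh⟩
    · rintro ⟨h1, h2⟩
      exact ⟨⟨g, h1⟩, h2, rfl⟩
  rw [← h2, Subgroup.card_subtype]
  omega

end Cfsg.Agent.Helper29.M24
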