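import Mathlib
import Cfsg.Agent.Lib.Helper29.M24Dodecad

set_option autoImplicit false
open Cfsg

namespace Cfsg.Agent.Helper29.M24

open Cfsg.Agent.Helper27 Cfsg.Agent.Helper29
open Cfsg.Agent.S0358 (idx)
open scoped Pointwise

/-! ### Involutions of the group of the length-24 code: two classes -/

/-- a word swapping the first two base points and the next two -/
def wtI : List ℕ := [1, 3, 2, 2, 2, 4, 4, 4, 4, 5, 4]

/-- representative involution with fixed points -/
def zA : List ℕ := [1, 3, 2, 2, 2, 4, 4, 4, 4, 5, 4, 8, 8, 9]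

/-- representative involution without fixed points -/
def zB : List ℕ := [1, 3, 2, 2, 2, 4, 4, 4, 4, 5, 4, 6, 6, 10]

def invTab : List (List (List (ℕ × List ℕ))) := [
  [],
  [],
  [],
  [[],
    [],
    [],
    [],
    [],
    [],
    [],
    [],
    [],
    [],
    [],
    [],
    [],
    [],
    [(0, []), (0, []), (0, []), (0, []), (0, []), (0, []), (1, [7, 8]), (1, [9, 6, 6]), (0, []), (1, [1, 7, 3]), (0, []), (0, []), (0, []), (0, []), (0, []), (1, [5, 2, 12]), (0, []), (0, []), (0, []), (1, [7, 2, 3]), (0, [9]), (1, [6, 6])]],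
  [[],
    [],
    [],
    [],
    [],
    [(0, []), (0, []), (0, []), (0, []), (0, []), (0, []), (0, []), (0, []), (0, []), (0, []), (0, []), (0, []), (0, []), (0, []), (0, []), (0, []), (0, []), (0, []), (0, []), (0, []), (1, [])],
    [],
    [],
    [],
    [],
    [],
    [],
    [],
    [],
    [(0, []), (0, []), (0, []), (0, []), (0, []), (0, []), (0, []), (0, []), (1, [6, 5, 5])],
    [],
    [],
    [(0, []), (0, []), (0, []), (0, []), (0, []), (0, []), (0, []), (0, []), (0, []), (0, []), (0, []), (0, []), (0, []), (0, []), (0, []), (0, []), (0, []), (0, []), (0, []), (0, []), (0, []), (0, []), (1, [10, 7])]],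
  [[],
    [],
    [],
    [],
    [],
    [],
    [],
    [],
    [],
    [],
    [],
    [],
    [],
    [],
    [],
    [],
    [],
    [(0, []), (0, []), (0, []), (0, []), (1, [1, 3, 4]), (0, []), (1, [9, 7, 6]), (1, [7, 6]), (0, []), (0, []), (0, []), (0, []), (0, []), (0, [6, 8]), (0, []), (0, []), (0, [6, 7]), (0, []), (0, []), (1, [7, 11, 6]), (0, []), (1, [6, 12, 9]), (1, [4, 2, 11, 2])]],
  [[],
    [],
    [],
    [],
    [],
    [(0, []), (0, []), (0, []), (0, []), (0, []), (0, []), (0, []), (0, []), (0, []), (0, []), (0, []), (0, []), (0, []), (0, []), (0, []), (0, []), (1, [7, 9, 7])],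
    [],
    [],
    [],
    [],
    [],
    [],
    [],
    [],
    [(0, []), (0, []), (0, []), (0, []), (0, []), (0, []), (0, []), (0, []), (0, []), (0, []), (0, []), (0, []), (1, [12, 5, 5])],
    [],
    [],
    [(0, []), (0, []), (0, []), (0, []), (0, []), (0, []), (1, [8, 2, 3])]],
  [[],
    [],
    [],
    [],
    [],
    [(0, []), (0, []), (0, []), (0, []), (0, []), (0, []), (0, []), (0, []), (0, []), (0, []), (0, []), (1, [8, 9])],
    [],
    [],
    [],
    [],
    [],
    [],
    [],
    [],
    [(0, []), (0, []), (0, []), (0, []), (0, []), (0, []), (0, []), (0, []), (0, []), (0, []), (0, []), (0, []), (0, []), (0, []), (0, []), (0, []), (0, []), (0, []), (0, []), (0, []), (0, []), (1, [12, 11])],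
    [],
    [],
    [(0, []), (0, []), (0, []), (0, []), (0, []), (0, []), (0, []), (0, []), (0, []), (0, []), (0, []), (0, []), (0, []), (0, []), (0, []), (0, []), (1, [8, 8])]],
  [[],
    [],
    [],
    [],
    [],
    [(0, []), (0, []), (0, []), (0, []), (0, []), (0, []), (0, []), (0, []), (0, []), (1, [8, 6])],
    [],
    [],
    [],
    [],
    [],
    [],
    [],
    [],
    [(0, []), (0, []), (0, []), (0, []), (1, [7, 10])],
    [],
    [],
    [(0, []), (0, []), (0, []), (0, []), (0, []), (0, []), (0, []), (0, []), (0, []), (0, []), (0, []), (0, []), (0, []), (0, []), (0, []), (0, []), (0, []), (0, []), (0, []), (0, []), (0, []), (1, [11, 7])]],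
  [[],
    [],
    [],
    [],
    [],
    [(0, []), (0, []), (0, []), (0, []), (0, []), (0, []), (0, []), (0, []), (0, []), (0, []), (0, []), (1, [6, 12, 6])],
    [],
    [],
    [],
    [],
    [],
    [],
    [],
    [],
    [(0, []), (0, []), (0, []), (0, []), (0, []), (0, []), (0, []), (0, []), (0, []), (0, []), (0, []), (0, []), (0, []), (0, []), (0, []), (0, []), (0, []), (0, []), (0, []), (0, []), (1, [6, 12])],
    [],
    [],
    [(0, []), (0, []), (0, []), (0, []), (0, []), (0, []), (0, []), (0, []), (0, []), (0, []), (0, []), (0, []), (0, []), (0, []), (0, []), (0, []), (0, []), (0, []), (0, []), (1, [6, 8, 9])]],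
  [[],
    [],
    [],
    [],
    [],
    [(0, []), (0, []), (0, []), (0, []), (0, []), (0, []), (0, []), (0, []), (0, []), (0, []), (0, []), (0, []), (1, [4, 5, 1])],
    [],
    [],
    [],
    [],
    [],
    [],
    [],
    [],
    [(0, []), (0, []), (0, []), (0, []), (0, []), (0, []), (0, []), (0, []), (0, []), (1, [12, 8, 6])],
    [],
    [],
    [(0, []), (0, []), (0, []), (0, []), (0, []), (0, []), (0, []), (0, []), (0, []), (0, []), (0, []), (0, []), (0, []), (0, []), (0, []), (0, []), (0, []), (0, []), (0, []), (1, [10, 8, 8])]],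
  [[],
    [],
    [],
    [],
    [],
    [(0, []), (0, []), (0, []), (0, []), (0, []), (0, []), (0, []), (0, []), (1, [8])],
    [],
    [],
    [],
    [],
    [],
    [],
    [],
    [],
    [(0, []), (0, []), (0, []), (0, []), (0, []), (0, []), (0, []), (0, []), (0, []), (0, []), (0, []), (1, [9])],
    [],
    [],
    [(0, []), (0, []), (0, []), (0, []), (0, []), (0, []), (0, []), (0, []), (0, []), (0, []), (0, []), (0, []), (0, []), (0, []), (0, []), (0, []), (0, []), (0, []), (1, [10, 6])]],
  [[],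
    [],
    [],
    [],
    [],
    [(0, []), (0, []), (0, []), (0, []), (0, []), (0, []), (0, []), (0, []), (0, []), (0, []), (1, [9, 6])],
    [],
    [],
    [],
    [],
    [],
    [],
    [],
    [],
    [(0, []), (0, []), (0, []), (0, []), (0, []), (0, []), (0, []), (0, []), (0, []), (0, []), (0, []), (0, []), (0, []), (0, []), (0, []), (0, []), (0, []), (0, []), (0, []), (0, []), (0, []), (0, []), (1, [7])],
    [],
    [],
    [(0, []), (0, []), (0, []), (0, []), (0, []), (0, []), (0, []), (0, []), (0, []), (0, []), (0, []), (0, []), (0, []), (0, []), (0, []), (0, []), (0, []), (0, []), (0, []), (1, [10])]],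
  [[],
    [],
    [],
    [],
    [],
    [(0, []), (0, []), (0, []), (0, []), (0, []), (0, []), (0, []), (0, []), (0, []), (0, []), (0, []), (0, []), (0, []), (0, []), (0, []), (0, []), (0, []), (0, []), (1, [11, 6])],
    [],
    [],
    [],
    [],
    [],
    [],
    [],
    [],
    [(0, []), (0, []), (0, []), (0, []), (0, []), (0, []), (0, []), (0, []), (0, []), (0, []), (0, []), (0, []), (0, []), (0, []), (0, []), (0, []), (0, []), (0, []), (0, []), (0, []), (0, []), (0, []), (1, [10, 2, 3])],
    [],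
    [],
    [(0, []), (0, []), (0, []), (0, []), (0, []), (0, []), (0, []), (0, []), (0, []), (0, []), (1, [5, 5])]],
  [[],
    [],
    [],
    [],
    [],
    [],
    [],
    [],
    [],
    [],
    [],
    [],
    [],
    [],
    [(0, []), (0, []), (0, []), (0, []), (0, []), (0, []), (0, []), (0, []), (0, []), (0, [7]), (0, [9, 6]), (0, []), (0, []), (0, []), (0, []), (0, [6]), (0, []), (0, []), (0, []), (0, []), (0, [8, 6])]],
  [[],
    [],
    [],
    [],
    [],
    [(0, []), (0, []), (0, []), (0, []), (0, []), (0, []), (0, []), (0, []), (0, []), (0, []), (0, []), (0, []), (0, []), (0, []), (0, []), (0, []), (0, []), (0, []), (0, []), (0, []), (0, []), (1, [12, 10])],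
    [],
    [],
    [],
    [],
    [],
    [],
    [],
    [],
    [(0, []), (0, []), (0, []), (0, []), (0, []), (0, []), (0, []), (0, []), (0, []), (0, []), (0, []), (1, [12, 9, 6])],
    [],
    [],
    [(0, []), (0, []), (0, []), (0, []), (0, []), (0, []), (0, []), (0, []), (0, []), (0, []), (1, [12, 7])]],
  [[],
    [],
    [],
    [],
    [],
    [(0, []), (0, []), (0, []), (0, []), (0, []), (0, []), (0, []), (0, []), (0, []), (0, []), (0, []), (0, []), (0, []), (0, []), (0, []), (0, []), (0, []), (0, []), (1, [11])],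
    [],
    [],
    [],
    [],
    [],
    [],
    [],
    [],
    [(0, []), (0, []), (0, []), (0, []), (1, [6, 11])],
    [],
    [],
    [(0, []), (0, []), (0, []), (0, []), (0, []), (0, []), (0, []), (0, []), (0, []), (0, []), (0, []), (0, []), (0, []), (0, []), (0, []), (1, [9, 2, 3])]],
  [[],
    [],
    [],
    [],
    [],
    [],
    [],
    [],
    [],
    [],
    [],
    [],
    [],
    [],
    [(0, []), (0, []), (0, []), (0, []), (1, [6, 7]), (0, []), (0, []), (0, []), (0, []), (1, [8, 1, 7, 3]), (0, [6, 6]), (0, []), (0, []), (1, [4, 11, 1]), (0, []), (0, [8]), (1, [12, 6, 7]), (0, []), (0, []), (0, []), (1, [5, 3, 8]), (0, []), (1, [6, 8])]],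
  [[],
    [],
    [],
    [],
    [],
    [(0, []), (0, []), (0, []), (0, []), (0, []), (0, []), (0, []), (0, []), (1, [2, 3])],
    [],
    [],
    [],
    [],
    [],
    [],
    [],
    [],
    [(0, []), (0, []), (0, []), (0, []), (0, []), (0, []), (0, []), (0, []), (0, []), (0, []), (0, []), (0, []), (0, []), (0, []), (0, []), (0, []), (0, []), (0, []), (1, [11, 9])],
    [],
    [],
    [(0, []), (0, []), (0, []), (0, []), (0, []), (0, []), (0, []), (0, []), (0, []), (0, []), (0, []), (0, []), (1, [11, 10, 6])]],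
  [[],
    [],
    [],
    [],
    [],
    [(0, []), (0, []), (0, []), (0, []), (0, []), (0, []), (0, []), (0, []), (0, []), (0, []), (0, []), (0, []), (0, []), (1, [7, 7, 6])],
    [],
    [],
    [],
    [],
    [],
    [],
    [],
    [],
    [(0, []), (0, []), (0, []), (0, []), (0, []), (0, []), (0, []), (0, []), (0, []), (0, []), (0, []), (0, []), (1, [8, 8, 6])],
    [],
    [],
    [(0, []), (0, []), (0, []), (0, []), (0, []), (0, []), (0, []), (0, []), (0, []), (0, []), (0, []), (0, []), (0, []), (0, []), (0, []), (0, []), (0, []), (0, []), (0, []), (1, [12])]],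
  [[],
    [],
    [],
    [],
    [],
    [(0, []), (0, []), (0, []), (0, []), (0, []), (0, []), (0, []), (0, []), (0, []), (0, []), (0, []), (0, []), (0, []), (1, [7, 9, 6])],
    [],
    [],
    [],
    [],
    [],
    [],
    [],
    [],
    [(0, []), (0, []), (0, []), (0, []), (1, [12, 8])],
    [],
    [],
    [(0, []), (0, []), (0, []), (0, []), (0, []), (0, []), (0, []), (0, []), (0, []), (0, []), (0, []), (0, []), (0, []), (0, []), (0, []), (0, []), (1, [12, 9])]],
  [[],
    [],
    [],
    [],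
    [],
    [(0, []), (0, []), (0, []), (0, []), (0, []), (0, []), (0, []), (0, []), (0, []), (0, []), (0, []), (0, []), (0, []), (0, []), (0, []), (0, []), (0, []), (0, []), (0, []), (0, []), (0, []), (0, []), (1, [8, 10])],
    [],
    [],
    [],
    [],
    [],
    [],
    [],
    [],
    [(0, []), (0, []), (0, []), (0, []), (0, []), (0, []), (0, []), (0, []), (0, []), (0, []), (0, []), (0, []), (1, [8, 9, 6])],
    [],
    [],
    [(0, []), (0, []), (0, []), (0, []), (0, []), (0, []), (0, []), (0, []), (0, []), (0, []), (0, []), (0, []), (0, []), (0, []), (0, []), (0, []), (0, []), (0, []), (0, []), (0, []), (0, []), (1, [12, 6])]],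
  [[],
    [],
    [],
    [],
    [],
    [(0, []), (0, []), (0, []), (0, []), (0, []), (0, []), (0, []), (0, []), (0, []), (0, []), (0, []), (0, []), (1, [6])],
    [],
    [],
    [],
    [],
    [],
    [],
    [],
    [],
    [(0, []), (0, []), (0, []), (0, []), (0, []), (0, []), (0, []), (0, []), (0, []), (0, []), (0, []), (0, []), (0, []), (0, []), (0, []), (0, []), (0, []), (0, []), (0, []), (0, []), (0, []), (0, []), (1, [9, 7])],
    [],
    [],
    [(0, []), (0, []), (0, []), (0, []), (0, []), (0, []), (0, []), (0, []), (0, []), (0, []), (0, []), (0, []), (0, []), (0, []), (0, []), (1, [10, 9])]],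
  []]

def invCert (p q r : ℕ) : ℕ × List ℕ := ((invTab.getD p []).getD q []).getD r (0, [])

def invWord (p q r : ℕ) : List ℕ := wtI ++ (tw 4 p ++ (tw 5 q ++ tw 6 r))

def zW (f : ℕ) : List ℕ := if f = 0 then zA else zB

def invEntry (p q r : ℕ) : Prop :=
  trivW (invWord p q r ++ invWord p q r) →
    (∀ l ∈ (invCert p q r).2, l < ngen) ∧
      ∀ x < 24, appW (invWord p q r ++ (invCert p q r).2) x
        = appW ((invCert p q r).2 ++ zW (invCert p q r).1) x

instance (p q r : ℕ) : Decidable (invEntry p q r) := by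
  unfold invEntry
  infer_instance

set_option maxRecDepth 1000000 in
theorem inv_ok : ∀ p ∈ orb 4, ∀ q ∈ orb 5, ∀ r ∈ orb 6, invEntry p q r := by
  decide +kernel

theorem wtI_lt : ∀ l ∈ wtI, l < ngen := by decide

theorem zA_lt : ∀ l ∈ zA, l < ngen := by decide

theorem zB_lt : ∀ l ∈ zB, l < ngen := by decide

theorem zW_lt (f : ℕ) : ∀ l ∈ zW f, l < ngen := by
  unfold zW
  split_ifs
  · exact zA_lt
  · exact zB_lt

theorem wtI_act : appW wtI (bpt 0) = bpt 1 ∧ appW wtI (bpt 1) = bpt 0 ∧
    appW wtI (bpt 2) = bpt 3 ∧ appW wtI (bpt 3) = bpt 2 := by decide +kernel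

theorem evalW_bp (w : List ℕ) (hw : ∀ l ∈ w, l < ngen) (i j : ℕ) (hi : i < 7) (hj : j < 7)
    (h : appW w (bpt i) = bpt j) : evalW w (bp i) = bp j := by
  apply idx_injective
  unfold bp
  rw [idx_evalW w hw, idx_dec_bpt i hi, idx_dec_bpt j hj, h]

theorem evalW_mem_M24 (w : List ℕ) (hw : ∀ l ∈ w, l < ngen) : evalW w ∈ M24 :=
  grp_le_M24 0 (evalW_mem_grp 0 w (fun l hl => ⟨hw l hl, Nat.zero_le _⟩))

/-- a word acting trivially when the permutation is trivial -/
theorem trivW_of_eq_one (w : List ℕ) (hw : ∀ l ∈ w, l < ngen) (h : evalW w = 1) : trivW w := by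
  intro x hx
  have h1 := idx_evalW w hw (dec x)
  rw [h, Equiv.Perm.one_apply] at h1
  have h2 : idx (dec x) = x := idx_dec ⟨x, hx⟩
  rw [h2] at h1
  exact h1.symm

theorem perm_apply_inv {α : Type*} (f : Equiv.Perm α) (x : α) : f (f⁻¹ x) = x := by
  rw [Equiv.Perm.inv_def, Equiv.apply_symm_apply]

theorem perm_inv_apply {α : Type*} (f : Equiv.Perm α) (x : α) : f⁻¹ (f x) = x := by
  rw [Equiv.Perm.inv_def, Equiv.symm_apply_apply]

/-- two distinct points as an embedding -/
def emb2 {α : Type*} (a b : α) (hab : a ≠ b) : Fin 2 ↪ α :=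
  ⟨![a, b], by
    intro i j hij
    fin_cases i <;> fin_cases j <;> simp_all [eq_comm]⟩

/-- four distinct points as an embedding -/
def emb4 {α : Type*} (a b c d : α) (hab : a ≠ b) (hac : a ≠ c) (had : a ≠ d) (hbc : b ≠ c)
    (hbd : b ≠ d) (hcd : c ≠ d) : Fin 4 ↪ α :=
  ⟨![a, b, c, d], by
    intro i j hij
    fin_cases i <;> fin_cases j <;> simp_all [eq_comm]⟩

/-- no element of the group is a transposition -/
theorem exists_third_moved (g : Equiv.Perm GolayPt) (hg : g ∈ M24) (a b : GolayPt) (hab : a ≠ b)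
    (h1 : g ≠ 1) : ∃ c, c ≠ a ∧ c ≠ b ∧ g c ≠ c := by
  by_contra hcon
  push Not at hcon
  -- move a, b to two points outside the base
  obtain ⟨k, hk, hkxy⟩ := exists_map_emb₂ (by norm_num : 2 ≤ 5) (emb2 a b hab)
    (emb2 (dec 6) (dec 7) (by decide))
  have hka : k a = dec 6 := hkxy 0
  have hkb : k b = dec 7 := hkxy 1
  have hg' : k * g * k⁻¹ ∈ M24 := Subgroup.mul_mem _ (Subgroup.mul_mem _ hk hg) (Subgroup.inv_mem _ hk)
  have hfix : ∀ i < 7, (k * g * k⁻¹) (dec (bpt i)) = dec (bpt i) := by
    intro i hi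
    have hne6 : dec (bpt i) ≠ dec 6 := by
      revert i
      decide
    have hne7 : dec (bpt i) ≠ dec 7 := by
      revert i
      decide
    have h1 : k⁻¹ (dec (bpt i)) ≠ a := by
      intro h
      apply hne6
      rw [← hka, ← h, perm_apply_inv]
    have h2 : k⁻¹ (dec (bpt i)) ≠ b := by
      intro h
      apply hne7
      rw [← hkb, ← h, perm_apply_inv]
    rw [Equiv.Perm.mul_apply, Equiv.Perm.mul_apply, hcon _ h1 h2, perm_apply_inv]
  have := rigid _ hg' hfix
  apply h1
  have h3 : g = k⁻¹ * (k * g * k⁻¹) * k := by group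
  rw [h3, this]
  group

/-- every involution of the group is conjugate to one of the two representatives -/
theorem invol_conj (g : Equiv.Perm GolayPt) (hg : g ∈ M24) (h2 : orderOf g = 2) :
    ∃ f : ℕ, ∃ k ∈ M24, g = k * evalW (zW f) * k⁻¹ := by
  have hsq : g * g = 1 := by
    have := pow_orderOf_eq_one g
    rwa [h2, pow_two] at this
  have hne : g ≠ 1 := by
    intro h
    rw [h, orderOf_one] at h2
    norm_num at h2
  have hgg : ∀ p, g (g p) = p := fun p => by
    have := congrArg (fun σ : Equiv.Perm GolayPt => σ p) hsq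
    simpa using this
  obtain ⟨a, ha⟩ : ∃ a, g a ≠ a := by
    by_contra hcon
    push Not at hcon
    exact hne (Equiv.ext hcon)
  obtain ⟨c, hca, hcb, hc⟩ := exists_third_moved g hg a (g a) (Ne.symm ha) hne
  have hda : g c ≠ a := by
    intro h
    apply hcb
    have := congrArg g h
    rw [hgg] at this
    exact this
  have hdb : g c ≠ g a := fun h => hca (g.injective h)
  obtain ⟨k0, hk0, hk0x⟩ := exists_map_emb (by norm_num : 4 ≤ 5)
    (emb4 a (g a) c (g c) (Ne.symm ha) (Ne.symm hca) (Ne.symm hda) (Ne.symm hcb) (Ne.symm hdb)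
      (Ne.symm hc))
  have e0 : k0 (bp 0) = a := hk0x 0
  have e1 : k0 (bp 1) = g a := hk0x 1
  have e2 : k0 (bp 2) = c := hk0x 2
  have e3 : k0 (bp 3) = g c := hk0x 3
  have i0 : k0⁻¹ a = bp 0 := by rw [← e0, perm_inv_apply]
  have i1 : k0⁻¹ (g a) = bp 1 := by rw [← e1, perm_inv_apply]
  have i2 : k0⁻¹ c = bp 2 := by rw [← e2, perm_inv_apply]
  have i3 : k0⁻¹ (g c) = bp 3 := by rw [← e3, perm_inv_apply]
  set g' : Equiv.Perm GolayPt := k0⁻¹ * g * k0 with hg'def
  have hg' : g' ∈ M24 := Subgroup.mul_mem _ (Subgroup.mul_mem _ (Subgroup.inv_mem _ hk0) hg) hk0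
  have a0 : g' (bp 0) = bp 1 := by
    rw [hg'def, Equiv.Perm.mul_apply, Equiv.Perm.mul_apply, e0, i1]
  have a1 : g' (bp 1) = bp 0 := by
    rw [hg'def, Equiv.Perm.mul_apply, Equiv.Perm.mul_apply, e1, hgg, i0]
  have a2 : g' (bp 2) = bp 3 := by
    rw [hg'def, Equiv.Perm.mul_apply, Equiv.Perm.mul_apply, e2, i3]
  have a3 : g' (bp 3) = bp 2 := by
    rw [hg'def, Equiv.Perm.mul_apply, Equiv.Perm.mul_apply, e3, hgg, i2]
  have t0 := evalW_bp wtI wtI_lt 0 1 (by norm_num) (by norm_num) wtI_act.1
  have t1 := evalW_bp wtI wtI_lt 1 0 (by norm_num) (by norm_num) wtI_act.2.1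
  have t2 := evalW_bp wtI wtI_lt 2 3 (by norm_num) (by norm_num) wtI_act.2.2.1
  have t3 := evalW_bp wtI wtI_lt 3 2 (by norm_num) (by norm_num) wtI_act.2.2.2
  have hτ : (evalW wtI)⁻¹ * g' ∈ grp 4 := by
    rw [mem_grp_iff 4 (by norm_num)]
    refine ⟨Subgroup.mul_mem _ (Subgroup.inv_mem _ (evalW_mem_M24 _ wtI_lt)) hg', ?_⟩
    intro i' hi'
    have : i' = 0 ∨ i' = 1 ∨ i' = 2 ∨ i' = 3 := by omega
    rcases this with rfl | rfl | rfl | rfl
    · change ((evalW wtI)⁻¹ * g') (bp 0) = bp 0
      rw [Equiv.Perm.mul_apply, a0, ← t0, perm_inv_apply]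
    · change ((evalW wtI)⁻¹ * g') (bp 1) = bp 1
      rw [Equiv.Perm.mul_apply, a1, ← t1, perm_inv_apply]
    · change ((evalW wtI)⁻¹ * g') (bp 2) = bp 2
      rw [Equiv.Perm.mul_apply, a2, ← t2, perm_inv_apply]
    · change ((evalW wtI)⁻¹ * g') (bp 3) = bp 3
      rw [Equiv.Perm.mul_apply, a3, ← t3, perm_inv_apply]
  obtain ⟨p, hp, τ1, hτ1, hτe⟩ := grp_step 4 (by norm_num) _ hτ
  obtain ⟨q, hq, τ2, hτ2, rfl⟩ := grp_step 5 (by norm_num) τ1 hτ1
  obtain ⟨r, hr, τ3, hτ3, rfl⟩ := grp_step 6 (by norm_num) τ2 hτ2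
  rw [grp_seven, Subgroup.mem_bot] at hτ3
  subst hτ3
  have hw : g' = evalW (invWord p q r) := by
    unfold invWord
    rw [evalW_append, evalW_append, evalW_append]
    have : g' = evalW wtI * ((evalW wtI)⁻¹ * g') := by group
    rw [this, hτe, mul_one]
  have hp3 := (ok3 4 (by norm_num) p hp).1
  have hq3 := (ok3 5 (by norm_num) q hq).1
  have hr3 := (ok3 6 (by norm_num) r hr).1
  have hwlt : ∀ l ∈ invWord p q r, l < ngen := by
    intro l hl
    unfold invWord at hl
    rw [List.mem_append, List.mem_append, List.mem_append] at hl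
    rcases hl with h | h | h | h
    · exact wtI_lt l h
    · exact (hp3 l h).1
    · exact (hq3 l h).1
    · exact (hr3 l h).1
  have hg'sq : g' * g' = 1 := by
    rw [hg'def]
    have : k0⁻¹ * g * k0 * (k0⁻¹ * g * k0) = k0⁻¹ * (g * g) * k0 := by group
    rw [this, hsq]
    group
  have htriv : trivW (invWord p q r ++ invWord p q r) := by
    apply trivW_of_eq_one
    · intro l hl
      rw [List.mem_append] at hl
      rcases hl with h | h <;> exact hwlt l h
    · rw [evalW_append, ← hw, hg'sq]
  obtain ⟨hc1, hc2⟩ := inv_ok p hp q hq r hr htriv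
  have heq := evalW_eq_of_appW _ _ (by
    intro l hl
    rw [List.mem_append] at hl
    rcases hl with h | h
    · exact hwlt l h
    · exact hc1 l h) (by
    intro l hl
    rw [List.mem_append] at hl
    rcases hl with h | h
    · exact hc1 l h
    · exact zW_lt _ l h) hc2
  rw [evalW_append, evalW_append, ← hw] at heq
  refine ⟨(invCert p q r).1, k0 * evalW (invCert p q r).2,
    Subgroup.mul_mem _ hk0 (evalW_mem_M24 _ hc1), ?_⟩
  have h5 : g' = evalW (invCert p q r).2 * evalW (zW (invCert p q r).1) * (evalW (invCert p q r).2)⁻¹ := by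
    rw [← heq]
    group
  have h6 : g = k0 * g' * k0⁻¹ := by
    rw [hg'def]
    group
  rw [h6, h5]
  group

theorem zA_fix : ∀ x < 24, (appW zA x = x ↔ (cw 1500).testBit x = true) := by decide +kernel

theorem zB_fix : ∀ x < 24, appW zB x ≠ x := by decide +kernel

theorem zA_sq : ∀ x < 24, appW (zA ++ zA) x = appW [] x := by decide +kernel

theorem zB_sq : ∀ x < 24, appW (zB ++ zB) x = appW [] x := by decide +kernel

theorem pop_1500 : pop24 (cw 1500) = 8 := by decide +kernel

theorem evalW_apply_eq_iff (w : List ℕ) (hw : ∀ l ∈ w, l < ngen) (p : GolayPt) :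
    evalW w p = p ↔ appW w (idx p) = idx p := by
  constructor
  · intro h
    rw [← idx_evalW w hw, h]
  · intro h
    apply idx_injective
    rw [idx_evalW w hw, h]

/-- the fixed points of the first representative form an octad -/
theorem fixed_zA : (Finset.univ.filter fun p => evalW zA p = p) = maskSet (cw 1500) := by
  ext p
  rw [Finset.mem_filter, mem_maskSet, evalW_apply_eq_iff zA zA_lt]
  simp only [Finset.mem_univ, true_and]
  exact zA_fix _ (idx_lt p)

theorem fixed_zA_mem : (Finset.univ.filter fun p => evalW zA p = p) ∈ octads := by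
  rw [fixed_zA]
  exact maskSet_cw_mem_octads 1500 pop_1500

theorem fixed_zB (p : GolayPt) : evalW zB p ≠ p := by
  rw [Ne, evalW_apply_eq_iff zB zB_lt]
  exact zB_fix _ (idx_lt p)

theorem zA_mul_self : evalW zA * evalW zA = 1 := by
  rw [← evalW_append, ← evalW_nil]
  apply evalW_eq_of_appW
  · intro l hl
    rw [List.mem_append] at hl
    rcases hl with h | h <;> exact zA_lt l h
  · intro l hl
    exact absurd hl List.not_mem_nil
  · exact zA_sq

theorem zB_mul_self : evalW zB * evalW zB = 1 := by
  rw [← evalW_append, ← evalW_nil]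
  apply evalW_eq_of_appW
  · intro l hl
    rw [List.mem_append] at hl
    rcases hl with h | h <;> exact zB_lt l h
  · intro l hl
    exact absurd hl List.not_mem_nil
  · exact zB_sq

theorem zB_ne_one : evalW zB ≠ 1 := by
  intro h
  apply fixed_zB none
  rw [h, Equiv.Perm.one_apply]

theorem zA_ne_one : evalW zA ≠ 1 := by
  intro h
  have h1 : (Finset.univ.filter fun p => evalW zA p = p).card = 8 := fixed_zA_mem.2
  rw [h] at h1
  simp at h1

theorem orderOf_zA : orderOf (evalW zA) = 2 :=
  orderOf_eq_prime (by rw [pow_two]; exact zA_mul_self) zA_ne_one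

theorem orderOf_zB : orderOf (evalW zB) = 2 :=
  orderOf_eq_prime (by rw [pow_two]; exact zB_mul_self) zB_ne_one

/-- fixed points of a conjugate -/
theorem fixed_conj (k z : Equiv.Perm GolayPt) :
    (Finset.univ.filter fun p => (k * z * k⁻¹) p = p)
      = k • (Finset.univ.filter fun p => z p = p) := by
  ext p
  rw [← Finset.inv_smul_mem_iff, Finset.mem_filter, Finset.mem_filter]
  simp only [Finset.mem_univ, true_and, Equiv.Perm.smul_def, Equiv.Perm.mul_apply]
  constructor
  · intro h
    conv_rhs => rw [← h]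
    rw [perm_inv_apply]
  · intro h
    rw [h, perm_apply_inv]

/-- the fixed points of an involution form an octad, or there are none -/
theorem invol_fixed (g : Equiv.Perm GolayPt) (hg : g ∈ M24) (h2 : orderOf g = 2) :
    ((Finset.univ.filter fun p => g p = p) ∈ octads ∧ ∃ k ∈ M24, g = k * evalW zA * k⁻¹) ∨
      ((∀ p, g p ≠ p) ∧ ∃ k ∈ M24, g = k * evalW zB * k⁻¹) := by
  obtain ⟨f, k, hk, hgk⟩ := invol_conj g hg h2
  by_cases hf : f = 0
  · left
    have hz : zW f = zA := by unfold zW; rw [if_pos hf]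
    rw [hz] at hgk
    refine ⟨?_, k, hk, hgk⟩
    rw [hgk, fixed_conj]
    exact smul_mem_octads hk fixed_zA_mem
  · right
    have hz : zW f = zB := by unfold zW; rw [if_neg hf]
    rw [hz] at hgk
    refine ⟨?_, k, hk, hgk⟩
    intro p hp
    rw [hgk, Equiv.Perm.mul_apply, Equiv.Perm.mul_apply] at hp
    apply fixed_zB (k⁻¹ p)
    conv_rhs => rw [← hp]
    rw [perm_inv_apply]

end Cfsg.Agent.Helper29.M24
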