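import Mathlib
import Cfsg.Agent.Lib.Helper29.M24Invol
import Cfsg.Agent.Lib.Helper29.M24Dodecad2

set_option autoImplicit false
open Cfsg

namespace Cfsg.Agent.Helper29.M24

open Cfsg.Agent.Helper27 Cfsg.Agent.Helper29
open Cfsg.Agent.S0358 (idx)
open scoped Pointwise

/-! ### Generic machinery: conjugating into a coset of the four-point stabilizer -/

/-- a nontrivial element of the group moves a point outside any set of at most five points -/
theorem exists_moved_outside (g : Equiv.Perm GolayPt) (hg : g ∈ M24) (h1 : g ≠ 1)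
    (s : Finset GolayPt) (hs : s.card ≤ 5) : ∃ d, d ∉ s ∧ g d ≠ d := by
  by_contra hcon
  push Not at hcon
  obtain ⟨x, hx⟩ := exists_emb_subset s s.card le_rfl
  have himg : Finset.univ.image x = s := by
    apply Finset.eq_of_subset_of_card_le
    · intro p hp
      rw [Finset.mem_image] at hp
      obtain ⟨i, -, rfl⟩ := hp
      exact hx i
    · rw [Finset.card_image_of_injective _ x.injective, Finset.card_univ, Fintype.card_fin]
  let y : Fin s.card ↪ GolayPt := ⟨fun i => dec (6 + i.val), by
    intro i j hij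
    have h6 : ∀ a b : Fin 5, dec (6 + a.val) = dec (6 + b.val) → a = b := by decide
    have := h6 ⟨i.val, lt_of_lt_of_le i.2 hs⟩ ⟨j.val, lt_of_lt_of_le j.2 hs⟩ hij
    exact Fin.ext (Fin.mk.inj_iff.1 this)⟩
  obtain ⟨k, hk, hkxy⟩ := exists_map_emb₂ hs x y
  have hg' : k * g * k⁻¹ ∈ M24 :=
    Subgroup.mul_mem _ (Subgroup.mul_mem _ hk hg) (Subgroup.inv_mem _ hk)
  have hfix : ∀ i < 7, (k * g * k⁻¹) (dec (bpt i)) = dec (bpt i) := by
    intro i hi
    have hne : ∀ j : Fin 5, dec (bpt i) ≠ dec (6 + j.val) := by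
      revert i
      decide
    have hns : k⁻¹ (dec (bpt i)) ∉ s := by
      intro hmem
      rw [← himg, Finset.mem_image] at hmem
      obtain ⟨j, -, hj⟩ := hmem
      have h2 : k (x j) = dec (bpt i) := by rw [hj, perm_apply_inv]
      rw [hkxy j] at h2
      exact hne ⟨j.val, lt_of_lt_of_le j.2 hs⟩ h2.symm
    rw [Equiv.Perm.mul_apply, Equiv.Perm.mul_apply, hcon _ hns, perm_apply_inv]
  have := rigid _ hg' hfix
  apply h1
  have h3 : g = k⁻¹ * (k * g * k⁻¹) * k := by group
  rw [h3, this]
  group

/-- the word of an element of a coset of the four-point stabilizer -/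
def cosetWord (wt : List ℕ) (p q r : ℕ) : List ℕ := wt ++ (tw 4 p ++ (tw 5 q ++ tw 6 r))

/-- an element agreeing with a word on the first four base points lies in its coset -/
theorem coset_word (g' : Equiv.Perm GolayPt) (hg' : g' ∈ M24) (wt : List ℕ)
    (hwt : ∀ l ∈ wt, l < ngen) (h : ∀ i < 4, evalW wt (bp i) = g' (bp i)) :
    ∃ p ∈ orb 4, ∃ q ∈ orb 5, ∃ r ∈ orb 6, g' = evalW (cosetWord wt p q r) ∧
      ∀ l ∈ cosetWord wt p q r, l < ngen := by
  have hτ : (evalW wt)⁻¹ * g' ∈ grp 4 := by
    rw [mem_grp_iff 4 (by norm_num)]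
    refine ⟨Subgroup.mul_mem _ (Subgroup.inv_mem _ (evalW_mem_M24 _ hwt)) hg', ?_⟩
    intro i' hi'
    change ((evalW wt)⁻¹ * g') (bp i') = bp i'
    rw [Equiv.Perm.mul_apply, ← h i' hi', perm_inv_apply]
  obtain ⟨p, hp, τ1, hτ1, hτe⟩ := grp_step 4 (by norm_num) _ hτ
  obtain ⟨q, hq, τ2, hτ2, rfl⟩ := grp_step 5 (by norm_num) τ1 hτ1
  obtain ⟨r, hr, τ3, hτ3, rfl⟩ := grp_step 6 (by norm_num) τ2 hτ2
  rw [grp_seven, Subgroup.mem_bot] at hτ3
  subst hτ3
  refine ⟨p, hp, q, hq, r, hr, ?_, ?_⟩
  · unfold cosetWord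
    rw [evalW_append, evalW_append, evalW_append]
    have : g' = evalW wt * ((evalW wt)⁻¹ * g') := by group
    rw [this, hτe, mul_one]
  · have hp3 := (ok3 4 (by norm_num) p hp).1
    have hq3 := (ok3 5 (by norm_num) q hq).1
    have hr3 := (ok3 6 (by norm_num) r hr).1
    intro l hl
    unfold cosetWord at hl
    rw [List.mem_append, List.mem_append, List.mem_append] at hl
    rcases hl with h | h | h | h
    · exact hwt l h
    · exact (hp3 l h).1
    · exact (hq3 l h).1
    · exact (hr3 l h).1

/-- the `n`-th power of a word -/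
def powW (w : List ℕ) : ℕ → List ℕ
  | 0 => []
  | n + 1 => w ++ powW w n

theorem evalW_powW (w : List ℕ) (n : ℕ) : evalW (powW w n) = evalW w ^ n := by
  induction n with
  | zero => rfl
  | succ n ih =>
    change evalW (w ++ powW w n) = _
    rw [evalW_append, ih, pow_succ']

theorem powW_lt (w : List ℕ) (hw : ∀ l ∈ w, l < ngen) (n : ℕ) : ∀ l ∈ powW w n, l < ngen := by
  induction n with
  | zero => intro l hl; exact absurd hl List.not_mem_nil
  | succ n ih =>
    intro l hl
    change l ∈ w ++ powW w n at hl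
    rw [List.mem_append] at hl
    rcases hl with h | h
    · exact hw l h
    · exact ih l h

/-- certificate lookup -/
def tabCert (tab : List (List (List (ℕ × List ℕ)))) (p q r : ℕ) : ℕ × List ℕ :=
  ((tab.getD p []).getD q []).getD r (0, [])

/-- one entry of a class table: if the `n`-th power of the coset element is trivial then the
certificate conjugates it to the listed representative -/
def classEntry (wt : List ℕ) (n : ℕ) (tab : List (List (List (ℕ × List ℕ))))
    (reps : List (List ℕ)) (p q r : ℕ) : Prop :=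
  trivW (powW (cosetWord wt p q r) n) →
    (∀ l ∈ (tabCert tab p q r).2, l < ngen) ∧
      ∀ x < 24, appW (cosetWord wt p q r ++ (tabCert tab p q r).2) x
        = appW ((tabCert tab p q r).2 ++ reps.getD (tabCert tab p q r).1 []) x

instance (wt : List ℕ) (n : ℕ) (tab : List (List (List (ℕ × List ℕ))))
    (reps : List (List ℕ)) (p q r : ℕ) : Decidable (classEntry wt n tab reps p q r) := by
  unfold classEntry
  infer_instance

theorem getD_lt (reps : List (List ℕ)) (hreps : ∀ z ∈ reps, ∀ l ∈ z, l < ngen) (f : ℕ) :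
    ∀ l ∈ reps.getD f [], l < ngen := by
  intro l hl
  by_cases hf : f < reps.length
  · rw [List.getD_eq_getElem _ _ hf] at hl
    exact hreps _ (List.getElem_mem hf) l hl
  · rw [List.getD_eq_default _ _ (by omega)] at hl
    exact absurd hl List.not_mem_nil

/-- the generic class theorem -/
theorem class_of_table (wt : List ℕ) (n : ℕ) (tab : List (List (List (ℕ × List ℕ))))
    (reps : List (List ℕ)) (hwt : ∀ l ∈ wt, l < ngen) (hreps : ∀ z ∈ reps, ∀ l ∈ z, l < ngen)
    (hok : ∀ p ∈ orb 4, ∀ q ∈ orb 5, ∀ r ∈ orb 6, classEntry wt n tab reps p q r)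
    (g' : Equiv.Perm GolayPt) (hg' : g' ∈ M24) (hpow : g' ^ n = 1)
    (h : ∀ i < 4, evalW wt (bp i) = g' (bp i)) :
    ∃ f : ℕ, ∃ k ∈ M24, g' = k * evalW (reps.getD f []) * k⁻¹ := by
  obtain ⟨p, hp, q, hq, r, hr, hw, hwlt⟩ := coset_word g' hg' wt hwt h
  have htriv : trivW (powW (cosetWord wt p q r) n) := by
    apply trivW_of_eq_one _ (powW_lt _ hwlt n)
    rw [evalW_powW, ← hw, hpow]
  obtain ⟨hc1, hc2⟩ := hok p hp q hq r hr htriv
  have heq := evalW_eq_of_appW _ _ (by
    intro l hl
    rw [List.mem_append] at hl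
    rcases hl with h | h
    · exact hwlt l h
    · exact hc1 l h) (by
    intro l hl
    rw [List.mem_append] at hl
    rcases hl with h | h
    · exact hc1 l h
    · exact getD_lt reps hreps _ l h) hc2
  rw [evalW_append, evalW_append, ← hw] at heq
  refine ⟨(tabCert tab p q r).1, evalW (tabCert tab p q r).2, evalW_mem_M24 _ hc1, ?_⟩
  rw [← heq]
  group

/-- transport of the conjugacy statement along a conjugation -/
theorem conj_transport (g g' k0 z : Equiv.Perm GolayPt) (hk0 : k0 ∈ M24)
    (hg' : g' = k0⁻¹ * g * k0) (h : ∃ k ∈ M24, g' = k * z * k⁻¹) :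
    ∃ k ∈ M24, g = k * z * k⁻¹ := by
  obtain ⟨k, hk, hgk⟩ := h
  refine ⟨k0 * k, Subgroup.mul_mem _ hk0 hk, ?_⟩
  have : g = k0 * g' * k0⁻¹ := by rw [hg']; group
  rw [this, hgk]
  group

/-! ### Elements of order three -/

def wt3 : List ℕ := [1, 2, 0, 2, 0, 2, 4, 5, 5, 4]

def z3A : List ℕ := [1, 2, 0, 2, 0, 2, 4, 5, 5, 4, 6, 10]

def z3B : List ℕ := [1, 2, 0, 2, 0, 2, 4, 5, 5, 4, 6, 7, 8]

def ord3Tab : List (List (List (ℕ × List ℕ))) := [
  [],
  [],
  [],
  [[],
    [],
    [],
    [],
    [],
    [(0, []), (0, []), (0, []), (0, []), (0, []), (0, []), (0, []), (0, []), (0, []), (0, []), (0, []), (0, []), (0, []), (0, []), (0, []), (0, []), (0, []), (0, []), (1, [9, 5, 9, 4])],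
    [],
    [],
    [],
    [],
    [],
    [],
    [],
    [],
    [(0, []), (0, []), (0, []), (0, []), (0, []), (0, []), (0, []), (0, []), (0, []), (0, []), (0, []), (0, []), (0, []), (0, []), (0, []), (0, []), (0, []), (0, []), (1, [10, 9])],
    [],
    [],
    [(0, []), (0, []), (0, []), (0, []), (0, []), (0, []), (0, []), (0, []), (0, []), (0, []), (0, []), (0, []), (0, []), (0, []), (0, []), (0, []), (0, []), (0, []), (1, [8, 5])]],
  [[],
    [],
    [],
    [],
    [],
    [(0, []), (0, []), (0, []), (0, []), (0, []), (0, []), (0, []), (0, []), (0, []), (0, []), (0, []), (0, []), (0, []), (0, []), (0, []), (0, []), (0, []), (0, []), (1, [6, 7, 7, 4])],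
    [],
    [],
    [],
    [],
    [],
    [],
    [],
    [],
    [(0, []), (0, []), (0, []), (0, []), (1, [12, 8])],
    [],
    [],
    [(0, []), (0, []), (0, []), (0, []), (0, []), (0, []), (0, []), (0, []), (0, []), (0, []), (0, []), (0, []), (0, []), (0, []), (0, []), (1, [5])]],
  [[],
    [],
    [],
    [],
    [],
    [(0, []), (0, []), (0, []), (0, []), (0, []), (0, []), (0, []), (0, []), (0, []), (0, []), (0, []), (0, []), (0, []), (0, []), (0, []), (0, []), (1, [11, 5])],
    [],
    [],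
    [],
    [],
    [],
    [],
    [],
    [],
    [(0, []), (0, []), (0, []), (0, []), (0, []), (0, []), (0, []), (0, []), (0, []), (1, [9, 0, 1, 8])],
    [],
    [],
    [(0, []), (0, []), (0, []), (0, []), (0, []), (0, []), (0, []), (0, []), (0, []), (0, []), (0, []), (0, []), (0, []), (0, []), (0, []), (0, []), (0, []), (0, []), (1, [9])]],
  [[],
    [],
    [],
    [],
    [],
    [(0, []), (0, []), (0, []), (0, []), (0, []), (0, []), (0, []), (0, [12]), (0, []), (0, []), (0, []), (0, []), (0, [9]), (0, [10])]],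
  [],
  [[],
    [],
    [],
    [],
    [],
    [(0, []), (0, []), (0, []), (0, []), (0, []), (0, []), (0, []), (0, []), (0, []), (0, []), (0, []), (0, []), (0, []), (0, []), (0, []), (0, []), (0, []), (0, []), (1, [10, 9, 5])],
    [],
    [],
    [],
    [],
    [],
    [],
    [],
    [],
    [(0, []), (0, []), (0, []), (0, []), (0, []), (0, []), (0, []), (0, []), (0, []), (0, []), (0, []), (0, []), (0, []), (0, []), (0, []), (0, []), (0, []), (0, []), (0, []), (0, []), (0, []), (0, []), (1, [5, 9, 5])],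
    [],
    [],
    [(0, []), (0, []), (0, []), (0, []), (0, []), (0, []), (0, []), (0, []), (0, []), (0, []), (1, [11, 10])]],
  [[],
    [],
    [],
    [],
    [],
    [(0, []), (0, []), (0, []), (0, []), (0, []), (0, []), (0, []), (1, [11, 9, 5])],
    [],
    [],
    [],
    [],
    [],
    [],
    [],
    [],
    [(0, []), (0, []), (0, []), (0, []), (0, []), (0, []), (0, []), (0, []), (0, []), (0, []), (1, [0, 1, 8])],
    [],
    [],
    [(0, []), (0, []), (0, []), (0, []), (1, [])]],
  [[],
    [],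
    [],
    [],
    [],
    [(0, []), (0, []), (0, []), (0, []), (0, []), (0, []), (0, []), (0, []), (0, []), (0, []), (0, []), (0, []), (0, []), (0, []), (0, []), (0, []), (0, []), (0, []), (0, []), (0, []), (1, [3, 10, 3, 4])],
    [],
    [],
    [],
    [],
    [],
    [],
    [],
    [],
    [(0, []), (0, []), (0, []), (0, []), (0, []), (0, []), (0, []), (0, []), (0, []), (1, [12, 10])],
    [],
    [],
    [(0, []), (0, []), (0, []), (0, []), (0, []), (0, []), (0, []), (0, []), (0, []), (0, []), (1, [8, 8, 5])]],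
  [[],
    [],
    [],
    [],
    [],
    [(0, []), (0, []), (0, []), (0, []), (0, []), (0, []), (0, []), (0, []), (0, []), (0, []), (0, []), (0, []), (1, [8, 11])],
    [],
    [],
    [],
    [],
    [],
    [],
    [],
    [],
    [(0, []), (0, []), (0, []), (0, []), (0, []), (0, []), (1, [8, 9, 5])],
    [],
    [],
    [(0, []), (0, []), (0, []), (0, []), (0, []), (0, []), (0, []), (0, []), (0, []), (0, []), (0, []), (0, []), (0, []), (0, []), (0, []), (0, []), (1, [10, 5, 5, 4])]],
  [[],
    [],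
    [],
    [],
    [],
    [(0, []), (0, []), (0, []), (0, []), (0, []), (0, []), (0, []), (0, []), (0, []), (0, []), (0, []), (0, []), (1, [5, 5, 4])],
    [],
    [],
    [],
    [],
    [],
    [],
    [],
    [],
    [(0, []), (0, []), (0, []), (0, []), (0, []), (0, []), (0, []), (0, []), (0, []), (0, []), (1, [9, 8])],
    [],
    [],
    [(0, []), (0, []), (0, []), (0, []), (0, []), (0, []), (0, []), (1, [12, 9, 5])]],
  [[],
    [],
    [],
    [],
    [],
    [(0, []), (0, []), (0, []), (0, []), (0, []), (0, []), (0, []), (0, []), (0, []), (0, []), (0, []), (0, []), (0, []), (0, []), (0, []), (0, []), (0, []), (0, []), (0, []), (0, []), (0, []), (1, [10, 8])],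
    [],
    [],
    [],
    [],
    [],
    [],
    [],
    [],
    [(0, []), (0, []), (0, []), (0, []), (0, []), (0, []), (0, []), (0, []), (0, []), (0, []), (0, []), (0, []), (0, []), (0, []), (0, []), (0, []), (0, []), (0, []), (1, [12, 10, 5])],
    [],
    [],
    [(0, []), (0, []), (0, []), (0, []), (0, []), (0, []), (0, []), (0, []), (0, []), (0, []), (0, []), (0, []), (0, []), (0, []), (0, []), (0, []), (0, []), (0, []), (0, []), (0, []), (1, [11, 6, 9, 4])]],
  [[],
    [],
    [],
    [],
    [],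
    [(0, []), (0, []), (0, []), (0, []), (0, []), (0, []), (0, []), (0, []), (0, []), (0, []), (0, []), (0, []), (0, []), (1, [6, 9, 4])],
    [],
    [],
    [],
    [],
    [],
    [],
    [],
    [],
    [(0, []), (0, []), (0, []), (0, []), (0, []), (0, []), (0, []), (0, []), (0, []), (0, []), (0, []), (0, []), (0, []), (0, []), (0, []), (0, []), (0, []), (0, []), (0, []), (0, []), (0, []), (0, []), (1, [8, 10, 8])],
    [],
    [],
    [(0, []), (0, []), (0, []), (0, []), (1, [12, 8, 5])]],
  [[],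
    [],
    [],
    [],
    [],
    [(0, []), (0, []), (0, []), (0, []), (0, []), (0, []), (0, []), (0, []), (0, []), (0, []), (0, []), (0, []), (0, []), (0, []), (0, []), (1, [10])],
    [],
    [],
    [],
    [],
    [],
    [],
    [],
    [],
    [(0, []), (0, []), (0, []), (0, []), (0, []), (0, []), (0, []), (0, []), (0, []), (0, []), (0, []), (0, []), (1, [9, 8, 5])],
    [],
    [],
    [(0, []), (0, []), (0, []), (0, []), (0, []), (0, []), (0, []), (0, []), (0, []), (0, []), (0, []), (0, []), (0, []), (0, []), (0, []), (0, []), (0, []), (0, []), (0, []), (0, []), (0, []), (0, []), (1, [5, 9, 4])]],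
  [[],
    [],
    [],
    [],
    [],
    [(0, []), (0, []), (0, []), (0, []), (0, []), (0, []), (0, []), (0, []), (0, []), (0, []), (0, []), (0, []), (0, []), (1, [8, 5, 9, 4])],
    [],
    [],
    [],
    [],
    [],
    [],
    [],
    [],
    [(0, []), (0, []), (0, []), (0, []), (0, []), (0, []), (1, [8, 10])],
    [],
    [],
    [(0, []), (0, []), (0, []), (0, []), (0, []), (0, []), (0, []), (0, []), (0, []), (0, []), (1, [10, 5])]],
  [[],
    [],
    [],
    [],
    [],
    [(0, []), (0, []), (0, []), (0, []), (0, []), (0, []), (0, []), (0, []), (0, []), (1, [7, 5, 0, 1])],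
    [],
    [],
    [],
    [],
    [],
    [],
    [],
    [],
    [(0, []), (0, []), (0, []), (0, []), (0, []), (0, []), (0, []), (0, []), (0, []), (1, [11, 8])],
    [],
    [],
    [(0, []), (0, []), (0, []), (0, []), (0, []), (0, []), (0, []), (0, []), (0, []), (1, [8, 10, 5])]],
  [[],
    [],
    [],
    [],
    [],
    [(0, []), (0, []), (0, []), (0, []), (0, []), (0, []), (0, []), (0, []), (0, []), (0, []), (0, []), (0, []), (0, []), (0, []), (0, []), (1, [11])],
    [],
    [],
    [],
    [],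
    [],
    [],
    [],
    [],
    [(0, []), (0, []), (0, []), (0, []), (0, []), (0, []), (0, []), (0, []), (0, []), (0, []), (0, []), (0, []), (0, []), (1, [9, 5])],
    [],
    [],
    [(0, []), (0, []), (0, []), (0, []), (0, []), (0, []), (0, []), (1, [12, 5, 5, 4])]],
  [[],
    [],
    [],
    [],
    [],
    [],
    [],
    [],
    [],
    [],
    [],
    [],
    [],
    [],
    [],
    [],
    [],
    [(0, []), (0, []), (0, []), (0, []), (0, []), (0, []), (0, []), (0, [7, 10, 6]), (0, []), (0, []), (0, [8, 8]), (0, [11, 8, 8]), (0, []), (0, []), (0, []), (0, []), (0, []), (0, []), (0, []), (0, []), (0, []), (0, []), (0, [10, 8, 8])]],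
  [[],
    [],
    [],
    [],
    [],
    [(0, []), (0, []), (0, []), (0, []), (0, []), (0, []), (1, [10, 8, 8, 5])],
    [],
    [],
    [],
    [],
    [],
    [],
    [],
    [],
    [(0, []), (0, []), (0, []), (0, []), (0, []), (0, []), (0, []), (0, []), (0, []), (0, []), (0, []), (1, [4, 9, 8])],
    [],
    [],
    [(0, []), (0, []), (0, []), (0, []), (0, []), (0, []), (0, []), (0, []), (0, []), (1, [12])]],
  [[],
    [],
    [],
    [],
    [],
    [],
    [],
    [],
    [],
    [],
    [],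
    [],
    [],
    [],
    [],
    [],
    [],
    [(0, []), (0, []), (0, []), (0, []), (0, []), (0, []), (0, [9, 8]), (0, []), (0, []), (0, []), (0, []), (0, []), (0, []), (0, []), (0, []), (0, []), (0, []), (0, []), (0, [8, 10]), (0, []), (0, [8]), (0, []), (0, [10, 8])]],
  [[],
    [],
    [],
    [],
    [],
    [(0, []), (0, []), (0, []), (0, []), (0, []), (0, []), (0, []), (0, []), (0, []), (0, []), (0, []), (0, []), (0, []), (0, []), (0, []), (0, []), (0, []), (0, []), (1, [8])],
    [],
    [],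
    [],
    [],
    [],
    [],
    [],
    [],
    [(0, []), (0, []), (0, []), (0, []), (0, []), (0, []), (0, []), (0, []), (0, []), (0, []), (0, []), (0, []), (0, []), (0, []), (0, []), (0, []), (0, []), (0, []), (0, []), (1, [12, 5])],
    [],
    [],
    [(0, []), (0, []), (0, []), (0, []), (0, []), (0, []), (0, []), (0, []), (0, []), (0, []), (0, []), (0, []), (0, []), (0, []), (0, []), (0, []), (0, []), (0, []), (0, []), (0, []), (0, []), (0, []), (1, [9, 5, 5, 4])]],
  []]

set_option maxRecDepth 1000000 in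
theorem ord3_ok : ∀ p ∈ orb 4, ∀ q ∈ orb 5, ∀ r ∈ orb 6,
    classEntry wt3 3 ord3Tab [z3A, z3B] p q r := by
  decide +kernel

theorem wt3_lt : ∀ l ∈ wt3, l < ngen := by decide

theorem z3A_lt : ∀ l ∈ z3A, l < ngen := by decide

theorem z3B_lt : ∀ l ∈ z3B, l < ngen := by decide

theorem wt3_act : appW wt3 (bpt 0) = bpt 1 ∧ appW wt3 (bpt 1) = bpt 2 ∧
    appW wt3 (bpt 2) = bpt 0 ∧ appW wt3 (bpt 3) = bpt 4 := by decide +kernel

/-- every element of order three is conjugate to one of the two representatives -/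
theorem ord3_conj (g : Equiv.Perm GolayPt) (hg : g ∈ M24) (h3 : orderOf g = 3) :
    (∃ k ∈ M24, g = k * evalW z3A * k⁻¹) ∨ (∃ k ∈ M24, g = k * evalW z3B * k⁻¹) := by
  have hcube : g ^ 3 = 1 := by
    have := pow_orderOf_eq_one g
    rwa [h3] at this
  have hne : g ≠ 1 := by
    intro h
    rw [h, orderOf_one] at h3
    norm_num at h3
  have hggg : ∀ p, g (g (g p)) = p := fun p => by
    have := congrArg (fun σ : Equiv.Perm GolayPt => σ p) hcube
    simpa [pow_succ, Equiv.Perm.mul_apply] using this
  obtain ⟨a, ha⟩ : ∃ a, g a ≠ a := by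
    by_contra hcon
    push Not at hcon
    exact hne (Equiv.ext hcon)
  have hab : a ≠ g a := Ne.symm ha
  have hbc : g a ≠ g (g a) := fun h => hab (g.injective h)
  have hac : a ≠ g (g a) := by
    intro h
    apply ha
    have := hggg a
    rw [← h] at this
    exact this
  obtain ⟨d, hds, hd⟩ := exists_moved_outside g hg hne {a, g a, g (g a)}
    (Finset.card_le_three.trans (by norm_num))
  simp only [Finset.mem_insert, Finset.mem_singleton, not_or] at hds
  obtain ⟨hda, hdb, hdc⟩ := hds
  have hea : g d ≠ a := by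
    intro h
    apply hdc
    have := hggg d
    rw [h] at this
    exact this.symm
  have heb : g d ≠ g a := fun h => hda (g.injective h)
  have hec : g d ≠ g (g a) := fun h => hdb (g.injective h)
  let x : Fin 5 ↪ GolayPt := ⟨![a, g a, g (g a), d, g d], by
    have e1 := Ne.symm hda
    have e2 := Ne.symm hdb
    have e3 := Ne.symm hdc
    have e4 := Ne.symm hea
    have e5 := Ne.symm heb
    have e6 := Ne.symm hec
    have e7 := Ne.symm hd
    clear hggg hcube hne h3 hg
    intro i j hij
    fin_cases i <;> fin_cases j <;> simp_all [eq_comm]⟩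
  obtain ⟨k0, hk0, hk0x⟩ := exists_map_emb (le_refl 5) x
  have e0 : k0 (bp 0) = a := hk0x 0
  have e1 : k0 (bp 1) = g a := hk0x 1
  have e2 : k0 (bp 2) = g (g a) := hk0x 2
  have e3 : k0 (bp 3) = d := hk0x 3
  have e4 : k0 (bp 4) = g d := hk0x 4
  have i0 : k0⁻¹ a = bp 0 := by rw [← e0, perm_inv_apply]
  have i1 : k0⁻¹ (g a) = bp 1 := by rw [← e1, perm_inv_apply]
  have i2 : k0⁻¹ (g (g a)) = bp 2 := by rw [← e2, perm_inv_apply]
  have i4 : k0⁻¹ (g d) = bp 4 := by rw [← e4, perm_inv_apply]
  set g' : Equiv.Perm GolayPt := k0⁻¹ * g * k0 with hg'def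
  have hg' : g' ∈ M24 := Subgroup.mul_mem _ (Subgroup.mul_mem _ (Subgroup.inv_mem _ hk0) hg) hk0
  have a0 : g' (bp 0) = bp 1 := by
    rw [hg'def, Equiv.Perm.mul_apply, Equiv.Perm.mul_apply, e0, i1]
  have a1 : g' (bp 1) = bp 2 := by
    rw [hg'def, Equiv.Perm.mul_apply, Equiv.Perm.mul_apply, e1, i2]
  have a2 : g' (bp 2) = bp 0 := by
    rw [hg'def, Equiv.Perm.mul_apply, Equiv.Perm.mul_apply, e2, hggg, i0]
  have a3 : g' (bp 3) = bp 4 := by
    rw [hg'def, Equiv.Perm.mul_apply, Equiv.Perm.mul_apply, e3, i4]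
  have t0 := evalW_bp wt3 wt3_lt 0 1 (by norm_num) (by norm_num) wt3_act.1
  have t1 := evalW_bp wt3 wt3_lt 1 2 (by norm_num) (by norm_num) wt3_act.2.1
  have t2 := evalW_bp wt3 wt3_lt 2 0 (by norm_num) (by norm_num) wt3_act.2.2.1
  have t3 := evalW_bp wt3 wt3_lt 3 4 (by norm_num) (by norm_num) wt3_act.2.2.2
  have hpow : g' ^ 3 = 1 := by
    rw [hg'def]
    have : k0⁻¹ * g * k0 = k0⁻¹ * g * (k0⁻¹)⁻¹ := by rw [inv_inv]
    rw [this, conj_pow, hcube]
    group
  obtain ⟨f, hf⟩ := class_of_table wt3 3 ord3Tab [z3A, z3B] wt3_lt (by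
      intro z hz
      simp only [List.mem_cons, List.mem_nil_iff, or_false] at hz
      rcases hz with rfl | rfl
      · exact z3A_lt
      · exact z3B_lt) ord3_ok g' hg' hpow (by
      intro i hi
      have : i = 0 ∨ i = 1 ∨ i = 2 ∨ i = 3 := by omega
      rcases this with rfl | rfl | rfl | rfl
      · rw [t0, a0]
      · rw [t1, a1]
      · rw [t2, a2]
      · rw [t3, a3])
  have hf' := conj_transport g g' k0 _ hk0 hg'def hf
  match f, hf' with
  | 0, h => exact Or.inl h
  | 1, h => exact Or.inr h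
  | n + 2, h =>
    exfalso
    obtain ⟨k, -, hk⟩ := h
    have h1 : ([z3A, z3B] : List (List ℕ)).getD (n + 2) [] = [] := by
      rw [List.getD_eq_default]
      simp
    rw [h1, evalW_nil] at hk
    apply hne
    rw [hk]
    group

theorem z3A_fix : ∀ x < 24, (appW z3A x = x ↔ (611360 : ℕ).testBit x = true) := by
  decide +kernel

theorem z3B_fix : ∀ x < 24, appW z3B x ≠ x := by decide +kernel

theorem fixed_z3A : (Finset.univ.filter fun p => evalW z3A p = p) = maskSet 611360 := by
  ext p
  rw [Finset.mem_filter, mem_maskSet, evalW_apply_eq_iff z3A z3A_lt]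
  simp only [Finset.mem_univ, true_and]
  exact z3A_fix _ (idx_lt p)

theorem fixed_z3A_card : (Finset.univ.filter fun p => evalW z3A p = p).card = 6 := by
  rw [fixed_z3A, card_maskSet]
  decide +kernel

theorem fixed_z3B (p : GolayPt) : evalW z3B p ≠ p := by
  rw [Ne, evalW_apply_eq_iff z3B z3B_lt]
  exact z3B_fix _ (idx_lt p)

/-- a conjugate of a fixed-point-free permutation is fixed-point-free -/
theorem fpf_conj (k z : Equiv.Perm GolayPt) (hz : ∀ p, z p ≠ p) : ∀ p, (k * z * k⁻¹) p ≠ p := by
  intro p hp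
  rw [Equiv.Perm.mul_apply, Equiv.Perm.mul_apply] at hp
  apply hz (k⁻¹ p)
  conv_rhs => rw [← hp]
  rw [perm_inv_apply]

/-- an element of order three has exactly six fixed points or none -/
theorem ord3_fixed (g : Equiv.Perm GolayPt) (hg : g ∈ M24) (h3 : orderOf g = 3) :
    ((Finset.univ.filter fun p => g p = p).card = 6 ∧ ∃ k ∈ M24, g = k * evalW z3A * k⁻¹) ∨
      ((∀ p, g p ≠ p) ∧ ∃ k ∈ M24, g = k * evalW z3B * k⁻¹) := by
  rcases ord3_conj g hg h3 with ⟨k, hk, hgk⟩ | ⟨k, hk, hgk⟩
  · left
    refine ⟨?_, k, hk, hgk⟩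
    rw [hgk, fixed_conj, Finset.card_smul_finset, fixed_z3A_card]
  · right
    refine ⟨?_, k, hk, hgk⟩
    rw [hgk]
    exact fpf_conj k _ fixed_z3B

/-- a permutation of prime-power order fixes a point of an invariant set of size prime to `p` -/
theorem exists_fixed_of_not_dvd {α : Type*} [Fintype α] [DecidableEq α] (g : Equiv.Perm α)
    (p : ℕ) (hp : p.Prime) (hg : g ^ p = 1) (S : Finset α) (hS : ∀ x, g x ∈ S ↔ x ∈ S)
    (hc : ¬ p ∣ S.card) : ∃ x ∈ S, g x = x := by
  have : Fact p.Prime := ⟨hp⟩
  have hf : (g.subtypePerm hS) ^ p ^ 1 = 1 := by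
    rw [pow_one, Equiv.Perm.subtypePerm_pow]
    ext x
    simp [hg]
  obtain ⟨a, ha⟩ := Equiv.Perm.exists_fixed_point_of_prime
    (by rwa [Fintype.card_coe]) hf
  exact ⟨a.1, a.2, congrArg Subtype.val ha⟩

/-- a nontrivial element of the stabilizer of a dodecad fixes at most four of its points -/
theorem card_fixed_dodecad_le (d : Finset GolayPt) (hd : d ∈ dodecads) (g : Equiv.Perm GolayPt)
    (hg : g ∈ M24) (hgd : g • d = d) (h1 : g ≠ 1) : (d.filter fun p => g p = p).card ≤ 4 := by
  by_contra hcon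
  push Not at hcon
  obtain ⟨x, hx⟩ := exists_emb_subset (d.filter fun p => g p = p) 5 hcon
  have hxd : ∀ i, x i ∈ d := fun i => (Finset.mem_filter.1 (hx i)).1
  have hxf : ∀ i, g (x i) = x i := fun i => (Finset.mem_filter.1 (hx i)).2
  obtain ⟨u, -, huniq⟩ := sharply_five d hd x x hxd hxd
  let G : MulAction.stabilizer M24 d := ⟨⟨g, hg⟩, by
    rw [MulAction.mem_stabilizer_iff]
    exact hgd⟩
  have e1 := huniq G (fun i => hxf i)
  have e2 := huniq 1 (fun i => rfl)
  apply h1
  have := e1.trans e2.symm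
  have h3 := congrArg (fun t : MulAction.stabilizer M24 d => ((t : M24) : Equiv.Perm GolayPt)) this
  exact h3

end Cfsg.Agent.Helper29.M24
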