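import Mathlib
import Cfsg.Agent.Lib.Helper29.M24SextetTab

set_option autoImplicit false
open Cfsg

namespace Cfsg.Agent.Helper29.M24

open Cfsg.Agent.Helper27 Cfsg.Agent.Helper29
open Cfsg.Agent.S0358 (idx)
open scoped Pointwise

/-! ### Orbits of the stabilizer of a family of sets, from a base configuration -/

/-- the orbits of the stabilizer of a family are the classes of the sum-of-squares invariant,
when this holds for the base family -/
theorem stab_class_eq {X : Type*} [MulAction (Equiv.Perm GolayPt) X]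
    (toFam : X → Finset (Finset GolayPt))
    (htoFam : ∀ (g : Equiv.Perm GolayPt) (z : X), toFam (g • z) = g • toFam z)
    (F : Set X) (hF : ∀ g ∈ M24, ∀ z ∈ F, g • z ∈ F) (A0 : Finset (Finset GolayPt))
    (htrans : ∀ y ∈ F, ∀ z ∈ F, sqInv A0 (toFam y) = sqInv A0 (toFam z) →
      ∃ g ∈ famStab A0, g • y = z)
    (g0 : Equiv.Perm GolayPt) (hg0 : g0 ∈ M24) (y : X) (hy : y ∈ F) :
    {z | ∃ g ∈ M24, g • (g0 • A0) = g0 • A0 ∧ g • y = z} =
      {z | z ∈ F ∧ sqInv (g0 • A0) (toFam z) = sqInv (g0 • A0) (toFam y)} := by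
  have hi : g0⁻¹ ∈ M24 := Subgroup.inv_mem _ hg0
  ext z
  simp only [Set.mem_ofPred_eq]
  constructor
  · rintro ⟨g, hg, hgS, rfl⟩
    refine ⟨hF g hg y hy, ?_⟩
    rw [htoFam]
    conv_lhs => rw [← hgS]
    exact sqInv_smul g _ _
  · rintro ⟨hz, hc⟩
    rw [sqInv_smul_left, sqInv_smul_left, ← htoFam, ← htoFam] at hc
    exact fam_transport A0 g0 hg0 y z
      (htrans _ (hF _ hi y hy) _ (hF _ hi z hz) hc.symm)

/-- transport of the size of a class -/
theorem ncard_class_transport {X : Type*} [MulAction (Equiv.Perm GolayPt) X]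
    (toFam : X → Finset (Finset GolayPt))
    (htoFam : ∀ (g : Equiv.Perm GolayPt) (z : X), toFam (g • z) = g • toFam z)
    (F : Set X) (hF : ∀ g ∈ M24, ∀ z ∈ F, g • z ∈ F) (A0 : Finset (Finset GolayPt))
    (g0 : Equiv.Perm GolayPt) (hg0 : g0 ∈ M24) (v : ℕ) :
    {z | z ∈ F ∧ sqInv (g0 • A0) (toFam z) = v}.ncard =
      {z | z ∈ F ∧ sqInv A0 (toFam z) = v}.ncard := by
  have hi : g0⁻¹ ∈ M24 := Subgroup.inv_mem _ hg0
  have himg : {z | z ∈ F ∧ sqInv (g0 • A0) (toFam z) = v} =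
      (fun z => g0 • z) '' {z | z ∈ F ∧ sqInv A0 (toFam z) = v} := by
    ext z
    simp only [Set.mem_ofPred_eq, Set.mem_image]
    constructor
    · rintro ⟨hz, hc⟩
      refine ⟨g0⁻¹ • z, ⟨hF _ hi z hz, ?_⟩, smul_inv_smul g0 z⟩
      rw [htoFam, ← sqInv_smul_left]
      exact hc
    · rintro ⟨z0, ⟨hz0, hc⟩, rfl⟩
      refine ⟨hF _ hg0 z0 hz0, ?_⟩
      rw [htoFam, sqInv_smul]
      exact hc
  rw [himg]
  exact Set.ncard_image_of_injective _ (MulAction.injective g0)

/-! ### Sextets as objects -/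

/-- a packed permutation maps the sextet with code `a` onto the sextet with code `b` -/
def relS (P a b : ℕ) : Bool := isCW (Nat.xor (imgP P (hd24 a)) (hd24 b))

theorem relS_spec (P : ℕ) (w : List ℕ) (hr : Repr P w) (a b : ℕ) (ha : sextetP a = true)
    (hb : sextetP b = true) (h : relS P a b = true) : evalW w • semS a = semS b := by
  obtain ⟨-, -, ea, -⟩ := sextetP_spec a ha
  obtain ⟨-, -, eb, -⟩ := sextetP_spec b hb
  rw [ea, eb, smul_sextetOf (evalW_mem_M24 w hr.1), maskSet_imgP P w hr.1 hr.2]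
  apply sextetOf_eq_of_inCode
  rw [← maskSet_xor]
  exact isCW_spec _ h

theorem relS_cfg (c0 : ℕ) (hc0 : sextetP c0 = true) (P : ℕ) (w : List ℕ) (hr : Repr P w)
    (h : relS P c0 c0 = true) : evalW w ∈ famStab (semS c0) :=
  Subgroup.mem_inf.2 ⟨evalW_mem_M24 w hr.1, MulAction.mem_stabilizer_iff.2
    (relS_spec P w hr c0 c0 hc0 hc0 h)⟩

/-- the relation between indices of the table of sextets needed by the tree certificates -/
theorem relS_at (P : ℕ) (w : List ℕ) (hr : Repr P w) (a : ℕ) (ha : a < 2024) (b : ℕ)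
    (hb : b < 2024) (hva : (sextetAt a != 0) = true) (hvb : (sextetAt b != 0) = true)
    (h : relS P (sextetAt a) (sextetAt b) = true) :
    evalW w • semS (sextetAt a) = semS (sextetAt b) :=
  relS_spec P w hr _ _ (sextet_valid a ha (by simpa using hva)).2.1
    (sextet_valid b hb (by simpa using hvb)).2.1 h

/-- the invariant of a sextet of the table with respect to a family given by a sorted list -/
theorem sqInv_semS (L0 : List ℕ) (h0 : L0.Pairwise (· < ·)) (h24 : ∀ m ∈ L0, m < 2 ^ 24)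
    (c : ℕ) (hc : sextetP c = true) :
    sqInv (famSet L0) (semS c) = sqF L0 (unpackF 6 c) := by
  rw [sqF_eq]
  exact sqInv_famSet L0 _ h0 (sextetP_spec c hc).1 h24 (unpackF_lt 6 c)

theorem smul_mem_sextets' : ∀ g ∈ M24, ∀ z ∈ sextets, g • z ∈ sextets :=
  fun _ hg _ hz => smul_mem_sextets hg hz

/-! ### The generic class theorem for an enumerated family of objects -/

theorem obj_main {X : Type*} [MulAction (Equiv.Perm GolayPt) X]
    (toFam : X → Finset (Finset GolayPt)) (F : Set X) (sem : ℕ → X) (obj : ℕ → ℕ) (N : ℕ)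
    (valid : ℕ → Bool) (msk : ℕ → List ℕ) (rel : ℕ → ℕ → ℕ → Bool)
    (hF : ∀ z, z ∈ F ↔ ∃ i < N, valid (obj i) = true ∧ z = sem (obj i))
    (hinj : ∀ i < N, ∀ j < N, valid (obj i) = true → valid (obj j) = true →
      sem (obj i) = sem (obj j) → i = j)
    (hmsk : ∀ i < N, valid (obj i) = true → toFam (sem (obj i)) = famSet (msk (obj i)) ∧
      (msk (obj i)).Pairwise (· < ·) ∧ ∀ m ∈ msk (obj i), m < 2 ^ 24)
    (hrel : ∀ (P : ℕ) (w : List ℕ), Repr P w → ∀ a < N, ∀ b < N, valid (obj a) = true →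
      valid (obj b) = true → rel P (obj a) (obj b) = true → evalW w • sem (obj a) = sem (obj b))
    (L0 : List ℕ) (h0 : L0.Pairwise (· < ·)) (h24 : ∀ m ∈ L0, m < 2 ^ 24)
    (cfgOK : ℕ → Bool)
    (hcfg : ∀ (P : ℕ) (w : List ℕ), Repr P w → cfgOK P = true → evalW w ∈ famStab (famSet L0))
    (rep val : ℕ → ℕ) (r : ℕ) (hval : ∀ k < r, ∀ l < r, val k = val l → k = l)
    (hgens : List (ℕ × ℕ)) (tab : List (List ℕ))
    (htree : gtreeOK cfgOK rel valid rep obj hgens tab N = true)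
    (hlab : (List.range N).all (fun i => strictN (obj i) fun c => !valid c ||
      (Nat.beq (sqF L0 (msk c)) (val (labOf tab i)) && decide (labOf tab i < r))) = true) :
    (∀ y ∈ F, ∀ z ∈ F, sqInv (famSet L0) (toFam y) = sqInv (famSet L0) (toFam z) →
      ∃ g ∈ famStab (famSet L0), g • y = z) ∧
    (∀ z ∈ F, ∃ k < r, sqInv (famSet L0) (toFam z) = val k) ∧
    (∀ k < r, {z | z ∈ F ∧ sqInv (famSet L0) (toFam z) = val k}.ncard =
      countN (fun i => valid (obj i) && (labOf tab i == k)) N) := by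
  have hl : ∀ i < N, valid (obj i) = true →
      sqInv (famSet L0) (toFam (sem (obj i))) = val (labOf tab i) ∧ labOf tab i < r := by
    intro i hi hv
    have := List.all_eq_true.1 hlab i (List.mem_range.2 hi)
    rw [strictN_eq, hv] at this
    simp only [Bool.not_true, Bool.false_or, Bool.and_eq_true, decide_eq_true_eq] at this
    obtain ⟨e, hm, hm24⟩ := hmsk i hi hv
    refine ⟨?_, this.2⟩
    rw [e, sqInv_famSet L0 _ h0 hm h24 hm24, ← sqF_eq]
    exact Nat.eq_of_beq_eq_true this.1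
  refine ⟨?_, ?_, ?_⟩
  · intro y hy z hz hc
    obtain ⟨n, hn, hvn, rfl⟩ := (hF y).1 hy
    obtain ⟨m, hm, hvm, rfl⟩ := (hF z).1 hz
    rw [(hl n hn hvn).1, (hl m hm hvm).1] at hc
    exact gtree_trans (famStab (famSet L0)) cfgOK sem rel valid obj N hcfg hrel rep hgens tab
      htree n m hn hm hvn hvm (hval _ (hl n hn hvn).2 _ (hl m hm hvm).2 hc)
  · intro z hz
    obtain ⟨n, hn, hvn, rfl⟩ := (hF z).1 hz
    exact ⟨_, (hl n hn hvn).2, (hl n hn hvn).1⟩
  · intro k hk
    exact ncard_family F (fun i => sem (obj i)) N (fun i => valid (obj i)) hF hinj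
      (fun z => sqInv (famSet L0) (toFam z) = val k) (fun i => labOf tab i == k) (by
        intro i hi hv
        rw [(hl i hi hv).1, beq_iff_eq]
        constructor
        · intro h
          exact hval _ (hl i hi hv).2 _ hk h
        · intro h
          rw [h])

/-- the final form: classes, sizes and orbits for the stabilizer of an arbitrary image of the
base family -/
theorem obj_final {X : Type*} [MulAction (Equiv.Perm GolayPt) X]
    (toFam : X → Finset (Finset GolayPt))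
    (htoFam : ∀ (g : Equiv.Perm GolayPt) (z : X), toFam (g • z) = g • toFam z)
    (F : Set X) (hFinv : ∀ g ∈ M24, ∀ z ∈ F, g • z ∈ F) (A0 : Finset (Finset GolayPt))
    (val : ℕ → ℕ) (r : ℕ) (cnt : ℕ → ℕ)
    (hbase : (∀ y ∈ F, ∀ z ∈ F, sqInv A0 (toFam y) = sqInv A0 (toFam z) →
      ∃ g ∈ famStab A0, g • y = z) ∧
    (∀ z ∈ F, ∃ k < r, sqInv A0 (toFam z) = val k) ∧
    (∀ k < r, {z | z ∈ F ∧ sqInv A0 (toFam z) = val k}.ncard = cnt k))
    (g0 : Equiv.Perm GolayPt) (hg0 : g0 ∈ M24) :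
    (∀ z ∈ F, ∃ k < r, sqInv (g0 • A0) (toFam z) = val k) ∧
    (∀ k < r, {z | z ∈ F ∧ sqInv (g0 • A0) (toFam z) = val k}.ncard = cnt k) ∧
    (∀ y ∈ F, {z | ∃ g ∈ M24, g • (g0 • A0) = g0 • A0 ∧ g • y = z} =
      {z | z ∈ F ∧ sqInv (g0 • A0) (toFam z) = sqInv (g0 • A0) (toFam y)}) := by
  obtain ⟨h1, h2, h3⟩ := hbase
  have hi : g0⁻¹ ∈ M24 := Subgroup.inv_mem _ hg0
  refine ⟨?_, ?_, ?_⟩
  · intro z hz
    obtain ⟨k, hk, e⟩ := h2 _ (hFinv _ hi z hz)
    refine ⟨k, hk, ?_⟩
    rw [sqInv_smul_left, ← htoFam]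
    exact e
  · intro k hk
    rw [ncard_class_transport toFam htoFam F hFinv A0 g0 hg0]
    exact h3 k hk
  · intro y hy
    exact stab_class_eq toFam htoFam F hFinv A0 h1 g0 hg0 y hy

/-- the orbit of the stabilizer of a family on families, as an explicit set -/
theorem orbit_stab_fam (S y : Finset (Finset GolayPt)) :
    MulAction.orbit ↥(MulAction.stabilizer ↥M24 S) y = {z | ∃ g ∈ M24, g • S = S ∧ g • y = z} := by
  ext z
  constructor
  · rintro ⟨⟨⟨g, hgM⟩, hgS⟩, rfl⟩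
    exact ⟨g, hgM, hgS, rfl⟩
  · rintro ⟨g, hgM, hgS, rfl⟩
    exact ⟨⟨⟨g, hgM⟩, hgS⟩, rfl⟩

/-- the orbit of the stabilizer of a family on sets, as an explicit set -/
theorem orbit_stab_fam_set (S : Finset (Finset GolayPt)) (y : Finset GolayPt) :
    MulAction.orbit ↥(MulAction.stabilizer ↥M24 S) y = {z | ∃ g ∈ M24, g • S = S ∧ g • y = z} := by
  ext z
  constructor
  · rintro ⟨⟨⟨g, hgM⟩, hgS⟩, rfl⟩
    exact ⟨g, hgM, hgS, rfl⟩
  · rintro ⟨g, hgM, hgS, rfl⟩
    exact ⟨⟨⟨g, hgM⟩, hgS⟩, rfl⟩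

/-- every sextet is an image of the base sextet -/
theorem exists_map_sextet (S : Finset (Finset GolayPt)) (hS : S ∈ sextets) :
    ∃ g0 ∈ M24, S = g0 • famSet sext0 := by
  obtain ⟨t, ht, rfl⟩ := (mem_sextets_iff S).1 hS
  obtain ⟨g0, hg0, rfl⟩ := exists_map_tetrad t ht
  exact ⟨g0, hg0, by rw [← smul_sextetOf hg0, sextetOf_base]⟩

/-- the bundle of facts on the table of sextets used by `obj_main` -/
theorem sextet_hmsk : ∀ i < 2024, (sextetAt i != 0) = true →
    id (semS (sextetAt i)) = famSet (unpackF 6 (sextetAt i)) ∧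
      (unpackF 6 (sextetAt i)).Pairwise (· < ·) ∧ ∀ m ∈ unpackF 6 (sextetAt i), m < 2 ^ 24 := by
  intro i hi hv
  exact ⟨rfl, (sextetP_spec _ (sextet_valid i hi (by simpa using hv)).2.1).1, unpackF_lt 6 _⟩

theorem sextet_hinj : ∀ i < 2024, ∀ j < 2024, (sextetAt i != 0) = true → (sextetAt j != 0) = true →
    semS (sextetAt i) = semS (sextetAt j) → i = j :=
  fun i hi j hj hvi hvj h => sextetAt_inj i j hi hj (by simpa using hvi) (by simpa using hvj) h

end Cfsg.Agent.Helper29.M24
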