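import Mathlib
import Cfsg.Agent.Lib.Helper29.M24Orbits

set_option autoImplicit false
open Cfsg

namespace Cfsg.Agent.Helper29.M24

open Cfsg.Agent.Helper27 Cfsg.Agent.Helper29
open Cfsg.Agent.S0358 (idx)
open scoped Pointwise

/-! ### Octads as objects, and stabilizers of single sets -/

/-- the family consisting of one set -/
def toFam1 (z : Finset GolayPt) : Finset (Finset GolayPt) := {z}

theorem toFam1_smul (g : Equiv.Perm GolayPt) (z : Finset GolayPt) :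
    toFam1 (g • z) = g • toFam1 z := by
  unfold toFam1
  rw [Finset.smul_finset_singleton]

theorem famSet_single (c : ℕ) : famSet [c] = {maskSet c} := by
  unfold famSet
  simp

/-- validity of an octad code -/
def octP (c : ℕ) : Bool := Nat.beq (popF c) 8

/-- a packed permutation maps the set with mask `a` onto the set with mask `b` -/
def relO (P a b : ℕ) : Bool := Nat.beq (imgP P a) b

theorem relO_spec (P : ℕ) (w : List ℕ) (hr : Repr P w) (a b : ℕ) (h : relO P a b = true) :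
    evalW w • maskSet a = maskSet b := by
  rw [maskSet_imgP P w hr.1 hr.2, Nat.eq_of_beq_eq_true h]

theorem mem_octads_iff_at (z : Finset GolayPt) :
    z ∈ octads ↔ ∃ i < 4096, octP (cwF i) = true ∧ z = maskSet (cwF i) := by
  rw [mem_octads_iff']
  constructor
  · rintro ⟨n, hn, h8, rfl⟩
    refine ⟨n, hn, ?_, by rw [cwF_eq]⟩
    unfold octP
    rw [popF_eq, cwF_eq, h8]
    rfl
  · rintro ⟨n, hn, h8, rfl⟩
    refine ⟨n, hn, ?_, by rw [cwF_eq]⟩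
    unfold octP at h8
    have := Nat.eq_of_beq_eq_true h8
    rwa [popF_eq, cwF_eq] at this

theorem oct_hinj : ∀ i < 4096, ∀ j < 4096, octP (cwF i) = true → octP (cwF j) = true →
    maskSet (cwF i) = maskSet (cwF j) → i = j := by
  intro i hi j hj _ _ h
  rw [cwF_eq, cwF_eq] at h
  exact maskSet_cw_inj hi hj h

theorem oct_hmsk : ∀ i < 4096, octP (cwF i) = true →
    toFam1 (maskSet (cwF i)) = famSet ((fun c => [c]) (cwF i)) ∧
      ((fun c => [c]) (cwF i)).Pairwise (· < ·) ∧ ∀ m ∈ (fun c => [c]) (cwF i), m < 2 ^ 24 := by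
  intro i _ _
  refine ⟨(famSet_single _).symm, List.pairwise_singleton _ _, ?_⟩
  intro m hm
  rw [List.mem_singleton] at hm
  rw [hm, cwF_eq]
  exact cw_lt i

theorem relO_at (P : ℕ) (w : List ℕ) (hr : Repr P w) (a : ℕ) (_ : a < 4096) (b : ℕ)
    (_ : b < 4096) (_ : octP (cwF a) = true) (_ : octP (cwF b) = true)
    (h : relO P (cwF a) (cwF b) = true) : evalW w • maskSet (cwF a) = maskSet (cwF b) :=
  relO_spec P w hr _ _ h

theorem smul_mem_octads' : ∀ g ∈ M24, ∀ z ∈ octads, g • z ∈ octads :=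
  fun _ hg _ hz => smul_mem_octads hg hz

/-- the stabilizer of a set and of the family consisting of it -/
theorem smul_single_iff (g : Equiv.Perm GolayPt) (o : Finset GolayPt) :
    g • ({o} : Finset (Finset GolayPt)) = {o} ↔ g • o = o := by
  rw [Finset.smul_finset_singleton, Finset.singleton_inj]

/-- the orbit of the stabilizer of a set on families, as an explicit set -/
theorem orbit_stab_set_fam (o : Finset GolayPt) (y : Finset (Finset GolayPt)) :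
    MulAction.orbit ↥(MulAction.stabilizer ↥M24 o) y =
      {z | ∃ g ∈ M24, g • ({o} : Finset (Finset GolayPt)) = {o} ∧ g • y = z} := by
  ext z
  constructor
  · rintro ⟨⟨⟨g, hgM⟩, hgS⟩, rfl⟩
    exact ⟨g, hgM, (smul_single_iff g o).2 hgS, rfl⟩
  · rintro ⟨g, hgM, hgS, rfl⟩
    exact ⟨⟨⟨g, hgM⟩, (smul_single_iff g o).1 hgS⟩, rfl⟩

/-- the configuration check for a single set -/
theorem single_hcfg (c : ℕ) (P : ℕ) (w : List ℕ) (hr : Repr P w) (h : relO P c c = true) :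
    evalW w ∈ famStab (famSet [c]) := by
  refine Subgroup.mem_inf.2 ⟨evalW_mem_M24 w hr.1, MulAction.mem_stabilizer_iff.2 ?_⟩
  rw [famSet_single, smul_single_iff]
  exact relO_spec P w hr c c h

/-! ### The base sextet as a configuration -/

/-- the code of the base sextet -/
def sextC0 : ℕ := 11150382242010895008167239022564679587348520

theorem sextC0_unpack : unpackF 6 sextC0 = sext0 := by decide

theorem sextC0_ok : sextetP sextC0 = true := by decide +kernel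

theorem sext_hcfg (P : ℕ) (w : List ℕ) (hr : Repr P w) (h : relS P sextC0 sextC0 = true) :
    evalW w ∈ famStab (famSet sext0) := by
  have := relS_cfg sextC0 sextC0_ok P w hr h
  unfold semS at this
  rwa [sextC0_unpack] at this

/-! ### Assembling orbit statements from classes -/

theorem three_orbits {X : Type*} (F : Set X) (orb : X → Set X) (cls : X → ℕ)
    (v1 v2 v3 c1 c2 c3 : ℕ)
    (horb : ∀ y ∈ F, orb y = {z | z ∈ F ∧ cls z = cls y})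
    (hvals : ∀ z ∈ F, cls z = v1 ∨ cls z = v2 ∨ cls z = v3)
    (h1 : {z | z ∈ F ∧ cls z = v1}.ncard = c1) (h2 : {z | z ∈ F ∧ cls z = v2}.ncard = c2)
    (h3 : {z | z ∈ F ∧ cls z = v3}.ncard = c3) (p1 : c1 ≠ 0) (p2 : c2 ≠ 0) (p3 : c3 ≠ 0) :
    ∃ X₁ ∈ F, ∃ X₂ ∈ F, ∃ X₃ ∈ F, (orb X₁).ncard = c1 ∧ (orb X₂).ncard = c2 ∧
      (orb X₃).ncard = c3 ∧ F = orb X₁ ∪ orb X₂ ∪ orb X₃ := by
  obtain ⟨X₁, hX₁⟩ : ∃ x, x ∈ {z | z ∈ F ∧ cls z = v1} :=
    Set.nonempty_of_ncard_ne_zero (by rw [h1]; exact p1)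
  obtain ⟨X₂, hX₂⟩ : ∃ x, x ∈ {z | z ∈ F ∧ cls z = v2} :=
    Set.nonempty_of_ncard_ne_zero (by rw [h2]; exact p2)
  obtain ⟨X₃, hX₃⟩ : ∃ x, x ∈ {z | z ∈ F ∧ cls z = v3} :=
    Set.nonempty_of_ncard_ne_zero (by rw [h3]; exact p3)
  have ho1 : orb X₁ = {z | z ∈ F ∧ cls z = v1} := by rw [horb X₁ hX₁.1, hX₁.2]
  have ho2 : orb X₂ = {z | z ∈ F ∧ cls z = v2} := by rw [horb X₂ hX₂.1, hX₂.2]
  have ho3 : orb X₃ = {z | z ∈ F ∧ cls z = v3} := by rw [horb X₃ hX₃.1, hX₃.2]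
  refine ⟨X₁, hX₁.1, X₂, hX₂.1, X₃, hX₃.1, by rw [ho1, h1], by rw [ho2, h2], by rw [ho3, h3], ?_⟩
  rw [ho1, ho2, ho3]
  ext z
  simp only [Set.mem_union, Set.mem_ofPred_eq]
  constructor
  · intro hz
    rcases hvals z hz with h | h | h
    · exact Or.inl (Or.inl ⟨hz, h⟩)
    · exact Or.inl (Or.inr ⟨hz, h⟩)
    · exact Or.inr ⟨hz, h⟩
  · rintro ((h | h) | h) <;> exact h.1

theorem four_orbits {X : Type*} (F : Set X) (orb : X → Set X) (cls : X → ℕ)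
    (v1 v2 v3 v4 c1 c2 c3 c4 : ℕ)
    (horb : ∀ y ∈ F, orb y = {z | z ∈ F ∧ cls z = cls y})
    (hvals : ∀ z ∈ F, cls z = v1 ∨ cls z = v2 ∨ cls z = v3 ∨ cls z = v4)
    (h1 : {z | z ∈ F ∧ cls z = v1}.ncard = c1) (h2 : {z | z ∈ F ∧ cls z = v2}.ncard = c2)
    (h3 : {z | z ∈ F ∧ cls z = v3}.ncard = c3) (h4 : {z | z ∈ F ∧ cls z = v4}.ncard = c4)
    (p1 : c1 ≠ 0) (p2 : c2 ≠ 0) (p3 : c3 ≠ 0) (p4 : c4 ≠ 0) :
    ∃ X₁ ∈ F, ∃ X₂ ∈ F, ∃ X₃ ∈ F, ∃ X₄ ∈ F, (orb X₁).ncard = c1 ∧ (orb X₂).ncard = c2 ∧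
      (orb X₃).ncard = c3 ∧ (orb X₄).ncard = c4 ∧ F = orb X₁ ∪ orb X₂ ∪ orb X₃ ∪ orb X₄ := by
  obtain ⟨X₁, hX₁⟩ : ∃ x, x ∈ {z | z ∈ F ∧ cls z = v1} :=
    Set.nonempty_of_ncard_ne_zero (by rw [h1]; exact p1)
  obtain ⟨X₂, hX₂⟩ : ∃ x, x ∈ {z | z ∈ F ∧ cls z = v2} :=
    Set.nonempty_of_ncard_ne_zero (by rw [h2]; exact p2)
  obtain ⟨X₃, hX₃⟩ : ∃ x, x ∈ {z | z ∈ F ∧ cls z = v3} :=
    Set.nonempty_of_ncard_ne_zero (by rw [h3]; exact p3)
  obtain ⟨X₄, hX₄⟩ : ∃ x, x ∈ {z | z ∈ F ∧ cls z = v4} :=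
    Set.nonempty_of_ncard_ne_zero (by rw [h4]; exact p4)
  have ho1 : orb X₁ = {z | z ∈ F ∧ cls z = v1} := by rw [horb X₁ hX₁.1, hX₁.2]
  have ho2 : orb X₂ = {z | z ∈ F ∧ cls z = v2} := by rw [horb X₂ hX₂.1, hX₂.2]
  have ho3 : orb X₃ = {z | z ∈ F ∧ cls z = v3} := by rw [horb X₃ hX₃.1, hX₃.2]
  have ho4 : orb X₄ = {z | z ∈ F ∧ cls z = v4} := by rw [horb X₄ hX₄.1, hX₄.2]
  refine ⟨X₁, hX₁.1, X₂, hX₂.1, X₃, hX₃.1, X₄, hX₄.1, by rw [ho1, h1], by rw [ho2, h2],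
    by rw [ho3, h3], by rw [ho4, h4], ?_⟩
  rw [ho1, ho2, ho3, ho4]
  ext z
  simp only [Set.mem_union, Set.mem_ofPred_eq]
  constructor
  · intro hz
    rcases hvals z hz with h | h | h | h
    · exact Or.inl (Or.inl (Or.inl ⟨hz, h⟩))
    · exact Or.inl (Or.inl (Or.inr ⟨hz, h⟩))
    · exact Or.inl (Or.inr ⟨hz, h⟩)
    · exact Or.inr ⟨hz, h⟩
  · rintro (((h | h) | h) | h) <;> exact h.1

end Cfsg.Agent.Helper29.M24
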