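import Mathlib
import Cfsg.Agent.Lib.Helper29.M24OctObj

set_option autoImplicit false
open Cfsg

namespace Cfsg.Agent.Helper29.M24

open Cfsg.Agent.Helper27 Cfsg.Agent.Helper29
open Cfsg.Agent.S0358 (idx)
open scoped Pointwise

/-! ### The class theorems for a general invariant -/

theorem obj_main' {X : Type*} [MulAction (Equiv.Perm GolayPt) X]
    (F : Set X) (sem : ℕ → X) (obj : ℕ → ℕ) (N : ℕ)
    (valid : ℕ → Bool) (rel : ℕ → ℕ → ℕ → Bool) (inv0 : X → ℕ) (invC : ℕ → ℕ)
    (hF : ∀ z, z ∈ F ↔ ∃ i < N, valid (obj i) = true ∧ z = sem (obj i))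
    (hinj : ∀ i < N, ∀ j < N, valid (obj i) = true → valid (obj j) = true →
      sem (obj i) = sem (obj j) → i = j)
    (hinvC : ∀ i < N, valid (obj i) = true → inv0 (sem (obj i)) = invC (obj i))
    (hrel : ∀ (P : ℕ) (w : List ℕ), Repr P w → ∀ a < N, ∀ b < N, valid (obj a) = true →
      valid (obj b) = true → rel P (obj a) (obj b) = true → evalW w • sem (obj a) = sem (obj b))
    (H : Subgroup (Equiv.Perm GolayPt)) (cfgOK : ℕ → Bool)
    (hcfg : ∀ (P : ℕ) (w : List ℕ), Repr P w → cfgOK P = true → evalW w ∈ H)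
    (rep val : ℕ → ℕ) (r : ℕ) (hval : ∀ k < r, ∀ l < r, val k = val l → k = l)
    (hgens : List (ℕ × ℕ)) (tab : List (List ℕ))
    (htree : gtreeOK cfgOK rel valid rep obj hgens tab N = true)
    (hlab : (List.range N).all (fun i => strictN (obj i) fun c => !valid c ||
      (Nat.beq (invC c) (val (labOf tab i)) && decide (labOf tab i < r))) = true) :
    (∀ y ∈ F, ∀ z ∈ F, inv0 y = inv0 z → ∃ g ∈ H, g • y = z) ∧
    (∀ z ∈ F, ∃ k < r, inv0 z = val k) ∧
    (∀ k < r, {z | z ∈ F ∧ inv0 z = val k}.ncard =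
      countN (fun i => valid (obj i) && (labOf tab i == k)) N) := by
  have hl : ∀ i < N, valid (obj i) = true →
      inv0 (sem (obj i)) = val (labOf tab i) ∧ labOf tab i < r := by
    intro i hi hv
    have := List.all_eq_true.1 hlab i (List.mem_range.2 hi)
    rw [strictN_eq, hv] at this
    simp only [Bool.not_true, Bool.false_or, Bool.and_eq_true, decide_eq_true_eq] at this
    refine ⟨?_, this.2⟩
    rw [hinvC i hi hv]
    exact Nat.eq_of_beq_eq_true this.1
  refine ⟨?_, ?_, ?_⟩
  · intro y hy z hz hc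
    obtain ⟨n, hn, hvn, rfl⟩ := (hF y).1 hy
    obtain ⟨m, hm, hvm, rfl⟩ := (hF z).1 hz
    rw [(hl n hn hvn).1, (hl m hm hvm).1] at hc
    exact gtree_trans H cfgOK sem rel valid obj N hcfg hrel rep hgens tab
      htree n m hn hm hvn hvm (hval _ (hl n hn hvn).2 _ (hl m hm hvm).2 hc)
  · intro z hz
    obtain ⟨n, hn, hvn, rfl⟩ := (hF z).1 hz
    exact ⟨_, (hl n hn hvn).2, (hl n hn hvn).1⟩
  · intro k hk
    exact ncard_family F (fun i => sem (obj i)) N (fun i => valid (obj i)) hF hinj
      (fun z => inv0 z = val k) (fun i => labOf tab i == k) (by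
        intro i hi hv
        rw [(hl i hi hv).1, beq_iff_eq]
        constructor
        · intro h
          exact hval _ (hl i hi hv).2 _ hk h
        · intro h
          rw [h])

/-- the final form for a general equivariant invariant -/
theorem obj_final' {X : Type*} [MulAction (Equiv.Perm GolayPt) X]
    (Inv : Finset (Finset GolayPt) → X → ℕ)
    (hInv : ∀ (g : Equiv.Perm GolayPt) (A : Finset (Finset GolayPt)) (z : X),
      Inv (g • A) (g • z) = Inv A z)
    (F : Set X) (hFinv : ∀ g ∈ M24, ∀ z ∈ F, g • z ∈ F) (A0 : Finset (Finset GolayPt))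
    (val : ℕ → ℕ) (r : ℕ) (cnt : ℕ → ℕ)
    (hbase : (∀ y ∈ F, ∀ z ∈ F, Inv A0 y = Inv A0 z → ∃ g ∈ famStab A0, g • y = z) ∧
    (∀ z ∈ F, ∃ k < r, Inv A0 z = val k) ∧
    (∀ k < r, {z | z ∈ F ∧ Inv A0 z = val k}.ncard = cnt k))
    (g0 : Equiv.Perm GolayPt) (hg0 : g0 ∈ M24) :
    (∀ z ∈ F, ∃ k < r, Inv (g0 • A0) z = val k) ∧
    (∀ k < r, {z | z ∈ F ∧ Inv (g0 • A0) z = val k}.ncard = cnt k) ∧
    (∀ y ∈ F, ∀ z ∈ F, Inv (g0 • A0) y = Inv (g0 • A0) z →
      ∃ g ∈ M24, g • (g0 • A0) = g0 • A0 ∧ g • y = z) := by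
  obtain ⟨h1, h2, h3⟩ := hbase
  have hi : g0⁻¹ ∈ M24 := Subgroup.inv_mem _ hg0
  have hshift : ∀ z, Inv (g0 • A0) z = Inv A0 (g0⁻¹ • z) := by
    intro z
    conv_lhs => rw [← smul_inv_smul g0 z]
    exact hInv g0 A0 _
  refine ⟨?_, ?_, ?_⟩
  · intro z hz
    obtain ⟨k, hk, e⟩ := h2 _ (hFinv _ hi z hz)
    exact ⟨k, hk, by rw [hshift]; exact e⟩
  · intro k hk
    rw [← h3 k hk]
    have himg : {z | z ∈ F ∧ Inv (g0 • A0) z = val k} =
        (fun z => g0 • z) '' {z | z ∈ F ∧ Inv A0 z = val k} := by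
      ext z
      simp only [Set.mem_ofPred_eq, Set.mem_image]
      constructor
      · rintro ⟨hz, hc⟩
        exact ⟨g0⁻¹ • z, ⟨hFinv _ hi z hz, by rw [← hshift]; exact hc⟩, smul_inv_smul g0 z⟩
      · rintro ⟨z0, ⟨hz0, hc⟩, rfl⟩
        exact ⟨hFinv _ hg0 z0 hz0, by rw [hInv]; exact hc⟩
    rw [himg]
    exact Set.ncard_image_of_injective _ (MulAction.injective g0)
  · intro y hy z hz hc
    rw [hshift, hshift] at hc
    exact fam_transport A0 g0 hg0 y z (h1 _ (hFinv _ hi y hy) _ (hFinv _ hi z hz) hc)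

/-! ### The number of members of a family meeting the members of another -/

/-- the number of pairs of members of two families with nonempty intersection -/
def meetInv (A z : Finset (Finset GolayPt)) : ℕ :=
  ∑ a ∈ A, (z.filter fun t => (t ∩ a).Nonempty).card

theorem meetInv_smul (g : Equiv.Perm GolayPt) (A z : Finset (Finset GolayPt)) :
    meetInv (g • A) (g • z) = meetInv A z := by
  unfold meetInv
  have hA : g • A = A.image (fun a => g • a) := rfl
  rw [hA, Finset.sum_image (fun x _ y _ h => MulAction.injective g h)]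
  apply Finset.sum_congr rfl
  intro a _
  have hz : g • z = z.image (fun t => g • t) := rfl
  rw [hz, Finset.filter_image, Finset.card_image_of_injective _ (MulAction.injective g)]
  congr 1
  apply Finset.filter_congr
  intro t _
  rw [← Finset.smul_finset_inter, Finset.smul_finset_nonempty]

/-- the invariant on lists of masks -/
def meetL (Y : ℕ) (L : List ℕ) : ℕ := (L.filter fun m => !(Nat.beq (Nat.land m Y) 0)).length

theorem card_filter_toFinset {α : Type*} [DecidableEq α] (l : List α) (hl : l.Nodup)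
    (q : α → Prop) [DecidablePred q] :
    (l.toFinset.filter q).card = (l.filter (fun x => decide (q x))).length := by
  rw [← List.toFinset_card_of_nodup (hl.filter _), List.toFinset_filter]
  congr 1
  ext x
  simp

theorem meetInv_famSet (Y : ℕ) (hY : Y < 2 ^ 24) (L : List ℕ) (hL : L.Pairwise (· < ·))
    (h24 : ∀ m ∈ L, m < 2 ^ 24) : meetInv (famSet [Y]) (famSet L) = meetL Y L := by
  unfold meetInv meetL
  rw [famSet_single, Finset.sum_singleton]
  unfold famSet
  rw [card_filter_toFinset _ (nodup_map_maskSet L hL h24), List.filter_map, List.length_map]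
  congr 1
  apply List.filter_congr
  intro m hm
  rw [Function.comp_apply, ← maskSet_and]
  have hlt : m &&& Y < 2 ^ 24 := lt_of_le_of_lt Nat.and_le_right hY
  by_cases h0 : m &&& Y = 0
  · have hb : Nat.beq (Nat.land m Y) 0 = true := by
      show Nat.beq (m &&& Y) 0 = true
      rw [h0]; rfl
    rw [hb, h0, maskSet_zero]
    simp
  · have hb : Nat.beq (Nat.land m Y) 0 = false := by
      rw [Bool.eq_false_iff]
      intro h
      exact h0 (Nat.eq_of_beq_eq_true h)
    rw [hb]
    simp only [Bool.not_false, decide_eq_true_eq]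
    rw [← Finset.card_pos, card_maskSet]
    by_contra hcon
    have : pop24 (m &&& Y) = 0 := by omega
    rw [← card_maskSet, Finset.card_eq_zero] at this
    exact h0 (maskSet_inj hlt (by norm_num) (by rw [this, maskSet_zero]))

end Cfsg.Agent.Helper29.M24
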