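import Mathlib
import Cfsg.Agent.Lib.Helper29.M24TrioTab
import Cfsg.Agent.Lib.Helper29.M24Orbits

set_option autoImplicit false
open Cfsg

namespace Cfsg.Agent.Helper29.M24

open Cfsg.Agent.Helper27 Cfsg.Agent.Helper29
open Cfsg.Agent.S0358 (idx)
open scoped Pointwise

/-! ### Trios as objects: completeness and injectivity of the table -/

theorem mem_octMasks_of_octad (o : Finset GolayPt) (ho : o ∈ octads) :
    ∃ m ∈ octMasks, o = maskSet m := by
  obtain ⟨n, hn, h8, rfl⟩ := (mem_octads_iff' o).1 ho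
  refine ⟨cw n, ?_, rfl⟩
  rw [octMasks_eq, List.mem_filter, List.mem_map]
  refine ⟨⟨n, List.mem_range.2 hn, cwF_eq n⟩, ?_⟩
  rw [popF_eq, h8]
  rfl

theorem octMasks_lt : ∀ m ∈ octMasks, m < 2 ^ 24 := by
  intro m hm
  rw [octMasks_eq, List.mem_filter, List.mem_map] at hm
  obtain ⟨⟨n, -, rfl⟩, -⟩ := hm
  rw [cwF_eq]
  exact cw_lt n

theorem eq_zero_of_pop24 (x : ℕ) (hx : x < 2 ^ 24) (h : pop24 x = 0) : x = 0 := by
  apply maskSet_inj hx (by norm_num)
  rw [maskSet_zero, ← Finset.card_eq_zero, card_maskSet, h]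

theorem exists_trioAt (T : Finset (Finset GolayPt)) (hT : T ∈ trios) :
    ∃ i < 3795, T = semT (trioAt i) := by
  obtain ⟨o1, ho1, h23⟩ := trio_cover T hT (dec 23)
  have hex : ∃ o2 ∈ T, o2 ≠ o1 := by
    by_contra hcon
    push Not at hcon
    have : T ⊆ {o1} := fun x hx => Finset.mem_singleton.2 (hcon x hx)
    have := Finset.card_le_card this
    rw [hT.1, Finset.card_singleton] at this
    omega
  obtain ⟨o2, ho2, hne⟩ := hex
  obtain ⟨m1, hm1, rfl⟩ := mem_octMasks_of_octad o1 (hT.2.1 o1 ho1)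
  obtain ⟨m2, hm2, rfl⟩ := mem_octMasks_of_octad o2 (hT.2.1 o2 ho2)
  have hd := hT.2.2 _ ho1 _ ho2 hne.symm
  -- the first octad is in the list of the octads through the last point
  have hb : m1.testBit 23 = true := (mem_maskSet_idx m1 23 (by norm_num)).1 h23
  have h1 := List.all_eq_true.1 oct23_complete m1 hm1
  have hbF : Nat.beq (bitF m1 23) 1 = true := by
    rw [bitF_eq, hb]
    rfl
  rw [hbF] at h1
  simp only [Bool.not_true, Bool.false_or, List.contains_iff_mem] at h1
  obtain ⟨j, hj, ej⟩ := List.getElem_of_mem h1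
  rw [oct23_length] at hj
  -- the row of the table
  have hrow := List.all_eq_true.1 rows_ok j (List.mem_range.2 hj)
  rw [strictN_eq, strictL_eq, List.getD_eq_getElem _ _ (by rw [oct23_length]; exact hj), ej] at hrow
  have h2 := List.all_eq_true.1 hrow m2 hm2
  have hland : Nat.beq (Nat.land m1 m2) 0 = true := by
    have : m1 &&& m2 = 0 := eq_zero_of_pop24 _
      (lt_of_le_of_lt Nat.and_le_left (octMasks_lt m1 hm1)) ((disjoint_maskSet_iff m1 m2).1 hd)
    show Nat.beq (m1 &&& m2) 0 = true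
    rw [this]
    rfl
  rw [hland] at h2
  simp only [Bool.not_true, Bool.false_or, List.any_eq_true, List.mem_map, List.mem_range] at h2
  obtain ⟨e, ⟨c, hc, rfl⟩, htwo⟩ := h2
  unfold hasTwo at htwo
  rw [Bool.and_eq_true, List.contains_iff_mem, List.contains_iff_mem] at htwo
  have hi : 15 * j + c < 3795 := by omega
  refine ⟨15 * j + c, hi, ?_⟩
  have hv := trioP_spec _ (trio_valid _ hi)
  have hne' : maskSet m1 ≠ maskSet m2 := hne.symm
  exact trio_ext T _ hT hv.2.1 (maskSet m1) (maskSet m2) hne' ho1 ho2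
    ((mem_famSet _ _).2 ⟨m1, htwo.1, rfl⟩) ((mem_famSet _ _).2 ⟨m2, htwo.2, rfl⟩)

theorem unpackF_three_inj (c c' : ℕ) (hc : c < 2 ^ 72) (hc' : c' < 2 ^ 72)
    (h : unpackF 3 c = unpackF 3 c') : c = c' := by
  rw [unpackF_three, unpackF_three] at h
  simp only [List.cons.injEq, and_true] at h
  obtain ⟨h1, h2, h3⟩ := h
  change c % 16777216 = c' % 16777216 at h1
  change c / 16777216 % 16777216 = c' / 16777216 % 16777216 at h2
  change c / 16777216 / 16777216 % 16777216 = c' / 16777216 / 16777216 % 16777216 at h3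
  omega

theorem trioAt_inj (i j : ℕ) (hi : i < 3795) (hj : j < 3795)
    (h : semT (trioAt i) = semT (trioAt j)) : i = j := by
  obtain ⟨si, -, li⟩ := trioP_spec _ (trio_valid i hi)
  obtain ⟨sj, -, lj⟩ := trioP_spec _ (trio_valid j hj)
  have hu := famSet_inj _ _ si sj (unpackF_lt 3 _) (unpackF_lt 3 _) h
  have hc := unpackF_three_inj _ _ li lj hu
  by_contra hne
  rcases Nat.lt_or_gt_of_ne hne with hlt | hlt
  · exact absurd hc (ne_of_lt (trioAt_lt hlt hj))
  · exact absurd hc.symm (ne_of_lt (trioAt_lt hlt hi))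

/-- the trios are the families with the codes of the table -/
theorem mem_trios_iff_at (T : Finset (Finset GolayPt)) :
    T ∈ trios ↔ ∃ i < 3795, (fun _ : ℕ => true) (trioAt i) = true ∧ T = semT (trioAt i) := by
  constructor
  · intro hT
    obtain ⟨i, hi, e⟩ := exists_trioAt T hT
    exact ⟨i, hi, rfl, e⟩
  · rintro ⟨i, hi, -, rfl⟩
    exact (trioP_spec _ (trio_valid i hi)).2.1

theorem trio_hinj : ∀ i < 3795, ∀ j < 3795, (fun _ : ℕ => true) (trioAt i) = true →
    (fun _ : ℕ => true) (trioAt j) = true → semT (trioAt i) = semT (trioAt j) → i = j :=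
  fun i hi j hj _ _ h => trioAt_inj i j hi hj h

theorem trio_hmsk : ∀ i < 3795, (fun _ : ℕ => true) (trioAt i) = true →
    id (semT (trioAt i)) = famSet (unpackF 3 (trioAt i)) ∧
      (unpackF 3 (trioAt i)).Pairwise (· < ·) ∧ ∀ m ∈ unpackF 3 (trioAt i), m < 2 ^ 24 :=
  fun i hi _ => ⟨rfl, (trioP_spec _ (trio_valid i hi)).1, unpackF_lt 3 _⟩

theorem relT_at (P : ℕ) (w : List ℕ) (hr : Repr P w) (a : ℕ) (_ : a < 3795) (b : ℕ)
    (_ : b < 3795) (_ : (fun _ : ℕ => true) (trioAt a) = true)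
    (_ : (fun _ : ℕ => true) (trioAt b) = true)
    (h : relF 3 P (trioAt a) (trioAt b) = true) :
    evalW w • semT (trioAt a) = semT (trioAt b) :=
  relF_spec 3 P w hr.1 hr.2 _ _ h

theorem smul_mem_trios' : ∀ g ∈ M24, ∀ z ∈ trios, g • z ∈ trios :=
  fun _ hg _ hz => smul_mem_trios hg hz

/-- the masks of the base trio -/
def trioL0 : List ℕ := [2702848, 5538256, 8536111]

/-- the code of the base trio -/
def trioC0 : ℕ := 2402701737841094376960

theorem trioC0_unpack : unpackF 3 trioC0 = trioL0 := by decide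

theorem trioL0_sorted : trioL0.Pairwise (· < ·) := by decide

theorem trioL0_lt : ∀ m ∈ trioL0, m < 2 ^ 24 := by decide

theorem trio0_eq : trio0 = famSet trioL0 := by
  have h3 : (oct0 ∪ maskSet octB)ᶜ = maskSet 5538256 := by
    rw [oct0_eq]
    ext x
    rw [Finset.mem_compl, Finset.mem_union, mem_maskSet, mem_maskSet, mem_maskSet]
    revert x
    decide
  unfold trio0 famSet trioL0
  rw [h3, oct0_eq]
  ext s
  simp only [Finset.mem_insert, Finset.mem_singleton, List.map_cons, List.map_nil,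
    List.toFinset_cons, List.toFinset_nil, insert_empty_eq]
  unfold octB
  tauto

theorem exists_map_trio' (T : Finset (Finset GolayPt)) (hT : T ∈ trios) :
    ∃ g0 ∈ M24, T = g0 • famSet trioL0 := by
  obtain ⟨g0, hg0, e⟩ := exists_map_trio T hT
  exact ⟨g0, hg0, by rw [e, trio0_eq]⟩

theorem trio_hcfg (P : ℕ) (w : List ℕ) (hr : Repr P w) (h : relF 3 P trioC0 trioC0 = true) :
    evalW w ∈ famStab (famSet trioL0) := by
  have := famStab_cfg 3 trioC0 P w hr h
  rwa [trioC0_unpack] at this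

end Cfsg.Agent.Helper29.M24
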