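import Mathlib
import Cfsg.Agent.Lib.Helper29.M24Orbits2
import Cfsg.Agent.Lib.Helper29.M24TrioObj
import Cfsg.Agent.Lib.Helper29.M24Classes

set_option autoImplicit false
open Cfsg

namespace Cfsg.Agent.Helper29.M24

open Cfsg.Agent.Helper27 Cfsg.Agent.Helper29
open Cfsg.Agent.S0358 (idx)
open scoped Pointwise

/-! ### Counting the objects fixed by an element -/

theorem testBit_imgP_lt (P : ℕ) (w : List ℕ) (hr : Repr P w) (m : ℕ) : imgP P m < 2 ^ 24 := by
  apply Nat.lt_pow_two_of_testBit
  intro y hy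
  by_contra hcon
  rw [Bool.not_eq_false] at hcon
  unfold imgP at hcon
  obtain ⟨x, hx, -, e⟩ := (testBit_imgAux P m 24 y).1 hcon
  have h1 : appW w x = idx (evalW w (dec x)) := by
    have hd : idx (dec x) = x := idx_dec ⟨x, hx⟩
    rw [idx_evalW _ hr.1, hd]
  have := M24.idx_lt (evalW w (dec x))
  rw [← h1, ← hr.2 x hx, e] at this
  omega

theorem relO_iff (P : ℕ) (w : List ℕ) (hr : Repr P w) (a b : ℕ) (hb : b < 2 ^ 24) :
    evalW w • maskSet a = maskSet b ↔ relO P a b = true := by
  constructor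
  · intro h
    rw [maskSet_imgP P w hr.1 hr.2] at h
    unfold relO
    rw [maskSet_inj (testBit_imgP_lt P w hr a) hb h]
    exact Nat.beq_refl _
  · exact relO_spec P w hr a b

theorem relF_iff (k P : ℕ) (w : List ℕ) (hr : Repr P w) (a : ℕ) :
    evalW w • famSet (unpackF k a) = famSet (unpackF k a) ↔ relF k P a a = true := by
  constructor
  · intro h
    unfold relF
    simp only [Bool.and_eq_true, List.all_eq_true, List.any_eq_true, List.contains_iff_mem,
      beq_iff_eq]
    constructor
    · intro m hm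
      have : evalW w • maskSet m ∈ famSet (unpackF k a) := by
        rw [← h]
        exact Finset.smul_mem_smul_finset ((mem_famSet _ _).2 ⟨m, hm, rfl⟩)
      obtain ⟨m', hm', e⟩ := (mem_famSet _ _).1 this
      rw [maskSet_imgP P w hr.1 hr.2] at e
      rw [← maskSet_inj (unpackF_lt k a m' hm') (testBit_imgP_lt P w hr m) e]
      exact hm'
    · intro m' hm'
      have : maskSet m' ∈ evalW w • famSet (unpackF k a) := by
        rw [h]
        exact (mem_famSet _ _).2 ⟨m', hm', rfl⟩
      obtain ⟨s, hs, e⟩ := Finset.mem_smul_finset.1 this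
      obtain ⟨m, hm, rfl⟩ := (mem_famSet _ _).1 hs
      rw [maskSet_imgP P w hr.1 hr.2] at e
      exact ⟨m, hm, maskSet_inj (testBit_imgP_lt P w hr m) (unpackF_lt k a m' hm') e⟩
  · exact relF_spec k P w hr.1 hr.2 a a

set_option maxRecDepth 100000 in
theorem isCW_all : (List.range 4096).all (fun n => isCW (cwF n)) = true := by decide +kernel

theorem isCW_complete (m : ℕ) (hm : m < 2 ^ 24) (h : inCode (maskSet m)) : isCW m = true := by
  obtain ⟨n, hn, e⟩ := (inCode_iff _).1 h
  have := maskSet_inj hm (cw_lt n) e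
  rw [this, ← cwF_eq]
  exact List.all_eq_true.1 isCW_all n (List.mem_range.2 hn)

theorem inCode_of_sextetOf_eq (t t' : Finset GolayPt) (ht' : t'.card = 4)
    (h : sextetOf t = sextetOf t') : inCode (symmDiff t t') := by
  have := self_mem_sextetOf t' ht'
  rw [← h, mem_sextetOf] at this
  exact this.2

theorem relS_iff (P : ℕ) (w : List ℕ) (hr : Repr P w) (a : ℕ) (ha : sextetP a = true) :
    evalW w • semS a = semS a ↔ relS P a a = true := by
  constructor
  · intro h
    obtain ⟨-, hpop, ea, -⟩ := sextetP_spec a ha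
    rw [ea, smul_sextetOf (evalW_mem_M24 w hr.1), maskSet_imgP P w hr.1 hr.2] at h
    have h4 : (maskSet (hd24 a)).card = 4 := by
      rw [card_maskSet]
      exact hpop _ (by rw [unpackF_six]; exact List.mem_cons_self)
    have := inCode_of_sextetOf_eq _ _ h4 h
    rw [← maskSet_xor] at this
    unfold relS
    apply isCW_complete _ _ this
    exact Nat.xor_lt_two_pow (testBit_imgP_lt P w hr _) (Nat.mod_lt _ (by norm_num))
  · exact relS_spec P w hr a a ha ha

/-- the number of objects fixed by a conjugate -/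
theorem ncard_fixed_conj {X : Type*} [MulAction (Equiv.Perm GolayPt) X] (F : Set X)
    (hF : ∀ g ∈ M24, ∀ z ∈ F, g • z ∈ F) (k z : Equiv.Perm GolayPt) (hk : k ∈ M24) :
    {x | x ∈ F ∧ (k * z * k⁻¹) • x = x}.ncard = {x | x ∈ F ∧ z • x = x}.ncard := by
  have hi : k⁻¹ ∈ M24 := Subgroup.inv_mem _ hk
  have himg : {x | x ∈ F ∧ (k * z * k⁻¹) • x = x} =
      (fun x => k • x) '' {x | x ∈ F ∧ z • x = x} := by
    ext x
    simp only [Set.mem_ofPred_eq, Set.mem_image]
    constructor
    · rintro ⟨hx, hfix⟩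
      refine ⟨k⁻¹ • x, ⟨hF _ hi x hx, ?_⟩, smul_inv_smul k x⟩
      rw [mul_smul, mul_smul] at hfix
      have := congrArg (fun y => k⁻¹ • y) hfix
      simpa only [inv_smul_smul] using this
    · rintro ⟨x0, ⟨hx0, hfix⟩, rfl⟩
      refine ⟨hF _ hk x0 hx0, ?_⟩
      rw [mul_smul, mul_smul, inv_smul_smul, hfix]
  rw [himg]
  exact Set.ncard_image_of_injective _ (MulAction.injective k)

/-- the number of enumerated objects fixed by a word -/
theorem ncard_fixed {X : Type*} [MulAction (Equiv.Perm GolayPt) X] (F : Set X) (sem : ℕ → X)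
    (obj : ℕ → ℕ) (N : ℕ) (valid : ℕ → Bool) (rel : ℕ → ℕ → ℕ → Bool)
    (hF : ∀ z, z ∈ F ↔ ∃ i < N, valid (obj i) = true ∧ z = sem (obj i))
    (hinj : ∀ i < N, ∀ j < N, valid (obj i) = true → valid (obj j) = true →
      sem (obj i) = sem (obj j) → i = j)
    (P : ℕ) (w : List ℕ)
    (hiff : ∀ i < N, valid (obj i) = true →
      (evalW w • sem (obj i) = sem (obj i) ↔ rel P (obj i) (obj i) = true)) :
    {x | x ∈ F ∧ evalW w • x = x}.ncard =
      countN (fun i => valid (obj i) && rel P (obj i) (obj i)) N :=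
  ncard_family F (fun i => sem (obj i)) N (fun i => valid (obj i)) hF hinj
    (fun x => evalW w • x = x) (fun i => rel P (obj i) (obj i)) hiff

/-! ### Packed forms of the class representatives -/

def pzA : ℕ := 28854523491105362182008475499005015
def pzB : ℕ := 6948319157996677191034997895726167
def pz3A : ℕ := 11862185427577793098508089141268193
def pz3B : ℕ := 5944306344741283200966601599160033

theorem repr_zA : Repr pzA zA := ⟨zA_lt, by decide +kernel⟩
theorem repr_zB : Repr pzB zB := ⟨zB_lt, by decide +kernel⟩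
theorem repr_z3A : Repr pz3A z3A := ⟨z3A_lt, by decide +kernel⟩
theorem repr_z3B : Repr pz3B z3B := ⟨z3B_lt, by decide +kernel⟩

/-! ### Fixed objects of each kind -/

theorem ncard_fixed_octads (P : ℕ) (w : List ℕ) (hr : Repr P w) :
    {x | x ∈ octads ∧ evalW w • x = x}.ncard =
      countN (fun i => octP (cwF i) && relO P (cwF i) (cwF i)) 4096 :=
  ncard_fixed octads maskSet cwF 4096 octP relO mem_octads_iff_at oct_hinj P w
    (fun i _ _ => relO_iff P w hr _ _ (by rw [cwF_eq]; exact cw_lt i))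

theorem ncard_fixed_trios (P : ℕ) (w : List ℕ) (hr : Repr P w) :
    {x | x ∈ trios ∧ evalW w • x = x}.ncard =
      countN (fun i => (fun _ : ℕ => true) (trioAt i) && relF 3 P (trioAt i) (trioAt i)) 3795 :=
  ncard_fixed trios semT trioAt 3795 (fun _ => true) (relF 3) mem_trios_iff_at trio_hinj P w
    (fun _ _ _ => relF_iff 3 P w hr _)

theorem ncard_fixed_sextets (P : ℕ) (w : List ℕ) (hr : Repr P w) :
    {x | x ∈ sextets ∧ evalW w • x = x}.ncard =
      countN (fun i => (sextetAt i != 0) && relS P (sextetAt i) (sextetAt i)) 2024 :=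
  ncard_fixed sextets semS sextetAt 2024 (fun c => c != 0) relS mem_sextets_iff_at sextet_hinj
    P w (fun i hi hv => relS_iff P w hr _ (sextet_valid i hi (by simpa using hv)).2.1)

/-- validity of a dodecad code -/
def dodP (c : ℕ) : Bool := Nat.beq (popF c) 12

theorem mem_dodecads_iff_at (z : Finset GolayPt) :
    z ∈ dodecads ↔ ∃ i < 4096, dodP (cwF i) = true ∧ z = maskSet (cwF i) := by
  rw [mem_dodecads_iff]
  constructor
  · rintro ⟨n, hn, h8, rfl⟩
    refine ⟨n, hn, ?_, by rw [cwF_eq]⟩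
    unfold dodP
    rw [popF_eq, cwF_eq, h8]
    rfl
  · rintro ⟨n, hn, h8, rfl⟩
    refine ⟨n, hn, ?_, by rw [cwF_eq]⟩
    unfold dodP at h8
    have := Nat.eq_of_beq_eq_true h8
    rwa [popF_eq, cwF_eq] at this

theorem dod_hinj : ∀ i < 4096, ∀ j < 4096, dodP (cwF i) = true → dodP (cwF j) = true →
    maskSet (cwF i) = maskSet (cwF j) → i = j := by
  intro i hi j hj _ _ h
  rw [cwF_eq, cwF_eq] at h
  exact maskSet_cw_inj hi hj h

theorem ncard_fixed_dodecads (P : ℕ) (w : List ℕ) (hr : Repr P w) :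
    {x | x ∈ dodecads ∧ evalW w • x = x}.ncard =
      countN (fun i => dodP (cwF i) && relO P (cwF i) (cwF i)) 4096 :=
  ncard_fixed dodecads maskSet cwF 4096 dodP relO mem_dodecads_iff_at dod_hinj P w
    (fun i _ _ => relO_iff P w hr _ _ (by rw [cwF_eq]; exact cw_lt i))

theorem smul_mem_dodecads' : ∀ g ∈ M24, ∀ z ∈ dodecads, g • z ∈ dodecads :=
  fun _ hg _ hz => smul_mem_dodecads hg hz

end Cfsg.Agent.Helper29.M24
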