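import Mathlib

set_option autoImplicit false

namespace Cfsg.Agent.Helper29

open scoped Pointwise

/-- one step of a stabilizer chain: the order of a permutation group is the size of the orbit
of a point times the order of the stabilizer of the point -/
theorem card_chain_step {α : Type*} [DecidableEq α] (H : Subgroup (Equiv.Perm α)) (p : α)
    (O : Finset α) (h1 : ∀ g ∈ H, g p ∈ O) (h2 : ∀ q ∈ O, ∃ g ∈ H, g p = q) :
    Nat.card H = O.card * Nat.card ↥(H ⊓ MulAction.stabilizer (Equiv.Perm α) p) := by
  have horb : MulAction.orbit H p = (O : Set α) := by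
    ext q
    constructor
    · rintro ⟨g, rfl⟩
      exact Finset.mem_coe.2 (h1 g.1 g.2)
    · intro hq
      obtain ⟨g, hg, e⟩ := h2 q (Finset.mem_coe.1 hq)
      exact ⟨⟨g, hg⟩, e⟩
  have hprod : Nat.card (MulAction.orbit H p) * Nat.card (MulAction.stabilizer H p) =
      Nat.card H := by
    rw [← Nat.card_prod, Nat.card_congr (MulAction.orbitProdStabilizerEquivGroup H p)]
  have hmap : (MulAction.stabilizer H p).map H.subtype =
      H ⊓ MulAction.stabilizer (Equiv.Perm α) p := by
    ext g
    rw [Subgroup.mem_map, Subgroup.mem_inf]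
    constructor
    · rintro ⟨h, hh, rfl⟩
      exact ⟨h.2, hh⟩
    · rintro ⟨hg1, hg2⟩
      exact ⟨⟨g, hg1⟩, hg2, rfl⟩
  rw [horb, Nat.card_coe_set_eq, Set.ncard_coe_finset] at hprod
  rw [← hmap, Subgroup.card_subtype, hprod]

end Cfsg.Agent.Helper29
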