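import Mathlib
import Cfsg.Agent.Lib.Helper29.M24Fixed
import Cfsg.Agent.Lib.Helper29.PermChain

set_option autoImplicit false
open Cfsg

namespace Cfsg.Agent.Helper29.CentB

open Cfsg.Agent.Helper27 Cfsg.Agent.Helper29 Cfsg.Agent.Helper29.M24
open Cfsg.Agent.S0358 (idx)
open scoped Pointwise

def hgensA : List (ℕ × ℕ) := [
  (925059206590633930770843965252492293, 58872163715754855830034),
  (510914361583241163830832974351444454, 13674739651033401760052185010465),
  (730479009504553699087460126189435312, 3845534606652570398544623366705715),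
  (797648519373846664567631415344172168, 875858710419563051295025),
  (444599436412006086128359928875030927, 3587522609136470013262246163),
  (70551868460956191139339047512584386, 59168320428212860687137)]

set_option maxRecDepth 100000 in
def treeTabA : List (List ℕ) := [
  [0, 1064973, 565249, 1048609, 1089549, 524289, 532481, 1064971, 548865, 1073185, 1089569, 1064993, 1073163, 1597455, 1056781, 557057, 540673, 1597481, 1048589, 1048587, 1056779, 1056785, 1073165, 1048581, 0, 0, 0, 0, 0, 0, 0, 0, 0, 0, 0, 0, 0, 0, 0, 0, 0, 0, 0, 0, 0, 0, 0, 0, 0, 0, 0, 0, 0, 0, 0, 0, 0, 0, 0, 0, 0, 0, 0, 0]]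

def hgensB : List (ℕ × ℕ) := [
  (976534742141980675747808528085718720, 11806183871811),
  (963639594658936384557607707346111616, 41195759155),
  (969725181322543250531181531827220672, 208462553638468),
  (967418136530817045743449628064758176, 208389771965252),
  (970235297363219845237275455368775168, 14128149443395),
  (965871960790500520833015653324239040, 737886430788)]

set_option maxRecDepth 100000 in
def treeTabB : List (List ℕ) := [
  [0, 0, 1081353, 1048603, 532483, 1089545, 540675, 1056795, 1089581, 1073197, 0, 1065005, 1048589, 548867, 1056801, 0, 557059, 1064973, 1073185, 1064987, 1572887, 1089563, 524291, 0, 0, 0, 0, 0, 0, 0, 0, 0, 0, 0, 0, 0, 0, 0, 0, 0, 0, 0, 0, 0, 0, 0, 0, 0, 0, 0, 0, 0, 0, 0, 0, 0, 0, 0, 0, 0, 0, 0, 0, 0]]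

def hgensC : List (ℕ × ℕ) := [
  (980706654503848510747040395492198432, 180131719),
  (965373495380530218107589411246278688, 12163192),
  (970362584295790961460591488657492000, 710520),
  (962223308431878189186809386174122016, 891255),
  (978205905600333181674125866675111968, 216),
  (971174305872432165892477193539913760, 811104438135)]

set_option maxRecDepth 100000 in
def treeTabC : List (List ℕ) := [
  [0, 0, 0, 0, 548871, 1048601, 1048585, 540679, 1089545, 0, 0, 532487, 524295, 557063, 1064975, 0, 1089561, 1056793, 1064969, 565255, 0, 1056777, 1064985, 0, 0, 0, 0, 0, 0, 0, 0, 0, 0, 0, 0, 0, 0, 0, 0, 0, 0, 0, 0, 0, 0, 0, 0, 0, 0, 0, 0, 0, 0, 0, 0, 0, 0, 0, 0, 0, 0, 0, 0, 0]]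

/-! ### The centralizer of the fixed-point-free involution -/

/-- the standard fixed-point-free involution -/
def zz : Equiv.Perm GolayPt := evalW zB

/-- its centralizer in the group of the code -/
def CB : Subgroup (Equiv.Perm GolayPt) := M24 ⊓ Subgroup.centralizer {zz}

theorem mem_CB (c : Equiv.Perm GolayPt) : c ∈ CB ↔ c ∈ M24 ∧ c * zz = zz * c := by
  unfold CB
  rw [Subgroup.mem_inf, Subgroup.mem_centralizer_iff]
  apply and_congr Iff.rfl
  constructor
  · intro h
    exact (h zz rfl).symm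
  · intro h y hy
    rw [Set.mem_singleton_iff.1 hy]
    exact h.symm

/-- a packed permutation commutes with the involution -/
def commB (P : ℕ) : Bool := (List.range 24).all fun x => app P (app pzB x) == app pzB (app P x)

theorem app_lt_of_repr (P : ℕ) (w : List ℕ) (hr : Repr P w) (x : ℕ) (hx : x < 24) :
    app P x < 24 := by
  have hd : idx (dec x) = x := idx_dec ⟨x, hx⟩
  have h1 : appW w x = idx (evalW w (dec x)) := by rw [idx_evalW _ hr.1, hd]
  rw [hr.2 x hx, h1]
  exact M24.idx_lt _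

theorem commB_spec (P : ℕ) (w : List ℕ) (hr : Repr P w) (h : commB P = true) :
    evalW w * zz = zz * evalW w := by
  unfold commB at h
  rw [List.all_eq_true] at h
  ext1 p
  apply M24.idx_injective
  unfold zz
  rw [Equiv.Perm.mul_apply, Equiv.Perm.mul_apply, idx_evalW _ hr.1, idx_evalW _ zB_lt,
    idx_evalW _ zB_lt, idx_evalW _ hr.1]
  have hx := M24.idx_lt p
  have h1 := h (idx p) (List.mem_range.2 hx)
  rw [beq_iff_eq] at h1
  rw [← repr_zB.2 _ hx, ← hr.2 _ (app_lt_of_repr pzB zB repr_zB _ hx), h1, hr.2 _ hx,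
    repr_zB.2 _ (by rw [← hr.2 _ hx]; exact app_lt_of_repr P w hr _ hx)]

/-- points as objects -/
def relPt (P a b : ℕ) : Bool := Nat.beq (app P a) b

theorem relPt_spec (P : ℕ) (w : List ℕ) (hr : Repr P w) (a : ℕ) (ha : a < 24) (b : ℕ)
    (h : relPt P a b = true) : evalW w • dec a = dec b := by
  have hd : idx (dec a) = a := idx_dec ⟨a, ha⟩
  have e : app P a = b := Nat.eq_of_beq_eq_true h
  rw [Equiv.Perm.smul_def, ← e, hr.2 a ha]
  conv_rhs => rw [← hd, ← idx_evalW _ hr.1, dec_idx]

theorem hrelPt (valid : ℕ → Bool) (P : ℕ) (w : List ℕ) (hr : Repr P w) (a : ℕ) (ha : a < 24)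
    (b : ℕ) (_ : b < 24) (_ : valid ((fun i : ℕ => i) a) = true)
    (_ : valid ((fun i : ℕ => i) b) = true)
    (h : relPt P ((fun i : ℕ => i) a) ((fun i : ℕ => i) b) = true) :
    evalW w • dec ((fun i : ℕ => i) a) = dec ((fun i : ℕ => i) b) :=
  relPt_spec P w hr a ha b h

/-- the stabilizers of the base points in the centralizer -/
def C0 : Subgroup (Equiv.Perm GolayPt) := CB ⊓ MulAction.stabilizer (Equiv.Perm GolayPt) (dec 0)

def C01 : Subgroup (Equiv.Perm GolayPt) := C0 ⊓ MulAction.stabilizer (Equiv.Perm GolayPt) (dec 1)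

def C013 : Subgroup (Equiv.Perm GolayPt) :=
  C01 ⊓ MulAction.stabilizer (Equiv.Perm GolayPt) (dec 3)

theorem mem_C0 (c : Equiv.Perm GolayPt) : c ∈ C0 ↔ c ∈ CB ∧ c (dec 0) = dec 0 := by
  unfold C0
  rw [Subgroup.mem_inf]
  exact and_congr Iff.rfl MulAction.mem_stabilizer_iff

theorem mem_C01 (c : Equiv.Perm GolayPt) : c ∈ C01 ↔ c ∈ C0 ∧ c (dec 1) = dec 1 := by
  unfold C01
  rw [Subgroup.mem_inf]
  exact and_congr Iff.rfl MulAction.mem_stabilizer_iff

theorem mem_C013 (c : Equiv.Perm GolayPt) : c ∈ C013 ↔ c ∈ C01 ∧ c (dec 3) = dec 3 := by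
  unfold C013
  rw [Subgroup.mem_inf]
  exact and_congr Iff.rfl MulAction.mem_stabilizer_iff

theorem fix_of_app (P : ℕ) (w : List ℕ) (hr : Repr P w) (a : ℕ) (ha : a < 24)
    (h : Nat.beq (app P a) a = true) : evalW w (dec a) = dec a :=
  relPt_spec P w hr a ha a h

theorem hcfgA (P : ℕ) (w : List ℕ) (hr : Repr P w) (h : commB P = true) : evalW w ∈ CB :=
  (mem_CB _).2 ⟨evalW_mem_M24 w hr.1, commB_spec P w hr h⟩

theorem hcfgB (P : ℕ) (w : List ℕ) (hr : Repr P w)
    (h : (commB P && Nat.beq (app P 0) 0) = true) : evalW w ∈ C0 := by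
  rw [Bool.and_eq_true] at h
  exact (mem_C0 _).2 ⟨hcfgA P w hr h.1, fix_of_app P w hr 0 (by norm_num) h.2⟩

theorem hcfgC (P : ℕ) (w : List ℕ) (hr : Repr P w)
    (h : (commB P && Nat.beq (app P 0) 0 && Nat.beq (app P 1) 1) = true) : evalW w ∈ C01 := by
  rw [Bool.and_eq_true] at h
  exact (mem_C01 _).2 ⟨hcfgB P w hr h.1, fix_of_app P w hr 1 (by norm_num) h.2⟩

set_option maxRecDepth 100000 in
theorem treeA_ok : gtreeOK commB relPt (fun _ => true) (fun _ => 0) (fun i => i) hgensA treeTabA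
    24 = true := by decide +kernel

set_option maxRecDepth 100000 in
theorem treeB_ok : gtreeOK (fun P => commB P && Nat.beq (app P 0) 0) relPt
    (fun x => (8354814 : ℕ).testBit x) (fun _ => 1) (fun i => i) hgensB treeTabB 24 = true := by
  decide +kernel

set_option maxRecDepth 100000 in
theorem treeC_ok : gtreeOK (fun P => commB P && Nat.beq (app P 0) 0 && Nat.beq (app P 1) 1) relPt
    (fun x => (7305720 : ℕ).testBit x) (fun _ => 3) (fun i => i) hgensC treeTabC 24 = true := by
  decide +kernel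

theorem labs_ok : ∀ i < 24, labOf treeTabA i = 0 ∧ labOf treeTabB i = 0 ∧ labOf treeTabC i = 0 := by
  decide +kernel

theorem transA (q : GolayPt) : ∃ g ∈ CB, g (dec 0) = q := by
  obtain ⟨g, hg, e⟩ := gtree_trans CB commB dec relPt (fun _ => true) (fun i => i) 24 hcfgA
    (hrelPt (fun _ => true)) (fun _ => 0) hgensA treeTabA treeA_ok 0 (idx q) (by norm_num) (M24.idx_lt q) rfl rfl
    (by rw [(labs_ok 0 (by norm_num)).1, (labs_ok _ (M24.idx_lt q)).1])
  refine ⟨g, hg, ?_⟩
  have : g • dec 0 = dec (idx q) := e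
  rwa [dec_idx] at this

theorem transB (q : GolayPt) (hq : q ∈ maskSet 8354814) : ∃ g ∈ C0, g (dec 1) = q := by
  rw [mem_maskSet] at hq
  obtain ⟨g, hg, e⟩ := gtree_trans C0 _ dec relPt (fun x => (8354814 : ℕ).testBit x) (fun i => i)
    24 hcfgB (hrelPt (fun x => (8354814 : ℕ).testBit x)) (fun _ => 1) hgensB treeTabB treeB_ok 1 (idx q) (by norm_num)
    (M24.idx_lt q) (by decide) hq
    (by rw [(labs_ok 1 (by norm_num)).2.1, (labs_ok _ (M24.idx_lt q)).2.1])
  refine ⟨g, hg, ?_⟩
  have : g • dec 1 = dec (idx q) := e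
  rwa [dec_idx] at this

theorem transC (q : GolayPt) (hq : q ∈ maskSet 7305720) : ∃ g ∈ C01, g (dec 3) = q := by
  rw [mem_maskSet] at hq
  obtain ⟨g, hg, e⟩ := gtree_trans C01 _ dec relPt (fun x => (7305720 : ℕ).testBit x)
    (fun i => i) 24 hcfgC (hrelPt (fun x => (7305720 : ℕ).testBit x)) (fun _ => 3) hgensC treeTabC treeC_ok 3 (idx q)
    (by norm_num) (M24.idx_lt q) (by decide) hq
    (by rw [(labs_ok 3 (by norm_num)).2.2, (labs_ok _ (M24.idx_lt q)).2.2])
  refine ⟨g, hg, ?_⟩
  have : g • dec 3 = dec (idx q) := e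
  rwa [dec_idx] at this

/-! ### The invariant sextet -/

/-- the sextet all of whose tetrads are invariant under the involution -/
def S0 : Finset (Finset GolayPt) := semS (sextetAt 1886)

theorem S0_mem : S0 ∈ sextets :=
  (mem_sextets_iff_at _).2 ⟨1886, by norm_num, by decide +kernel, rfl⟩

theorem sextetAt_1886 : unpackF 6 (sextetAt 1886) =
    [196632, 266432, 1049094, 2623744, 4218912, 8422401] := by decide +kernel

theorem mem_S0 (u : Finset GolayPt) :
    u ∈ S0 ↔ ∃ m ∈ [196632, 266432, 1049094, 2623744, 4218912, 8422401], maskSet m = u := by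
  unfold S0 semS
  rw [sextetAt_1886, mem_famSet]

theorem zz_smul_maskSet (m : ℕ) : zz • maskSet m = maskSet (imgP pzB m) :=
  maskSet_imgP pzB zB repr_zB.1 repr_zB.2 m

theorem S0_masks_fixed : ∀ m ∈ [196632, 266432, 1049094, 2623744, 4218912, 8422401],
    imgP pzB m = m := by decide +kernel

theorem S0_tetwise : ∀ u ∈ S0, zz • u = u := by
  intro u hu
  obtain ⟨m, hm, rfl⟩ := (mem_S0 u).1 hu
  rw [zz_smul_maskSet, S0_masks_fixed m hm]

set_option maxRecDepth 100000 in
theorem uniq_tab : (List.range 2024).all (fun i => strictN (sextetAt i) fun c =>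
    (c == 0) || (i == 1886) || !((unpackF 6 c).all fun m => imgP pzB m == m)) = true := by
  decide +kernel

theorem unique_S0 (S : Finset (Finset GolayPt)) (hS : S ∈ sextets) (h : ∀ u ∈ S, zz • u = u) :
    S = S0 := by
  obtain ⟨i, hi, hne, rfl⟩ := exists_sextetAt S hS
  have hall : ((unpackF 6 (sextetAt i)).all fun m => imgP pzB m == m) = true := by
    rw [List.all_eq_true]
    intro m hm
    have := h (maskSet m) (by unfold semS; exact (mem_famSet _ _).2 ⟨m, hm, rfl⟩)
    rw [zz_smul_maskSet] at this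
    rw [beq_iff_eq]
    exact maskSet_inj (testBit_imgP_lt pzB zB repr_zB m) (unpackF_lt 6 _ m hm) this
  have := List.all_eq_true.1 uniq_tab i (List.mem_range.2 hi)
  rw [strictN_eq, hall] at this
  have h0 : (sextetAt i == 0) = false := by simpa using hne
  rw [h0] at this
  simp only [Bool.false_or, Bool.not_true, Bool.or_false, beq_iff_eq] at this
  subst this
  rfl

theorem CB_smul_S0 (c : Equiv.Perm GolayPt) (hc : c ∈ CB) : c • S0 = S0 := by
  obtain ⟨hM, hcomm⟩ := (mem_CB c).1 hc
  apply unique_S0 _ (smul_mem_sextets hM S0_mem)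
  intro u hu
  obtain ⟨u0, hu0, rfl⟩ := Finset.mem_smul_finset.1 hu
  rw [smul_smul, ← hcomm, mul_smul, S0_tetwise u0 hu0]

theorem sextet_eq_of_mem (S : Finset (Finset GolayPt)) (hS : S ∈ sextets) (u u' : Finset GolayPt)
    (hu : u ∈ S) (hu' : u' ∈ S) (p : GolayPt) (hp : p ∈ u) (hp' : p ∈ u') : u = u' := by
  by_contra hne
  have h8 := (hS.2.2 u hu u' hu' hne).2
  have h1 := Finset.card_union_add_card_inter u u'
  rw [hS.2.1 u hu, hS.2.1 u' hu', h8] at h1
  have h0 : (u ∩ u').card = 0 := by omega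
  have hmem : p ∈ u ∩ u' := Finset.mem_inter.2 ⟨hp, hp'⟩
  rw [Finset.card_eq_zero] at h0
  rw [h0] at hmem
  exact absurd hmem (Finset.notMem_empty _)

theorem smul_tet (c : Equiv.Perm GolayPt) (hc : c ∈ CB) (m : ℕ) (hm : maskSet m ∈ S0) (x : ℕ)
    (hx : dec x ∈ maskSet m) (hfix : c (dec x) = dec x) : c • maskSet m = maskSet m := by
  have h1 : c • maskSet m ∈ S0 := by
    rw [← CB_smul_S0 c hc]
    exact Finset.smul_mem_smul_finset hm
  have h2 : dec x ∈ c • maskSet m := by
    rw [← hfix]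
    exact Finset.smul_mem_smul_finset (a := c) hx
  exact sextet_eq_of_mem S0 S0_mem _ _ h1 hm (dec x) h2 hx

theorem tet0_mem : maskSet 8422401 ∈ S0 := (mem_S0 _).2 ⟨_, by decide, rfl⟩

theorem tet1_mem : maskSet 1049094 ∈ S0 := (mem_S0 _).2 ⟨_, by decide, rfl⟩

theorem not_mem_smul (c : Equiv.Perm GolayPt) (m : ℕ) (h : c • maskSet m = maskSet m)
    (p : GolayPt) (hp : p ∉ maskSet m) : c p ∉ maskSet m := by
  intro hcp
  rw [← h] at hcp
  exact hp ((Finset.smul_mem_smul_finset_iff c).1 hcp)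

theorem compl_bits0 : ∀ x < 24, (8422401 : ℕ).testBit x = false → (8354814 : ℕ).testBit x = true := by
  decide

theorem compl_bits1 : ∀ x < 24, (8422401 : ℕ).testBit x = false → (1049094 : ℕ).testBit x = false →
    (7305720 : ℕ).testBit x = true := by
  decide

theorem C0_orbit (c : Equiv.Perm GolayPt) (hc : c ∈ C0) : c (dec 1) ∈ maskSet 8354814 := by
  obtain ⟨hcB, h0⟩ := (mem_C0 c).1 hc
  have ht := smul_tet c hcB 8422401 tet0_mem 0 (by rw [mem_maskSet]; decide) h0
  have hn := not_mem_smul c _ ht (dec 1) (by rw [mem_maskSet]; decide)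
  rw [mem_maskSet] at hn ⊢
  exact compl_bits0 _ (M24.idx_lt _) (by simpa using hn)

theorem C01_orbit (c : Equiv.Perm GolayPt) (hc : c ∈ C01) : c (dec 3) ∈ maskSet 7305720 := by
  obtain ⟨hc0, h1⟩ := (mem_C01 c).1 hc
  obtain ⟨hcB, h0⟩ := (mem_C0 c).1 hc0
  have ht0 := smul_tet c hcB 8422401 tet0_mem 0 (by rw [mem_maskSet]; decide) h0
  have ht1 := smul_tet c hcB 1049094 tet1_mem 1 (by rw [mem_maskSet]; decide) h1
  have hn0 := not_mem_smul c _ ht0 (dec 3) (by rw [mem_maskSet]; decide)
  have hn1 := not_mem_smul c _ ht1 (dec 3) (by rw [mem_maskSet]; decide)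
  rw [mem_maskSet] at hn0 hn1 ⊢
  exact compl_bits1 _ (M24.idx_lt _) (by simpa using hn0) (by simpa using hn1)

/-! ### The last stabilizer is trivial -/

set_option maxRecDepth 100000 in
theorem last_triv : ∀ q ∈ orb 5, ∀ r ∈ orb 6,
    (∀ x < 24, appW ((tw 5 q ++ tw 6 r) ++ zB) x = appW (zB ++ (tw 5 q ++ tw 6 r)) x) →
    appW (tw 5 q ++ tw 6 r) (bpt 6) = bpt 6 →
    ∀ x < 24, appW (tw 5 q ++ tw 6 r) x = appW [] x := by decide +kernel

theorem zz_apply (a b : ℕ) (ha : a < 24) (h : appW zB a = b) : zz (dec a) = dec b := by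
  have hd : idx (dec a) = a := idx_dec ⟨a, ha⟩
  unfold zz
  rw [← h]
  conv_rhs => rw [← hd, ← idx_evalW _ zB_lt, dec_idx]

theorem fix_zz (c : Equiv.Perm GolayPt) (hcomm : c * zz = zz * c) (p : GolayPt) (h : c p = p) :
    c (zz p) = zz p := by
  have := congrArg (fun f : Equiv.Perm GolayPt => f p) hcomm
  simp only [Equiv.Perm.mul_apply] at this
  rw [this, h]

theorem C013_eq_bot : C013 = ⊥ := by
  rw [eq_bot_iff]
  intro c hc
  rw [Subgroup.mem_bot]
  obtain ⟨hc01, h3⟩ := (mem_C013 c).1 hc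
  obtain ⟨hc0, h1⟩ := (mem_C01 c).1 hc01
  obtain ⟨hcB, h0⟩ := (mem_C0 c).1 hc0
  obtain ⟨hM, hcomm⟩ := (mem_CB c).1 hcB
  have h23 : c (dec 23) = dec 23 := by
    rw [← zz_apply 0 23 (by norm_num) (by decide +kernel)]
    exact fix_zz c hcomm _ h0
  have h2 : c (dec 2) = dec 2 := by
    rw [← zz_apply 1 2 (by norm_num) (by decide +kernel)]
    exact fix_zz c hcomm _ h1
  have h4 : c (dec 4) = dec 4 := by
    rw [← zz_apply 3 4 (by norm_num) (by decide +kernel)]
    exact fix_zz c hcomm _ h3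
  have hc5 : c ∈ grp 5 := by
    rw [mem_grp_iff 5 (by norm_num)]
    refine ⟨hM, ?_⟩
    intro i hi
    interval_cases i
    · exact h23
    · exact h0
    · exact h1
    · exact h2
    · exact h3
  obtain ⟨q, hq, τ1, hτ1, e1⟩ := grp_step 5 (by norm_num) c hc5
  obtain ⟨r, hr, τ2, hτ2, rfl⟩ := grp_step 6 (by norm_num) τ1 hτ1
  rw [grp_seven, Subgroup.mem_bot] at hτ2
  subst hτ2
  rw [mul_one, ← evalW_append] at e1
  have hq3 := (ok3 5 (by norm_num) q hq).1
  have hr3 := (ok3 6 (by norm_num) r hr).1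
  have hw : ∀ l ∈ tw 5 q ++ tw 6 r, l < ngen := by
    intro l hl
    rcases List.mem_append.1 hl with h | h
    · exact (hq3 l h).1
    · exact (hr3 l h).1
  have hcomm' : ∀ x < 24, appW ((tw 5 q ++ tw 6 r) ++ zB) x = appW (zB ++ (tw 5 q ++ tw 6 r)) x := by
    intro x hx
    have hd : idx (dec x) = x := idx_dec ⟨x, hx⟩
    have e2 := congrArg (fun f : Equiv.Perm GolayPt => idx (f (dec x))) hcomm
    rw [e1] at e2
    unfold zz at e2
    rw [← evalW_append, ← evalW_append, idx_evalW _ (by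
      intro l hl
      rcases List.mem_append.1 hl with h | h
      · exact hw l h
      · exact zB_lt l h), idx_evalW _ (by
      intro l hl
      rcases List.mem_append.1 hl with h | h
      · exact zB_lt l h
      · exact hw l h), hd] at e2
    exact e2
  have hfix6 : appW (tw 5 q ++ tw 6 r) (bpt 6) = bpt 6 := by
    have := congrArg idx h4
    rw [e1, idx_evalW _ hw] at this
    have hd : idx (dec 4) = 4 := idx_dec ⟨4, by norm_num⟩
    rw [hd] at this
    exact this
  have := evalW_eq_of_appW (tw 5 q ++ tw 6 r) [] hw (fun l hl => by simp at hl)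
    (last_triv q hq r hr hcomm' hfix6)
  rw [e1, this]
  rfl

/-! ### The order of the centralizer -/

theorem card_CB : Nat.card CB = 7680 := by
  have hA := card_chain_step CB (dec 0) Finset.univ (fun _ _ => Finset.mem_univ _)
    (fun q _ => transA q)
  have hB := card_chain_step C0 (dec 1) (maskSet 8354814) C0_orbit transB
  have hC := card_chain_step C01 (dec 3) (maskSet 7305720) C01_orbit transC
  have h3 : Nat.card C013 = 1 := by
    rw [C013_eq_bot]
    exact Subgroup.card_bot
  have e0 : CB ⊓ MulAction.stabilizer (Equiv.Perm GolayPt) (dec 0) = C0 := rfl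
  have e1 : C0 ⊓ MulAction.stabilizer (Equiv.Perm GolayPt) (dec 1) = C01 := rfl
  have e3 : C01 ⊓ MulAction.stabilizer (Equiv.Perm GolayPt) (dec 3) = C013 := rfl
  rw [e0] at hA
  rw [e1] at hB
  rw [e3, h3] at hC
  have c24 : (Finset.univ : Finset GolayPt).card = 24 := by decide
  have c20 : (maskSet 8354814).card = 20 := by
    rw [card_maskSet]
    decide +kernel
  have c16 : (maskSet 7305720).card = 16 := by
    rw [card_maskSet]
    decide +kernel
  rw [hA, hB, hC, c24, c20, c16]

end Cfsg.Agent.Helper29.CentB
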