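import Mathlib
import Cfsg.Agent.Lib.Helper29.M24Dodecad2

set_option autoImplicit false
open Cfsg

namespace Cfsg.Agent.Helper29.M24

open Cfsg.Agent.Helper27 Cfsg.Agent.Helper29
open Cfsg.Agent.S0358 (idx)
open scoped Pointwise

/-! ### Octads meeting a dodecad -/

/-- number of `n < N` such that word `n` is an octad meeting the mask `D` in `k` points -/
def countI (D k : ℕ) : ℕ → ℕ
  | 0 => 0
  | n + 1 => countI D k n + if pop24 (cw n) = 8 ∧ pop24 (cw n &&& D) = k then 1 else 0

theorem countI_eq (D k N : ℕ) :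
    countI D k N =
      ((Finset.range N).filter (fun n => pop24 (cw n) = 8 ∧ pop24 (cw n &&& D) = k)).card := by
  induction N with
  | zero => simp [countI]
  | succ N ih =>
    rw [countI, ih, Finset.range_add_one, Finset.filter_insert]
    split_ifs with h
    · rw [Finset.card_insert_of_notMem]
      intro hmem
      rw [Finset.mem_filter, Finset.mem_range] at hmem
      exact lt_irrefl _ hmem.1
    · rfl

/-- the standard dodecad: the support of `qrWord 0` -/
def dod0 : Finset GolayPt := maskSet (cw 1)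

theorem dod0_mem : dod0 ∈ dodecads := by
  refine ⟨⟨ofMask (cw 1), cw_mem 1, (maskSet_eq_support₂ _).symm⟩, ?_⟩
  unfold dod0
  rw [card_maskSet]
  decide +kernel

theorem octads_inter_eq (D k : ℕ) :
    {o : Finset GolayPt | o ∈ octads ∧ (o ∩ maskSet D).card = k} =
      (fun n => support₂ (ofMask (cw n))) ''
        {n : ℕ | n < 4096 ∧ pop24 (cw n) = 8 ∧ pop24 (cw n &&& D) = k} := by
  ext o
  constructor
  · rintro ⟨ho, hk⟩
    unfold octads at ho
    rw [wordsOfWeight_eq] at ho
    obtain ⟨n, ⟨hn, h8⟩, rfl⟩ := ho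
    refine ⟨n, ⟨hn, h8, ?_⟩, rfl⟩
    rw [← card_maskSet, maskSet_and, maskSet_eq_support₂ (cw n)]
    exact hk
  · rintro ⟨n, ⟨hn, h8, hk⟩, rfl⟩
    refine ⟨?_, ?_⟩
    · unfold octads
      rw [wordsOfWeight_eq]
      exact ⟨n, ⟨hn, h8⟩, rfl⟩
    · show (support₂ (ofMask (cw n)) ∩ maskSet D).card = k
      rw [← maskSet_eq_support₂, ← maskSet_and, card_maskSet]
      exact hk

theorem ncard_octads_inter (D k : ℕ) :
    {o : Finset GolayPt | o ∈ octads ∧ (o ∩ maskSet D).card = k}.ncard = countI D k 4096 := by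
  have hinj : Set.InjOn (fun n => support₂ (ofMask (cw n)))
      {n : ℕ | n < 4096 ∧ pop24 (cw n) = 8 ∧ pop24 (cw n &&& D) = k} := by
    intro n hn m hm h
    have h1 := support₂_injective h
    have h2 := ofMask_inj (cw_lt n) (cw_lt m) h1
    exact cw_injOn hn.1 hm.1 h2
  rw [octads_inter_eq, Set.InjOn.ncard_image hinj, countI_eq]
  rw [← Set.ncard_coe_finset]
  congr 1
  ext n
  simp [Finset.mem_range]

theorem countI_dod0 : countI (cw 1) 6 4096 = 132 ∧ countI (cw 1) 2 4096 = 132 ∧
    countI (cw 1) 4 4096 = 495 := by decide +kernel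

/-- transport of the counts along an element of the group -/
theorem ncard_inter_smul (g : Equiv.Perm GolayPt) (hg : g ∈ M24) (d : Finset GolayPt) (k : ℕ) :
    {o : Finset GolayPt | o ∈ octads ∧ (o ∩ (g • d)).card = k}.ncard =
      {o : Finset GolayPt | o ∈ octads ∧ (o ∩ d).card = k}.ncard := by
  have himg : {o : Finset GolayPt | o ∈ octads ∧ (o ∩ (g • d)).card = k} =
      (fun o => g • o) '' {o : Finset GolayPt | o ∈ octads ∧ (o ∩ d).card = k} := by
    ext o
    constructor
    · rintro ⟨ho, hk⟩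
      refine ⟨g⁻¹ • o, ⟨smul_mem_octads (Subgroup.inv_mem _ hg) ho, ?_⟩, smul_inv_smul g o⟩
      rw [← hk, ← Finset.card_smul_finset g (g⁻¹ • o ∩ d), Finset.smul_finset_inter,
        smul_inv_smul]
    · rintro ⟨o', ⟨ho', hk⟩, rfl⟩
      refine ⟨smul_mem_octads hg ho', ?_⟩
      show (g • o' ∩ g • d).card = k
      rw [← Finset.smul_finset_inter, Finset.card_smul_finset]
      exact hk
  rw [himg]
  exact Set.ncard_image_of_injective _ (MulAction.injective g)

theorem hexad_counts (d : Finset GolayPt) (hd : d ∈ dodecads) :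
    {o : Finset GolayPt | o ∈ octads ∧ (o ∩ d).card = 6}.ncard = 132 ∧
    {o : Finset GolayPt | o ∈ octads ∧ (o ∩ d).card = 2}.ncard = 132 ∧
    {o : Finset GolayPt | o ∈ octads ∧ (o ∩ d).card = 4}.ncard = 495 := by
  obtain ⟨g, rfl⟩ := dodecad_transitive dod0 d dod0_mem hd
  rw [smul_finset_def', ncard_inter_smul _ g.2, ncard_inter_smul _ g.2, ncard_inter_smul _ g.2]
  unfold dod0
  rw [ncard_octads_inter, ncard_octads_inter, ncard_octads_inter]
  exact countI_dod0

end Cfsg.Agent.Helper29.M24
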