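import Mathlib
import Cfsg.Agent.Lib.Helper29.M24Hexad

set_option autoImplicit false
open Cfsg

namespace Cfsg.Agent.Helper29.M24

open Cfsg.Agent.Helper27 Cfsg.Agent.Helper29
open Cfsg.Agent.S0358 (idx)
open scoped Pointwise

/-! ### The stabilizer of a dodecad and one of its points is 3-transitive on the complement -/

def m11tab : List (List (List ℕ)) := [
  [[],
   [],
   [],
   [],
   [],
   [],
   [],
   [1, 0, 1, 0, 0, 1, 2, 0, 0, 0, 2, 0, 0, 2, 3, 4, 4, 4, 4, 5, 4, 6, 8, 8, 12, 10, 9],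
   [],
   [],
   [1, 0, 1, 3, 2, 3, 2, 2, 4, 5, 7, 6, 7, 8, 12],
   [1, 0, 1, 3, 2, 2, 3, 4, 5, 5, 4, 7, 6, 7, 6, 8, 12],
   [],
   [],
   [1, 0, 0, 0, 1, 2, 3, 3, 2, 7, 6, 6, 8, 8, 11],
   [0, 0, 2, 0, 1, 2, 2, 2, 0, 2, 0, 2, 3, 3, 2, 2, 4, 5, 6, 6, 6, 7, 6, 12, 11, 10, 9],
   [],
   [0, 2, 0, 0, 1, 2, 2, 0, 3, 3, 2, 2, 4, 7, 7, 6, 8, 8, 11, 10],
   [],
   [1, 0, 1, 0, 0, 1, 2, 0, 0, 0, 2, 0, 0, 3, 2, 4, 5, 5, 4, 6, 7, 6, 7, 8, 8, 12, 11, 10],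
   [1, 0, 1, 0, 0, 1, 2, 0, 0, 0, 2, 0, 0, 3, 2, 3, 2, 2, 4, 5, 4, 7, 8, 8, 12, 11, 10, 9],
   [0, 2, 0, 1, 2, 2, 0, 2, 0, 2, 2, 3, 4, 4, 4, 5, 6, 10],
   [2, 1, 0, 1, 3, 2, 2, 4, 4, 5, 4, 6, 7, 6, 7, 8, 12, 11, 10, 9],
   [0, 2, 0, 0, 1, 2, 2, 0, 3, 2, 2, 2, 3, 5, 4, 5, 4, 6, 11, 9]],
  [[],
   [],
   [],
   [],
   [],
   [],
   [],
   [],
   [],
   [],
   [1, 0, 1, 3, 2, 2, 4, 5, 4, 6, 6, 7, 6, 7, 8, 12, 10],
   [2, 0, 0, 2, 0, 1, 2, 2, 2, 0, 2, 0, 2, 3, 2, 2, 3, 4, 4, 4, 5, 4, 7, 6, 7, 6, 8, 8, 12, 11, 10],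
   [],
   [],
   [2, 0, 0, 2, 0, 1, 2, 2, 2, 0, 2, 0, 2, 3, 2, 2, 3, 4, 4, 4, 5, 4, 7, 6, 7, 6, 8, 8, 10],
   [2, 1, 0, 1, 2, 4, 5, 4, 5, 4, 7],
   [],
   [1, 0, 0, 1, 3, 2, 2, 3, 4, 5, 4, 4, 5, 4, 6, 7, 8, 8, 12],
   [],
   [2, 1, 0, 1, 2, 4, 5, 4, 7, 6, 6, 8, 12],
   [1, 0, 0, 1, 2, 3, 2, 2, 4, 4, 4, 5, 6, 6, 7, 6, 7, 8, 12, 11, 10, 9],
   [2, 1, 0, 1, 3, 2, 3, 2, 2, 5, 7, 7, 6, 7, 6, 10, 9],
   [2, 0, 0, 2, 0, 1, 2, 2, 2, 0, 2, 0, 3, 2, 3, 2, 2, 4, 4, 4, 4, 5, 6, 7, 8, 8, 11, 10],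
   [2, 2, 1, 0, 1, 2, 3, 2, 2, 4, 5, 4, 4, 5, 4, 11, 10]],
  [[],
   [],
   [],
   [],
   [],
   [],
   [],
   [],
   [],
   [],
   [],
   [1, 0, 1, 0, 0, 1, 2, 0, 0, 0, 2, 0, 0, 3, 3, 2, 2, 4, 4, 4, 5, 6, 8, 8, 12, 10],
   [],
   [],
   [1, 0, 0, 1, 3, 2, 4, 5, 4, 5, 4, 6, 6, 6, 6, 8, 8, 12, 11, 10],
   [2, 0, 0, 2, 0, 1, 2, 2, 2, 0, 2, 0, 2, 3, 2, 2, 3, 4, 4, 4, 4, 4, 5, 4, 7, 6, 7, 6, 8, 12, 11, 9],
   [],
   [1, 0, 1, 3, 3, 3, 2, 4, 5, 4, 4, 5, 4, 7, 7, 6, 12],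
   [],
   [2, 2, 1, 0, 1, 3, 3, 5, 4, 4, 4, 4, 5, 6, 6, 6, 6, 8, 8, 12, 11],
   [2, 3, 2, 2, 3, 4, 4, 4, 5, 7, 6, 6, 6, 7, 6, 12, 11],
   [1, 0, 0, 1, 2, 3, 3, 2, 2, 4, 5, 4, 5, 4, 6, 6, 8, 8, 11, 10],
   [0, 0, 2, 0, 1, 2, 2, 2, 0, 2, 0, 2, 2, 3, 4, 5, 4, 5, 4, 6, 8, 8, 12, 10, 9],
   [1, 0, 0, 1, 3, 2, 2, 3, 4, 5, 4, 6, 6, 7, 6, 8, 8, 12, 11, 10, 9]]]

/-- the transversal word of level `l` for the point `k` -/
def m11w (l k : ℕ) : List ℕ := (m11tab.getD l []).getD k []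

/-- the three base points in the complement of the standard dodecad -/
def m11a (l : ℕ) : ℕ := [5, 7, 10].getD l 0

/-- mask of the complement of the standard dodecad -/
def compMask : ℕ := 16436384

/-- the check of one transversal word -/
def m11Entry (l k : ℕ) : Prop :=
  compMask.testBit k = true → (∀ l' < l, k ≠ m11a l') →
    (∀ j ∈ m11w l k, j < ngen) ∧ invW (m11w l k) (cw 1) ∧ appW (m11w l k) 0 = 0 ∧
      (∀ l' < l, appW (m11w l k) (m11a l') = m11a l') ∧ appW (m11w l k) (m11a l) = k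

instance (l k : ℕ) : Decidable (m11Entry l k) := by
  unfold m11Entry
  infer_instance

set_option maxRecDepth 100000 in
theorem m11_ok : ∀ l < 3, ∀ k < 24, m11Entry l k := by decide +kernel

theorem compMask_spec : ∀ k < 24, (compMask.testBit k = true ↔ (cw 1).testBit k = false) := by
  decide +kernel

theorem m11a_spec : ∀ l < 3, m11a l < 24 ∧ compMask.testBit (m11a l) = true := by decide +kernel

/-- a word mapping a set into itself maps it onto itself -/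
theorem smul_eq_of_invW (w : List ℕ) (hw : ∀ j ∈ w, j < ngen) (m : ℕ) (h : invW w m) :
    evalW w • maskSet m = maskSet m := by
  apply Finset.eq_of_subset_of_card_le
  · intro p hp
    obtain ⟨q, hq, rfl⟩ := Finset.mem_smul_finset.1 hp
    rw [mem_maskSet] at hq ⊢
    rw [Equiv.Perm.smul_def, idx_evalW w hw]
    exact h _ (idx_lt q) hq
  · rw [Finset.card_smul_finset]

theorem mem_dod0 (p : GolayPt) : p ∈ dod0 ↔ compMask.testBit (idx p) = false := by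
  unfold dod0
  rw [mem_maskSet]
  have := compMask_spec (idx p) (idx_lt p)
  cases h1 : compMask.testBit (idx p) <;> cases h2 : (cw 1).testBit (idx p) <;> simp_all

/-- the base point of the standard dodecad -/
def pt0 : GolayPt := dec 0

/-- the `l`-th base point in the complement -/
def ca (l : ℕ) : GolayPt := dec (m11a l)

theorem idx_ca (l : ℕ) (hl : l < 3) : idx (ca l) = m11a l :=
  idx_dec ⟨m11a l, (m11a_spec l hl).1⟩

theorem idx_pt0 : idx pt0 = 0 := idx_dec ⟨0, by norm_num⟩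

/-- the subgroup (as a predicate) fixing the standard dodecad, its base point and the first `l`
complement base points -/
def H11 (l : ℕ) (g : Equiv.Perm GolayPt) : Prop :=
  g ∈ M24 ∧ g • dod0 = dod0 ∧ g pt0 = pt0 ∧ ∀ l' < l, g (ca l') = ca l'

theorem H11_mul {l : ℕ} {g h : Equiv.Perm GolayPt} (hg : H11 l g) (hh : H11 l h) :
    H11 l (g * h) := by
  refine ⟨Subgroup.mul_mem _ hg.1 hh.1, ?_, ?_, ?_⟩
  · rw [mul_smul, hh.2.1, hg.2.1]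
  · rw [Equiv.Perm.mul_apply, hh.2.2.1, hg.2.2.1]
  · intro l' hl'
    rw [Equiv.Perm.mul_apply, hh.2.2.2 l' hl', hg.2.2.2 l' hl']

theorem H11_inv {l : ℕ} {g : Equiv.Perm GolayPt} (hg : H11 l g) : H11 l g⁻¹ := by
  refine ⟨Subgroup.inv_mem _ hg.1, ?_, ?_, ?_⟩
  · rw [inv_smul_eq_iff, hg.2.1]
  · rw [Equiv.Perm.inv_def, Equiv.symm_apply_eq, hg.2.2.1]
  · intro l' hl'
    rw [Equiv.Perm.inv_def, Equiv.symm_apply_eq, hg.2.2.2 l' hl']

theorem H11_mono {l l' : ℕ} (h : l' ≤ l) {g : Equiv.Perm GolayPt} (hg : H11 l g) : H11 l' g :=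
  ⟨hg.1, hg.2.1, hg.2.2.1, fun k hk => hg.2.2.2 k (lt_of_lt_of_le hk h)⟩

theorem H11_one (l : ℕ) : H11 l 1 :=
  ⟨Subgroup.one_mem _, one_smul _ _, rfl, fun _ _ => rfl⟩

theorem exists_H11_map (l : ℕ) (hl : l < 3) (p : GolayPt) (hp : p ∉ dod0)
    (hne : ∀ l' < l, p ≠ ca l') : ∃ g, H11 l g ∧ g (ca l) = p := by
  have hbit : compMask.testBit (idx p) = true := by
    rw [mem_dod0] at hp
    simpa using hp
  have hne' : ∀ l' < l, idx p ≠ m11a l' := by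
    intro l' hl' h
    apply hne l' hl'
    apply idx_injective
    rw [h, idx_ca l' (by omega)]
  obtain ⟨h1, h2, h3, h4, h5⟩ := m11_ok l hl (idx p) (idx_lt p) hbit hne'
  refine ⟨evalW (m11w l (idx p)), ⟨?_, ?_, ?_, ?_⟩, ?_⟩
  · rw [M24_eq_grp]
    exact evalW_mem_grp 0 _ (fun j hj => ⟨h1 j hj, Nat.zero_le _⟩)
  · exact smul_eq_of_invW _ h1 _ h2
  · apply idx_injective
    rw [idx_evalW _ h1, idx_pt0]
    exact h3
  · intro l' hl'
    apply idx_injective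
    rw [idx_evalW _ h1, idx_ca l' (by omega)]
    exact h4 l' hl'
  · apply idx_injective
    rw [idx_evalW _ h1, idx_ca l hl]
    exact h5

theorem H11_not_mem {l : ℕ} {g : Equiv.Perm GolayPt} (hg : H11 l g) (p : GolayPt)
    (hp : p ∉ dod0) : g p ∉ dod0 := by
  intro h
  apply hp
  have h1 : g⁻¹ • g p ∈ g⁻¹ • dod0 := Finset.smul_mem_smul_finset h
  rw [(H11_inv hg).2.1, Equiv.Perm.smul_def, Equiv.Perm.inv_def, Equiv.symm_apply_apply] at h1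
  exact h1

theorem exists_H11_base (x : ℕ → GolayPt) (hx : ∀ i, x i ∉ dod0) : ∀ k ≤ 3,
    (∀ i < k, ∀ j < k, x i = x j → i = j) → ∃ g, H11 0 g ∧ ∀ i < k, g (ca i) = x i := by
  intro k
  induction k with
  | zero =>
    intro _ _
    exact ⟨1, H11_one 0, fun i hi => absurd hi (Nat.not_lt_zero i)⟩
  | succ k ih =>
    intro hk hinj
    obtain ⟨g, hg, hgx⟩ := ih (by omega) (fun i hi j hj => hinj i (by omega) j (by omega))
    have hp : ∀ i' < k, g⁻¹ (x k) ≠ ca i' := by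
      intro i' hi' h
      have h1 : x k = g (ca i') := by
        rw [← h, Equiv.Perm.inv_def, Equiv.apply_symm_apply]
      rw [hgx i' hi'] at h1
      have := hinj k (by omega) i' (by omega) h1
      omega
    obtain ⟨h, hh, hhx⟩ := exists_H11_map k (by omega) _ (H11_not_mem (H11_inv hg) _ (hx k)) hp
    refine ⟨g * h, H11_mul hg (H11_mono (Nat.zero_le _) hh), ?_⟩
    intro i hi
    rw [Equiv.Perm.mul_apply]
    rcases Nat.lt_succ_iff_lt_or_eq.1 hi with hlt | rfl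
    · rw [hh.2.2.2 i hlt, hgx i hlt]
    · rw [hhx, Equiv.Perm.inv_def, Equiv.apply_symm_apply]

theorem three_trans_std (x y : Fin 3 ↪ GolayPt) (hx : ∀ i, x i ∉ dod0) (hy : ∀ i, y i ∉ dod0) :
    ∃ g, H11 0 g ∧ ∀ i, g (x i) = y i := by
  have key : ∀ z : Fin 3 ↪ GolayPt, (∀ i, z i ∉ dod0) →
      ∃ g, H11 0 g ∧ ∀ i : Fin 3, g (ca i.val) = z i := by
    intro z hz
    obtain ⟨g, hg, h⟩ := exists_H11_base (fun i => if h : i < 3 then z ⟨i, h⟩ else z 0)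
      (by intro i; split_ifs <;> exact hz _) 3 le_rfl (by
        intro i hi j hj hij
        simp only [hi, hj, dite_true] at hij
        have := z.injective hij
        exact Fin.mk.inj_iff.1 this)
    refine ⟨g, hg, fun i => ?_⟩
    have := h i.val i.isLt
    simpa using this
  obtain ⟨g, hg, hgx⟩ := key x hx
  obtain ⟨h, hh, hhy⟩ := key y hy
  refine ⟨h * g⁻¹, H11_mul hh (H11_inv hg), fun i => ?_⟩
  rw [Equiv.Perm.mul_apply, ← hgx i, Equiv.Perm.inv_def, Equiv.symm_apply_apply, hhy]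

theorem pt0_mem : pt0 ∈ dod0 := by
  rw [mem_dod0, idx_pt0]
  decide +kernel

/-- the stabilizer of a dodecad and a point on it is 3-transitive on the complement -/
theorem three_trans (d : Finset GolayPt) (hd : d ∈ dodecads) (p : GolayPt) (hp : p ∈ d)
    (x y : Fin 3 ↪ GolayPt) (hx : ∀ i, x i ∉ d) (hy : ∀ i, y i ∉ d) :
    ∃ g ∈ M24, g • d = d ∧ g p = p ∧ ∀ i, g (x i) = y i := by
  obtain ⟨h, hh⟩ := dodecad_transitive dod0 d dod0_mem hd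
  obtain ⟨k, hk⟩ := stab_transitive d hd ((h : Equiv.Perm GolayPt) pt0) p
    (by
      rw [← hh, smul_finset_def']
      exact Finset.smul_mem_smul_finset pt0_mem) hp
  set u : Equiv.Perm GolayPt := ((k : M24) : Equiv.Perm GolayPt) * (h : Equiv.Perm GolayPt) with hu
  have huM : u ∈ M24 := Subgroup.mul_mem _ (k : M24).2 h.2
  have hud : u • dod0 = d := by
    rw [hu, mul_smul, ← smul_finset_def' h, hh]
    have := k.2
    rw [MulAction.mem_stabilizer_iff, smul_finset_def'] at this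
    exact this
  have hup : u pt0 = p := by rw [hu, Equiv.Perm.mul_apply]; exact hk
  have hnm : ∀ q, q ∉ d → u⁻¹ q ∉ dod0 := by
    intro q hq hcon
    apply hq
    rw [← hud]
    have : u • u⁻¹ q ∈ u • dod0 := Finset.smul_mem_smul_finset hcon
    rwa [Equiv.Perm.smul_def, Equiv.Perm.inv_def, Equiv.apply_symm_apply] at this
  let x' : Fin 3 ↪ GolayPt := ⟨fun i => u⁻¹ (x i), fun i j hij => x.injective (u⁻¹.injective hij)⟩
  let y' : Fin 3 ↪ GolayPt := ⟨fun i => u⁻¹ (y i), fun i j hij => y.injective (u⁻¹.injective hij)⟩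
  obtain ⟨g, hg, hgxy⟩ := three_trans_std x' y' (fun i => hnm _ (hx i)) (fun i => hnm _ (hy i))
  refine ⟨u * g * u⁻¹, Subgroup.mul_mem _ (Subgroup.mul_mem _ huM hg.1) (Subgroup.inv_mem _ huM),
    ?_, ?_, ?_⟩
  · rw [mul_smul, mul_smul, ← hud, inv_smul_smul, hg.2.1]
  · rw [Equiv.Perm.mul_apply, Equiv.Perm.mul_apply, ← hup, Equiv.Perm.inv_def,
      Equiv.symm_apply_apply, hg.2.2.1]
  · intro i
    have : g (u⁻¹ (x i)) = u⁻¹ (y i) := hgxy i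
    rw [Equiv.Perm.mul_apply, Equiv.Perm.mul_apply, this, Equiv.Perm.inv_def,
      Equiv.apply_symm_apply]

end Cfsg.Agent.Helper29.M24
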