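import Mathlib
import Cfsg.Agent.Lib.Helper29.M24Classes
import Cfsg.Agent.Lib.Helper29.M24Eleven

set_option autoImplicit false
open Cfsg

namespace Cfsg.Agent.Helper29.M24

open Cfsg.Agent.Helper27 Cfsg.Agent.Helper29
open Cfsg.Agent.S0358 (idx)
open scoped Pointwise

/-! ### Generic tools: sets as masks, counting code words, words acting on masks -/

/-- the word `w` maps the set with mask `R` into the set with mask `T` -/
def mapsW (w : List ℕ) (R T : ℕ) : Prop :=
  ∀ x < 24, R.testBit x = true → T.testBit (appW w x) = true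

instance (w : List ℕ) (R T : ℕ) : Decidable (mapsW w R T) := by
  unfold mapsW
  infer_instance

theorem smul_eq_of_mapsW (w : List ℕ) (hw : ∀ j ∈ w, j < ngen) (R T : ℕ)
    (hc : pop24 T ≤ pop24 R) (h : mapsW w R T) : evalW w • maskSet R = maskSet T := by
  apply Finset.eq_of_subset_of_card_le
  · intro p hp
    obtain ⟨q, hq, rfl⟩ := Finset.mem_smul_finset.1 hp
    rw [mem_maskSet] at hq ⊢
    rw [Equiv.Perm.smul_def, idx_evalW w hw]
    exact h _ (idx_lt q) hq
  · rw [Finset.card_smul_finset, card_maskSet, card_maskSet]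
    exact hc

theorem maskSet_inj {a b : ℕ} (ha : a < 2 ^ 24) (hb : b < 2 ^ 24) (h : maskSet a = maskSet b) :
    a = b := by
  rw [maskSet_eq_support₂, maskSet_eq_support₂] at h
  exact ofMask_inj ha hb (support₂_injective h)

theorem maskSet_cw_inj {n m : ℕ} (hn : n < 4096) (hm : m < 4096)
    (h : maskSet (cw n) = maskSet (cw m)) : n = m :=
  cw_injOn hn hm (maskSet_inj (cw_lt n) (cw_lt m) h)

theorem mem_words_iff (k : ℕ) (s : Finset GolayPt) :
    s ∈ wordsOfWeight (golayCode : Set (GolayPt → ZMod 2)) k ↔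
      ∃ n < 4096, pop24 (cw n) = k ∧ s = maskSet (cw n) := by
  rw [wordsOfWeight_eq]
  constructor
  · rintro ⟨n, ⟨hn, hk⟩, rfl⟩
    exact ⟨n, hn, hk, (maskSet_eq_support₂ _).symm⟩
  · rintro ⟨n, hn, hk, rfl⟩
    exact ⟨n, ⟨hn, hk⟩, (maskSet_eq_support₂ _).symm⟩

theorem mem_dodecads_iff (s : Finset GolayPt) :
    s ∈ dodecads ↔ ∃ n < 4096, pop24 (cw n) = 12 ∧ s = maskSet (cw n) := mem_words_iff 12 s

theorem mem_octads_iff' (s : Finset GolayPt) :
    s ∈ octads ↔ ∃ n < 4096, pop24 (cw n) = 8 ∧ s = maskSet (cw n) := mem_words_iff 8 s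

/-- number of `n < N` such that the `n`-th code word satisfies `P` -/
def countC (P : ℕ → Bool) : ℕ → ℕ
  | 0 => 0
  | n + 1 => countC P n + if P (cw n) = true then 1 else 0

theorem countC_eq (P : ℕ → Bool) (N : ℕ) :
    countC P N = ((Finset.range N).filter (fun n => P (cw n) = true)).card := by
  induction N with
  | zero => simp [countC]
  | succ N ih =>
    rw [countC, ih, Finset.range_add_one, Finset.filter_insert]
    split_ifs with h
    · rw [Finset.card_insert_of_notMem]
      intro hmem
      rw [Finset.mem_filter, Finset.mem_range] at hmem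
      exact lt_irrefl _ hmem.1
    · rfl

/-- counting the supports of code words satisfying a predicate on masks -/
theorem ncard_code (P : ℕ → Bool) :
    {s : Finset GolayPt | ∃ n < 4096, P (cw n) = true ∧ s = maskSet (cw n)}.ncard
      = countC P 4096 := by
  have himg : {s : Finset GolayPt | ∃ n < 4096, P (cw n) = true ∧ s = maskSet (cw n)} =
      (fun n => maskSet (cw n)) '' {n : ℕ | n < 4096 ∧ P (cw n) = true} := by
    ext s
    constructor
    · rintro ⟨n, hn, hP, rfl⟩
      exact ⟨n, ⟨hn, hP⟩, rfl⟩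
    · rintro ⟨n, ⟨hn, hP⟩, rfl⟩
      exact ⟨n, hn, hP, rfl⟩
  have hinj : Set.InjOn (fun n => maskSet (cw n)) {n : ℕ | n < 4096 ∧ P (cw n) = true} := by
    intro n hn m hm h
    exact maskSet_cw_inj hn.1 hm.1 h
  rw [himg, Set.InjOn.ncard_image hinj, countC_eq, ← Set.ncard_coe_finset]
  congr 1
  ext n
  simp [Finset.mem_range]

/-- transport of a count along a group element acting on finite sets -/
theorem ncard_smul_image (g : Equiv.Perm GolayPt) (A : Set (Finset GolayPt)) :
    ((fun s => g • s) '' A).ncard = A.ncard :=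
  Set.ncard_image_of_injective _ (MulAction.injective g)

theorem mem_maskSet_idx (m : ℕ) (x : ℕ) (hx : x < 24) : dec x ∈ maskSet m ↔ m.testBit x = true := by
  rw [mem_maskSet]
  have : idx (dec x) = x := idx_dec ⟨x, hx⟩
  rw [this]

theorem inter_maskSet_card (a b : ℕ) : (maskSet a ∩ maskSet b).card = pop24 (a &&& b) := by
  rw [← maskSet_and, card_maskSet]

/-- decoding a word from its hexadecimal code (digit `g + 1` for the letter `g`, lowest digit
first, `0` terminates); the first argument is fuel -/
def decW : ℕ → ℕ → List ℕ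
  | 0, _ => []
  | f + 1, c => if c = 0 then [] else (c % 16 - 1) :: decW f (c / 16)

/-- counting sets given by an explicit duplicate-free list of masks -/
theorem ncard_maskList (L : List ℕ) (hL : L.Nodup) (hlt : ∀ m ∈ L, m < 2 ^ 24) (P : ℕ → Bool) :
    {s : Finset GolayPt | ∃ m ∈ L, P m = true ∧ s = maskSet m}.ncard = (L.filter P).length := by
  have himg : {s : Finset GolayPt | ∃ m ∈ L, P m = true ∧ s = maskSet m} =
      maskSet '' ((L.filter P).toFinset : Set ℕ) := by
    ext s
    constructor
    · rintro ⟨m, hm, hP, rfl⟩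
      refine ⟨m, ?_, rfl⟩
      rw [Finset.mem_coe, List.mem_toFinset, List.mem_filter]
      exact ⟨hm, hP⟩
    · rintro ⟨m, hm, rfl⟩
      rw [Finset.mem_coe, List.mem_toFinset, List.mem_filter] at hm
      exact ⟨m, hm.1, hm.2, rfl⟩
  have hinj : Set.InjOn maskSet ((L.filter P).toFinset : Set ℕ) := by
    intro a ha b hb h
    rw [Finset.mem_coe, List.mem_toFinset, List.mem_filter] at ha hb
    exact maskSet_inj (hlt a ha.1) (hlt b hb.1) h
  rw [himg, Set.InjOn.ncard_image hinj, Set.ncard_coe_finset,
    List.toFinset_card_of_nodup (hL.filter _)]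

/-- the masks of the two-element subsets -/
def pairMasks : List ℕ :=
  (List.range 24).flatMap fun i => (List.range i).map fun j => 2 ^ i + 2 ^ j

theorem pairMasks_length : pairMasks.length = 276 := by decide +kernel

theorem pairMasks_nodup : pairMasks.Nodup := by decide +kernel

theorem pairMasks_spec : ∀ m ∈ pairMasks, m < 2 ^ 24 ∧ pop24 m = 2 := by decide +kernel

theorem exists_pairMask (t : Finset GolayPt) (ht : t.card = 2) : ∃ m ∈ pairMasks, t = maskSet m := by
  have hsub : pairMasks.toFinset.image maskSet ⊆ Finset.powersetCard 2 Finset.univ := by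
    intro s hs
    rw [Finset.mem_image] at hs
    obtain ⟨m, hm, rfl⟩ := hs
    rw [List.mem_toFinset] at hm
    rw [Finset.mem_powersetCard]
    exact ⟨Finset.subset_univ _, by rw [card_maskSet, (pairMasks_spec m hm).2]⟩
  have hcard : (pairMasks.toFinset.image maskSet).card = 276 := by
    rw [Finset.card_image_of_injOn, List.toFinset_card_of_nodup pairMasks_nodup, pairMasks_length]
    intro a ha b hb h
    rw [Finset.mem_coe, List.mem_toFinset] at ha hb
    exact maskSet_inj (pairMasks_spec a ha).1 (pairMasks_spec b hb).1 h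
  have heq := Finset.eq_of_subset_of_card_le hsub (by
    rw [hcard, Finset.card_powersetCard, Finset.card_univ]
    decide)
  have hmem : t ∈ Finset.powersetCard 2 Finset.univ := by
    rw [Finset.mem_powersetCard]
    exact ⟨Finset.subset_univ _, ht⟩
  rw [← heq, Finset.mem_image] at hmem
  obtain ⟨m, hm, rfl⟩ := hmem
  exact ⟨m, List.mem_toFinset.1 hm, rfl⟩

theorem maskSet_or (a b : ℕ) : maskSet (a ||| b) = maskSet a ∪ maskSet b := by
  ext p
  rw [Finset.mem_union, mem_maskSet, mem_maskSet, mem_maskSet, Nat.testBit_or, Bool.or_eq_true]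

theorem maskSet_subset_iff (a b : ℕ) : maskSet a ⊆ maskSet b ↔ pop24 (a &&& b) = pop24 a := by
  rw [← card_maskSet, ← card_maskSet, maskSet_and]
  constructor
  · intro h
    rw [Finset.inter_eq_left.2 h]
  · intro h
    have := Finset.eq_of_subset_of_card_le (Finset.inter_subset_left (s₁ := maskSet a)
      (s₂ := maskSet b)) (le_of_eq h.symm)
    rw [← this]
    exact Finset.inter_subset_right

theorem disjoint_maskSet_iff (a b : ℕ) : Disjoint (maskSet a) (maskSet b) ↔ pop24 (a &&& b) = 0 := by
  rw [Finset.disjoint_iff_inter_eq_empty, ← maskSet_and, ← card_maskSet, Finset.card_eq_zero]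

theorem smul_maskSet_one (m : ℕ) : (1 : Equiv.Perm GolayPt) • maskSet m = maskSet m := one_smul _ _

/-- the action of a group element on a point in terms of the action on finite sets -/
theorem mem_inv_smul_iff (g : Equiv.Perm GolayPt) (x : GolayPt) (e : Finset GolayPt) :
    x ∈ g⁻¹ • e ↔ g x ∈ e := by
  rw [← Finset.smul_mem_smul_finset_iff g, smul_inv_smul]
  rfl

end Cfsg.Agent.Helper29.M24
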