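import Mathlib
import Cfsg.Agent.Lib.Helper29.M24Mask

set_option autoImplicit false
open Cfsg

namespace Cfsg.Agent.Helper29.M24

open Cfsg.Agent.Helper27 Cfsg.Agent.Helper29
open Cfsg.Agent.S0358 (idx)
open scoped Pointwise

/-! ### Fast kernel-friendly table checks

The kernel evaluates by name, so a value used several times is recomputed each time.  `strictN`
forces a natural number to a literal before it is passed on. -/

/-- apply `f` to `m` after forcing `m` -/
def strictN {β : Type} (m : ℕ) (f : ℕ → β) : β :=
  match m with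
  | 0 => f 0
  | k + 1 => f (k + 1)

theorem strictN_eq {β : Type} (m : ℕ) (f : ℕ → β) : strictN m f = f m := by
  cases m <;> rfl

/-- apply an encoded word to a point index (first argument: fuel) -/
def appC : ℕ → ℕ → ℕ → ℕ
  | 0, _, x => x
  | f + 1, c, x => if c = 0 then x else app (gcode (c % 16 - 1)) (appC f (c / 16) x)

theorem appC_eq (f c x : ℕ) : appC f c x = appW (decW f c) x := by
  induction f generalizing c with
  | zero => rfl
  | succ f ih =>
    unfold appC decW
    split_ifs with h
    · rfl
    · rw [ih]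
      rfl

/-- validity of an encoded word: all letters are generators and the fuel suffices -/
def validC : ℕ → ℕ → Bool
  | 0, c => c == 0
  | f + 1, c => c == 0 || (decide (c % 16 - 1 < ngen) && validC f (c / 16))

theorem validC_spec (f c : ℕ) (h : validC f c = true) : ∀ l ∈ decW f c, l < ngen := by
  induction f generalizing c with
  | zero =>
    intro l hl
    exact absurd hl List.not_mem_nil
  | succ f ih =>
    unfold validC at h
    unfold decW
    split_ifs with hc
    · intro l hl
      exact absurd hl List.not_mem_nil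
    · rw [Bool.or_eq_true, beq_iff_eq] at h
      rcases h with h | h
      · exact absurd h hc
      · rw [Bool.and_eq_true, decide_eq_true_eq] at h
        intro l hl
        rw [List.mem_cons] at hl
        rcases hl with rfl | hl
        · exact h.1
        · exact ih _ h.2 l hl

/-- the encoded word maps the set with mask `R` into the set with mask `T` -/
def mapsC (c R T : ℕ) : Bool :=
  (List.range 24).all fun x => !R.testBit x || T.testBit (appC 40 c x)

theorem mapsC_spec (c R T : ℕ) (h : mapsC c R T = true) : mapsW (decW 40 c) R T := by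
  intro x hx hR
  unfold mapsC at h
  rw [List.all_eq_true] at h
  have := h x (List.mem_range.2 hx)
  rw [hR, appC_eq] at this
  simpa using this

/-- lookup in a 64-column table of codes -/
def codeAt (tab : List (List ℕ)) (n : ℕ) : ℕ := (tab.getD (n / 64) []).getD (n % 64) 0

/-- the check of one entry: the encoded word `c` is valid, fixes the points `pts`, preserves the
sets `sets` and maps `R` onto `T` -/
def entryOK (pts sets : List ℕ) (c R T : ℕ) : Bool :=
  validC 40 c && pts.all (fun a => appC 40 c a == a) && sets.all (fun M => mapsC c M M) &&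
    mapsC c R T && decide (pop24 T ≤ pop24 R)

/-- membership in the stabilizer of a configuration of points and sets -/
def StabCfg (pts sets : List ℕ) (g : Equiv.Perm GolayPt) : Prop :=
  g ∈ M24 ∧ (∀ a ∈ pts, g (dec a) = dec a) ∧ ∀ M ∈ sets, g • maskSet M = maskSet M

theorem StabCfg.mul {pts sets : List ℕ} {g h : Equiv.Perm GolayPt} (hg : StabCfg pts sets g)
    (hh : StabCfg pts sets h) : StabCfg pts sets (g * h) := by
  refine ⟨Subgroup.mul_mem _ hg.1 hh.1, fun a ha => ?_, fun M hM => ?_⟩
  · rw [Equiv.Perm.mul_apply, hh.2.1 a ha, hg.2.1 a ha]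
  · rw [mul_smul, hh.2.2 M hM, hg.2.2 M hM]

theorem StabCfg.inv {pts sets : List ℕ} {g : Equiv.Perm GolayPt} (hg : StabCfg pts sets g) :
    StabCfg pts sets g⁻¹ := by
  refine ⟨Subgroup.inv_mem _ hg.1, fun a ha => ?_, fun M hM => ?_⟩
  · conv_lhs => rw [← hg.2.1 a ha]
    rw [perm_inv_apply]
  · rw [inv_smul_eq_iff, hg.2.2 M hM]

theorem StabCfg.one (pts sets : List ℕ) : StabCfg pts sets 1 :=
  ⟨Subgroup.one_mem _, fun _ _ => rfl, fun _ _ => one_smul _ _⟩

theorem entryOK_spec (pts sets : List ℕ) (hpts : ∀ a ∈ pts, a < 24) (c R T : ℕ)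
    (h : entryOK pts sets c R T = true) :
    StabCfg pts sets (evalW (decW 40 c)) ∧ evalW (decW 40 c) • maskSet R = maskSet T := by
  unfold entryOK at h
  simp only [Bool.and_eq_true, decide_eq_true_eq, List.all_eq_true, beq_iff_eq] at h
  obtain ⟨⟨⟨⟨hv, hp⟩, hs⟩, hm⟩, hpop⟩ := h
  have hw := validC_spec 40 c hv
  refine ⟨⟨evalW_mem_M24 _ hw, fun a ha => ?_, fun M hM => ?_⟩, ?_⟩
  · apply M24.idx_injective
    have : idx (dec a) = a := idx_dec ⟨a, hpts a ha⟩
    rw [idx_evalW _ hw, this, ← appC_eq, hp a ha]
  · exact smul_eq_of_mapsW _ hw M M le_rfl (mapsC_spec _ _ _ (hs M hM))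
  · exact smul_eq_of_mapsW _ hw R T hpop (mapsC_spec _ _ _ hm)

/-- the check of a whole table: for every code word `cw n` (with `n < N`) satisfying `objP`, the
table entry maps the representative of its class onto it, inside the stabilizer of the
configuration -/
def tableOK (pts sets : List ℕ) (objP : ℕ → Bool) (inv : ℕ → ℕ) (rep : ℕ → ℕ)
    (tab : List (List ℕ)) (N : ℕ) : Bool :=
  (List.range N).all fun n => strictN (cw n) fun m => !objP m ||
    strictN (codeAt tab n) fun c => strictN (cw (rep (inv m))) fun r => entryOK pts sets c r m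

theorem tableOK_spec (pts sets : List ℕ) (hpts : ∀ a ∈ pts, a < 24) (objP : ℕ → Bool)
    (inv : ℕ → ℕ) (rep : ℕ → ℕ) (tab : List (List ℕ)) (N : ℕ)
    (h : tableOK pts sets objP inv rep tab N = true) (n : ℕ) (hn : n < N)
    (hP : objP (cw n) = true) :
    ∃ g, StabCfg pts sets g ∧ g • maskSet (cw (rep (inv (cw n)))) = maskSet (cw n) := by
  unfold tableOK at h
  rw [List.all_eq_true] at h
  have h1 := h n (List.mem_range.2 hn)
  rw [strictN_eq, hP, strictN_eq, strictN_eq] at h1
  simp only [Bool.not_true, Bool.false_or] at h1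
  exact ⟨_, entryOK_spec pts sets hpts _ _ _ h1⟩

/-- transitivity of the stabilizer of the configuration on each class of objects -/
theorem table_trans (pts sets : List ℕ) (hpts : ∀ a ∈ pts, a < 24) (objP : ℕ → Bool)
    (inv : ℕ → ℕ) (rep : ℕ → ℕ) (tab : List (List ℕ)) (N : ℕ)
    (h : tableOK pts sets objP inv rep tab N = true) (n m : ℕ) (hn : n < N) (hm : m < N)
    (hPn : objP (cw n) = true) (hPm : objP (cw m) = true) (hinv : inv (cw n) = inv (cw m)) :
    ∃ g, StabCfg pts sets g ∧ g • maskSet (cw n) = maskSet (cw m) := by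
  obtain ⟨g1, hg1, e1⟩ := tableOK_spec pts sets hpts objP inv rep tab N h n hn hPn
  obtain ⟨g2, hg2, e2⟩ := tableOK_spec pts sets hpts objP inv rep tab N h m hm hPm
  refine ⟨g2 * g1⁻¹, hg2.mul hg1.inv, ?_⟩
  rw [mul_smul, ← e1, inv_smul_smul, hinv, e2]

/-- strict counting of code words -/
def countS (P : ℕ → Bool) : ℕ → ℕ
  | 0 => 0
  | n + 1 => countS P n + strictN (cw n) fun m => if P m = true then 1 else 0

theorem countS_eq (P : ℕ → Bool) (N : ℕ) : countS P N = countC P N := by
  induction N with
  | zero => rfl
  | succ N ih =>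
    unfold countS countC
    rw [ih, strictN_eq]

theorem ncard_codeS (P : ℕ → Bool) :
    {s : Finset GolayPt | ∃ n < 4096, P (cw n) = true ∧ s = maskSet (cw n)}.ncard
      = countS P 4096 := by
  rw [countS_eq, ncard_code]

end Cfsg.Agent.Helper29.M24
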