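import Mathlib
import Cfsg.Agent.Lib.Helper29.M24Fast

set_option autoImplicit false
open Cfsg

namespace Cfsg.Agent.Helper29.M24

open Cfsg.Agent.Helper27 Cfsg.Agent.Helper29
open Cfsg.Agent.S0358 (idx)
open scoped Pointwise

/-! ### Orbit certificates as Schreier trees

A family of sets is given by masks `obj n`, `n < N`.  A table assigns to each member of the family
(those with `objP (obj n)`) either the mark `0` (it is the representative of its class) or a
parent in the same class, a generator of the stabilizer of the configuration mapping the parent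
to it, and a level larger than the level of the parent. -/

/-- the packed permutation `P` maps the set with mask `R` into the set with mask `T` -/
def mapsP (P R T : ℕ) : Bool :=
  (List.range 24).all fun x => !R.testBit x || T.testBit (app P x)

/-- check of one generator: the packed code agrees with the encoded word, the word is valid, fixes
the points and preserves the sets of the configuration -/
def hgenOK (pts sets : List ℕ) (Pc : ℕ × ℕ) : Bool :=
  validC 40 Pc.2 && (List.range 24).all (fun x => app Pc.1 x == appC 40 Pc.2 x) &&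
    pts.all (fun a => app Pc.1 a == a) && sets.all (fun M => mapsP Pc.1 M M)

theorem hgenOK_spec (pts sets : List ℕ) (hpts : ∀ a ∈ pts, a < 24) (Pc : ℕ × ℕ)
    (h : hgenOK pts sets Pc = true) :
    StabCfg pts sets (evalW (decW 40 Pc.2)) ∧
      ∀ R T : ℕ, mapsP Pc.1 R T = true → pop24 T ≤ pop24 R →
        evalW (decW 40 Pc.2) • maskSet R = maskSet T := by
  unfold hgenOK at h
  simp only [Bool.and_eq_true, List.all_eq_true, beq_iff_eq, List.mem_range] at h
  obtain ⟨⟨⟨hv, hP⟩, hp⟩, hs⟩ := h
  have hw := validC_spec 40 _ hv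
  have hmaps : ∀ R T : ℕ, mapsP Pc.1 R T = true → mapsW (decW 40 Pc.2) R T := by
    intro R T hRT x hx hR
    unfold mapsP at hRT
    rw [List.all_eq_true] at hRT
    have := hRT x (List.mem_range.2 hx)
    rw [hR, hP x hx, appC_eq] at this
    simpa using this
  refine ⟨⟨evalW_mem_M24 _ hw, fun a ha => ?_, fun M hM => ?_⟩, fun R T hRT hpop => ?_⟩
  · apply M24.idx_injective
    have : idx (dec a) = a := idx_dec ⟨a, hpts a ha⟩
    rw [idx_evalW _ hw, this, ← appC_eq, ← hP a (hpts a ha), hp a ha]
  · exact smul_eq_of_mapsW _ hw M M le_rfl (hmaps M M (hs M hM))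
  · exact smul_eq_of_mapsW _ hw R T hpop (hmaps R T hRT)

/-- level of a tree entry -/
def lvlOf (e : ℕ) : ℕ := if e = 0 then 0 else (e - 1) / 262144

/-- parent of a tree entry -/
def parOf (e : ℕ) : ℕ := (e - 1) % 4096

/-- generator index of a tree entry -/
def genOf (e : ℕ) : ℕ := ((e - 1) / 4096) % 64

/-- the check of the entry of `n` -/
def nodeOK (objP : ℕ → Bool) (inv : ℕ → ℕ) (rep : ℕ → ℕ) (obj : ℕ → ℕ)
    (hgens : List (ℕ × ℕ)) (tab : List (List ℕ)) (N n : ℕ) : Bool :=
  strictN (obj n) fun m => !objP m || strictN (codeAt tab n) fun e =>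
    if e = 0 then n == rep (inv m)
    else strictN (parOf e) fun p => strictN (obj p) fun mp => strictN (codeAt tab p) fun ep =>
      objP mp && (inv mp == inv m) && decide (lvlOf ep < lvlOf e) && decide (p < N) &&
        decide (genOf e < hgens.length) &&
        strictN (hgens.getD (genOf e) (0, 0)).1 fun P =>
          mapsP P mp m && decide (pop24 m ≤ pop24 mp)

/-- the check of a whole tree table -/
def treeOK (pts sets : List ℕ) (objP : ℕ → Bool) (inv : ℕ → ℕ) (rep : ℕ → ℕ) (obj : ℕ → ℕ)
    (hgens : List (ℕ × ℕ)) (tab : List (List ℕ)) (N : ℕ) : Bool :=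
  hgens.all (hgenOK pts sets) && (List.range N).all (nodeOK objP inv rep obj hgens tab N)

theorem tree_spec (pts sets : List ℕ) (hpts : ∀ a ∈ pts, a < 24) (objP : ℕ → Bool)
    (inv : ℕ → ℕ) (rep : ℕ → ℕ) (obj : ℕ → ℕ) (hgens : List (ℕ × ℕ)) (tab : List (List ℕ))
    (N : ℕ) (h : treeOK pts sets objP inv rep obj hgens tab N = true) :
    ∀ l n : ℕ, lvlOf (codeAt tab n) = l → n < N → objP (obj n) = true →
      ∃ g, StabCfg pts sets g ∧ g • maskSet (obj (rep (inv (obj n)))) = maskSet (obj n) := by
  unfold treeOK at h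
  rw [Bool.and_eq_true, List.all_eq_true, List.all_eq_true] at h
  obtain ⟨hG, hT⟩ := h
  intro l
  induction l using Nat.strong_induction_on with
  | _ l ih =>
    intro n hl hn hP
    have h1 := hT n (List.mem_range.2 hn)
    unfold nodeOK at h1
    rw [strictN_eq, hP, strictN_eq] at h1
    simp only [Bool.not_true, Bool.false_or] at h1
    split_ifs at h1 with he
    · rw [beq_iff_eq] at h1
      refine ⟨1, StabCfg.one _ _, ?_⟩
      rw [← h1, one_smul]
    · rw [strictN_eq, strictN_eq, strictN_eq, strictN_eq] at h1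
      simp only [Bool.and_eq_true, decide_eq_true_eq, beq_iff_eq] at h1
      obtain ⟨⟨⟨⟨⟨hPp, hinv⟩, hlvl⟩, hpN⟩, hgl⟩, hmap, hpop⟩ := h1
      obtain ⟨gp, hgp, egp⟩ := ih _ (by rw [← hl]; exact hlvl) _ rfl hpN hPp
      have hmem : hgens.getD (genOf (codeAt tab n)) (0, 0) ∈ hgens := by
        rw [List.getD_eq_getElem _ _ hgl]
        exact List.getElem_mem hgl
      obtain ⟨hs, hact⟩ := hgenOK_spec pts sets hpts _ (hG _ hmem)
      refine ⟨_, hs.mul hgp, ?_⟩
      rw [mul_smul, ← hinv, egp]
      exact hact _ _ hmap hpop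

/-- transitivity of the stabilizer of the configuration on each class of objects -/
theorem tree_trans (pts sets : List ℕ) (hpts : ∀ a ∈ pts, a < 24) (objP : ℕ → Bool)
    (inv : ℕ → ℕ) (rep : ℕ → ℕ) (obj : ℕ → ℕ) (hgens : List (ℕ × ℕ)) (tab : List (List ℕ))
    (N : ℕ) (h : treeOK pts sets objP inv rep obj hgens tab N = true) (n m : ℕ) (hn : n < N)
    (hm : m < N) (hPn : objP (obj n) = true) (hPm : objP (obj m) = true)
    (hinv : inv (obj n) = inv (obj m)) :
    ∃ g, StabCfg pts sets g ∧ g • maskSet (obj n) = maskSet (obj m) := by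
  obtain ⟨g1, hg1, e1⟩ := tree_spec pts sets hpts objP inv rep obj hgens tab N h _ n rfl hn hPn
  obtain ⟨g2, hg2, e2⟩ := tree_spec pts sets hpts objP inv rep obj hgens tab N h _ m rfl hm hPm
  refine ⟨g2 * g1⁻¹, hg2.mul hg1.inv, ?_⟩
  rw [mul_smul, ← e1, inv_smul_smul, hinv, e2]

end Cfsg.Agent.Helper29.M24
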