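import Mathlib
import Cfsg.Agent.Lib.Helper29.M24Tree
import Cfsg.Agent.Lib.Helper29.M24Invol

set_option autoImplicit false
open Cfsg

namespace Cfsg.Agent.Helper29.M24

open Cfsg.Agent.Helper27 Cfsg.Agent.Helper29
open Cfsg.Agent.S0358 (idx)
open scoped Pointwise

/-! ### Families of sets given by lists of masks, and generic orbit certificates -/

/-- a bit of a number, with primitive operations only -/
def bitF (m x : ℕ) : ℕ := Nat.land (Nat.shiftRight m x) 1

theorem bitF_eq (m x : ℕ) : bitF m x = if m.testBit x then 1 else 0 := bit'_eq m x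

/-- the image of a point under a packed permutation, with primitive operations only -/
def appF (P x : ℕ) : ℕ := Nat.land (Nat.shiftRight P (Nat.mul 5 x)) 31

theorem appF_eq (P x : ℕ) : appF P x = app P x := rfl

/-- the image of a mask under a packed permutation, bit by bit -/
def imgAux (P m : ℕ) : ℕ → ℕ
  | 0 => 0
  | x + 1 => if bitF m x = 1 then Nat.lor (imgAux P m x) (Nat.shiftLeft 1 (appF P x))
      else imgAux P m x

/-- the image of a mask under a packed permutation -/
def imgP (P m : ℕ) : ℕ := imgAux P m 24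

theorem testBit_imgAux (P m : ℕ) (k y : ℕ) :
    (imgAux P m k).testBit y = true ↔ ∃ x < k, m.testBit x = true ∧ app P x = y := by
  induction k with
  | zero => simp [imgAux]
  | succ k ih =>
    unfold imgAux
    have hb : bitF m k = 1 ↔ m.testBit k = true := by
      rw [bitF_eq]
      cases m.testBit k <;> simp
    have hs : Nat.shiftLeft 1 (appF P k) = 2 ^ app P k := by
      rw [appF_eq]
      exact Nat.one_shiftLeft _
    split_ifs with h
    · rw [hb] at h
      rw [hs]
      show (imgAux P m k ||| 2 ^ app P k).testBit y = true ↔ _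
      rw [Nat.testBit_or, Bool.or_eq_true, ih, Nat.testBit_two_pow, decide_eq_true_eq]
      constructor
      · rintro (⟨x, hx, h1, h2⟩ | h1)
        · exact ⟨x, by omega, h1, h2⟩
        · exact ⟨k, by omega, h, h1⟩
      · rintro ⟨x, hx, h1, h2⟩
        by_cases hxk : x = k
        · right
          rw [← hxk]; exact h2
        · left
          exact ⟨x, by omega, h1, h2⟩
    · rw [hb] at h
      rw [ih]
      constructor
      · rintro ⟨x, hx, h1, h2⟩
        exact ⟨x, by omega, h1, h2⟩
      · rintro ⟨x, hx, h1, h2⟩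
        by_cases hxk : x = k
        · rw [hxk] at h1
          exact absurd h1 h
        · exact ⟨x, by omega, h1, h2⟩

theorem maskSet_imgP (P : ℕ) (w : List ℕ) (hw : ∀ j ∈ w, j < ngen)
    (hP : ∀ x < 24, app P x = appW w x) (m : ℕ) :
    evalW w • maskSet m = maskSet (imgP P m) := by
  ext p
  rw [mem_maskSet, imgP, testBit_imgAux]
  constructor
  · intro hp
    obtain ⟨q, hq, rfl⟩ := Finset.mem_smul_finset.1 hp
    rw [mem_maskSet] at hq
    refine ⟨idx q, M24.idx_lt q, hq, ?_⟩
    rw [hP _ (M24.idx_lt q), ← idx_evalW _ hw]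
    rfl
  · rintro ⟨x, hx, h1, h2⟩
    have hd : idx (dec x) = x := idx_dec ⟨x, hx⟩
    have : evalW w (dec x) = p := by
      apply M24.idx_injective
      rw [idx_evalW _ hw, hd, ← hP x hx, h2]
    rw [← this]
    apply Finset.smul_mem_smul_finset
    rw [mem_maskSet, hd]
    exact h1

/-- the family of sets with the given masks -/
def famSet (L : List ℕ) : Finset (Finset GolayPt) := (L.map maskSet).toFinset

theorem mem_famSet (L : List ℕ) (s : Finset GolayPt) : s ∈ famSet L ↔ ∃ m ∈ L, maskSet m = s := by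
  unfold famSet
  rw [List.mem_toFinset, List.mem_map]

theorem smul_famSet (g : Equiv.Perm GolayPt) (L L' : List ℕ)
    (h1 : ∀ m ∈ L, ∃ m' ∈ L', g • maskSet m = maskSet m')
    (h2 : ∀ m' ∈ L', ∃ m ∈ L, g • maskSet m = maskSet m') : g • famSet L = famSet L' := by
  ext s
  rw [mem_famSet]
  constructor
  · intro hs
    obtain ⟨t, ht, rfl⟩ := Finset.mem_smul_finset.1 hs
    obtain ⟨m, hm, rfl⟩ := (mem_famSet _ _).1 ht
    obtain ⟨m', hm', e⟩ := h1 m hm
    exact ⟨m', hm', e.symm⟩
  · rintro ⟨m', hm', rfl⟩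
    obtain ⟨m, hm, e⟩ := h2 m' hm'
    rw [← e]
    exact Finset.smul_mem_smul_finset ((mem_famSet _ _).2 ⟨m, hm, rfl⟩)

/-- digits in base `2 ^ 24` -/
def unpackF : ℕ → ℕ → List ℕ
  | 0, _ => []
  | k + 1, c => (Nat.mod c 16777216) :: unpackF k (Nat.div c 16777216)

theorem unpackF_lt (k c : ℕ) : ∀ m ∈ unpackF k c, m < 2 ^ 24 := by
  induction k generalizing c with
  | zero => intro m hm; exact absurd hm List.not_mem_nil
  | succ k ih =>
    intro m hm
    unfold unpackF at hm
    rw [List.mem_cons] at hm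
    rcases hm with rfl | hm
    · exact Nat.mod_lt _ (by norm_num)
    · exact ih _ m hm

theorem unpackF_length (k c : ℕ) : (unpackF k c).length = k := by
  induction k generalizing c with
  | zero => rfl
  | succ k ih => unfold unpackF; rw [List.length_cons, ih]

/-- a packed permutation maps the family with code `a` onto the family with code `b` -/
def relF (k P a b : ℕ) : Bool :=
  ((unpackF k a).all fun m => (unpackF k b).contains (imgP P m)) &&
    ((unpackF k b).all fun m' => (unpackF k a).any fun m => imgP P m == m')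

theorem relF_spec (k P : ℕ) (w : List ℕ) (hw : ∀ j ∈ w, j < ngen)
    (hP : ∀ x < 24, app P x = appW w x) (a b : ℕ) (h : relF k P a b = true) :
    evalW w • famSet (unpackF k a) = famSet (unpackF k b) := by
  unfold relF at h
  simp only [Bool.and_eq_true, List.all_eq_true, List.any_eq_true, List.contains_iff_mem,
    beq_iff_eq] at h
  apply smul_famSet
  · intro m hm
    exact ⟨_, h.1 m hm, maskSet_imgP P w hw hP m⟩
  · intro m' hm'
    obtain ⟨m, hm, e⟩ := h.2 m' hm'
    exact ⟨m, hm, by rw [maskSet_imgP P w hw hP m, e]⟩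

/-- strictly increasing lists -/
def sortedB : List ℕ → Bool
  | [] => true
  | [_] => true
  | a :: b :: l => decide (a < b) && sortedB (b :: l)

theorem sortedB_spec : ∀ L : List ℕ, sortedB L = true → L.Pairwise (· < ·)
  | [], _ => List.Pairwise.nil
  | [_], _ => List.pairwise_singleton _ _
  | a :: b :: l, h => by
    unfold sortedB at h
    rw [Bool.and_eq_true, decide_eq_true_eq] at h
    have ih := sortedB_spec (b :: l) h.2
    rw [List.pairwise_cons]
    refine ⟨fun c hc => ?_, ih⟩
    rw [List.mem_cons] at hc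
    rcases hc with rfl | hc
    · exact h.1
    · exact lt_trans h.1 ((List.pairwise_cons.1 ih).1 c hc)

theorem famSet_inj (L L' : List ℕ) (hL : L.Pairwise (· < ·)) (hL' : L'.Pairwise (· < ·))
    (h24 : ∀ m ∈ L, m < 2 ^ 24) (h24' : ∀ m ∈ L', m < 2 ^ 24) (h : famSet L = famSet L') :
    L = L' := by
  have hsub : ∀ (A B : List ℕ), (∀ m ∈ A, m < 2 ^ 24) → (∀ m ∈ B, m < 2 ^ 24) →
      famSet A = famSet B → ∀ m ∈ A, m ∈ B := by
    intro A B hA hB hAB m hm
    have : maskSet m ∈ famSet B := by rw [← hAB]; exact (mem_famSet _ _).2 ⟨m, hm, rfl⟩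
    obtain ⟨m', hm', e⟩ := (mem_famSet _ _).1 this
    rw [maskSet_inj (hA m hm) (hB m' hm') e.symm]
    exact hm'
  have hperm : L.Perm L' := by
    rw [List.perm_ext_iff_of_nodup (hL.imp (fun h => ne_of_lt h)) (hL'.imp (fun h => ne_of_lt h))]
    intro m
    exact ⟨hsub L L' h24 h24' h m, hsub L' L h24' h24 h.symm m⟩
  exact List.Perm.eq_of_pairwise (le := (· < ·)) (fun a b _ _ h1 h2 => absurd h1 (not_lt.2 (le_of_lt h2)))
    hL hL' hperm

/-! ### The sum-of-squares invariant of two families -/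

/-- the sum of the squares of the sizes of the intersections of the members of two families -/
def sqInv (A B : Finset (Finset GolayPt)) : ℕ := ∑ a ∈ A, ∑ b ∈ B, (a ∩ b).card ^ 2

theorem sqInv_smul (g : Equiv.Perm GolayPt) (A B : Finset (Finset GolayPt)) :
    sqInv (g • A) (g • B) = sqInv A B := by
  unfold sqInv
  have hA : g • A = A.image (fun a => g • a) := rfl
  have hB : g • B = B.image (fun a => g • a) := rfl
  rw [hA, Finset.sum_image (fun x _ y _ h => MulAction.injective g h)]
  apply Finset.sum_congr rfl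
  intro a _
  rw [hB, Finset.sum_image (fun x _ y _ h => MulAction.injective g h)]
  apply Finset.sum_congr rfl
  intro b _
  rw [← Finset.smul_finset_inter, Finset.card_smul_finset]

theorem sqInv_smul_left (g : Equiv.Perm GolayPt) (A B : Finset (Finset GolayPt)) :
    sqInv (g • A) B = sqInv A (g⁻¹ • B) := by
  conv_lhs => rw [← smul_inv_smul g B]
  exact sqInv_smul g A _

/-- the invariant on lists of masks -/
def sqL (LA LB : List ℕ) : ℕ := (LA.map fun a => (LB.map fun b => pop24 (a &&& b) ^ 2).sum).sum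

theorem nodup_map_maskSet (L : List ℕ) (hL : L.Pairwise (· < ·)) (h24 : ∀ m ∈ L, m < 2 ^ 24) :
    (L.map maskSet).Nodup := by
  rw [List.nodup_map_iff_inj_on (hL.imp (fun h => ne_of_lt h))]
  intro a ha b hb h
  exact maskSet_inj (h24 a ha) (h24 b hb) h

theorem sqInv_famSet (LA LB : List ℕ) (hA : LA.Pairwise (· < ·)) (hB : LB.Pairwise (· < ·))
    (hA24 : ∀ m ∈ LA, m < 2 ^ 24) (hB24 : ∀ m ∈ LB, m < 2 ^ 24) :
    sqInv (famSet LA) (famSet LB) = sqL LA LB := by
  unfold sqInv famSet sqL
  rw [List.sum_toFinset _ (nodup_map_maskSet LA hA hA24), List.map_map]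
  congr 1
  apply List.map_congr_left
  intro a _
  rw [Function.comp_apply, List.sum_toFinset _ (nodup_map_maskSet LB hB hB24), List.map_map]
  congr 1
  apply List.map_congr_left
  intro b _
  rw [Function.comp_apply, inter_maskSet_card]

/-! ### Fast versions for kernel evaluation -/

/-- the number of bits of a nibble of `m`, read from a table -/
def nibF (m k : ℕ) : ℕ :=
  Nat.land (Nat.shiftRight 4841987667533046032 (Nat.mul 4 (Nat.land (Nat.shiftRight m k) 15))) 7

/-- fast count of the lowest 24 bits -/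
def popF (m : ℕ) : ℕ :=
  Nat.add (Nat.add (Nat.add (Nat.add (Nat.add (nibF m 0) (nibF m 4)) (nibF m 8)) (nibF m 12))
    (nibF m 16)) (nibF m 20)

theorem nib_table : ∀ x < 16, Nat.land (Nat.shiftRight 4841987667533046032 (Nat.mul 4 x)) 7 =
    bit' x 0 + bit' x 1 + bit' x 2 + bit' x 3 := by decide

theorem bit'_nibble (m k j : ℕ) (hj : j < 4) :
    bit' (Nat.land (Nat.shiftRight m k) 15) j = bit' m (k + j) := by
  rw [bit'_eq, bit'_eq]
  show (if (m >>> k &&& 15).testBit j = true then 1 else 0) = _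
  rw [Nat.testBit_and, Nat.testBit_shiftRight]
  have : (15 : ℕ).testBit j = true := by
    interval_cases j <;> decide
  rw [this, Bool.and_true]

theorem nibF_eq (m k : ℕ) : nibF m k = bit' m k + bit' m (k + 1) + bit' m (k + 2) + bit' m (k + 3) := by
  unfold nibF
  have hlt : Nat.land (Nat.shiftRight m k) 15 < 16 := by
    show m >>> k &&& 15 < 16
    exact lt_of_le_of_lt Nat.and_le_right (by norm_num)
  rw [nib_table _ hlt, bit'_nibble m k 0 (by norm_num), bit'_nibble m k 1 (by norm_num),
    bit'_nibble m k 2 (by norm_num), bit'_nibble m k 3 (by norm_num)]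
  rfl

theorem popF_eq (m : ℕ) : popF m = pop24 m := by
  unfold popF pop24
  rw [nibF_eq, nibF_eq, nibF_eq, nibF_eq, nibF_eq, nibF_eq]
  simp only [Nat.add_eq, Nat.zero_add]
  ring

/-- fast square -/
def sqN (x : ℕ) : ℕ := Nat.mul x x

/-- one row of the fast invariant -/
def sqRow (a : ℕ) : List ℕ → ℕ
  | [] => 0
  | b :: l => Nat.add (sqN (popF (Nat.land a b))) (sqRow a l)

/-- the invariant on lists of masks, fast version -/
def sqF : List ℕ → List ℕ → ℕ
  | [], _ => 0
  | a :: l, LB => Nat.add (sqRow a LB) (sqF l LB)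

theorem sqRow_eq (a : ℕ) (LB : List ℕ) :
    sqRow a LB = (LB.map fun b => pop24 (a &&& b) ^ 2).sum := by
  induction LB with
  | nil => rfl
  | cons b l ih =>
    unfold sqRow
    rw [List.map_cons, List.sum_cons, ← ih, popF_eq]
    show pop24 (a &&& b) * pop24 (a &&& b) + _ = _
    rw [sq]

theorem sqF_eq (LA LB : List ℕ) : sqF LA LB = sqL LA LB := by
  induction LA with
  | nil => rfl
  | cons a l ih =>
    unfold sqF sqL
    rw [List.map_cons, List.sum_cons, ← sqRow_eq]
    unfold sqL at ih
    rw [← ih]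
    rfl

/-! ### Generic Schreier-tree certificates

A table entry is `0` for an unused index; otherwise it is
`kind + 2 * (parent + 4096 * (gen + 64 * (level + 64 * label)))`, where `kind = 0` marks the
representative of the class with the given label. -/

/-- the entry marks a representative -/
def eRoot (e : ℕ) : Bool := Nat.beq (Nat.mod e 2) 0

/-- parent of a tree entry -/
def ePar (e : ℕ) : ℕ := Nat.mod (Nat.div e 2) 4096

/-- generator index of a tree entry -/
def eGen (e : ℕ) : ℕ := Nat.mod (Nat.div e 8192) 64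

/-- level of a tree entry -/
def eLvl (e : ℕ) : ℕ := Nat.mod (Nat.div e 524288) 64

/-- class label of a tree entry -/
def eLab (e : ℕ) : ℕ := Nat.div e 33554432

/-- the class label of an index -/
def labOf (tab : List (List ℕ)) (n : ℕ) : ℕ := eLab (codeAt tab n)

/-- check of one generator against a configuration check -/
def ggenOK (cfgOK : ℕ → Bool) (Pc : ℕ × ℕ) : Bool :=
  validC 40 Pc.2 && (List.range 24).all (fun x => app Pc.1 x == appC 40 Pc.2 x) && cfgOK Pc.1

/-- the check of the entry of `n` -/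
def gnodeOK (rel : ℕ → ℕ → ℕ → Bool) (objP : ℕ → Bool) (rep : ℕ → ℕ) (obj : ℕ → ℕ)
    (hgens : List (ℕ × ℕ)) (tab : List (List ℕ)) (N n : ℕ) : Bool :=
  strictN (obj n) fun m => !objP m || strictN (codeAt tab n) fun e =>
    if eRoot e = true then (n == rep (eLab e)) && (eLvl e == 0)
    else strictN (ePar e) fun p => strictN (obj p) fun mp => strictN (codeAt tab p) fun ep =>
      objP mp && (eLab ep == eLab e) && decide (eLvl ep < eLvl e) && decide (p < N) &&
        decide (eGen e < hgens.length) &&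
        strictN (hgens.getD (eGen e) (0, 0)).1 fun P => rel P mp m

/-- the check of a whole tree table -/
def gtreeOK (cfgOK : ℕ → Bool) (rel : ℕ → ℕ → ℕ → Bool) (objP : ℕ → Bool)
    (rep : ℕ → ℕ) (obj : ℕ → ℕ) (hgens : List (ℕ × ℕ)) (tab : List (List ℕ)) (N : ℕ) : Bool :=
  hgens.all (ggenOK cfgOK) && (List.range N).all (gnodeOK rel objP rep obj hgens tab N)

/-- a packed permutation together with a word representing it -/
def Repr (P : ℕ) (w : List ℕ) : Prop := (∀ j ∈ w, j < ngen) ∧ ∀ x < 24, app P x = appW w x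

theorem ggenOK_spec (cfgOK : ℕ → Bool) (Pc : ℕ × ℕ) (h : ggenOK cfgOK Pc = true) :
    Repr Pc.1 (decW 40 Pc.2) ∧ cfgOK Pc.1 = true := by
  unfold ggenOK at h
  simp only [Bool.and_eq_true, List.all_eq_true, beq_iff_eq, List.mem_range] at h
  obtain ⟨⟨hv, hP⟩, hc⟩ := h
  refine ⟨⟨validC_spec 40 _ hv, fun x hx => ?_⟩, hc⟩
  rw [hP x hx, appC_eq]

theorem gtree_spec {X : Type*} [MulAction (Equiv.Perm GolayPt) X]
    (H : Subgroup (Equiv.Perm GolayPt)) (cfgOK : ℕ → Bool) (sem : ℕ → X)
    (rel : ℕ → ℕ → ℕ → Bool) (objP : ℕ → Bool) (obj : ℕ → ℕ) (N : ℕ)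
    (hcfg : ∀ (P : ℕ) (w : List ℕ), Repr P w → cfgOK P = true → evalW w ∈ H)
    (hrel : ∀ (P : ℕ) (w : List ℕ), Repr P w → ∀ a < N, ∀ b < N, objP (obj a) = true →
      objP (obj b) = true → rel P (obj a) (obj b) = true → evalW w • sem (obj a) = sem (obj b))
    (rep : ℕ → ℕ) (hgens : List (ℕ × ℕ)) (tab : List (List ℕ))
    (h : gtreeOK cfgOK rel objP rep obj hgens tab N = true) :
    ∀ l n : ℕ, eLvl (codeAt tab n) = l → n < N → objP (obj n) = true →
      ∃ g ∈ H, g • sem (obj (rep (labOf tab n))) = sem (obj n) := by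
  unfold gtreeOK at h
  rw [Bool.and_eq_true, List.all_eq_true, List.all_eq_true] at h
  obtain ⟨hG, hT⟩ := h
  intro l
  induction l using Nat.strong_induction_on with
  | _ l ih =>
    intro n hl hn hP
    have h1 := hT n (List.mem_range.2 hn)
    unfold gnodeOK at h1
    rw [strictN_eq, hP, strictN_eq] at h1
    simp only [Bool.not_true, Bool.false_or] at h1
    split_ifs at h1 with he
    · rw [Bool.and_eq_true, beq_iff_eq] at h1
      refine ⟨1, Subgroup.one_mem _, ?_⟩
      unfold labOf
      rw [← h1.1, one_smul]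
    · rw [strictN_eq, strictN_eq, strictN_eq, strictN_eq] at h1
      simp only [Bool.and_eq_true, decide_eq_true_eq, beq_iff_eq] at h1
      obtain ⟨⟨⟨⟨⟨hPp, hlab⟩, hlvl⟩, hpN⟩, hgl⟩, hmap⟩ := h1
      obtain ⟨gp, hgp, egp⟩ := ih _ (by rw [← hl]; exact hlvl) _ rfl hpN hPp
      have hmem : hgens.getD (eGen (codeAt tab n)) (0, 0) ∈ hgens := by
        rw [List.getD_eq_getElem _ _ hgl]
        exact List.getElem_mem hgl
      obtain ⟨hr, hc⟩ := ggenOK_spec cfgOK _ (hG _ hmem)
      refine ⟨_, Subgroup.mul_mem _ (hcfg _ _ hr hc) hgp, ?_⟩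
      unfold labOf at egp ⊢
      rw [mul_smul, ← hlab, egp]
      exact hrel _ _ hr _ hpN _ hn hPp hP hmap

/-- transitivity of the subgroup on each class of objects -/
theorem gtree_trans {X : Type*} [MulAction (Equiv.Perm GolayPt) X]
    (H : Subgroup (Equiv.Perm GolayPt)) (cfgOK : ℕ → Bool) (sem : ℕ → X)
    (rel : ℕ → ℕ → ℕ → Bool) (objP : ℕ → Bool) (obj : ℕ → ℕ) (N : ℕ)
    (hcfg : ∀ (P : ℕ) (w : List ℕ), Repr P w → cfgOK P = true → evalW w ∈ H)
    (hrel : ∀ (P : ℕ) (w : List ℕ), Repr P w → ∀ a < N, ∀ b < N, objP (obj a) = true →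
      objP (obj b) = true → rel P (obj a) (obj b) = true → evalW w • sem (obj a) = sem (obj b))
    (rep : ℕ → ℕ) (hgens : List (ℕ × ℕ)) (tab : List (List ℕ))
    (h : gtreeOK cfgOK rel objP rep obj hgens tab N = true) (n m : ℕ) (hn : n < N)
    (hm : m < N) (hPn : objP (obj n) = true) (hPm : objP (obj m) = true)
    (hlab : labOf tab n = labOf tab m) :
    ∃ g ∈ H, g • sem (obj n) = sem (obj m) := by
  obtain ⟨g1, hg1, e1⟩ := gtree_spec H cfgOK sem rel objP obj N hcfg hrel rep hgens tab h
    _ n rfl hn hPn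
  obtain ⟨g2, hg2, e2⟩ := gtree_spec H cfgOK sem rel objP obj N hcfg hrel rep hgens tab h
    _ m rfl hm hPm
  refine ⟨g2 * g1⁻¹, Subgroup.mul_mem _ hg2 (Subgroup.inv_mem _ hg1), ?_⟩
  rw [mul_smul, ← e1, inv_smul_smul, hlab, e2]

/-- the stabilizer of a family inside the group of the code -/
def famStab (A : Finset (Finset GolayPt)) : Subgroup (Equiv.Perm GolayPt) :=
  M24 ⊓ MulAction.stabilizer (Equiv.Perm GolayPt) A

theorem famStab_cfg (k c : ℕ) (P : ℕ) (w : List ℕ) (hr : Repr P w) (h : relF k P c c = true) :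
    evalW w ∈ famStab (famSet (unpackF k c)) :=
  Subgroup.mem_inf.2 ⟨evalW_mem_M24 w hr.1, MulAction.mem_stabilizer_iff.2
    (relF_spec k P w hr.1 hr.2 c c h)⟩

/-- transport of transitivity from a base configuration -/
theorem fam_transport {X : Type*} [MulAction (Equiv.Perm GolayPt) X]
    (A : Finset (Finset GolayPt)) (g0 : Equiv.Perm GolayPt) (hg0 : g0 ∈ M24) (y z : X)
    (h : ∃ g ∈ famStab A, g • (g0⁻¹ • y) = g0⁻¹ • z) :
    ∃ g ∈ M24, g • (g0 • A) = g0 • A ∧ g • y = z := by
  obtain ⟨g, hg, e⟩ := h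
  obtain ⟨hgM, hgA⟩ := Subgroup.mem_inf.1 hg
  rw [MulAction.mem_stabilizer_iff] at hgA
  refine ⟨g0 * g * g0⁻¹, Subgroup.mul_mem _ (Subgroup.mul_mem _ hg0 hgM) (Subgroup.inv_mem _ hg0),
    ?_, ?_⟩
  · rw [mul_smul, mul_smul, inv_smul_smul, hgA]
  · rw [mul_smul, mul_smul, e, smul_inv_smul]

/-! ### Orbits from classes, and counting -/

/-- if a group preserves a set and a labelling, and is transitive on each class of the labelling,
then the orbits on the set are the classes -/
theorem orbit_eq_class {G X : Type*} [Group G] [MulAction G X] (A : Set X) (cls : X → ℕ)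
    (hA : ∀ g : G, ∀ y ∈ A, g • y ∈ A) (hinv : ∀ g : G, ∀ y ∈ A, cls (g • y) = cls y)
    (htrans : ∀ y ∈ A, ∀ z ∈ A, cls y = cls z → ∃ g : G, g • y = z) (y : X) (hy : y ∈ A) :
    MulAction.orbit G y = {z | z ∈ A ∧ cls z = cls y} := by
  ext z
  constructor
  · rintro ⟨g, rfl⟩
    exact ⟨hA g y hy, hinv g y hy⟩
  · rintro ⟨hz, hc⟩
    obtain ⟨g, hg⟩ := htrans y hy z hz hc.symm
    exact ⟨g, hg⟩

/-- strict counting of indices -/
def countN (P : ℕ → Bool) : ℕ → ℕ
  | 0 => 0
  | n + 1 => countN P n + if P n = true then 1 else 0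

theorem countN_eq (P : ℕ → Bool) (N : ℕ) :
    countN P N = ((Finset.range N).filter (fun n => P n = true)).card := by
  induction N with
  | zero => simp [countN]
  | succ N ih =>
    unfold countN
    rw [ih, Finset.range_add_one, Finset.filter_insert]
    split_ifs with h
    · rw [Finset.card_insert_of_notMem]
      intro hmem
      have := (Finset.mem_filter.1 hmem).1
      simp at this
    · rfl

/-- counting the members of an enumerated family satisfying a condition -/
theorem ncard_family {X : Type*} (F : Set X) (sem : ℕ → X) (N : ℕ) (valid : ℕ → Bool)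
    (hF : ∀ z, z ∈ F ↔ ∃ i < N, valid i = true ∧ z = sem i)
    (hinj : ∀ i < N, ∀ j < N, valid i = true → valid j = true → sem i = sem j → i = j)
    (C : X → Prop) (P' : ℕ → Bool)
    (hC : ∀ i < N, valid i = true → (C (sem i) ↔ P' i = true)) :
    {z | z ∈ F ∧ C z}.ncard = countN (fun i => valid i && P' i) N := by
  rw [countN_eq]
  have himg : {z | z ∈ F ∧ C z} =
      sem '' (((Finset.range N).filter (fun n => (valid n && P' n) = true) : Finset ℕ) : Set ℕ) := by
    ext z
    simp only [Set.mem_ofPred_eq, Set.mem_image, Finset.mem_coe, Finset.mem_filter,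
      Finset.mem_range, Bool.and_eq_true]
    constructor
    · rintro ⟨hz, hc⟩
      obtain ⟨i, hi, hv, rfl⟩ := (hF z).1 hz
      exact ⟨i, ⟨hi, hv, (hC i hi hv).1 hc⟩, rfl⟩
    · rintro ⟨i, ⟨hi, hv, hp⟩, rfl⟩
      exact ⟨(hF _).2 ⟨i, hi, hv, rfl⟩, (hC i hi hv).2 hp⟩
  rw [himg, Set.InjOn.ncard_image, Set.ncard_coe_finset]
  intro i hi j hj h
  simp only [Finset.mem_coe, Finset.mem_filter, Finset.mem_range, Bool.and_eq_true] at hi hj
  exact hinj i hi.1 j hj.1 hi.2.1 hj.2.1 h

end Cfsg.Agent.Helper29.M24
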