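import Mathlib

set_option autoImplicit false

/-! A simplicity criterion: a faithful 3-transitive group of finite degree at least 4 that is not a
power of 2, with a simple point stabilizer, is simple. -/

namespace Cfsg.Agent.Helper29

open MulAction

variable {G Ω : Type*} [Group G] [MulAction G Ω]

/-- a normal subgroup meeting a point stabilizer trivially, in a 3-transitive group of degree at
least four, has exponent 2 -/
theorem sq_eq_one_of_regular_normal (a : Ω)
    (h3 : ∀ x y z x' y' z' : Ω, x ≠ y → x ≠ z → y ≠ z → x' ≠ y' → x' ≠ z' → y' ≠ z' →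
      ∃ g : G, g • x = x' ∧ g • y = y' ∧ g • z = z')
    (h4 : ∀ x y z : Ω, ∃ w : Ω, w ≠ x ∧ w ≠ y ∧ w ≠ z)
    (N : Subgroup G) (hN : N.Normal) (hNa : ∀ n ∈ N, n • a = a → n = 1) :
    ∀ n ∈ N, n * n = 1 := by
  intro n hn
  by_contra hne
  have hn1 : n ≠ 1 := by
    rintro rfl
    exact hne (mul_one 1)
  have hab : a ≠ n • a := fun h => hn1 (hNa n hn h.symm)
  have hac : a ≠ n⁻¹ • a := by
    intro h
    have : n⁻¹ = 1 := hNa _ (N.inv_mem hn) h.symm
    exact hn1 (inv_eq_one.1 this)
  have hbc : n • a ≠ n⁻¹ • a := by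
    intro h
    have h1 : (n * n) • a = a := by
      rw [mul_smul, h, smul_inv_smul]
    exact hne (hNa _ (N.mul_mem hn hn) h1)
  obtain ⟨d, hda, hdb, hdc⟩ := h4 a (n • a) (n⁻¹ • a)
  obtain ⟨g, hga, hgb, hgc⟩ := h3 a (n • a) (n⁻¹ • a) a (n • a) d hab hac hbc hab hda.symm hdb.symm
  have hm : g * n * g⁻¹ ∈ N := hN.conj_mem n hn g
  have hma : (n⁻¹ * (g * n * g⁻¹)) • a = a := by
    have hg' : g⁻¹ • a = a := by rw [inv_smul_eq_iff, hga]
    rw [mul_smul, mul_smul, mul_smul, hg', hgb, inv_smul_smul]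
  have h1 : n⁻¹ * (g * n * g⁻¹) = 1 := hNa _ (N.mul_mem (N.inv_mem hn) hm) hma
  have hcomm : g * n = n * g := by
    have h2 : g * n * g⁻¹ = n := by
      have := congrArg (fun z => n * z) h1
      simpa [mul_assoc] using this
    calc g * n = g * n * g⁻¹ * g := by group
      _ = n * g := by rw [h2]
  have hcomm' : g * n⁻¹ = n⁻¹ * g := by
    calc g * n⁻¹ = n⁻¹ * (n * g) * n⁻¹ := by group
      _ = n⁻¹ * (g * n) * n⁻¹ := by rw [hcomm]
      _ = n⁻¹ * g := by group
  have : g • n⁻¹ • a = n⁻¹ • a := by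
    rw [← mul_smul, hcomm', mul_smul, hga]
  rw [hgc] at this
  exact hdc this

/-- the simplicity criterion -/
theorem isSimpleGroup_of_three_trans [Finite G] [Finite Ω] [FaithfulSMul G Ω] (a : Ω)
    (h3 : ∀ x y z x' y' z' : Ω, x ≠ y → x ≠ z → y ≠ z → x' ≠ y' → x' ≠ z' → y' ≠ z' →
      ∃ g : G, g • x = x' ∧ g • y = y' ∧ g • z = z')
    (h4 : 4 ≤ Nat.card Ω) (hpow : ∀ m : ℕ, Nat.card Ω ≠ 2 ^ m)
    (hs : IsSimpleGroup (stabilizer G a)) : IsSimpleGroup G := by
  classical
  have : Nontrivial G := by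
    obtain ⟨x, y, hxy⟩ := hs.toNontrivial.exists_pair_ne
    exact ⟨⟨x.1, y.1, fun h => hxy (Subtype.ext h)⟩⟩
  have h4' : ∀ x y z : Ω, ∃ w : Ω, w ≠ x ∧ w ≠ y ∧ w ≠ z := by
    intro x y z
    by_contra hcon
    push Not at hcon
    have := Fintype.ofFinite Ω
    have hsub : (Finset.univ : Finset Ω) ⊆ {x, y, z} := by
      intro w _
      by_cases h1 : w = x
      · simp [h1]
      by_cases h2 : w = y
      · simp [h2]
      have := hcon w h1 h2
      simp [this]
    have hc := Finset.card_le_card hsub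
    have h3c : ({x, y, z} : Finset Ω).card ≤ 3 := Finset.card_le_three
    rw [Finset.card_univ, ← Nat.card_eq_fintype_card] at hc
    omega
  have h2 : IsMultiplyPretransitive G Ω 2 := by
    rw [is_two_pretransitive_iff]
    intro x y x' y' hxy hxy'
    obtain ⟨z, hzx, hzy, -⟩ := h4' x y x
    obtain ⟨z', hzx', hzy', -⟩ := h4' x' y' x'
    obtain ⟨g, h1, h2, -⟩ := h3 x y z x' y' z' hxy hzx.symm hzy.symm hxy' hzx'.symm hzy'.symm
    exact ⟨g, h1, h2⟩
  have : IsPreprimitive G Ω := isPreprimitive_of_is_two_pretransitive h2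
  refine ⟨fun N hN => ?_⟩
  by_cases hbot : N = ⊥
  · exact Or.inl hbot
  right
  have hfix : fixedPoints N Ω ≠ Set.univ := by
    intro h
    apply hbot
    rw [Subgroup.eq_bot_iff_forall]
    intro n hn
    apply FaithfulSMul.eq_of_smul_eq_smul (α := Ω)
    intro x
    rw [one_smul]
    have : x ∈ fixedPoints N Ω := by rw [h]; exact Set.mem_univ x
    exact this ⟨n, hn⟩
  have htrans : IsPretransitive N Ω := IsQuasiPreprimitive.isPretransitive_of_normal hfix
  have hMn : (N.subgroupOf (stabilizer G a)).Normal := hN.subgroupOf _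
  rcases hs.eq_bot_or_eq_top_of_normal _ hMn with hM | hM
  · exfalso
    have hNa : ∀ n ∈ N, n • a = a → n = 1 := by
      intro n hn hna
      have : (⟨n, hna⟩ : stabilizer G a) ∈ N.subgroupOf (stabilizer G a) := hn
      rw [hM, Subgroup.mem_bot] at this
      exact congrArg Subtype.val this
    have hsq := sq_eq_one_of_regular_normal a h3 h4' N hN hNa
    have hp : IsPGroup 2 N := by
      intro n
      refine ⟨1, ?_⟩
      apply Subtype.ext
      have := hsq n.1 n.2
      simp [pow_two, this]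
    have : Fact (Nat.Prime 2) := ⟨Nat.prime_two⟩
    obtain ⟨m, hm⟩ := IsPGroup.iff_card.1 hp
    apply hpow m
    rw [← hm]
    have hbij : Function.Bijective (fun n : N => n • a) := by
      constructor
      · intro n n' h
        have h' : n • a = n' • a := h
        have h1 : (n⁻¹ * n' : N) • a = a := by
          rw [mul_smul, ← h', inv_smul_smul]
        have := hNa _ (n⁻¹ * n').2 h1
        have h2 : n⁻¹ * n' = 1 := Subtype.ext this
        rw [inv_mul_eq_one] at h2
        exact h2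
      · intro x
        exact htrans.exists_smul_eq a x
    exact (Nat.card_eq_of_bijective _ hbij).symm
  · rw [eq_top_iff]
    intro g _
    obtain ⟨n, hn⟩ := htrans.exists_smul_eq a (g • a)
    have h1 : (n : G) • a = g • a := hn
    have h2 : ((n : G)⁻¹ * g) • a = a := by
      rw [mul_smul, ← h1, inv_smul_smul]
    have h3 : (⟨(n : G)⁻¹ * g, h2⟩ : stabilizer G a) ∈ N.subgroupOf (stabilizer G a) := by
      rw [hM]; exact Subgroup.mem_top _
    have h4 : (n : G)⁻¹ * g ∈ N := h3
    have := N.mul_mem n.2 h4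
    simpa using this

end Cfsg.Agent.Helper29
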