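import Mathlib
import Cfsg.Agent.Lib.Helper29.M24Dodecad2
import Cfsg.Agent.Lib.Helper29.SimpleCrit

set_option autoImplicit false
open Cfsg

namespace Cfsg.Agent.Helper29.M24

open Cfsg.Agent.Helper27 Cfsg.Agent.Helper29
open Cfsg.Agent.S0358 (idx)
open scoped Pointwise commutatorElement

/-! ### Simplicity of the three-point stabilizer, by the Iwasawa criterion on the 21 octads
through the three points -/

/-- an octad through the first three base points -/
def IsLine (o : Finset GolayPt) : Prop := o ∈ octads ∧ bp 0 ∈ o ∧ bp 1 ∈ o ∧ bp 2 ∈ o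

/-- the type of octads through the first three base points -/
abbrev Line : Type := {o : Finset GolayPt // IsLine o}

theorem isLine_smul {g : Equiv.Perm GolayPt} (hg : g ∈ grp 3) {o : Finset GolayPt}
    (ho : IsLine o) : IsLine (g • o) := by
  have hfix := fun i hi => grp_fix 3 (by norm_num) g hg i hi
  refine ⟨smul_mem_octads (grp_le_M24 3 hg) ho.1, ?_, ?_, ?_⟩
  · rw [← hfix 0 (by norm_num)]; exact Finset.smul_mem_smul_finset ho.2.1
  · rw [← hfix 1 (by norm_num)]; exact Finset.smul_mem_smul_finset ho.2.2.1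
  · rw [← hfix 2 (by norm_num)]; exact Finset.smul_mem_smul_finset ho.2.2.2

instance lineAction : MulAction (grp 3) Line where
  smul g o := ⟨(g : Equiv.Perm GolayPt) • o.1, isLine_smul g.2 o.2⟩
  one_smul _ := Subtype.ext (one_smul _ _)
  mul_smul _ _ _ := Subtype.ext (mul_smul _ _ _)

theorem line_smul_val (g : grp 3) (o : Line) :
    (g • o).1 = (g : Equiv.Perm GolayPt) • o.1 := rfl

/-- the Iwasawa subgroups: the pointwise stabilizers of the octads -/
def TT (o : Line) : Subgroup (grp 3) :=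
  (M24 ⊓ fixingSubgroup (Equiv.Perm GolayPt) (o.1 : Set GolayPt)).subgroupOf (grp 3)

theorem mem_TT (o : Line) (g : grp 3) :
    g ∈ TT o ↔ ∀ y ∈ o.1, (g : Equiv.Perm GolayPt) y = y := by
  unfold TT
  rw [Subgroup.mem_subgroupOf, Subgroup.mem_inf, mem_fixingSubgroup_iff]
  constructor
  · rintro ⟨-, h⟩ y hy
    exact h y (Finset.mem_coe.2 hy)
  · intro h
    exact ⟨grp_le_M24 3 g.2, fun y hy => h y (Finset.mem_coe.1 hy)⟩

theorem TT_sq (o : Line) (g : grp 3) (hg : g ∈ TT o) : g * g = 1 := by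
  apply Subtype.ext
  have := (octad_pointwise o.1 o.2.1).2 (g : Equiv.Perm GolayPt) hg
  exact this

theorem comm_of_sq {G : Type*} [Group G] (a b : G) (ha : a * a = 1) (hb : b * b = 1)
    (hab : (a * b) * (a * b) = 1) : a * b = b * a := by
  have h1 : a⁻¹ = a := inv_eq_of_mul_eq_one_right ha
  have h2 : b⁻¹ = b := inv_eq_of_mul_eq_one_right hb
  have h3 : (a * b)⁻¹ = a * b := inv_eq_of_mul_eq_one_right hab
  rw [← h3, mul_inv_rev, h1, h2]

theorem TT_comm (o : Line) : IsMulCommutative (TT o) := by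
  refine ⟨⟨fun x y => ?_⟩⟩
  apply Subtype.ext
  exact comm_of_sq (x : grp 3) (y : grp 3) (TT_sq o x x.2) (TT_sq o y y.2)
    (TT_sq o _ ((TT o).mul_mem x.2 y.2))

theorem TT_conj (g : grp 3) (o : Line) : TT (g • o) = MulAut.conj g • TT o := by
  ext h
  rw [Subgroup.mem_pointwise_smul_iff_inv_smul_mem, MulAut.smul_def, MulAut.conj_inv_apply,
    mem_TT, mem_TT]
  constructor
  · intro hh y hy
    have h1 : (g : Equiv.Perm GolayPt) y ∈ (g • o).1 := by
      rw [line_smul_val]
      exact Finset.smul_mem_smul_finset hy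
    have h2 := hh _ h1
    show ((g : Equiv.Perm GolayPt))⁻¹ ((h : Equiv.Perm GolayPt) ((g : Equiv.Perm GolayPt) y)) = y
    rw [h2, Equiv.Perm.inv_def, Equiv.symm_apply_apply]
  · intro hh y hy
    rw [line_smul_val] at hy
    obtain ⟨z, hz, rfl⟩ := Finset.mem_smul_finset.1 hy
    have h2 : ((g : Equiv.Perm GolayPt))⁻¹ ((h : Equiv.Perm GolayPt) ((g : Equiv.Perm GolayPt) z))
        = z := hh z hz
    rw [Equiv.Perm.inv_def, Equiv.symm_apply_eq] at h2
    exact h2

/-! #### Generation by the pointwise stabilizers of the octads -/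

def m21gentab : List (List (List ℕ × ℕ × List ℕ)) := [
  [],
  [],
  [],
  [],
  [([5, 4], 20, [4, 4, 4, 4, 5, 6, 7, 6, 8, 10, 5, 6, 6, 7, 6, 7, 11, 10]),
   ([4, 5], 21, [5, 6, 6, 7, 6, 7, 11, 10, 4, 4, 4, 4, 5, 6, 7, 6, 8, 10]),
   ([], 10, [])],
  [([6, 7], 15, [7, 7, 6, 8, 8, 11, 10, 6, 6, 6, 6]),
   ([6, 5], 10, [5, 6, 6, 7, 6, 7, 11, 10, 6, 6, 6, 6])],
  [([6, 7], 7, [7, 7, 6, 8, 8, 11, 10, 6, 6, 6, 6]),
   ([], 15, [])],
  [([6, 7], 15, [7, 7, 6, 8, 8, 11, 10, 6, 6, 6, 6]),
   ([], 11, [])],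
  [([11, 5], 20, [5, 6, 6, 7, 6, 7, 11, 10, 11]),
   ([5], 19, [5, 6, 6, 7, 6, 7, 11, 10])],
  [([], 10, [])],
  [([], 20, [])],
  [([], 22, [])],
  [([], 11, [])]]

def m21perftab : List ℕ := [0, 0, 0, 0, 4, 0, 18, 12, 9, 21, 7, 20, 10, 16, 0, 6, 22, 0, 15, 11, 19, 8, 13, 0]

/-- the standard line -/
def line0 : Line := ⟨oct0, oct0_mem, bp_mem_oct0 0 (by norm_num), bp_mem_oct0 1 (by norm_num),
  bp_mem_oct0 2 (by norm_num)⟩

/-- the blocks of the factorization of the `j`-th generator -/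
def genBlocks (j : ℕ) : List (List ℕ × ℕ × List ℕ) := m21gentab.getD j []

/-- the word of a block: a conjugate of an element of the pointwise stabilizer -/
def blockWord (b : List ℕ × ℕ × List ℕ) : List ℕ := b.1 ++ (tw 6 b.2.1 ++ b.2.2)

/-- the check of a block -/
def blockOK (b : List ℕ × ℕ × List ℕ) : Prop :=
  (∀ l ∈ b.1, l < ngen ∧ 3 ≤ depthOf l) ∧ (∀ l ∈ b.2.2, l < ngen ∧ 3 ≤ depthOf l) ∧
    b.2.1 ∈ orb 6 ∧ ∀ x < 24, appW (b.1 ++ b.2.2) x = appW [] x

instance (b : List ℕ × ℕ × List ℕ) : Decidable (blockOK b) := by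
  unfold blockOK
  infer_instance

/-- the check of the factorization of a generator -/
def genOK (j : ℕ) : Prop :=
  (∀ b ∈ genBlocks j, blockOK b) ∧
    ∀ x < 24, appW ((genBlocks j).flatMap blockWord) x = appW [j] x

instance (j : ℕ) : Decidable (genOK j) := by
  unfold genOK
  infer_instance

set_option maxRecDepth 100000 in
theorem gen_ok : ∀ j < ngen, 3 ≤ depthOf j → genOK j := by decide +kernel

theorem grp6_word (σ : Equiv.Perm GolayPt) (hσ : σ ∈ grp 6) :
    ∃ q ∈ orb 6, σ = evalW (tw 6 q) := by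
  obtain ⟨q, hq, τ, hτ, rfl⟩ := grp_step 6 (by norm_num) σ hσ
  rw [grp_seven, Subgroup.mem_bot] at hτ
  subst hτ
  exact ⟨q, hq, mul_one _⟩

theorem tw6_mem (q : ℕ) (hq : q ∈ orb 6) : evalW (tw 6 q) ∈ grp 6 :=
  evalW_mem_grp 6 _ (ok3 6 (by norm_num) q hq).1

theorem tw6_valid (q : ℕ) (hq : q ∈ orb 6) : ∀ l ∈ tw 6 q, l < ngen ∧ 3 ≤ depthOf l := by
  intro l hl
  have := (ok3 6 (by norm_num) q hq).1 l hl
  exact ⟨this.1, by omega⟩

/-- the element of the three-point stabilizer given by a word in the deep generators -/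
def wordElt (w : List ℕ) (hw : ∀ l ∈ w, l < ngen ∧ 3 ≤ depthOf l) : grp 3 :=
  ⟨evalW w, evalW_mem_grp 3 w hw⟩

theorem tw6_mem_TT (q : ℕ) (hq : q ∈ orb 6) : wordElt (tw 6 q) (tw6_valid q hq) ∈ TT line0 := by
  rw [mem_TT]
  intro y hy
  exact grp6_fix _ (tw6_mem q hq) y hy

theorem block_mem (b : List ℕ × ℕ × List ℕ) (hb : blockOK b) :
    ∃ h : evalW (blockWord b) ∈ grp 3, (⟨evalW (blockWord b), h⟩ : grp 3) ∈ iSup TT := by
  obtain ⟨h1, h2, h3, h4⟩ := hb
  have hinv : evalW b.1 * evalW b.2.2 = 1 := by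
    rw [← evalW_append]
    have := evalW_eq_of_appW (b.1 ++ b.2.2) []
      (fun l hl => by
        rcases List.mem_append.1 hl with h | h
        · exact (h1 l h).1
        · exact (h2 l h).1)
      (fun l hl => by simp at hl) h4
    rw [this]; rfl
  have hc' : evalW b.2.2 = (evalW b.1)⁻¹ := (inv_eq_of_mul_eq_one_right hinv).symm
  set c : grp 3 := wordElt b.1 h1 with hc
  set τ : grp 3 := wordElt (tw 6 b.2.1) (tw6_valid _ h3) with hτ
  have hmem : c * τ * c⁻¹ ∈ TT (c • line0) := by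
    rw [TT_conj, Subgroup.mem_pointwise_smul_iff_inv_smul_mem, MulAut.smul_def,
      MulAut.conj_inv_apply]
    have : c⁻¹ * (c * τ * c⁻¹) * c = τ := by group
    rw [this]
    exact tw6_mem_TT _ h3
  have heq : evalW (blockWord b) = ((c * τ * c⁻¹ : grp 3) : Equiv.Perm GolayPt) := by
    unfold blockWord
    rw [evalW_append, evalW_append, hc']
    simp [hc, hτ, wordElt, mul_assoc]
  refine ⟨by rw [heq]; exact (c * τ * c⁻¹).2, ?_⟩
  have : (⟨evalW (blockWord b), by rw [heq]; exact (c * τ * c⁻¹).2⟩ : grp 3) = c * τ * c⁻¹ :=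
    Subtype.ext heq
  rw [this]
  exact (le_iSup TT (c • line0)) hmem

theorem blocks_mem : ∀ bs : List (List ℕ × ℕ × List ℕ), (∀ b ∈ bs, blockOK b) →
    ∃ h : evalW (bs.flatMap blockWord) ∈ grp 3,
      (⟨evalW (bs.flatMap blockWord), h⟩ : grp 3) ∈ iSup TT := by
  intro bs
  induction bs with
  | nil =>
    intro _
    refine ⟨Subgroup.one_mem _, ?_⟩
    exact Subgroup.one_mem _
  | cons b bs ih =>
    intro hbs
    obtain ⟨h1, h2⟩ := block_mem b (hbs b (List.mem_cons_self))
    obtain ⟨h3, h4⟩ := ih (fun b' hb' => hbs b' (List.mem_cons_of_mem _ hb'))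
    have heq : evalW ((b :: bs).flatMap blockWord) =
        evalW (blockWord b) * evalW (bs.flatMap blockWord) := by
      rw [List.flatMap_cons, evalW_append]
    refine ⟨by rw [heq]; exact Subgroup.mul_mem _ h1 h3, ?_⟩
    have : (⟨evalW ((b :: bs).flatMap blockWord), by
        rw [heq]; exact Subgroup.mul_mem _ h1 h3⟩ : grp 3) =
        ⟨evalW (blockWord b), h1⟩ * ⟨evalW (bs.flatMap blockWord), h3⟩ := Subtype.ext heq
    rw [this]
    exact Subgroup.mul_mem _ h2 h4

theorem iSup_TT : iSup TT = ⊤ := by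
  rw [eq_top_iff]
  rintro ⟨g, hg⟩ -
  have key : ∀ g ∈ grp 3, ∃ h : g ∈ grp 3, (⟨g, h⟩ : grp 3) ∈ iSup TT := by
    intro g hg
    unfold grp at hg
    induction hg using Subgroup.closure_induction with
    | mem g hg =>
      obtain ⟨j, hj, hd, rfl⟩ := hg
      obtain ⟨h1, h2⟩ := gen_ok j hj hd
      obtain ⟨h3, h4⟩ := blocks_mem (genBlocks j) h1
      have hvalid : ∀ l ∈ (genBlocks j).flatMap blockWord, l < ngen := by
        intro l hl
        obtain ⟨b, hb, hlb⟩ := List.mem_flatMap.1 hl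
        obtain ⟨hb1, hb2, hb3, -⟩ := h1 b hb
        unfold blockWord at hlb
        rcases List.mem_append.1 hlb with h | h
        · exact (hb1 l h).1
        · rcases List.mem_append.1 h with h | h
          · exact (tw6_valid _ hb3 l h).1
          · exact (hb2 l h).1
      have heq : evalW ((genBlocks j).flatMap blockWord) = gP j := by
        have := evalW_eq_of_appW _ [j] hvalid (fun l hl => by
          rw [List.mem_singleton] at hl; rw [hl]; exact hj) h2
        rw [this, evalW_cons, evalW_nil, mul_one]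
      refine ⟨by rw [← heq]; exact h3, ?_⟩
      have : (⟨gP j, by rw [← heq]; exact h3⟩ : grp 3) =
          ⟨evalW ((genBlocks j).flatMap blockWord), h3⟩ := Subtype.ext heq.symm
      rw [this]; exact h4
    | one => exact ⟨Subgroup.one_mem _, Subgroup.one_mem _⟩
    | mul a b _ _ ha hb =>
      obtain ⟨h1, h2⟩ := ha
      obtain ⟨h3, h4⟩ := hb
      exact ⟨Subgroup.mul_mem _ h1 h3, Subgroup.mul_mem _ h2 h4⟩
    | inv a _ ha =>
      obtain ⟨h1, h2⟩ := ha
      exact ⟨Subgroup.inv_mem _ h1, Subgroup.inv_mem _ h2⟩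
  obtain ⟨_, h⟩ := key g hg
  exact h

/-! #### Perfectness -/

/-- for `q` in the last orbit, the index `q'` with `τ_q = [s, τ_q']`, where `s` is generator 8 -/
def perfMap (q : ℕ) : ℕ := m21perftab.getD q 0

/-- the check of the commutator identities -/
def perfOK (q : ℕ) : Prop :=
  perfMap q ∈ orb 6 ∧
    ∀ x < 24, appW ([8] ++ (tw 6 (perfMap q) ++ ([8, 8] ++ tw 6 (perfMap q)))) x = appW (tw 6 q) x

instance (q : ℕ) : Decidable (perfOK q) := by
  unfold perfOK
  infer_instance

set_option maxRecDepth 100000 in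
theorem perf_ok : (∀ q ∈ orb 6, perfOK q) ∧ (∀ x < 24, appW [8, 8, 8] x = appW [] x) ∧
    8 < ngen ∧ 3 ≤ depthOf 8 := by decide +kernel

theorem s_valid : ∀ l ∈ [8], l < ngen ∧ 3 ≤ depthOf l := by
  intro l hl
  rw [List.mem_singleton] at hl
  rw [hl]
  exact perf_ok.2.2

theorem TT0_le_commutator : TT line0 ≤ commutator (grp 3) := by
  intro t ht
  have ht6 : (t : Equiv.Perm GolayPt) ∈ grp 6 := by
    rw [← inf_fixing_oct0]
    exact ht
  obtain ⟨q, hq, hqt⟩ := grp6_word _ ht6
  obtain ⟨hq', hcheck⟩ := perf_ok.1 q hq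
  set s : grp 3 := wordElt [8] s_valid with hs
  set τ : grp 3 := wordElt (tw 6 (perfMap q)) (tw6_valid _ hq') with hτ
  have hsinv : evalW [8, 8] = (evalW [8])⁻¹ := by
    have h1 : evalW [8] * evalW [8, 8] = 1 := by
      rw [← evalW_append]
      have := evalW_eq_of_appW ([8] ++ [8, 8]) []
        (fun l hl => by
          simp only [List.cons_append, List.nil_append, List.mem_cons, List.not_mem_nil,
            or_false, or_self] at hl
          rw [hl]; exact perf_ok.2.2.1)
        (fun l hl => by simp at hl) perf_ok.2.1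
      rw [this]; rfl
    exact (inv_eq_of_mul_eq_one_right h1).symm
  have hτinv : τ⁻¹ = τ := by
    apply inv_eq_of_mul_eq_one_right
    apply Subtype.ext
    exact grp6_sq _ (tw6_mem _ hq')
  have hvalid : ∀ l ∈ [8] ++ (tw 6 (perfMap q) ++ ([8, 8] ++ tw 6 (perfMap q))), l < ngen := by
    intro l hl
    simp only [List.cons_append, List.nil_append, List.mem_cons, List.mem_append] at hl
    rcases hl with h | h | h | h | h
    · rw [h]; exact perf_ok.2.2.1
    · exact (tw6_valid _ hq' l h).1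
    · rw [h]; exact perf_ok.2.2.1
    · rw [h]; exact perf_ok.2.2.1
    · exact (tw6_valid _ hq' l h).1
  have heq : (t : Equiv.Perm GolayPt) = ((⁅s, τ⁆ : grp 3) : Equiv.Perm GolayPt) := by
    rw [hqt, ← evalW_eq_of_appW _ _ hvalid (fun l hl => (tw6_valid _ hq l hl).1) hcheck,
      commutatorElement_def, hτinv]
    rw [evalW_append, evalW_append, evalW_append, hsinv]
    simp [hs, hτ, wordElt, mul_assoc]
  have : t = ⁅s, τ⁆ := Subtype.ext heq
  rw [this]
  exact Subgroup.commutator_mem_commutator (Subgroup.mem_top _) (Subgroup.mem_top _)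

/-! #### Transitivity on the lines -/

theorem octad_inter_card (o o' : Finset GolayPt) (ho : o ∈ octads) (ho' : o' ∈ octads) :
    (o ∩ o').card = 0 ∨ (o ∩ o').card = 2 ∨ (o ∩ o').card = 4 ∨ (o ∩ o').card = 8 := by
  obtain ⟨⟨v, hv, rfl⟩, hvc⟩ := ho
  obtain ⟨⟨w, hw, rfl⟩, hwc⟩ := ho'
  have hvw : v + w ∈ golayCode := golayCode.add_mem hv hw
  have h1 := golay_weight hvw
  rw [Cfsg.Agent.S0363.support₂_add] at h1
  have h2 := Cfsg.Agent.S0363.card_symmDiff_add (support₂ v) (support₂ w)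
  rw [hvc, hwc] at h2
  omega

theorem octad_eq_of_emb {o o' : Finset GolayPt} (ho : o ∈ octads) (ho' : o' ∈ octads)
    (x : Fin 5 ↪ GolayPt) (hx : ∀ i, x i ∈ o) (hx' : ∀ i, x i ∈ o') : o = o' := by
  have hcard : (Finset.univ.image x).card = 5 := by
    rw [Finset.card_image_of_injective _ x.injective]; simp
  apply Cfsg.Agent.S0363.octad_unique ho ho' hcard
  · intro p hp
    obtain ⟨i, -, rfl⟩ := Finset.mem_image.1 hp
    exact hx i
  · intro p hp
    obtain ⟨i, -, rfl⟩ := Finset.mem_image.1 hp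
    exact hx' i

theorem exists_octad_of_emb (x : Fin 5 ↪ GolayPt) : ∃ o ∈ octads, ∀ i, x i ∈ o := by
  have hcard : (Finset.univ.image x).card = 5 := by
    rw [Finset.card_image_of_injective _ x.injective]; simp
  obtain ⟨o, ⟨ho, hso⟩, -⟩ := Cfsg.Agent.S0363.result.2 _ hcard
  exact ⟨o, ho, fun i => hso (Finset.mem_image_of_mem _ (Finset.mem_univ i))⟩

/-- five points: the first three base points and two more -/
def emb5 (z x : GolayPt) (hz : ∀ i < 3, z ≠ bp i) (hx : ∀ i < 3, x ≠ bp i) (hzx : z ≠ x) :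
    Fin 5 ↪ GolayPt :=
  ⟨![bp 0, bp 1, bp 2, z, x], by
    have h01 : bp 0 ≠ bp 1 := fun h => by have := bp_injOn (by norm_num) (by norm_num) h; omega
    have h02 : bp 0 ≠ bp 2 := fun h => by have := bp_injOn (by norm_num) (by norm_num) h; omega
    have h12 : bp 1 ≠ bp 2 := fun h => by have := bp_injOn (by norm_num) (by norm_num) h; omega
    have hz0 := hz 0 (by norm_num)
    have hz1 := hz 1 (by norm_num)
    have hz2 := hz 2 (by norm_num)
    have hx0 := hx 0 (by norm_num)
    have hx1 := hx 1 (by norm_num)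
    have hx2 := hx 2 (by norm_num)
    intro i j hij
    fin_cases i <;> fin_cases j <;> simp_all [eq_comm]⟩

theorem emb5_apply (z x : GolayPt) (hz : ∀ i < 3, z ≠ bp i) (hx : ∀ i < 3, x ≠ bp i) (hzx : z ≠ x) :
    emb5 z x hz hx hzx 0 = bp 0 ∧ emb5 z x hz hx hzx 1 = bp 1 ∧ emb5 z x hz hx hzx 2 = bp 2 ∧
      emb5 z x hz hx hzx 3 = z ∧ emb5 z x hz hx hzx 4 = x :=
  ⟨rfl, rfl, rfl, rfl, rfl⟩

theorem mem_of_emb5 {o : Finset GolayPt} (ho : IsLine o) (z x : GolayPt)
    (hz : ∀ i < 3, z ≠ bp i) (hx : ∀ i < 3, x ≠ bp i) (hzx : z ≠ x) (hzo : z ∈ o) (hxo : x ∈ o) :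
    ∀ i, emb5 z x hz hx hzx i ∈ o := by
  intro i
  fin_cases i
  · exact ho.2.1
  · exact ho.2.2.1
  · exact ho.2.2.2
  · exact hzo
  · exact hxo

/-- an element of the three-point stabilizer moving the next two base points to given points -/
theorem exists_grp3_map (z x : GolayPt) (hz : ∀ i < 3, z ≠ bp i) (hx : ∀ i < 3, x ≠ bp i)
    (hzx : z ≠ x) : ∃ g ∈ grp 3, g (bp 3) = z ∧ g (bp 4) = x := by
  obtain ⟨g, hg, hgx⟩ := exists_map_emb le_rfl (emb5 z x hz hx hzx)
  refine ⟨g, ?_, hgx 3, hgx 4⟩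
  rw [mem_grp_iff 3 (by norm_num)]
  refine ⟨hg, fun i hi => ?_⟩
  have hi3 : i = 0 ∨ i = 1 ∨ i = 2 := by omega
  rcases hi3 with rfl | rfl | rfl
  · exact hgx 0
  · exact hgx 1
  · exact hgx 2

theorem base3_sub_card (o : Finset GolayPt) :
    o.card ≤ (o \ {bp 0, bp 1, bp 2}).card + 3 := by
  have h1 := Finset.card_sdiff_add_card_inter o {bp 0, bp 1, bp 2}
  have h2 : (o ∩ {bp 0, bp 1, bp 2}).card ≤ 3 :=
    (Finset.card_le_card Finset.inter_subset_right).trans Finset.card_le_three
  omega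

theorem notMem_base3 {z : GolayPt} (hz : z ∉ ({bp 0, bp 1, bp 2} : Finset GolayPt)) :
    ∀ i < 3, z ≠ bp i := by
  intro i hi h
  apply hz
  have hi3 : i = 0 ∨ i = 1 ∨ i = 2 := by omega
  rcases hi3 with rfl | rfl | rfl <;> simp [h]

theorem line_transitive (a : Line) : ∃ g : grp 3, g • line0 = a := by
  have hc : 1 < (a.1 \ {bp 0, bp 1, bp 2}).card := by
    have := base3_sub_card a.1
    rw [a.2.1.2] at this
    omega
  obtain ⟨z, hz, x, hx, hzx⟩ := Finset.one_lt_card.1 hc
  rw [Finset.mem_sdiff] at hz hx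
  have hz3 := notMem_base3 hz.2
  have hx3 := notMem_base3 hx.2
  obtain ⟨g, hg, hg3, hg4⟩ := exists_grp3_map z x hz3 hx3 hzx
  refine ⟨⟨g, hg⟩, ?_⟩
  apply Subtype.ext
  rw [line_smul_val]
  apply octad_eq_of_emb (isLine_smul hg line0.2).1 a.2.1 (emb5 z x hz3 hx3 hzx)
  · intro i
    have hfix := fun i hi => grp_fix 3 (by norm_num) g hg i hi
    fin_cases i
    · show bp 0 ∈ g • oct0
      rw [← hfix 0 (by norm_num)]; exact Finset.smul_mem_smul_finset (bp_mem_oct0 0 (by norm_num))
    · show bp 1 ∈ g • oct0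
      rw [← hfix 1 (by norm_num)]; exact Finset.smul_mem_smul_finset (bp_mem_oct0 1 (by norm_num))
    · show bp 2 ∈ g • oct0
      rw [← hfix 2 (by norm_num)]; exact Finset.smul_mem_smul_finset (bp_mem_oct0 2 (by norm_num))
    · show z ∈ g • oct0
      rw [← hg3]; exact Finset.smul_mem_smul_finset (bp_mem_oct0 3 (by norm_num))
    · show x ∈ g • oct0
      rw [← hg4]; exact Finset.smul_mem_smul_finset (bp_mem_oct0 4 (by norm_num))
  · exact mem_of_emb5 a.2 z x hz3 hx3 hzx hz.1 hx.1

theorem TT_le_commutator (o : Line) : TT o ≤ commutator (grp 3) := by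
  obtain ⟨g, rfl⟩ := line_transitive o
  rw [TT_conj]
  intro h hh
  rw [Subgroup.mem_pointwise_smul_iff_inv_smul_mem, MulAut.smul_def, MulAut.conj_inv_apply] at hh
  have h1 := TT0_le_commutator hh
  have h2 : (commutator (grp 3)).Normal := inferInstance
  have h3 := h2.conj_mem _ h1 g
  have : g * (g⁻¹ * h * g) * g⁻¹ = h := by group
  rwa [this] at h3

theorem commutator_eq_top : commutator (grp 3) = ⊤ := by
  rw [eq_top_iff, ← iSup_TT]
  exact iSup_le TT_le_commutator

/-! #### Two-transitivity on the lines, faithfulness -/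

theorem bp6_notMem : bp 6 ∉ oct0 := by
  unfold oct0 bp
  rw [mem_maskSet, idx_dec_bpt 6 (by norm_num), oct_b6]
  exact Bool.false_ne_true

/-- the pointwise stabilizer of the standard octad is transitive on its complement -/
theorem exists_grp6_map (r : GolayPt) (hr : r ∉ oct0) : ∃ h ∈ grp 6, h (bp 6) = r := by
  have hbit : octMask.testBit (idx r) = false := by
    unfold oct0 at hr
    rw [mem_maskSet] at hr
    simpa using hr
  have hq : idx r ∈ orb 6 := orb6_spec _ (idx_lt r) hbit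
  refine ⟨evalW (tw 6 (idx r)), tw6_mem _ hq, ?_⟩
  apply idx_injective
  unfold bp
  rw [idx_evalW _ (fun l hl => (tw6_valid _ hq l hl).1), idx_dec_bpt 6 (by norm_num)]
  exact (ok3 6 (by norm_num) _ hq).2

theorem bp_notMem_base3 (i : ℕ) (h3 : 3 ≤ i) (h7 : i < 7) : ∀ j < 3, bp i ≠ bp j := by
  intro j hj h
  have := bp_injOn h7 (by omega) h
  omega

theorem exists_line1 : ∃ o, IsLine o ∧ bp 3 ∈ o ∧ bp 6 ∈ o := by
  have hne : bp 3 ≠ bp 6 := fun h => by
    have := bp_injOn (by norm_num) (by norm_num) h; omega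
  obtain ⟨o, ho, hmem⟩ := exists_octad_of_emb (emb5 (bp 3) (bp 6)
    (bp_notMem_base3 3 le_rfl (by norm_num)) (bp_notMem_base3 6 (by norm_num) (by norm_num)) hne)
  exact ⟨o, ⟨ho, hmem 0, hmem 1, hmem 2⟩, hmem 3, hmem 4⟩

theorem line_inter_card (a b : Line) (hab : a ≠ b) : (a.1 ∩ b.1).card = 4 := by
  have h3 : 3 ≤ (a.1 ∩ b.1).card := by
    have hsub : ({bp 0, bp 1, bp 2} : Finset GolayPt) ⊆ a.1 ∩ b.1 := by
      intro p hp
      simp only [Finset.mem_insert, Finset.mem_singleton] at hp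
      rcases hp with rfl | rfl | rfl
      · exact Finset.mem_inter.2 ⟨a.2.2.1, b.2.2.1⟩
      · exact Finset.mem_inter.2 ⟨a.2.2.2.1, b.2.2.2.1⟩
      · exact Finset.mem_inter.2 ⟨a.2.2.2.2, b.2.2.2.2⟩
    have hc : ({bp 0, bp 1, bp 2} : Finset GolayPt).card = 3 := by
      have h01 : bp 0 ≠ bp 1 := fun h => by have := bp_injOn (by norm_num) (by norm_num) h; omega
      have h02 : bp 0 ≠ bp 2 := fun h => by have := bp_injOn (by norm_num) (by norm_num) h; omega
      have h12 : bp 1 ≠ bp 2 := fun h => by have := bp_injOn (by norm_num) (by norm_num) h; omega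
      rw [Finset.card_insert_of_notMem, Finset.card_insert_of_notMem, Finset.card_singleton]
      · simpa using h12
      · simp [h01, h02]
    rw [← hc]
    exact Finset.card_le_card hsub
  have h8 : (a.1 ∩ b.1).card ≠ 8 := by
    intro h
    apply hab
    apply Subtype.ext
    have h1 : a.1 ∩ b.1 = a.1 :=
      Finset.eq_of_subset_of_card_le Finset.inter_subset_left (by rw [h, a.2.1.2])
    have h2 : a.1 ∩ b.1 = b.1 :=
      Finset.eq_of_subset_of_card_le Finset.inter_subset_right (by rw [h, b.2.1.2])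
    rw [← h1, h2]
  rcases octad_inter_card a.1 b.1 a.2.1 b.2.1 with h | h | h | h <;> omega

/-- every pair of distinct lines is the image of a standard pair -/
theorem exists_map_pair (o₁ : Finset GolayPt) (ho₁ : IsLine o₁) (h3 : bp 3 ∈ o₁) (h6 : bp 6 ∈ o₁)
    (a b : Line) (hab : a ≠ b) :
    ∃ g : grp 3, g • line0 = a ∧ g • (⟨o₁, ho₁⟩ : Line) = b := by
  have hi := line_inter_card a b hab
  -- a point `z` of both lines, off the base
  have hc1 : 0 < ((a.1 ∩ b.1) \ {bp 0, bp 1, bp 2}).card := by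
    have := base3_sub_card (a.1 ∩ b.1)
    omega
  obtain ⟨z, hz⟩ := Finset.card_pos.1 hc1
  rw [Finset.mem_sdiff, Finset.mem_inter] at hz
  have hz3 := notMem_base3 hz.2
  -- a point `x` of `a` off `b`, a point `y` of `b` off `a`
  have hc2 : 0 < (a.1 \ b.1).card := by
    have := Finset.card_sdiff_add_card_inter a.1 b.1
    rw [a.2.1.2, hi] at this
    omega
  have hc3 : 0 < (b.1 \ a.1).card := by
    have := Finset.card_sdiff_add_card_inter b.1 a.1
    rw [b.2.1.2, Finset.inter_comm, hi] at this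
    omega
  obtain ⟨x, hx⟩ := Finset.card_pos.1 hc2
  obtain ⟨y, hy⟩ := Finset.card_pos.1 hc3
  rw [Finset.mem_sdiff] at hx hy
  have hx3 : ∀ i < 3, x ≠ bp i := by
    intro i hi' h
    apply hx.2
    rw [h]
    have hi3 : i = 0 ∨ i = 1 ∨ i = 2 := by omega
    rcases hi3 with rfl | rfl | rfl
    · exact b.2.2.1
    · exact b.2.2.2.1
    · exact b.2.2.2.2
  have hy3 : ∀ i < 3, y ≠ bp i := by
    intro i hi' h
    apply hy.2
    rw [h]
    have hi3 : i = 0 ∨ i = 1 ∨ i = 2 := by omega
    rcases hi3 with rfl | rfl | rfl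
    · exact a.2.2.1
    · exact a.2.2.2.1
    · exact a.2.2.2.2
  have hzx : z ≠ x := fun h => hx.2 (h ▸ hz.1.2)
  have hzy : z ≠ y := fun h => hy.2 (h ▸ hz.1.1)
  obtain ⟨g₁, hg₁, hg13, hg14⟩ := exists_grp3_map z x hz3 hx3 hzx
  have hfix₁ := fun i hi => grp_fix 3 (by norm_num) g₁ hg₁ i hi
  -- `g₁` maps the standard line to `a`
  have hga : g₁ • oct0 = a.1 := by
    apply octad_eq_of_emb (isLine_smul hg₁ line0.2).1 a.2.1 (emb5 z x hz3 hx3 hzx)
    · intro i
      fin_cases i
      · show bp 0 ∈ g₁ • oct0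
        rw [← hfix₁ 0 (by norm_num)]
        exact Finset.smul_mem_smul_finset (bp_mem_oct0 0 (by norm_num))
      · show bp 1 ∈ g₁ • oct0
        rw [← hfix₁ 1 (by norm_num)]
        exact Finset.smul_mem_smul_finset (bp_mem_oct0 1 (by norm_num))
      · show bp 2 ∈ g₁ • oct0
        rw [← hfix₁ 2 (by norm_num)]
        exact Finset.smul_mem_smul_finset (bp_mem_oct0 2 (by norm_num))
      · show z ∈ g₁ • oct0
        rw [← hg13]; exact Finset.smul_mem_smul_finset (bp_mem_oct0 3 (by norm_num))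
      · show x ∈ g₁ • oct0
        rw [← hg14]; exact Finset.smul_mem_smul_finset (bp_mem_oct0 4 (by norm_num))
    · exact mem_of_emb5 a.2 z x hz3 hx3 hzx hz.1.1 hx.1
  -- the preimage of `y` lies outside the standard octad
  have hy' : g₁⁻¹ y ∉ oct0 := by
    intro h
    apply hy.2
    rw [← hga]
    have : g₁ • g₁⁻¹ y ∈ g₁ • oct0 := Finset.smul_mem_smul_finset h
    rwa [Equiv.Perm.smul_def, Equiv.Perm.inv_def, Equiv.apply_symm_apply] at this
  obtain ⟨h, hh, hh6⟩ := exists_grp6_map _ hy'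
  have hh3 : h ∈ grp 3 := grp_mono (by norm_num : 3 ≤ 6) hh
  have hfixh := fun p hp => grp6_fix h hh p hp
  refine ⟨⟨g₁ * h, Subgroup.mul_mem _ hg₁ hh3⟩, ?_, ?_⟩
  · apply Subtype.ext
    rw [line_smul_val]
    show (g₁ * h) • oct0 = a.1
    rw [mul_smul]
    have : h • oct0 = oct0 := by
      apply Finset.eq_of_subset_of_card_le
      · intro p hp
        obtain ⟨q, hq, rfl⟩ := Finset.mem_smul_finset.1 hp
        rw [Equiv.Perm.smul_def, hfixh q hq]; exact hq
      · rw [Finset.card_smul_finset]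
    rw [this, hga]
  · apply Subtype.ext
    rw [line_smul_val]
    show (g₁ * h) • o₁ = b.1
    have hgM : g₁ * h ∈ grp 3 := Subgroup.mul_mem _ hg₁ hh3
    have hfix := fun i hi => grp_fix 3 (by norm_num) (g₁ * h) hgM i hi
    apply octad_eq_of_emb (isLine_smul hgM ho₁).1 b.2.1 (emb5 z y hz3 hy3 hzy)
    · intro i
      fin_cases i
      · show bp 0 ∈ (g₁ * h) • o₁
        rw [← hfix 0 (by norm_num)]; exact Finset.smul_mem_smul_finset ho₁.2.1
      · show bp 1 ∈ (g₁ * h) • o₁
        rw [← hfix 1 (by norm_num)]; exact Finset.smul_mem_smul_finset ho₁.2.2.1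
      · show bp 2 ∈ (g₁ * h) • o₁
        rw [← hfix 2 (by norm_num)]; exact Finset.smul_mem_smul_finset ho₁.2.2.2
      · show z ∈ (g₁ * h) • o₁
        have : (g₁ * h) (bp 3) = z := by
          rw [Equiv.Perm.mul_apply, hfixh _ (bp_mem_oct0 3 (by norm_num)), hg13]
        rw [← this]; exact Finset.smul_mem_smul_finset h3
      · show y ∈ (g₁ * h) • o₁
        have : (g₁ * h) (bp 6) = y := by
          rw [Equiv.Perm.mul_apply, hh6, Equiv.Perm.inv_def, Equiv.apply_symm_apply]
        rw [← this]; exact Finset.smul_mem_smul_finset h6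
    · exact mem_of_emb5 b.2 z y hz3 hy3 hzy hz.1.2 hy.1

theorem line_two_trans : MulAction.IsMultiplyPretransitive (grp 3) Line 2 := by
  rw [MulAction.is_two_pretransitive_iff]
  intro a b c d hab hcd
  obtain ⟨o₁, ho₁, h3, h6⟩ := exists_line1
  obtain ⟨g, hga, hgb⟩ := exists_map_pair o₁ ho₁ h3 h6 a b hab
  obtain ⟨g', hgc, hgd⟩ := exists_map_pair o₁ ho₁ h3 h6 c d hcd
  refine ⟨g' * g⁻¹, ?_, ?_⟩
  · rw [← hga, mul_smul, inv_smul_smul, hgc]
  · rw [← hgb, mul_smul, inv_smul_smul, hgd]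

theorem exists_notMem_of_card_lt (s : Finset GolayPt) (hs : s.card < 24) : ∃ p, p ∉ s := by
  by_contra hcon
  push Not at hcon
  have : s = Finset.univ := Finset.eq_univ_iff_forall.2 hcon
  rw [this, Finset.card_univ] at hs
  have h24 : Fintype.card GolayPt = 24 := by decide
  omega

theorem line_faithful : FaithfulSMul (grp 3) Line := by
  refine ⟨fun {g g'} h => ?_⟩
  -- reduce to: an element fixing all lines is trivial
  have key : ∀ k : grp 3, (∀ o : Line, k • o = o) → k = 1 := by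
    intro k hk
    apply Subtype.ext
    apply Equiv.ext
    intro r
    show (k : Equiv.Perm GolayPt) r = r
    have hfix := fun i hi => grp_fix 3 (by norm_num) (k : Equiv.Perm GolayPt) k.2 i hi
    by_cases hr : r ∈ ({bp 0, bp 1, bp 2} : Finset GolayPt)
    · simp only [Finset.mem_insert, Finset.mem_singleton] at hr
      rcases hr with rfl | rfl | rfl
      · exact hfix 0 (by norm_num)
      · exact hfix 1 (by norm_num)
      · exact hfix 2 (by norm_num)
    have hr3 := notMem_base3 hr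
    -- a first line through `r`
    obtain ⟨x, hx⟩ := exists_notMem_of_card_lt ({bp 0, bp 1, bp 2, r} : Finset GolayPt)
      (lt_of_le_of_lt Finset.card_le_four (by norm_num))
    have hx3 : ∀ i < 3, x ≠ bp i := by
      intro i hi h
      apply hx
      have hi3 : i = 0 ∨ i = 1 ∨ i = 2 := by omega
      rcases hi3 with rfl | rfl | rfl <;> simp [h]
    have hrx : r ≠ x := fun h => hx (by simp [h])
    obtain ⟨o, ho, hmem⟩ := exists_octad_of_emb (emb5 r x hr3 hx3 hrx)
    have hoL : IsLine o := ⟨ho, hmem 0, hmem 1, hmem 2⟩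
    -- a second line through `r`
    obtain ⟨y, hy⟩ := exists_notMem_of_card_lt o (by rw [ho.2]; norm_num)
    have hy3 : ∀ i < 3, y ≠ bp i := by
      intro i hi h
      apply hy
      rw [h]
      have hi3 : i = 0 ∨ i = 1 ∨ i = 2 := by omega
      rcases hi3 with rfl | rfl | rfl
      · exact hmem 0
      · exact hmem 1
      · exact hmem 2
    have hry : r ≠ y := fun h => hy (h ▸ hmem 3)
    obtain ⟨o', ho', hmem'⟩ := exists_octad_of_emb (emb5 r y hr3 hy3 hry)
    have hoL' : IsLine o' := ⟨ho', hmem' 0, hmem' 1, hmem' 2⟩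
    have hne : (⟨o, hoL⟩ : Line) ≠ ⟨o', hoL'⟩ := by
      intro h
      apply hy
      have : o = o' := congrArg Subtype.val h
      rw [this]
      exact hmem' 4
    have hcard := line_inter_card ⟨o, hoL⟩ ⟨o', hoL'⟩ hne
    -- the intersection is the base and `r`
    have hsub : ({bp 0, bp 1, bp 2, r} : Finset GolayPt) ⊆ o ∩ o' := by
      intro p hp
      simp only [Finset.mem_insert, Finset.mem_singleton] at hp
      rcases hp with rfl | rfl | rfl | rfl
      · exact Finset.mem_inter.2 ⟨hmem 0, hmem' 0⟩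
      · exact Finset.mem_inter.2 ⟨hmem 1, hmem' 1⟩
      · exact Finset.mem_inter.2 ⟨hmem 2, hmem' 2⟩
      · exact Finset.mem_inter.2 ⟨hmem 3, hmem' 3⟩
    have hc4 : ({bp 0, bp 1, bp 2, r} : Finset GolayPt).card = 4 := by
      have h01 : bp 0 ≠ bp 1 := fun h => by have := bp_injOn (by norm_num) (by norm_num) h; omega
      have h02 : bp 0 ≠ bp 2 := fun h => by have := bp_injOn (by norm_num) (by norm_num) h; omega
      have h12 : bp 1 ≠ bp 2 := fun h => by have := bp_injOn (by norm_num) (by norm_num) h; omega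
      have h0r := (hr3 0 (by norm_num)).symm
      have h1r := (hr3 1 (by norm_num)).symm
      have h2r := (hr3 2 (by norm_num)).symm
      rw [Finset.card_insert_of_notMem, Finset.card_insert_of_notMem, Finset.card_insert_of_notMem,
        Finset.card_singleton]
      · simpa using h2r
      · simp [h12, h1r]
      · simp [h01, h02, h0r]
    have heq : ({bp 0, bp 1, bp 2, r} : Finset GolayPt) = o ∩ o' :=
      Finset.eq_of_subset_of_card_le hsub (by rw [hcard, hc4])
    -- the image of `r` lies on both lines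
    have h1 : (k : Equiv.Perm GolayPt) r ∈ o := by
      have := hk ⟨o, hoL⟩
      have h2 : (k : Equiv.Perm GolayPt) • o = o := congrArg Subtype.val this
      rw [← h2]
      exact Finset.smul_mem_smul_finset (hmem 3)
    have h2 : (k : Equiv.Perm GolayPt) r ∈ o' := by
      have := hk ⟨o', hoL'⟩
      have h2 : (k : Equiv.Perm GolayPt) • o' = o' := congrArg Subtype.val this
      rw [← h2]
      exact Finset.smul_mem_smul_finset (hmem' 3)
    have h3 : (k : Equiv.Perm GolayPt) r ∈ ({bp 0, bp 1, bp 2, r} : Finset GolayPt) := by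
      rw [heq]; exact Finset.mem_inter.2 ⟨h1, h2⟩
    simp only [Finset.mem_insert, Finset.mem_singleton] at h3
    rcases h3 with h3 | h3 | h3 | h3
    · exfalso
      rw [← hfix 0 (by norm_num)] at h3
      exact hr3 0 (by norm_num) ((k : Equiv.Perm GolayPt).injective h3)
    · exfalso
      rw [← hfix 1 (by norm_num)] at h3
      exact hr3 1 (by norm_num) ((k : Equiv.Perm GolayPt).injective h3)
    · exfalso
      rw [← hfix 2 (by norm_num)] at h3
      exact hr3 2 (by norm_num) ((k : Equiv.Perm GolayPt).injective h3)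
    · exact h3
  have h1 : g'⁻¹ * g = 1 := by
    apply key
    intro o
    rw [mul_smul, h o, inv_smul_smul]
  rw [inv_mul_eq_one] at h1
  exact h1.symm

theorem grp3_nontrivial : Nontrivial (grp 3) := by
  have h : Nat.card (grp 3) = 20160 := card_grp 3 (by norm_num)
  have : 1 < Nat.card (grp 3) := by rw [h]; norm_num
  exact (Finite.one_lt_card_iff_nontrivial).1 this

/-- the pointwise stabilizer of the first three base points is simple -/
theorem grp3_simple : IsSimpleGroup (grp 3) := by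
  have := grp3_nontrivial
  have : MulAction.IsPreprimitive (grp 3) Line :=
    MulAction.isPreprimitive_of_is_two_pretransitive line_two_trans
  exact MulAction.IwasawaStructure.isSimpleGroup commutator_eq_top
    { T := TT
      is_comm := TT_comm
      is_conj := TT_conj
      is_generator := iSup_TT } line_faithful

end Cfsg.Agent.Helper29.M24
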