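import Mathlib
import Cfsg.Agent.Lib.Helper29.M24Tree
import Cfsg.Agent.Lib.Helper29.M21Simple

set_option autoImplicit false
open Cfsg

namespace Cfsg.Agent.Helper29.M24

open Cfsg.Agent.Helper27 Cfsg.Agent.Helper29
open Cfsg.Agent.S0358 (idx)
open scoped Pointwise

/-! ### Generic transport of statements about code words to a base configuration -/

theorem smul_mem_words {g : Equiv.Perm GolayPt} (hg : g ∈ M24) {w : ℕ} {Y : Finset GolayPt}
    (hY : Y ∈ wordsOfWeight (golayCode : Set (GolayPt → ZMod 2)) w) :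
    g • Y ∈ wordsOfWeight (golayCode : Set (GolayPt → ZMod 2)) w := by
  have hσ : g • supports (golayCode : Set (GolayPt → ZMod 2))
      = supports (golayCode : Set (GolayPt → ZMod 2)) := MulAction.mem_stabilizer_iff.mp hg
  refine ⟨?_, ?_⟩
  · rw [← hσ]
    exact Set.smul_mem_smul_set hY.1
  · rw [Finset.card_smul_finset]
    exact hY.2

/-- conjugating an element of the stabilizer of the base configuration -/
theorem transport_trans (pts sets : List ℕ) (g0 : Equiv.Perm GolayPt) (hg0 : g0 ∈ M24)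
    (Y Y' : Finset GolayPt)
    (base : ∃ g, StabCfg pts sets g ∧ g • (g0⁻¹ • Y) = g0⁻¹ • Y') :
    ∃ g ∈ M24, (∀ a ∈ pts, g (g0 (dec a)) = g0 (dec a)) ∧
      (∀ M ∈ sets, g • (g0 • maskSet M) = g0 • maskSet M) ∧ g • Y = Y' := by
  obtain ⟨g, hg, e⟩ := base
  refine ⟨g0 * g * g0⁻¹, Subgroup.mul_mem _ (Subgroup.mul_mem _ hg0 hg.1) (Subgroup.inv_mem _ hg0),
    fun a ha => ?_, fun M hM => ?_, ?_⟩
  · rw [Equiv.Perm.mul_apply, Equiv.Perm.mul_apply, perm_inv_apply, hg.2.1 a ha]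
  · rw [mul_smul, mul_smul, inv_smul_smul, hg.2.2 M hM]
  · rw [mul_smul, mul_smul, e, smul_inv_smul]

/-- membership of a transported point -/
theorem mem_iff_testBit (g0 : Equiv.Perm GolayPt) (a : ℕ) (ha : a < 24) (Y : Finset GolayPt)
    (m : ℕ) (e : g0⁻¹ • Y = maskSet m) : g0 (dec a) ∈ Y ↔ m.testBit a = true := by
  rw [← mem_inv_smul_iff, e, mem_maskSet_idx m a ha]

/-- intersection with a transported set -/
theorem inter_card_eq (g0 : Equiv.Perm GolayPt) (B : ℕ) (Y : Finset GolayPt) (m : ℕ)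
    (e : g0⁻¹ • Y = maskSet m) : (g0 • maskSet B ∩ Y).card = pop24 (B &&& m) := by
  rw [← inter_maskSet_card, ← e, ← Finset.card_smul_finset g0 (maskSet B ∩ g0⁻¹ • Y),
    Finset.smul_finset_inter, smul_inv_smul]

/-- transport of a count of code words -/
theorem ncard_transport (g0 : Equiv.Perm GolayPt) (hg0 : g0 ∈ M24) (w : ℕ)
    (C C0 : Finset GolayPt → Prop) (h : ∀ Y, C Y ↔ C0 (g0⁻¹ • Y)) :
    {Y | Y ∈ wordsOfWeight (golayCode : Set (GolayPt → ZMod 2)) w ∧ C Y}.ncard =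
      {Y | Y ∈ wordsOfWeight (golayCode : Set (GolayPt → ZMod 2)) w ∧ C0 Y}.ncard := by
  have himg : {Y | Y ∈ wordsOfWeight (golayCode : Set (GolayPt → ZMod 2)) w ∧ C Y} =
      (fun s => g0 • s) '' {Y | Y ∈ wordsOfWeight (golayCode : Set (GolayPt → ZMod 2)) w ∧ C0 Y} := by
    ext Y
    constructor
    · rintro ⟨hY, hC⟩
      exact ⟨g0⁻¹ • Y, ⟨smul_mem_words (Subgroup.inv_mem _ hg0) hY, (h Y).1 hC⟩, smul_inv_smul g0 Y⟩
    · rintro ⟨Y0, ⟨hY0, hC0⟩, rfl⟩
      refine ⟨smul_mem_words hg0 hY0, (h _).2 ?_⟩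
      rw [inv_smul_smul]
      exact hC0
  rw [himg, ncard_smul_image]

/-- counting code words of a given weight satisfying a condition expressed on masks -/
theorem ncard_words (w : ℕ) (C0 : Finset GolayPt → Prop) (P' : ℕ → Bool)
    (h : ∀ n < 4096, pop24 (cw n) = w → (C0 (maskSet (cw n)) ↔ P' (cw n) = true)) :
    {Y | Y ∈ wordsOfWeight (golayCode : Set (GolayPt → ZMod 2)) w ∧ C0 Y}.ncard =
      countS (fun m => pop24 m == w && P' m) 4096 := by
  rw [← ncard_codeS]
  congr 1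
  ext Y
  simp only [Set.mem_ofPred_eq]
  rw [mem_words_iff]
  constructor
  · rintro ⟨⟨n, hn, hw, rfl⟩, hC⟩
    refine ⟨n, hn, ?_, rfl⟩
    rw [Bool.and_eq_true, beq_iff_eq]
    exact ⟨hw, (h n hn hw).1 hC⟩
  · rintro ⟨n, hn, hP, rfl⟩
    rw [Bool.and_eq_true, beq_iff_eq] at hP
    exact ⟨⟨n, hn, hP.1, rfl⟩, (h n hn hP.1).2 hP.2⟩

/-- counting the code words of weight `w` containing the (transported) points `ptsIn`, avoiding
the points `ptsOut` and meeting the (transported) set with mask `B` in `k` points -/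
theorem ncard_cfg (g0 : Equiv.Perm GolayPt) (hg0 : g0 ∈ M24) (w : ℕ) (ptsIn ptsOut : List ℕ)
    (hIn : ∀ a ∈ ptsIn, a < 24) (hOut : ∀ a ∈ ptsOut, a < 24) (B k : ℕ) :
    {Y | Y ∈ wordsOfWeight (golayCode : Set (GolayPt → ZMod 2)) w ∧
      ((∀ a ∈ ptsIn, g0 (dec a) ∈ Y) ∧ (∀ a ∈ ptsOut, g0 (dec a) ∉ Y) ∧
        (g0 • maskSet B ∩ Y).card = k)}.ncard =
      countS (fun m => pop24 m == w && (ptsIn.all (fun a => m.testBit a) &&
        ptsOut.all (fun a => !m.testBit a) && pop24 (B &&& m) == k)) 4096 := by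
  rw [ncard_transport g0 hg0 w _ (fun Y => (∀ a ∈ ptsIn, dec a ∈ Y) ∧ (∀ a ∈ ptsOut, dec a ∉ Y) ∧
    (maskSet B ∩ Y).card = k)]
  · apply ncard_words
    intro n hn hw
    simp only [Bool.and_eq_true, List.all_eq_true, beq_iff_eq, Bool.not_eq_eq_eq_not, Bool.not_true]
    rw [inter_maskSet_card]
    constructor
    · rintro ⟨h1, h2, h3⟩
      refine ⟨⟨fun a ha => (mem_maskSet_idx _ a (hIn a ha)).1 (h1 a ha), fun a ha => ?_⟩, h3⟩
      have := h2 a ha
      rw [mem_maskSet_idx _ a (hOut a ha)] at this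
      simpa using this
    · rintro ⟨⟨h1, h2⟩, h3⟩
      refine ⟨fun a ha => (mem_maskSet_idx _ a (hIn a ha)).2 (h1 a ha), fun a ha => ?_, h3⟩
      rw [mem_maskSet_idx _ a (hOut a ha), h2 a ha]
      simp
  · intro Y
    have hc : (g0 • maskSet B ∩ Y).card = (maskSet B ∩ g0⁻¹ • Y).card := by
      rw [← Finset.card_smul_finset g0 (maskSet B ∩ g0⁻¹ • Y), Finset.smul_finset_inter,
        smul_inv_smul]
    rw [hc]
    simp only [mem_inv_smul_iff]

/-- the base octad as a transported set -/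
theorem oct0_eq : oct0 = maskSet 8536111 := rfl

/-- an element of the group mapping the base octad to a given octad and the first base point to
a given point of it -/
theorem exists_map_octad_point (o : Finset GolayPt) (ho : o ∈ octads) (x : GolayPt) (hx : x ∈ o) :
    ∃ g0 ∈ M24, g0 • oct0 = o ∧ g0 (bp 0) = x := by
  obtain ⟨y, hy0, hy⟩ := exists_emb_cons o x hx 4 (by rw [ho.2]; norm_num)
  obtain ⟨g0, hg0, hg0y⟩ := exists_map_emb le_rfl y
  refine ⟨g0, hg0, ?_, ?_⟩
  · apply octad_eq_of_emb (smul_mem_octads hg0 oct0_mem) ho y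
    · intro i
      rw [← hg0y i]
      exact Finset.smul_mem_smul_finset (bp_mem_oct0 i.val (by omega))
    · exact hy
  · rw [← hy0]
    exact hg0y 0

/-- the same with two points -/
theorem exists_map_octad_two (o : Finset GolayPt) (ho : o ∈ octads) (x x' : GolayPt) (hx : x ∈ o)
    (hx' : x' ∈ o) (hne : x ≠ x') :
    ∃ g0 ∈ M24, g0 • oct0 = o ∧ g0 (bp 0) = x ∧ g0 (bp 1) = x' := by
  obtain ⟨y', hy'0, hy'⟩ := exists_emb_cons (o.erase x) x' (Finset.mem_erase.2 ⟨hne.symm, hx'⟩) 3 (by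
    rw [Finset.card_erase_of_mem hx, ho.2]; norm_num)
  have hxn : ∀ i, y' i ≠ x := fun i => (Finset.mem_erase.1 (hy' i)).1
  let y : Fin 5 ↪ GolayPt := ⟨Fin.cons x y', by
    rw [Fin.cons_injective_iff]
    exact ⟨by rintro ⟨i, hi⟩; exact hxn i hi, y'.injective⟩⟩
  obtain ⟨g0, hg0, hg0y⟩ := exists_map_emb le_rfl y
  refine ⟨g0, hg0, ?_, hg0y 0, ?_⟩
  · apply octad_eq_of_emb (smul_mem_octads hg0 oct0_mem) ho y
    · intro i
      rw [← hg0y i]
      exact Finset.smul_mem_smul_finset (bp_mem_oct0 i.val (by omega))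
    · intro i
      refine Fin.cases ?_ (fun j => ?_) i
      · exact hx
      · exact (Finset.mem_erase.1 (hy' j)).2
  · have h1 : g0 (bp 1) = y 1 := hg0y 1
    rw [h1]
    exact hy'0

/-- an element of the pointwise stabilizer of the base octad fixes it as a set -/
theorem grp6_smul_oct0 (h : Equiv.Perm GolayPt) (hh : h ∈ grp 6) : h • oct0 = oct0 := by
  apply Finset.eq_of_subset_of_card_le
  · intro p hp
    obtain ⟨q, hq, rfl⟩ := Finset.mem_smul_finset.1 hp
    rw [Equiv.Perm.smul_def, grp6_fix h hh q hq]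
    exact hq
  · rw [Finset.card_smul_finset]

/-- an element of the group mapping the base octad to a given octad and the last base point to a
given point outside it -/
theorem exists_map_octad_out (o : Finset GolayPt) (ho : o ∈ octads) (x : GolayPt) (hx : x ∉ o) :
    ∃ g0 ∈ M24, g0 • oct0 = o ∧ g0 (bp 6) = x := by
  obtain ⟨g1, hg1, hg1e⟩ := octad_transitive oct0 o oct0_mem ho
  have hy : g1⁻¹ x ∉ oct0 := by
    intro hmem
    apply hx
    rw [← hg1e]
    have := Finset.smul_mem_smul_finset (a := g1) hmem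
    rwa [Equiv.Perm.smul_def, perm_apply_inv] at this
  obtain ⟨h, hh, hhy⟩ := exists_grp6_map _ hy
  refine ⟨g1 * h, Subgroup.mul_mem _ hg1 (grp_le_M24 6 hh), ?_, ?_⟩
  · rw [mul_smul, grp6_smul_oct0 h hh, hg1e]
  · rw [Equiv.Perm.mul_apply, hhy, perm_apply_inv]

end Cfsg.Agent.Helper29.M24
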