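import Mathlib
import Cfsg.Agent.Lib.Helper29.M24Cfg

set_option autoImplicit false
open Cfsg

namespace Cfsg.Agent.Helper29.M24

open Cfsg.Agent.Helper27 Cfsg.Agent.Helper29
open Cfsg.Agent.S0358 (idx)
open scoped Pointwise

/-! ### Three-element subsets as masks -/

/-- the masks of the three-element subsets, in increasing order -/
def tripleMasks : List ℕ :=
  (List.range 24).flatMap fun i => (List.range i).flatMap fun j =>
    (List.range j).map fun k => 2 ^ i + 2 ^ j + 2 ^ k

theorem tripleMasks_length : tripleMasks.length = 2024 := by decide +kernel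

theorem tripleMasks_chain : tripleMasks.IsChain (· < ·) := by decide +kernel

theorem tripleMasks_nodup : tripleMasks.Nodup := by
  have h : tripleMasks.Pairwise (· < ·) := List.isChain_iff_pairwise.1 tripleMasks_chain
  exact h.imp (fun hab => ne_of_lt hab)

set_option maxRecDepth 100000 in
theorem tripleMasks_spec : ∀ m ∈ tripleMasks, m < 2 ^ 24 ∧ pop24 m = 3 := by decide +kernel

theorem exists_tripleMask (t : Finset GolayPt) (ht : t.card = 3) :
    ∃ m ∈ tripleMasks, t = maskSet m := by
  have hsub : tripleMasks.toFinset.image maskSet ⊆ Finset.powersetCard 3 Finset.univ := by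
    intro s hs
    rw [Finset.mem_image] at hs
    obtain ⟨m, hm, rfl⟩ := hs
    rw [List.mem_toFinset] at hm
    rw [Finset.mem_powersetCard]
    exact ⟨Finset.subset_univ _, by rw [card_maskSet, (tripleMasks_spec m hm).2]⟩
  have hcard : (tripleMasks.toFinset.image maskSet).card = 2024 := by
    rw [Finset.card_image_of_injOn, List.toFinset_card_of_nodup tripleMasks_nodup,
      tripleMasks_length]
    intro a ha b hb h
    rw [Finset.mem_coe, List.mem_toFinset] at ha hb
    exact maskSet_inj (tripleMasks_spec a ha).1 (tripleMasks_spec b hb).1 h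
  have heq := Finset.eq_of_subset_of_card_le hsub (by
    rw [hcard, Finset.card_powersetCard, Finset.card_univ]
    decide)
  have hmem : t ∈ Finset.powersetCard 3 Finset.univ := by
    rw [Finset.mem_powersetCard]
    exact ⟨Finset.subset_univ _, ht⟩
  rw [← heq, Finset.mem_image] at hmem
  obtain ⟨m, hm, rfl⟩ := hmem
  exact ⟨m, List.mem_toFinset.1 hm, rfl⟩

/-- the `n`-th pair mask -/
def pairAt (n : ℕ) : ℕ := pairMasks.getD n 0

/-- the `n`-th triple mask -/
def tripleAt (n : ℕ) : ℕ := tripleMasks.getD n 0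

theorem exists_pairAt (t : Finset GolayPt) (ht : t.card = 2) :
    ∃ n < 276, t = maskSet (pairAt n) := by
  obtain ⟨m, hm, rfl⟩ := exists_pairMask t ht
  obtain ⟨n, hn, rfl⟩ := List.getElem_of_mem hm
  rw [pairMasks_length] at hn
  refine ⟨n, hn, ?_⟩
  unfold pairAt
  rw [List.getD_eq_getElem]

theorem exists_tripleAt (t : Finset GolayPt) (ht : t.card = 3) :
    ∃ n < 2024, t = maskSet (tripleAt n) := by
  obtain ⟨m, hm, rfl⟩ := exists_tripleMask t ht
  obtain ⟨n, hn, rfl⟩ := List.getElem_of_mem hm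
  rw [tripleMasks_length] at hn
  refine ⟨n, hn, ?_⟩
  unfold tripleAt
  rw [List.getD_eq_getElem]

theorem pairAt_mem (n : ℕ) (hn : n < 276) : pairAt n ∈ pairMasks := by
  unfold pairAt
  rw [List.getD_eq_getElem _ _ (by rw [pairMasks_length]; exact hn)]
  exact List.getElem_mem _

theorem tripleAt_mem (n : ℕ) (hn : n < 2024) : tripleAt n ∈ tripleMasks := by
  unfold tripleAt
  rw [List.getD_eq_getElem _ _ (by rw [tripleMasks_length]; exact hn)]
  exact List.getElem_mem _

/-- transport of a count of subsets of a given size -/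
theorem ncard_transport_card (g0 : Equiv.Perm GolayPt) (k : ℕ)
    (C C0 : Finset GolayPt → Prop) (h : ∀ Y, C Y ↔ C0 (g0⁻¹ • Y)) :
    {Y : Finset GolayPt | Y.card = k ∧ C Y}.ncard = {Y : Finset GolayPt | Y.card = k ∧ C0 Y}.ncard := by
  have himg : {Y : Finset GolayPt | Y.card = k ∧ C Y} =
      (fun s => g0 • s) '' {Y : Finset GolayPt | Y.card = k ∧ C0 Y} := by
    ext Y
    constructor
    · rintro ⟨hY, hC⟩
      refine ⟨g0⁻¹ • Y, ⟨?_, (h Y).1 hC⟩, smul_inv_smul g0 Y⟩
      rw [Finset.card_smul_finset]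
      exact hY
    · rintro ⟨Y0, ⟨hY0, hC0⟩, rfl⟩
      refine ⟨?_, (h _).2 ?_⟩
      · show (g0 • Y0).card = k
        rw [Finset.card_smul_finset]
        exact hY0
      · rw [inv_smul_smul]
        exact hC0
  rw [himg, ncard_smul_image]

theorem ncard_pairs (C0 : Finset GolayPt → Prop) (P : ℕ → Bool)
    (h : ∀ m ∈ pairMasks, C0 (maskSet m) ↔ P m = true) :
    {Y : Finset GolayPt | Y.card = 2 ∧ C0 Y}.ncard = (pairMasks.filter P).length := by
  rw [← ncard_maskList pairMasks pairMasks_nodup (fun m hm => (pairMasks_spec m hm).1) P]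
  congr 1
  ext Y
  simp only [Set.mem_ofPred_eq]
  constructor
  · rintro ⟨h2, hC⟩
    obtain ⟨m, hm, rfl⟩ := exists_pairMask Y h2
    exact ⟨m, hm, (h m hm).1 hC, rfl⟩
  · rintro ⟨m, hm, hP, rfl⟩
    exact ⟨by rw [card_maskSet, (pairMasks_spec m hm).2], (h m hm).2 hP⟩

theorem ncard_triples (C0 : Finset GolayPt → Prop) (P : ℕ → Bool)
    (h : ∀ m ∈ tripleMasks, C0 (maskSet m) ↔ P m = true) :
    {Y : Finset GolayPt | Y.card = 3 ∧ C0 Y}.ncard = (tripleMasks.filter P).length := by
  rw [← ncard_maskList tripleMasks tripleMasks_nodup (fun m hm => (tripleMasks_spec m hm).1) P]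
  congr 1
  ext Y
  simp only [Set.mem_ofPred_eq]
  constructor
  · rintro ⟨h3, hC⟩
    obtain ⟨m, hm, rfl⟩ := exists_tripleMask Y h3
    exact ⟨m, hm, (h m hm).1 hC, rfl⟩
  · rintro ⟨m, hm, hP, rfl⟩
    exact ⟨by rw [card_maskSet, (tripleMasks_spec m hm).2], (h m hm).2 hP⟩

/-- the first two base points as a mask -/
theorem maskSet_bp01 : maskSet 8388609 = {bp 0, bp 1} := by
  ext x
  rw [mem_maskSet, Finset.mem_insert, Finset.mem_singleton]
  revert x
  decide

/-- the first three base points as a mask -/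
theorem maskSet_bp012 : maskSet 8388611 = {bp 0, bp 1, bp 2} := by
  ext x
  rw [mem_maskSet, Finset.mem_insert, Finset.mem_insert, Finset.mem_singleton]
  revert x
  decide

/-- every two-element set is the image of the base pair -/
theorem exists_map_pairSet (s : Finset GolayPt) (hs : s.card = 2) :
    ∃ g0 ∈ M24, g0 • maskSet 8388609 = s := by
  obtain ⟨a, b, hab, rfl⟩ := Finset.card_eq_two.1 hs
  obtain ⟨g0, hg0, h⟩ := exists_map_emb (by norm_num : 2 ≤ 5) (emb2 a b hab)
  refine ⟨g0, hg0, ?_⟩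
  rw [maskSet_bp01, Finset.smul_finset_insert, Finset.smul_finset_singleton]
  have e0 : g0 (bp 0) = a := h 0
  have e1 : g0 (bp 1) = b := h 1
  change {g0 (bp 0), g0 (bp 1)} = ({a, b} : Finset GolayPt)
  rw [e0, e1]

/-- three distinct points as an embedding -/
def emb3 {α : Type*} (a b c : α) (hab : a ≠ b) (hac : a ≠ c) (hbc : b ≠ c) : Fin 3 ↪ α :=
  ⟨![a, b, c], by
    intro i j hij
    fin_cases i <;> fin_cases j <;> simp_all [eq_comm]⟩

/-- every three-element set is the image of the base triple -/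
theorem exists_map_tripleSet (s : Finset GolayPt) (hs : s.card = 3) :
    ∃ g0 ∈ M24, g0 • maskSet 8388611 = s := by
  obtain ⟨a, b, c, hab, hac, hbc, rfl⟩ := Finset.card_eq_three.1 hs
  obtain ⟨g0, hg0, h⟩ := exists_map_emb (by norm_num : 3 ≤ 5) (emb3 a b c hab hac hbc)
  refine ⟨g0, hg0, ?_⟩
  rw [maskSet_bp012, Finset.smul_finset_insert, Finset.smul_finset_insert,
    Finset.smul_finset_singleton]
  have e0 : g0 (bp 0) = a := h 0
  have e1 : g0 (bp 1) = b := h 1
  have e2 : g0 (bp 2) = c := h 2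
  change {g0 (bp 0), g0 (bp 1), g0 (bp 2)} = ({a, b, c} : Finset GolayPt)
  rw [e0, e1, e2]

end Cfsg.Agent.Helper29.M24
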