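import Mathlib
import Cfsg.Agent.Lib.Helper29.M24Cfg
import Cfsg.Agent.Lib.Helper29.M24Subsets

set_option autoImplicit false
open Cfsg

namespace Cfsg.Agent.Helper29.M24

open Cfsg.Agent.Helper27 Cfsg.Agent.Helper29
open Cfsg.Agent.S0358 (idx)
open scoped Pointwise

/-! ### Octads with up to five prescribed points, and counting by exact intersection -/

/-- an element of the group mapping the base octad to a given octad and the first `k ≤ 5` base
points to given points of it -/
theorem exists_map_octad_emb {k : ℕ} (hk : k ≤ 5) (o : Finset GolayPt) (ho : o ∈ octads)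
    (x : Fin k ↪ GolayPt) (hx : ∀ i, x i ∈ o) :
    ∃ g0 ∈ M24, g0 • oct0 = o ∧ ∀ i : Fin k, g0 (bp i.val) = x i := by
  let x' : Fin k ↪ {p : GolayPt // p ∈ o} := ⟨fun i => ⟨x i, hx i⟩, by
    intro i j hij
    exact x.injective (congrArg Subtype.val hij)⟩
  have hcard : 5 ≤ Nat.card {p : GolayPt // p ∈ o} := by
    rw [Nat.card_eq_fintype_card, Fintype.card_coe, ho.2]; norm_num
  obtain ⟨y', hy'⟩ := Fin.Embedding.restrictSurjective_of_le_natCard hk hcard x'
  let y : Fin 5 ↪ GolayPt := y'.trans (Function.Embedding.subtype _)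
  obtain ⟨g0, hg0, hg0y⟩ := exists_map_emb le_rfl y
  refine ⟨g0, hg0, ?_, ?_⟩
  · apply octad_eq_of_emb (smul_mem_octads hg0 oct0_mem) ho y
    · intro i
      rw [← hg0y i]
      exact Finset.smul_mem_smul_finset (bp_mem_oct0 i.val (by omega))
    · intro i
      exact (y' i).2
  · intro i
    have h1 := hg0y (Fin.castLE hk i)
    have h2 : y' (Fin.castLE hk i) = x' i := by
      have := congrArg (fun f : Fin k ↪ {p : GolayPt // p ∈ o} => f i) hy'
      exact this
    have h3 : y (Fin.castLE hk i) = x i := by
      show ((y' (Fin.castLE hk i)) : GolayPt) = x i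
      rw [h2]
      rfl
    rw [← h3, ← h1]
    rfl

/-- the first four base points as a mask -/
theorem maskSet_bp0123 : maskSet 8388615 = {bp 0, bp 1, bp 2, bp 3} := by
  ext x
  rw [mem_maskSet, Finset.mem_insert, Finset.mem_insert, Finset.mem_insert, Finset.mem_singleton]
  revert x
  decide

/-- counting the code words of weight `w` meeting a (transported) set with mask `A` exactly in
the (transported) set with mask `S` -/
theorem ncard_inter_eq (g0 : Equiv.Perm GolayPt) (hg0 : g0 ∈ M24) (w A S : ℕ) (hS : S < 2 ^ 24) :
    {Y | Y ∈ wordsOfWeight (golayCode : Set (GolayPt → ZMod 2)) w ∧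
      g0 • maskSet A ∩ Y = g0 • maskSet S}.ncard =
      countS (fun m => pop24 m == w && (A &&& m == S)) 4096 := by
  rw [ncard_transport g0 hg0 w _ (fun Y => maskSet A ∩ Y = maskSet S)]
  · apply ncard_words
    intro n hn _
    rw [← maskSet_and, beq_iff_eq]
    constructor
    · intro h
      exact maskSet_inj (lt_of_le_of_lt Nat.and_le_right (cw_lt n)) hS h
    · intro h
      rw [h]
  · intro Y
    constructor
    · intro h
      have := congrArg (fun Z => g0⁻¹ • Z) h
      simpa only [Finset.smul_finset_inter, inv_smul_smul] using this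
    · intro h
      have := congrArg (fun Z => g0 • Z) h
      simpa only [Finset.smul_finset_inter, smul_inv_smul] using this

end Cfsg.Agent.Helper29.M24
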