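import Mathlib
import Cfsg.Agent.Lib.Helper29.M24Fam
import Cfsg.Agent.Lib.Helper29.M24Octad
import Cfsg.Prelude.Def_SporadicCombinatorics

set_option autoImplicit false
open Cfsg

namespace Cfsg.Agent.Helper29.M24

open Cfsg.Agent.Helper27 Cfsg.Agent.Helper29
open Cfsg.Agent.S0358 (idx)
open scoped Pointwise

/-! ### Membership in the code, fast test -/

/-- the set is the support of a word of the code -/
def inCode (s : Finset GolayPt) : Prop := s ∈ supports (golayCode : Set (GolayPt → ZMod 2))

theorem inCode_iff (s : Finset GolayPt) : inCode s ↔ ∃ n < 4096, s = maskSet (cw n) := by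
  constructor
  · rintro ⟨w, hw, rfl⟩
    obtain ⟨n, hn, rfl⟩ := exists_cw_of_mem hw
    exact ⟨n, hn, (maskSet_eq_support₂ _).symm⟩
  · rintro ⟨n, -, rfl⟩
    exact ⟨ofMask (cw n), cw_mem n, (maskSet_eq_support₂ _).symm⟩

theorem inCode_maskSet_cw (n : ℕ) : inCode (maskSet (cw n)) :=
  ⟨ofMask (cw n), cw_mem n, (maskSet_eq_support₂ _).symm⟩

theorem maskSet_xor (a b : ℕ) : maskSet (a ^^^ b) = symmDiff (maskSet a) (maskSet b) := by
  ext p
  rw [Finset.mem_symmDiff, mem_maskSet, mem_maskSet, mem_maskSet, Nat.testBit_xor]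
  cases a.testBit (idx p) <;> cases b.testBit (idx p) <;> simp

theorem maskSet_zero : maskSet 0 = ∅ := by
  ext p
  rw [mem_maskSet]
  simp

theorem inCode_empty : inCode ∅ := by
  have := inCode_maskSet_cw 0
  rwa [cw_zero, maskSet_zero] at this

theorem inCode_symmDiff {s t : Finset GolayPt} (hs : inCode s) (ht : inCode t) :
    inCode (symmDiff s t) := by
  obtain ⟨n, -, rfl⟩ := (inCode_iff s).1 hs
  obtain ⟨m, -, rfl⟩ := (inCode_iff t).1 ht
  rw [← maskSet_xor, ← cw_xor]
  exact inCode_maskSet_cw _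

theorem inCode_smul {g : Equiv.Perm GolayPt} (hg : g ∈ M24) {s : Finset GolayPt} (hs : inCode s) :
    inCode (g • s) := by
  have hσ : g • supports (golayCode : Set (GolayPt → ZMod 2))
      = supports (golayCode : Set (GolayPt → ZMod 2)) := MulAction.mem_stabilizer_iff.mp hg
  unfold inCode
  rw [← hσ]
  exact Set.smul_mem_smul_set hs

theorem inCode_card {s : Finset GolayPt} (hs : inCode s) :
    s.card = 0 ∨ s.card = 8 ∨ s.card = 12 ∨ s.card = 16 ∨ s.card = 24 := by
  obtain ⟨w, hw, rfl⟩ := hs
  exact golay_weight hw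

theorem mem_octads_of_inCode {s : Finset GolayPt} (hs : inCode s) (hc : s.card = 8) :
    s ∈ octads := ⟨hs, hc⟩

/-- columns of the inverse of the generator matrix on the first twelve coordinates -/
def gcols : List ℕ := [3753, 280, 3225, 1400, 3770, 3991, 3533, 2000, 1347, 101, 3683, 3621]

/-- the index of the code word agreeing with `m` on the first twelve coordinates -/
def guessAux (m : ℕ) : ℕ → ℕ
  | 0 => 0
  | j + 1 => if bitF m j = 1 then Nat.xor (guessAux m j) (gcols.getD j 0) else guessAux m j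

/-- the code words, with primitive operations only -/
def cwF (n : ℕ) : ℕ :=
  Nat.xor (Nat.xor (Nat.xor (Nat.xor (Nat.xor (Nat.xor (Nat.xor (Nat.xor (Nat.xor (Nat.xor (Nat.xor
    (Nat.mul (bitF n 0) 340831) (Nat.mul (bitF n 1) 681662)) (Nat.mul (bitF n 2) 1363324))
    (Nat.mul (bitF n 3) 2726648)) (Nat.mul (bitF n 4) 5453296)) (Nat.mul (bitF n 5) 2517985))
    (Nat.mul (bitF n 6) 5035970)) (Nat.mul (bitF n 7) 1683333)) (Nat.mul (bitF n 8) 3366666))
    (Nat.mul (bitF n 9) 6733332)) (Nat.mul (bitF n 10) 5078057)) (Nat.mul (bitF n 11) 16777215)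

theorem cwF_eq (n : ℕ) : cwF n = cw n := rfl

/-- fast test of membership in the code -/
def isCW (m : ℕ) : Bool := strictN (guessAux m 12) fun n => Nat.beq (cwF n) m

theorem isCW_spec (m : ℕ) (h : isCW m = true) : inCode (maskSet m) := by
  unfold isCW at h
  rw [strictN_eq] at h
  have h' := Nat.eq_of_beq_eq_true h
  rw [cwF_eq] at h'
  rw [← h']
  exact inCode_maskSet_cw _

/-! ### Sextets -/

/-- the sextet of a tetrad: the 4-element sets congruent to it modulo the code -/
noncomputable def sextetOf (t : Finset GolayPt) : Finset (Finset GolayPt) := by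
  classical exact Finset.univ.filter fun u => u.card = 4 ∧ inCode (symmDiff t u)

theorem mem_sextetOf (t u : Finset GolayPt) :
    u ∈ sextetOf t ↔ u.card = 4 ∧ inCode (symmDiff t u) := by
  unfold sextetOf
  simp [Finset.mem_filter]

theorem self_mem_sextetOf (t : Finset GolayPt) (ht : t.card = 4) : t ∈ sextetOf t := by
  rw [mem_sextetOf, symmDiff_self]
  exact ⟨ht, inCode_empty⟩

theorem sextetOf_eq_of_inCode (t t' : Finset GolayPt) (h : inCode (symmDiff t t')) :
    sextetOf t = sextetOf t' := by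
  ext u
  rw [mem_sextetOf, mem_sextetOf]
  constructor
  · rintro ⟨hc, hu⟩
    refine ⟨hc, ?_⟩
    have := inCode_symmDiff h hu
    rwa [symmDiff_comm t t', symmDiff_assoc, symmDiff_symmDiff_cancel_left] at this
  · rintro ⟨hc, hu⟩
    refine ⟨hc, ?_⟩
    have := inCode_symmDiff h hu
    rwa [symmDiff_assoc, symmDiff_symmDiff_cancel_left] at this

theorem smul_sextetOf {g : Equiv.Perm GolayPt} (hg : g ∈ M24) (t : Finset GolayPt) :
    g • sextetOf t = sextetOf (g • t) := by
  ext u
  rw [mem_sextetOf]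
  constructor
  · intro hu
    obtain ⟨v, hv, rfl⟩ := Finset.mem_smul_finset.1 hu
    rw [mem_sextetOf] at hv
    refine ⟨by rw [Finset.card_smul_finset]; exact hv.1, ?_⟩
    rw [← Finset.smul_finset_symmDiff]
    exact inCode_smul hg hv.2
  · rintro ⟨hc, hu⟩
    have : u = g • (g⁻¹ • u) := (smul_inv_smul g u).symm
    rw [this]
    apply Finset.smul_mem_smul_finset
    rw [mem_sextetOf]
    refine ⟨by rw [Finset.card_smul_finset]; exact hc, ?_⟩
    have h2 := inCode_smul (Subgroup.inv_mem _ hg) hu
    rwa [Finset.smul_finset_symmDiff, inv_smul_smul] at h2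

/-- the base sextet -/
def sext0 : List ℕ := [147496, 268544, 1082880, 2621632, 4268048, 8388615]

theorem sext0_enum' : (List.range 4096).all (fun n => strictN (8388615 ^^^ cw n) fun m =>
    pop24 m != 4 || sext0.contains m) = true := by
  decide +kernel

theorem sext0_enum : ∀ n < 4096, pop24 (8388615 ^^^ cw n) = 4 → (8388615 ^^^ cw n) ∈ sext0 := by
  intro n hn h
  have := List.all_eq_true.1 sext0_enum' n (List.mem_range.2 hn)
  rw [strictN_eq, h] at this
  simpa using this

theorem sext0_ok : ∀ u ∈ sext0, pop24 u = 4 ∧ isCW (8388615 ^^^ u) = true := by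
  decide +kernel

theorem sextetOf_base : sextetOf (maskSet 8388615) = famSet sext0 := by
  ext u
  rw [mem_sextetOf, mem_famSet]
  constructor
  · rintro ⟨hc, hu⟩
    obtain ⟨n, hn, e⟩ := (inCode_iff _).1 hu
    have hu' : u = maskSet (8388615 ^^^ cw n) := by
      rw [maskSet_xor, ← e, symmDiff_symmDiff_cancel_left]
    refine ⟨_, sext0_enum n hn ?_, hu'.symm⟩
    rw [← card_maskSet, ← hu', hc]
  · rintro ⟨m, hm, rfl⟩
    obtain ⟨h1, h2⟩ := sext0_ok m hm
    refine ⟨by rw [card_maskSet, h1], ?_⟩
    rw [← maskSet_xor]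
    exact isCW_spec _ h2

theorem sext0_sorted : sext0.Pairwise (· < ·) := by decide

theorem sext0_lt : ∀ m ∈ sext0, m < 2 ^ 24 := by decide

theorem card_famSet (L : List ℕ) (hL : L.Pairwise (· < ·)) (h24 : ∀ m ∈ L, m < 2 ^ 24) :
    (famSet L).card = L.length := by
  unfold famSet
  rw [List.toFinset_card_of_nodup (nodup_map_maskSet L hL h24), List.length_map]

/-- every four-element set is the image of the base tetrad -/
theorem exists_map_tetrad (t : Finset GolayPt) (ht : t.card = 4) :
    ∃ g0 ∈ M24, g0 • maskSet 8388615 = t := by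
  obtain ⟨a, b, c, d, hab, hac, had, hbc, hbd, hcd, rfl⟩ := Finset.card_eq_four.1 ht
  obtain ⟨g0, hg0, h⟩ := exists_map_emb (by norm_num : 4 ≤ 5) (emb4 a b c d hab hac had hbc hbd hcd)
  refine ⟨g0, hg0, ?_⟩
  have h0 : g0 (bp 0) = a := h 0
  have h1 : g0 (bp 1) = b := h 1
  have h2 : g0 (bp 2) = c := h 2
  have h3 : g0 (bp 3) = d := h 3
  rw [maskSet_bp0123, Finset.smul_finset_insert, Finset.smul_finset_insert,
    Finset.smul_finset_insert, Finset.smul_finset_singleton,
    Equiv.Perm.smul_def, Equiv.Perm.smul_def, Equiv.Perm.smul_def, Equiv.Perm.smul_def,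
    h0, h1, h2, h3]

theorem card_sextetOf (t : Finset GolayPt) (ht : t.card = 4) : (sextetOf t).card = 6 := by
  obtain ⟨g0, hg0, rfl⟩ := exists_map_tetrad t ht
  rw [← smul_sextetOf hg0, Finset.card_smul_finset, sextetOf_base,
    card_famSet _ sext0_sorted sext0_lt]
  rfl

theorem sext0_cover : ∀ x < 24, ∃ m ∈ sext0, m.testBit x = true := by decide

theorem sextetOf_cover (t : Finset GolayPt) (ht : t.card = 4) (p : GolayPt) :
    ∃ u ∈ sextetOf t, p ∈ u := by
  obtain ⟨g0, hg0, rfl⟩ := exists_map_tetrad t ht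
  obtain ⟨m, hm, hb⟩ := sext0_cover (idx (g0⁻¹ p)) (M24.idx_lt _)
  refine ⟨g0 • maskSet m, ?_, ?_⟩
  · rw [← smul_sextetOf hg0, sextetOf_base]
    exact Finset.smul_mem_smul_finset ((mem_famSet _ _).2 ⟨m, hm, rfl⟩)
  · have : g0⁻¹ • p ∈ maskSet m := by
      rw [mem_maskSet]
      exact hb
    exact Finset.inv_smul_mem_iff.1 this

/-- two members of a sextet are equal or disjoint, with union an octad -/
theorem sextetOf_pair (t u u' : Finset GolayPt) (hu : u ∈ sextetOf t) (hu' : u' ∈ sextetOf t)
    (hne : u ≠ u') : Disjoint u u' ∧ u ∪ u' ∈ octads := by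
  rw [mem_sextetOf] at hu hu'
  have hc : inCode (symmDiff u u') := by
    have := inCode_symmDiff hu.2 hu'.2
    rwa [symmDiff_comm t u, symmDiff_assoc, symmDiff_symmDiff_cancel_left] at this
  have hcard : (symmDiff u u').card + 2 * (u ∩ u').card = 8 := by
    have h1 : symmDiff u u' = (u \ u') ∪ (u' \ u) := rfl
    have h2 : Disjoint (u \ u') (u' \ u) := by
      rw [Finset.disjoint_left]
      intro p hp hp'
      exact (Finset.mem_sdiff.1 hp).2 (Finset.mem_sdiff.1 hp').1
    have h3 := Finset.card_inter_add_card_sdiff u u'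
    have h4 := Finset.card_inter_add_card_sdiff u' u
    rw [Finset.inter_comm u' u] at h4
    rw [h1, Finset.card_union_of_disjoint h2]
    omega
  have hlt : (u ∩ u').card < 4 := by
    by_contra hge
    push Not at hge
    have h1 : u ∩ u' = u := Finset.eq_of_subset_of_card_le Finset.inter_subset_left (by omega)
    have h2 : u ∩ u' = u' := Finset.eq_of_subset_of_card_le Finset.inter_subset_right (by omega)
    exact hne (h1.symm.trans h2)
  have h0 : (u ∩ u').card = 0 := by
    rcases inCode_card hc with h | h | h | h | h <;> omega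
  have hd : Disjoint u u' := by
    rw [Finset.disjoint_iff_inter_eq_empty]
    exact Finset.card_eq_zero.1 h0
  refine ⟨hd, ?_⟩
  have hsd : symmDiff u u' = u ∪ u' := by
    rw [symmDiff_eq_sup_sdiff_inf]
    have : u ⊓ u' = ∅ := Finset.card_eq_zero.1 h0
    rw [this]
    simp
  rw [← hsd]
  exact mem_octads_of_inCode hc (by omega)

theorem sextetOf_mem_sextets (t : Finset GolayPt) (ht : t.card = 4) : sextetOf t ∈ sextets := by
  refine ⟨card_sextetOf t ht, fun u hu => ((mem_sextetOf t u).1 hu).1, fun u hu u' hu' hne => ?_⟩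
  exact (sextetOf_pair t u u' hu hu' hne).2

theorem eq_sextetOf_of_mem (S : Finset (Finset GolayPt)) (hS : S ∈ sextets) (t : Finset GolayPt)
    (ht : t ∈ S) : S = sextetOf t := by
  obtain ⟨h6, h4, hu⟩ := hS
  apply Finset.eq_of_subset_of_card_le
  · intro u huS
    rw [mem_sextetOf]
    refine ⟨h4 u huS, ?_⟩
    by_cases hne : t = u
    · rw [hne, symmDiff_self]
      exact inCode_empty
    · have ho := hu t ht u huS hne
      have hd : Disjoint t u := by
        rw [Finset.disjoint_iff_inter_eq_empty, ← Finset.card_eq_zero]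
        have := Finset.card_union_add_card_inter t u
        rw [ho.2, h4 t ht, h4 u huS] at this
        omega
      have : symmDiff t u = t ∪ u := by
        rw [symmDiff_eq_sup_sdiff_inf]
        have : t ⊓ u = ∅ := Finset.disjoint_iff_inter_eq_empty.1 hd
        rw [this]
        simp
      rw [this]
      exact ho.1
  · rw [card_sextetOf t (h4 t ht), h6]

theorem mem_sextets_iff (S : Finset (Finset GolayPt)) :
    S ∈ sextets ↔ ∃ t, t.card = 4 ∧ S = sextetOf t := by
  constructor
  · intro hS
    obtain ⟨t, ht⟩ : S.Nonempty := by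
      rw [← Finset.card_pos, hS.1]; norm_num
    exact ⟨t, hS.2.1 t ht, eq_sextetOf_of_mem S hS t ht⟩
  · rintro ⟨t, ht, rfl⟩
    exact sextetOf_mem_sextets t ht

theorem smul_mem_sextets {g : Equiv.Perm GolayPt} (hg : g ∈ M24) {S : Finset (Finset GolayPt)}
    (hS : S ∈ sextets) : g • S ∈ sextets := by
  obtain ⟨t, ht, rfl⟩ := (mem_sextets_iff S).1 hS
  rw [smul_sextetOf hg]
  exact sextetOf_mem_sextets _ (by rw [Finset.card_smul_finset]; exact ht)

end Cfsg.Agent.Helper29.M24
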