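import Mathlib
import Cfsg.Agent.Lib.Helper29.M24Sextet

set_option autoImplicit false
open Cfsg

namespace Cfsg.Agent.Helper29.M24

open Cfsg.Agent.Helper27 Cfsg.Agent.Helper29
open scoped Pointwise

theorem card_symmDiff_add (u u' : Finset GolayPt) :
    (symmDiff u u').card + 2 * (u ∩ u').card = u.card + u'.card := by
  have h1 : symmDiff u u' = (u \ u') ∪ (u' \ u) := rfl
  have h2 : Disjoint (u \ u') (u' \ u) := by
    rw [Finset.disjoint_left]
    intro p hp hp'
    exact (Finset.mem_sdiff.1 hp).2 (Finset.mem_sdiff.1 hp').1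
  have h3 := Finset.card_inter_add_card_sdiff u u'
  have h4 := Finset.card_inter_add_card_sdiff u' u
  rw [Finset.inter_comm u' u] at h4
  rw [h1, Finset.card_union_of_disjoint h2]
  omega

/-- two octads with at least five common points are equal -/
theorem octad_eq_of_inter (o1 o2 : Finset GolayPt) (h1 : o1 ∈ Cfsg.octads) (h2 : o2 ∈ Cfsg.octads)
    (h : 5 ≤ (o1 ∩ o2).card) : o1 = o2 := by
  have hc : inCode (symmDiff o1 o2) := inCode_symmDiff h1.1 h2.1
  have hcard := card_symmDiff_add o1 o2
  rw [h1.2, h2.2] at hcard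
  have h0 : (symmDiff o1 o2).card = 0 := by
    rcases inCode_card hc with h' | h' | h' | h' | h' <;> omega
  have := Finset.card_eq_zero.1 h0
  exact symmDiff_eq_bot.1 this

end Cfsg.Agent.Helper29.M24
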