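import Mathlib
import Cfsg.Agent.Lib.Helper29.M24CentB
import Cfsg.Agent.Lib.Helper29.M24Steiner

set_option autoImplicit false
open Cfsg

namespace Cfsg.Agent.Helper29.Cent7

open Cfsg.Agent.Helper27 Cfsg.Agent.Helper29 Cfsg.Agent.Helper29.M24
open Cfsg.Agent.Helper29.CentB (relPt relPt_spec hrelPt app_lt_of_repr)
open Cfsg.Agent.S0358 (idx)
open scoped Pointwise

def hgens7 : List (ℕ × ℕ) := [
  (111241787779729445942724841418719329, 933404873233),
  (770617613420167711892915343262555501, 50017731082596924854803),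
  (154036476192481650942183735518378725, 850649122526995222939420401937),
  (195430305625047392331761558400672976, 3322853170904302117555609907)]

set_option maxRecDepth 100000 in
def treeTab7 : List (List ℕ) := [
  [0, 524289, 1589255, 1048579, 1597487, 540673, 1073155, 1597463, 1572887, 1056801, 1581063, 1056771, 1073163, 532481, 1073185, 1597477, 548865, 0, 1073179, 1064987, 1048603, 0, 0, 1064963, 0, 0, 0, 0, 0, 0, 0, 0, 0, 0, 0, 0, 0, 0, 0, 0, 0, 0, 0, 0, 0, 0, 0, 0, 0, 0, 0, 0, 0, 0, 0, 0, 0, 0, 0, 0, 0, 0, 0, 0]]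

/-! ### The centralizer of an element of order seven -/

/-- a word for an element of order seven -/
def z7 : List ℕ := [0, 0, 1, 0, 3, 3, 2, 4, 8, 10]

def pz7 : ℕ := 112497107251330207652478236520546401

theorem z7_lt : ∀ l ∈ z7, l < ngen := by decide

theorem repr_z7 : Repr pz7 z7 := ⟨z7_lt, by decide +kernel⟩

/-- the element of order seven -/
def s7 : Equiv.Perm GolayPt := evalW z7

theorem s7_mem : s7 ∈ M24 := evalW_mem_M24 z7 z7_lt

/-- its centralizer in the group of the code -/
def C7 : Subgroup (Equiv.Perm GolayPt) := M24 ⊓ Subgroup.centralizer {s7}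

theorem mem_C7 (c : Equiv.Perm GolayPt) : c ∈ C7 ↔ c ∈ M24 ∧ c * s7 = s7 * c := by
  unfold C7
  rw [Subgroup.mem_inf, Subgroup.mem_centralizer_iff]
  apply and_congr Iff.rfl
  constructor
  · intro h
    exact (h s7 rfl).symm
  · intro h y hy
    rw [Set.mem_singleton_iff.1 hy]
    exact h.symm

/-- a packed permutation commutes with the element -/
def comm7 (P : ℕ) : Bool := (List.range 24).all fun x => app P (app pz7 x) == app pz7 (app P x)

theorem comm7_spec (P : ℕ) (w : List ℕ) (hr : Repr P w) (h : comm7 P = true) :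
    evalW w * s7 = s7 * evalW w := by
  unfold comm7 at h
  rw [List.all_eq_true] at h
  ext1 p
  apply M24.idx_injective
  unfold s7
  rw [Equiv.Perm.mul_apply, Equiv.Perm.mul_apply, idx_evalW _ hr.1, idx_evalW _ z7_lt,
    idx_evalW _ z7_lt, idx_evalW _ hr.1]
  have hx := M24.idx_lt p
  have h1 := h (idx p) (List.mem_range.2 hx)
  rw [beq_iff_eq] at h1
  rw [← repr_z7.2 _ hx, ← hr.2 _ (app_lt_of_repr pz7 z7 repr_z7 _ hx), h1, hr.2 _ hx,
    repr_z7.2 _ (by rw [← hr.2 _ hx]; exact app_lt_of_repr P w hr _ hx)]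

theorem hcfg7 (P : ℕ) (w : List ℕ) (hr : Repr P w) (h : comm7 P = true) : evalW w ∈ C7 :=
  (mem_C7 _).2 ⟨evalW_mem_M24 w hr.1, comm7_spec P w hr h⟩

set_option maxRecDepth 100000 in
theorem tree7_ok : gtreeOK comm7 relPt (fun x => (10354687 : ℕ).testBit x) (fun _ => 0)
    (fun i => i) hgens7 treeTab7 24 = true := by decide +kernel

theorem labs7_ok : ∀ i < 24, labOf treeTab7 i = 0 := by decide +kernel

theorem trans7 (q : GolayPt) (hq : q ∈ maskSet 10354687) : ∃ g ∈ C7, g (dec 0) = q := by
  rw [mem_maskSet] at hq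
  obtain ⟨g, hg, e⟩ := gtree_trans C7 _ dec relPt (fun x => (10354687 : ℕ).testBit x)
    (fun i => i) 24 hcfg7 (hrelPt (fun x => (10354687 : ℕ).testBit x)) (fun _ => 0) hgens7
    treeTab7 tree7_ok 0 (idx q) (by norm_num) (M24.idx_lt q) (by decide) hq
    (by rw [labs7_ok 0 (by norm_num), labs7_ok _ (M24.idx_lt q)])
  refine ⟨g, hg, ?_⟩
  have : g • dec 0 = dec (idx q) := e
  rwa [dec_idx] at this

theorem s7_apply (a b : ℕ) (ha : a < 24) (h : appW z7 a = b) : s7 (dec a) = dec b := by
  have hd : idx (dec a) = a := idx_dec ⟨a, ha⟩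
  unfold s7
  rw [← h]
  conv_rhs => rw [← hd, ← idx_evalW _ z7_lt, dec_idx]

theorem moved7 : ∀ x < 24, appW z7 x ≠ x → (10354687 : ℕ).testBit x = true := by decide +kernel

theorem C7_orbit (c : Equiv.Perm GolayPt) (hc : c ∈ C7) : c (dec 0) ∈ maskSet 10354687 := by
  obtain ⟨-, hcomm⟩ := (mem_C7 c).1 hc
  rw [mem_maskSet]
  apply moved7 _ (M24.idx_lt _)
  intro h
  have h1 : s7 (c (dec 0)) = c (dec 0) := by
    apply M24.idx_injective
    unfold s7
    rw [idx_evalW _ z7_lt]
    exact h
  have h2 := congrArg (fun f : Equiv.Perm GolayPt => f (dec 0)) hcomm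
  simp only [Equiv.Perm.mul_apply] at h2
  rw [h1, s7_apply 0 1 (by norm_num) (by decide +kernel)] at h2
  have := c.injective h2
  exact absurd this (by decide)

/-! ### The stabilizer of a point in the centralizer -/

def C7b : Subgroup (Equiv.Perm GolayPt) := C7 ⊓ MulAction.stabilizer (Equiv.Perm GolayPt) (dec 0)

theorem mem_C7b (c : Equiv.Perm GolayPt) : c ∈ C7b ↔ c ∈ C7 ∧ c (dec 0) = dec 0 := by
  unfold C7b
  rw [Subgroup.mem_inf]
  exact and_congr Iff.rfl MulAction.mem_stabilizer_iff

/-- the involution of the centralizer fixing the first cycle -/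
def u7 : Equiv.Perm GolayPt := evalW [12, 10]

theorem lvl6_comm : ∀ r ∈ orb 6,
    (∀ x < 24, appW (tw 6 r ++ z7) x = appW (z7 ++ tw 6 r) x) → r = 4 ∨ r = 19 := by
  decide +kernel

theorem fix_s7 (c : Equiv.Perm GolayPt) (hcomm : c * s7 = s7 * c) (p : GolayPt) (h : c p = p) :
    c (s7 p) = s7 p := by
  have := congrArg (fun f : Equiv.Perm GolayPt => f p) hcomm
  simp only [Equiv.Perm.mul_apply] at this
  rw [this, h]

theorem u7_comm : u7 * s7 = s7 * u7 := by
  unfold u7 s7
  rw [← evalW_append, ← evalW_append]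
  exact evalW_eq_of_appW _ _ (by decide) (by decide) (by decide +kernel)

theorem u7_mem_C7 : u7 ∈ C7 := (mem_C7 _).2 ⟨evalW_mem_M24 _ (by decide), u7_comm⟩

theorem u7_fix0 : u7 (dec 0) = dec 0 := by
  apply M24.idx_injective
  unfold u7
  rw [idx_evalW _ (by decide)]
  decide +kernel

theorem u7_ne_one : u7 ≠ 1 := by
  intro h
  have := congrArg (fun f : Equiv.Perm GolayPt => idx (f (dec 4))) h
  unfold u7 at this
  rw [idx_evalW _ (by decide)] at this
  revert this
  decide +kernel

theorem C7b_eq (c : Equiv.Perm GolayPt) : c ∈ C7b ↔ c = 1 ∨ c = u7 := by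
  constructor
  · intro hc
    obtain ⟨hc7, h0⟩ := (mem_C7b c).1 hc
    obtain ⟨hM, hcomm⟩ := (mem_C7 c).1 hc7
    have h1 : c (dec 1) = dec 1 := by
      rw [← s7_apply 0 1 (by norm_num) (by decide +kernel)]
      exact fix_s7 c hcomm _ h0
    have h3 : c (dec 3) = dec 3 := by
      rw [← s7_apply 1 3 (by norm_num) (by decide +kernel)]
      exact fix_s7 c hcomm _ h1
    have h14 : c (dec 14) = dec 14 := by
      rw [← s7_apply 3 14 (by norm_num) (by decide +kernel)]
      exact fix_s7 c hcomm _ h3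
    have h5 : c (dec 5) = dec 5 := by
      rw [← s7_apply 14 5 (by norm_num) (by decide +kernel)]
      exact fix_s7 c hcomm _ h14
    have h23 : c (dec 23) = dec 23 := by
      rw [← s7_apply 5 23 (by norm_num) (by decide +kernel)]
      exact fix_s7 c hcomm _ h5
    have h2 : c (dec 2) = dec 2 := by
      rw [← s7_apply 23 2 (by norm_num) (by decide +kernel)]
      exact fix_s7 c hcomm _ h23
    have hc6 : c ∈ grp 6 := by
      rw [mem_grp_iff 6 (by norm_num)]
      refine ⟨hM, ?_⟩
      intro i hi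
      interval_cases i
      · exact h23
      · exact h0
      · exact h1
      · exact h2
      · exact h3
      · exact h5
    obtain ⟨r, hr, τ, hτ, e⟩ := grp_step 6 (by norm_num) c hc6
    rw [grp_seven, Subgroup.mem_bot] at hτ
    subst hτ
    rw [mul_one] at e
    have hr3 := (ok3 6 (by norm_num) r hr).1
    have hw : ∀ l ∈ tw 6 r, l < ngen := fun l hl => (hr3 l hl).1
    have hcomm' : ∀ x < 24, appW (tw 6 r ++ z7) x = appW (z7 ++ tw 6 r) x := by
      intro x hx
      have hd : idx (dec x) = x := idx_dec ⟨x, hx⟩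
      have e2 := congrArg (fun f : Equiv.Perm GolayPt => idx (f (dec x))) hcomm
      rw [e] at e2
      unfold s7 at e2
      rw [← evalW_append, ← evalW_append, idx_evalW _ (by
        intro l hl
        rcases List.mem_append.1 hl with h | h
        · exact hw l h
        · exact z7_lt l h), idx_evalW _ (by
        intro l hl
        rcases List.mem_append.1 hl with h | h
        · exact z7_lt l h
        · exact hw l h), hd] at e2
      exact e2
    rcases lvl6_comm r hr hcomm' with rfl | rfl
    · left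
      rw [e]
      rfl
    · right
      rw [e]
      rfl
  · rintro (rfl | rfl)
    · exact Subgroup.one_mem _
    · exact (mem_C7b _).2 ⟨u7_mem_C7, u7_fix0⟩

theorem card_C7b : Nat.card C7b = 2 := by
  have hset : (C7b : Set (Equiv.Perm GolayPt)) = {1, u7} := by
    ext c
    rw [SetLike.mem_coe, C7b_eq]
    simp
  have h1 : Nat.card C7b = (C7b : Set (Equiv.Perm GolayPt)).ncard :=
    Nat.card_coe_set_eq (C7b : Set (Equiv.Perm GolayPt))
  rw [h1, hset, Set.ncard_pair (Ne.symm u7_ne_one)]

theorem card_C7 : Nat.card C7 = 42 := by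
  have hA := card_chain_step C7 (dec 0) (maskSet 10354687) C7_orbit trans7
  have e0 : C7 ⊓ MulAction.stabilizer (Equiv.Perm GolayPt) (dec 0) = C7b := rfl
  rw [e0, card_C7b] at hA
  have c21 : (maskSet 10354687).card = 21 := by
    rw [card_maskSet]
    decide +kernel
  rw [hA, c21]

/-! ### The centralizer is not abelian -/

def c7 : Equiv.Perm GolayPt := evalW [1, 0, 2, 2, 0, 1, 0, 0, 0, 2, 0, 0, 4, 7, 6, 6, 8]

theorem c7_mem_C7 : c7 ∈ C7 := by
  rw [mem_C7]
  refine ⟨evalW_mem_M24 _ (by decide), ?_⟩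
  unfold c7 s7
  rw [← evalW_append, ← evalW_append]
  exact evalW_eq_of_appW _ _ (by decide) (by decide) (by decide +kernel)

theorem u7_c7 : u7 * c7 ≠ c7 * u7 := by
  intro h
  have := congrArg (fun f : Equiv.Perm GolayPt => idx (f (dec 0))) h
  unfold u7 c7 at this
  rw [← evalW_append, ← evalW_append, idx_evalW _ (by decide), idx_evalW _ (by decide)] at this
  revert this
  decide +kernel

/-! ### The invariant trio -/

/-- the trio of the octads invariant under the element of order seven -/
def T7 : Finset (Finset GolayPt) := famSet [3216208, 5024896, 8536111]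

theorem trioAt_333 : unpackF 3 (trioAt 333) = [3216208, 5024896, 8536111] := by decide +kernel

theorem T7_mem : T7 ∈ trios := by
  have := (trioP_spec _ (trio_valid 333 (by norm_num))).2.1
  unfold semT at this
  rwa [trioAt_333] at this

set_option maxRecDepth 100000 in
theorem inv_oct7 : (List.range 4096).all (fun n => strictN (cwF n) fun m =>
    !(Nat.beq (popF m) 8 && Nat.beq (imgP pz7 m) m) ||
      [3216208, 5024896, 8536111].contains m) = true := by decide +kernel

theorem s7_smul_maskSet (m : ℕ) : s7 • maskSet m = maskSet (imgP pz7 m) :=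
  maskSet_imgP pz7 z7 repr_z7.1 repr_z7.2 m

theorem mem_T7_of_inv (o : Finset GolayPt) (ho : o ∈ octads) (h : s7 • o = o) : o ∈ T7 := by
  obtain ⟨n, hn, h8, rfl⟩ := (mem_octads_iff' o).1 ho
  rw [s7_smul_maskSet] at h
  have h1 := maskSet_inj (testBit_imgP_lt pz7 z7 repr_z7 _) (cw_lt n) h
  have := List.all_eq_true.1 inv_oct7 n (List.mem_range.2 hn)
  rw [strictN_eq, cwF_eq, popF_eq, h8, h1] at this
  simp only [Nat.beq_refl, Bool.and_self, Bool.not_true, Bool.false_or,
    List.contains_iff_mem] at this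
  exact (mem_famSet _ _).2 ⟨_, this, rfl⟩

theorem T7_inv : ∀ o ∈ T7, s7 • o = o := by
  intro o ho
  obtain ⟨m, hm, rfl⟩ := (mem_famSet _ _).1 ho
  rw [s7_smul_maskSet]
  congr 1
  revert m
  decide +kernel

end Cfsg.Agent.Helper29.Cent7
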