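import Mathlib
import Cfsg.Agent.S5604
import Cfsg.Agent.Lib.Helper29.M24Classes

set_option autoImplicit false
open Cfsg

namespace Cfsg.Agent.Helper29.IdxTools

open Cfsg.Agent.Helper29.M24 Cfsg.Agent.Helper29 Cfsg.Agent.Helper27 Cfsg.Agent.Helper29.Cent7
open Cfsg.Agent.S0358 (idx)
open scoped Pointwise

/-! ### A subgroup whose order is divisible by the order of a Sylow subgroup contains a conjugate
of it -/

theorem exists_conj_sylow_le {G : Type*} [Group G] [Finite G] (p : ℕ) [Fact p.Prime]
    (P : Sylow p G) (K : Subgroup G) (h : Nat.card (P : Subgroup G) ∣ Nat.card K) :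
    ∃ g : G, ∀ x ∈ (P : Subgroup G), g * x * g⁻¹ ∈ K := by
  obtain ⟨T⟩ : Nonempty (Sylow p K) := inferInstance
  have hT : IsPGroup p ((T : Subgroup K).map K.subtype) := T.isPGroup'.map K.subtype
  obtain ⟨S, hS⟩ := hT.exists_le_sylow
  obtain ⟨g, hg⟩ := MulAction.exists_smul_eq G P S
  have hcS : Nat.card (S : Subgroup G) = Nat.card (P : Subgroup G) := by
    rw [Sylow.card_eq_multiplicity, Sylow.card_eq_multiplicity]
  have hcT : Nat.card ((T : Subgroup K).map K.subtype) = p ^ (Nat.card K).factorization p := by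
    rw [Subgroup.card_subtype]
    exact T.card_eq_multiplicity
  have hle : Nat.card (P : Subgroup G) ≤ Nat.card ((T : Subgroup K).map K.subtype) := by
    rw [hcT]
    obtain ⟨a, ha⟩ := IsPGroup.iff_card.1 P.isPGroup'
    rw [ha] at h ⊢
    have hKpos : Nat.card K ≠ 0 := Nat.card_pos.ne'
    exact Nat.pow_le_pow_right (Fact.out : p.Prime).pos
      ((Nat.Prime.pow_dvd_iff_le_factorization Fact.out hKpos).1 h)
  have hTS : (T : Subgroup K).map K.subtype = (S : Subgroup G) :=
    Subgroup.eq_of_le_of_card_ge hS (by rw [hcS]; exact hle)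
  refine ⟨g, fun x hx => ?_⟩
  have h1 : g * x * g⁻¹ ∈ (S : Subgroup G) := by
    rw [← hg, Sylow.coe_subgroup_smul, Subgroup.mem_pointwise_smul_iff_inv_smul_mem]
    show (MulAut.conj g)⁻¹ • (g * x * g⁻¹) ∈ _
    rw [MulAut.smul_def, MulAut.conj_inv_apply]
    have : g⁻¹ * (g * x * g⁻¹) * g = x := by group
    rw [this]
    exact hx
  rw [← hTS] at h1
  obtain ⟨y, _, hy⟩ := Subgroup.mem_map.1 h1
  rw [← hy]
  exact y.2

/-! ### A permutation of prime order fixes every point of a small invariant set -/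

theorem fix_of_small {α : Type*} [Fintype α] [DecidableEq α] (t : Equiv.Perm α) (p : ℕ)
    (hp : p.Prime) (ht : t ^ p = 1) (C : Finset α) (hC : ∀ x, t x ∈ C ↔ x ∈ C)
    (hc : C.card < p) : ∀ a ∈ C, t a = a := by
  intro a ha
  have h1 : (t.subtypePerm hC) ^ p = 1 := by
    rw [Equiv.Perm.subtypePerm_pow]
    ext x
    simp [ht]
  have h2 : orderOf (t.subtypePerm hC) ∣ p := orderOf_dvd_of_pow_eq_one h1
  have h3 : orderOf (t.subtypePerm hC) ∣ Fintype.card (Equiv.Perm {x // x ∈ C}) :=
    orderOf_dvd_card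
  rw [Fintype.card_perm, Fintype.card_coe] at h3
  rcases (Nat.dvd_prime hp).1 h2 with h | h
  · have h4 : t.subtypePerm hC = 1 := orderOf_eq_one_iff.1 h
    have h5 := congrArg (fun f : Equiv.Perm {x // x ∈ C} => (f ⟨a, ha⟩).1) h4
    simpa using h5
  · rw [h] at h3
    exact absurd ((hp.dvd_factorial).1 h3) (not_le.2 hc)

/-! ### Fixed points of the elements of order seven -/

theorem z7_fix : ∀ x < 24, (appW z7 x = x ↔ (6422528 : ℕ).testBit x = true) := by
  decide +kernel

theorem fixed_s7 : (Finset.univ.filter fun p => s7 p = p) = maskSet 6422528 := by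
  ext p
  unfold s7
  rw [Finset.mem_filter, mem_maskSet, evalW_apply_eq_iff z7 z7_lt]
  simp only [Finset.mem_univ, true_and]
  exact z7_fix _ (M24.idx_lt p)

theorem fixed_s7_card : (Finset.univ.filter fun p => s7 p = p).card = 3 := by
  rw [fixed_s7, card_maskSet]
  decide +kernel

/-- an element of order seven of the group of the code fixes exactly three points -/
theorem ord7_fixed_card (t : Equiv.Perm GolayPt) (ht : t ∈ Cfsg.M24) (h7 : orderOf t = 7) :
    (Finset.univ.filter fun p => t p = p).card = 3 := by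
  have := S5604.fact7
  have := S5604.finite_M24
  have ho : orderOf (⟨t, ht⟩ : ↥Cfsg.M24) = 7 := by
    rw [← h7]
    exact Subgroup.orderOf_mk t ht
  have hc : Nat.card (Subgroup.zpowers (⟨t, ht⟩ : ↥Cfsg.M24)) = 7 := by
    rw [Nat.card_zpowers, ho]
  obtain ⟨g, hgm, hS⟩ := S5604.exists_conj (Subgroup.zpowers (⟨t, ht⟩ : ↥Cfsg.M24)) hc
  have h1 : (⟨t, ht⟩ : ↥Cfsg.M24) ∈ Subgroup.zpowers (g * S5604.s0 * g⁻¹) := by
    rw [← hS]
    exact Subgroup.mem_zpowers _
  obtain ⟨k, hk⟩ := Subgroup.mem_zpowers_iff.1 hgm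
  obtain ⟨l, hl⟩ := Subgroup.mem_zpowers_iff.1 h1
  have hk' : t ^ k = (g : Equiv.Perm GolayPt) * s7 * (g : Equiv.Perm GolayPt)⁻¹ := by
    have := congrArg (Subtype.val : ↥Cfsg.M24 → Equiv.Perm GolayPt) hk
    simpa [S5604.s0] using this
  have hl' : ((g : Equiv.Perm GolayPt) * s7 * (g : Equiv.Perm GolayPt)⁻¹) ^ l = t := by
    have := congrArg (Subtype.val : ↥Cfsg.M24 → Equiv.Perm GolayPt) hl
    simpa [S5604.s0] using this
  have e : (Finset.univ.filter fun p => t p = p) =
      (Finset.univ.filter fun p =>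
        ((g : Equiv.Perm GolayPt) * s7 * (g : Equiv.Perm GolayPt)⁻¹) p = p) := by
    ext p
    simp only [Finset.mem_filter, Finset.mem_univ, true_and]
    constructor
    · intro h
      rw [← hk']
      exact Equiv.Perm.zpow_apply_eq_self_of_apply_eq_self h k
    · intro h
      rw [← hl']
      exact Equiv.Perm.zpow_apply_eq_self_of_apply_eq_self h l
  rw [e, fixed_conj, Finset.card_smul_finset, fixed_s7_card]

/-- a subgroup of the group of the code of order divisible by seven fixing a point: an invariant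
set of fewer than seven points avoiding the fixed point has at most two points -/
theorem small_inv_set (K : Subgroup (Equiv.Perm GolayPt)) (hKM : K ≤ Cfsg.M24)
    (h7 : 7 ∣ Nat.card K) (C : Finset GolayPt) (hC : ∀ g ∈ K, g • C = C) (x : GolayPt)
    (hxC : x ∉ C) (hx : ∀ g ∈ K, g x = x) (hlt : C.card < 7) : C.card ≤ 2 := by
  have := S5604.fact7
  obtain ⟨t, ht⟩ := exists_prime_orderOf_dvd_card' 7 h7
  have ht7 : orderOf (t : Equiv.Perm GolayPt) = 7 := by rw [Subgroup.orderOf_coe, ht]
  have hpow : (t : Equiv.Perm GolayPt) ^ 7 = 1 := by rw [← ht7]; exact pow_orderOf_eq_one _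
  have hCt : ∀ y, (t : Equiv.Perm GolayPt) y ∈ C ↔ y ∈ C := by
    intro y
    have h1 := hC t t.2
    constructor
    · intro h
      have : (t : Equiv.Perm GolayPt) y ∈ (t : Equiv.Perm GolayPt) • C := by rw [h1]; exact h
      rw [Finset.mem_smul_finset] at this
      obtain ⟨z, hz, e⟩ := this
      have : z = y := (t : Equiv.Perm GolayPt).injective e
      rw [← this]
      exact hz
    · intro h
      rw [← h1]
      exact Finset.smul_mem_smul_finset h
  have hfix := fix_of_small (t : Equiv.Perm GolayPt) 7 (by norm_num) hpow C hCt hlt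
  have hsub : insert x C ⊆ Finset.univ.filter fun p => (t : Equiv.Perm GolayPt) p = p := by
    intro y hy
    rw [Finset.mem_insert] at hy
    rw [Finset.mem_filter]
    refine ⟨Finset.mem_univ _, ?_⟩
    rcases hy with rfl | hy
    · exact hx t t.2
    · exact hfix y hy
  have h3 := Finset.card_le_card hsub
  rw [ord7_fixed_card _ (hKM t.2) ht7, Finset.card_insert_of_notMem hxC] at h3
  omega

end Cfsg.Agent.Helper29.IdxTools
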