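import Mathlib
import Cfsg.Agent.Lib.Helper29.M24Cfg
import Cfsg.Agent.Lib.Helper29.M24Dodecad
import Cfsg.Agent.Lib.Helper29.M24Invol
import Cfsg.Agent.S5613

set_option autoImplicit false
open Cfsg

namespace Cfsg.Agent.Helper29.M24

open Cfsg.Agent.Helper27 Cfsg.Agent.Helper29
open Cfsg.Agent.S0358 (idx)
open scoped Pointwise

/-! ### The action of an octad stabilizer on its octad -/

/-- the octad stabilizer, inside the permutation group -/
def octK (o : Finset GolayPt) : Subgroup (Equiv.Perm GolayPt) :=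
  M24 ⊓ MulAction.stabilizer (Equiv.Perm GolayPt) o

theorem mem_octK (o : Finset GolayPt) (g : Equiv.Perm GolayPt) :
    g ∈ octK o ↔ g ∈ M24 ∧ g • o = o := by
  unfold octK
  rw [Subgroup.mem_inf]
  exact and_congr Iff.rfl MulAction.mem_stabilizer_iff

theorem smul_eq_iff_forall (o : Finset GolayPt) (g : Equiv.Perm GolayPt) :
    g • o = o ↔ ∀ x, g x ∈ o ↔ x ∈ o := by
  constructor
  · intro h x
    have : g x ∈ g • o ↔ x ∈ o := Finset.smul_mem_smul_finset_iff _
    rwa [h] at this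
  · intro h
    apply Finset.eq_of_subset_of_card_le
    · intro y hy
      obtain ⟨x, hx, rfl⟩ := Finset.mem_smul_finset.1 hy
      exact (h x).2 hx
    · rw [Finset.card_smul_finset]

theorem card_octK (o : Finset GolayPt) (ho : o ∈ octads) : Nat.card (octK o) = 322560 := by
  rw [← Cfsg.Agent.S5613.card_stab_octad o ho]
  symm
  apply card_of_map_eq
  ext g
  rw [Subgroup.mem_map, mem_octK]
  constructor
  · rintro ⟨h, hh, rfl⟩
    exact ⟨h.2, MulAction.mem_stabilizer_iff.1 hh⟩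
  · rintro ⟨h1, h2⟩
    exact ⟨⟨g, h1⟩, MulAction.mem_stabilizer_iff.2 h2, rfl⟩

/-- the restriction of the octad stabilizer to the octad -/
def octRes (o : Finset GolayPt) : octK o →* Equiv.Perm {x // x ∈ o} where
  toFun g := (g.1 : Equiv.Perm GolayPt).subtypePerm
    ((smul_eq_iff_forall o g.1).1 ((mem_octK o g.1).1 g.2).2)
  map_one' := by
    ext x
    rfl
  map_mul' := by
    intro a b
    ext x
    rfl

theorem octRes_apply (o : Finset GolayPt) (g : octK o) (x : {x // x ∈ o}) :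
    ((octRes o g x : {x // x ∈ o}) : GolayPt) = (g.1 : Equiv.Perm GolayPt) x.1 := rfl

theorem mem_ker_octRes (o : Finset GolayPt) (g : octK o) :
    g ∈ (octRes o).ker ↔ ∀ x ∈ o, (g.1 : Equiv.Perm GolayPt) x = x := by
  rw [MonoidHom.mem_ker]
  constructor
  · intro h x hx
    have := congrArg (fun f : Equiv.Perm {x // x ∈ o} => ((f ⟨x, hx⟩ : {x // x ∈ o}) : GolayPt)) h
    exact this
  · intro h
    apply Equiv.Perm.ext
    intro x
    apply Subtype.ext
    exact h x.1 x.2

theorem map_ker_octRes (o : Finset GolayPt) :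
    (octRes o).ker.map (octK o).subtype =
      M24 ⊓ fixingSubgroup (Equiv.Perm GolayPt) (o : Set GolayPt) := by
  ext g
  rw [Subgroup.mem_map, Subgroup.mem_inf, mem_fixingSubgroup_iff]
  constructor
  · rintro ⟨h, hh, rfl⟩
    refine ⟨((mem_octK o h.1).1 h.2).1, fun y hy => ?_⟩
    exact (mem_ker_octRes o h).1 hh y (Finset.mem_coe.1 hy)
  · rintro ⟨h1, h2⟩
    have hfix : ∀ x ∈ o, g x = x := fun x hx => h2 x (Finset.mem_coe.2 hx)
    have hgo : g • o = o := by
      apply Finset.eq_of_subset_of_card_le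
      · intro y hy
        obtain ⟨x, hx, rfl⟩ := Finset.mem_smul_finset.1 hy
        rw [Equiv.Perm.smul_def, hfix x hx]
        exact hx
      · rw [Finset.card_smul_finset]
    refine ⟨⟨g, (mem_octK o g).2 ⟨h1, hgo⟩⟩, ?_, rfl⟩
    exact (mem_ker_octRes o _).2 hfix

theorem card_ker_octRes (o : Finset GolayPt) (ho : o ∈ octads) :
    Nat.card (octRes o).ker = 16 := by
  rw [← (octad_pointwise o ho).1, ← map_ker_octRes o, Subgroup.card_subtype]

theorem card_range_octRes (o : Finset GolayPt) (ho : o ∈ octads) :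
    Nat.card (octRes o).range = 20160 := by
  have h1 := Subgroup.card_eq_card_quotient_mul_card_subgroup (octRes o).ker
  rw [card_octK o ho, card_ker_octRes o ho,
    Nat.card_congr (QuotientGroup.quotientKerEquivRange (octRes o)).toEquiv] at h1
  omega

theorem range_octRes (o : Finset GolayPt) (ho : o ∈ octads) :
    (octRes o).range = alternatingGroup {x // x ∈ o} := by
  apply Equiv.Perm.eq_alternatingGroup_of_index_eq_two
  have h1 := Subgroup.card_mul_index (octRes o).range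
  rw [card_range_octRes o ho, Nat.card_eq_fintype_card (α := Equiv.Perm {x // x ∈ o}),
    Fintype.card_perm, Fintype.card_coe, ho.2] at h1
  have : Nat.factorial 8 = 40320 := rfl
  omega

/-! ### The pointwise stabilizer of an octad is regular on the complement -/

theorem semireg6 : ∀ r ∈ orb 6, ∀ x < 24, octMask.testBit x = false → appW (tw 6 r) x = x →
    ∀ y < 24, appW (tw 6 r) y = appW [] y := by decide +kernel

theorem not_mem_oct0_iff (q : GolayPt) : q ∉ oct0 ↔ octMask.testBit (idx q) = false := by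
  unfold oct0
  rw [mem_maskSet]
  cases octMask.testBit (idx q) <;> simp

theorem grp6_semireg (σ : Equiv.Perm GolayPt) (hσ : σ ∈ grp 6) (q : GolayPt) (hq : q ∉ oct0)
    (hfix : σ q = q) : σ = 1 := by
  obtain ⟨r, hr, ρ, hρ, e⟩ := grp_step 6 (by norm_num) σ hσ
  rw [grp_seven, Subgroup.mem_bot] at hρ
  subst hρ
  rw [mul_one] at e
  have h3 := ok3 6 (by norm_num) r hr
  have hw : ∀ l ∈ tw 6 r, l < ngen := fun l hl => (h3.1 l hl).1
  have h1 : appW (tw 6 r) (idx q) = idx q := by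
    rw [← idx_evalW _ hw, ← e, hfix]
  have := evalW_eq_of_appW (tw 6 r) [] hw (fun l hl => by simp at hl)
    (semireg6 r hr (idx q) (idx_lt q) ((not_mem_oct0_iff q).1 hq) h1)
  rw [e, this]
  rfl

theorem grp6_trans (q q' : GolayPt) (hq : q ∉ oct0) (hq' : q' ∉ oct0) :
    ∃ σ ∈ grp 6, σ q = q' := by
  have key : ∀ q : GolayPt, q ∉ oct0 → ∃ σ ∈ grp 6, σ (dec (bpt 6)) = q := by
    intro q hq
    have hr : idx q ∈ orb 6 := orb6_spec _ (idx_lt q) ((not_mem_oct0_iff q).1 hq)
    have h3 := ok3 6 (by norm_num) _ hr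
    refine ⟨evalW (tw 6 (idx q)), evalW_mem_grp 6 _ h3.1, ?_⟩
    apply idx_injective
    rw [idx_evalW _ (fun l hl => (h3.1 l hl).1), idx_dec_bpt 6 (by norm_num)]
    exact h3.2
  obtain ⟨σ, hσ, e⟩ := key q hq
  obtain ⟨σ', hσ', e'⟩ := key q' hq'
  refine ⟨σ' * σ⁻¹, Subgroup.mul_mem _ hσ' (Subgroup.inv_mem _ hσ), ?_⟩
  rw [Equiv.Perm.mul_apply, ← e, Equiv.Perm.inv_def, Equiv.symm_apply_apply, e']

/-- the pointwise stabilizer of an octad -/
def octN (o : Finset GolayPt) : Subgroup (Equiv.Perm GolayPt) :=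
  M24 ⊓ fixingSubgroup (Equiv.Perm GolayPt) (o : Set GolayPt)

theorem mem_octN_smul (g : Equiv.Perm GolayPt) (hg : g ∈ M24) (σ : Equiv.Perm GolayPt) :
    σ ∈ octN (g • oct0) ↔ g⁻¹ * σ * g ∈ grp 6 := by
  unfold octN
  rw [Subgroup.mem_inf, conj_mem_fixing, ← inf_fixing_oct0, Subgroup.mem_inf]
  constructor
  · rintro ⟨h1, h2⟩
    exact ⟨Subgroup.mul_mem _ (Subgroup.mul_mem _ (Subgroup.inv_mem _ hg) h1) hg, h2⟩
  · rintro ⟨h1, h2⟩
    refine ⟨?_, h2⟩
    have := Subgroup.mul_mem _ (Subgroup.mul_mem _ hg h1) (Subgroup.inv_mem _ hg)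
    simpa [mul_assoc] using this

theorem octN_semireg (o : Finset GolayPt) (ho : o ∈ octads) (σ : Equiv.Perm GolayPt)
    (hσ : σ ∈ octN o) (q : GolayPt) (hq : q ∉ o) (hfix : σ q = q) : σ = 1 := by
  obtain ⟨g, hg, rfl⟩ := octad_transitive oct0 o oct0_mem ho
  rw [mem_octN_smul g hg] at hσ
  have hq' : g⁻¹ q ∉ oct0 := by
    intro h
    apply hq
    have := Finset.smul_mem_smul_finset (a := g) h
    rwa [Equiv.Perm.smul_def, perm_apply_inv] at this
  have h1 : (g⁻¹ * σ * g) (g⁻¹ q) = g⁻¹ q := by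
    simp only [Equiv.Perm.mul_apply, perm_apply_inv, hfix]
  have h2 := grp6_semireg _ hσ _ hq' h1
  have : σ = g * (g⁻¹ * σ * g) * g⁻¹ := by group
  rw [this, h2]
  group

theorem octN_trans (o : Finset GolayPt) (ho : o ∈ octads) (q q' : GolayPt) (hq : q ∉ o)
    (hq' : q' ∉ o) : ∃ σ ∈ octN o, σ q = q' := by
  obtain ⟨g, hg, rfl⟩ := octad_transitive oct0 o oct0_mem ho
  have hh : ∀ q : GolayPt, q ∉ g • oct0 → g⁻¹ q ∉ oct0 := by
    intro q hq h
    apply hq
    have := Finset.smul_mem_smul_finset (a := g) h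
    rwa [Equiv.Perm.smul_def, perm_apply_inv] at this
  obtain ⟨τ, hτ, e⟩ := grp6_trans _ _ (hh q hq) (hh q' hq')
  refine ⟨g * τ * g⁻¹, ?_, ?_⟩
  · rw [mem_octN_smul g hg]
    have : g⁻¹ * (g * τ * g⁻¹) * g = τ := by group
    rwa [this]
  · simp only [Equiv.Perm.mul_apply, e, perm_apply_inv]

theorem octN_le_octK (o : Finset GolayPt) : octN o ≤ octK o := by
  intro σ hσ
  unfold octN at hσ
  rw [Subgroup.mem_inf, mem_fixingSubgroup_iff] at hσ
  rw [mem_octK]
  refine ⟨hσ.1, ?_⟩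
  apply Finset.eq_of_subset_of_card_le
  · intro y hy
    obtain ⟨x, hx, rfl⟩ := Finset.mem_smul_finset.1 hy
    rw [hσ.2 x (Finset.mem_coe.2 hx)]
    exact hx
  · rw [Finset.card_smul_finset]

theorem mem_octN_iff (o : Finset GolayPt) (σ : Equiv.Perm GolayPt) :
    σ ∈ octN o ↔ σ ∈ M24 ∧ ∀ x ∈ o, σ x = x := by
  unfold octN
  rw [Subgroup.mem_inf, mem_fixingSubgroup_iff]
  exact and_congr Iff.rfl ⟨fun h x hx => h x (Finset.mem_coe.2 hx),
    fun h x hx => h x (Finset.mem_coe.1 hx)⟩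

/-- the complement: the stabilizer of the octad and of a point outside -/
def octC (o : Finset GolayPt) (p : GolayPt) : Subgroup (Equiv.Perm GolayPt) :=
  M24 ⊓ MulAction.stabilizer (Equiv.Perm GolayPt) o ⊓ MulAction.stabilizer (Equiv.Perm GolayPt) p

theorem mem_octC (o : Finset GolayPt) (p : GolayPt) (σ : Equiv.Perm GolayPt) :
    σ ∈ octC o p ↔ σ ∈ octK o ∧ σ p = p := by
  unfold octC
  rw [Subgroup.mem_inf]
  exact and_congr Iff.rfl MulAction.mem_stabilizer_iff

theorem octC_le (o : Finset GolayPt) (p : GolayPt) : octC o p ≤ octK o :=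
  fun σ hσ => ((mem_octC o p σ).1 hσ).1

/-- every element of the octad stabilizer is the product of an element of the pointwise
stabilizer and an element fixing the point outside -/
theorem octK_factor (o : Finset GolayPt) (ho : o ∈ octads) (p : GolayPt) (hp : p ∉ o)
    (k : Equiv.Perm GolayPt) (hk : k ∈ octK o) : ∃ n ∈ octN o, n * k ∈ octC o p := by
  have hk' := (mem_octK o k).1 hk
  have hq : k p ∉ o := fun h => hp (((smul_eq_iff_forall o k).1 hk'.2 p).1 h)
  obtain ⟨n, hn, e⟩ := octN_trans o ho (k p) p hq hp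
  refine ⟨n, hn, ?_⟩
  rw [mem_octC]
  exact ⟨Subgroup.mul_mem _ (octN_le_octK o hn) hk, by rw [Equiv.Perm.mul_apply, e]⟩

theorem octN_inf_octC (o : Finset GolayPt) (ho : o ∈ octads) (p : GolayPt) (hp : p ∉ o) :
    octN o ⊓ octC o p = ⊥ := by
  rw [eq_bot_iff]
  intro σ hσ
  rw [Subgroup.mem_inf, mem_octC] at hσ
  rw [Subgroup.mem_bot]
  exact octN_semireg o ho σ hσ.1 p hp hσ.2.2

theorem octN_sup_octC (o : Finset GolayPt) (ho : o ∈ octads) (p : GolayPt) (hp : p ∉ o) :
    octN o ⊔ octC o p = octK o := by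
  apply le_antisymm
  · exact sup_le (octN_le_octK o) (octC_le o p)
  · intro k hk
    obtain ⟨n, hn, hc⟩ := octK_factor o ho p hp k hk
    have : k = n⁻¹ * (n * k) := by group
    rw [this]
    exact Subgroup.mul_mem_sup (Subgroup.inv_mem _ hn) hc

/-- the restriction of the complement to the octad -/
def octResC (o : Finset GolayPt) (p : GolayPt) : octC o p →* Equiv.Perm {x // x ∈ o} :=
  (octRes o).comp (Subgroup.inclusion (octC_le o p))

theorem octResC_injective (o : Finset GolayPt) (ho : o ∈ octads) (p : GolayPt) (hp : p ∉ o) :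
    Function.Injective (octResC o p) := by
  rw [injective_iff_map_eq_one]
  intro c hc
  have h1 : Subgroup.inclusion (octC_le o p) c ∈ (octRes o).ker := hc
  rw [mem_ker_octRes] at h1
  have h2 : (c : Equiv.Perm GolayPt) ∈ octN o ⊓ octC o p := by
    rw [Subgroup.mem_inf, mem_octN_iff]
    exact ⟨⟨((mem_octK o _).1 (octC_le o p c.2)).1, h1⟩, c.2⟩
  rw [octN_inf_octC o ho p hp, Subgroup.mem_bot] at h2
  exact Subtype.ext h2

theorem octResC_range (o : Finset GolayPt) (ho : o ∈ octads) (p : GolayPt) (hp : p ∉ o) :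
    (octResC o p).range = alternatingGroup {x // x ∈ o} := by
  rw [← range_octRes o ho]
  apply le_antisymm
  · rintro e ⟨c, rfl⟩
    exact ⟨_, rfl⟩
  · rintro e ⟨k, rfl⟩
    obtain ⟨n, hn, hc⟩ := octK_factor o ho p hp k.1 k.2
    refine ⟨⟨n * k.1, hc⟩, ?_⟩
    apply Equiv.Perm.ext
    intro x
    apply Subtype.ext
    show (n * k.1) x.1 = k.1 x.1
    rw [Equiv.Perm.mul_apply]
    exact ((mem_octN_iff o n).1 hn).2 _ ((((smul_eq_iff_forall o k.1).1
      ((mem_octK o k.1).1 k.2).2) x.1).2 x.2)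

theorem octC_iso (o : Finset GolayPt) (ho : o ∈ octads) (p : GolayPt) (hp : p ∉ o) :
    Nonempty (octC o p ≃* alternatingGroup (Fin 8)) := by
  have hc8 : Fintype.card {x // x ∈ o} = 8 := by rw [Fintype.card_coe, ho.2]
  exact ⟨((MonoidHom.ofInjective (octResC_injective o ho p hp)).trans
    (MulEquiv.subgroupCongr (octResC_range o ho p hp))).trans
    (Equiv.altCongrHom (Fintype.equivFinOfCardEq hc8))⟩

end Cfsg.Agent.Helper29.M24
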