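import Mathlib
import Cfsg.Agent.Lib.Helper29.M24Mask
import Cfsg.Agent.Lib.Helper29.M24Dodecad
import Cfsg.Agent.Lib.Helper29.M24Fam

set_option autoImplicit false
open Cfsg

namespace Cfsg.Agent.Helper29.M24

open Cfsg.Agent.Helper27 Cfsg.Agent.Helper29
open Cfsg.Agent.S0358 (idx)
open scoped Pointwise

/-! ### Pruned search through the stabilizer chain of the group of the code

`searchN lvl fin n i W` lists the full words extending the prefix `W` (a product of transversal
words of the levels below `i`), where `n` levels remain; `lvl` prunes at each level and `fin`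
is the final test. -/

/-- the pruned search -/
def searchN (lvl : ℕ → List ℕ → Bool) (fin : List ℕ → Bool) : ℕ → ℕ → List ℕ → List (List ℕ)
  | 0, _, W => if fin W = true then [W] else []
  | n + 1, i, W => (orb i).flatMap fun p =>
      if lvl i (W ++ tw i p) = true then searchN lvl fin n (i + 1) (W ++ tw i p) else []

theorem searchN_zero (lvl : ℕ → List ℕ → Bool) (fin : List ℕ → Bool) (i : ℕ) (W : List ℕ) :
    searchN lvl fin 0 i W = if fin W = true then [W] else [] := rfl

theorem searchN_succ (lvl : ℕ → List ℕ → Bool) (fin : List ℕ → Bool) (n i : ℕ) (W : List ℕ) :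
    searchN lvl fin (n + 1) i W = (orb i).flatMap fun p =>
      if lvl i (W ++ tw i p) = true then searchN lvl fin n (i + 1) (W ++ tw i p) else [] := rfl

/-- completeness of the search -/
theorem searchN_spec (lvl : ℕ → List ℕ → Bool) (fin : List ℕ → Bool)
    (P : Equiv.Perm GolayPt → Prop)
    (hlvl : ∀ i < 7, ∀ W : List ℕ, (∀ l ∈ W, l < ngen) → ∀ τ ∈ grp (i + 1),
      P (evalW W * τ) → lvl i W = true)
    (hfin : ∀ W : List ℕ, (∀ l ∈ W, l < ngen) → P (evalW W) → fin W = true) :
    ∀ n i : ℕ, i + n = 7 → ∀ W : List ℕ, (∀ l ∈ W, l < ngen) → ∀ τ ∈ grp i, P (evalW W * τ) →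
      ∃ W' ∈ searchN lvl fin n i W, evalW W * τ = evalW W' := by
  intro n
  induction n with
  | zero =>
    intro i hi W hW τ hτ hP
    have h7 : i = 7 := by omega
    subst h7
    rw [grp_seven, Subgroup.mem_bot] at hτ
    subst hτ
    rw [mul_one] at hP ⊢
    refine ⟨W, ?_, rfl⟩
    rw [searchN_zero, if_pos (hfin W hW hP)]
    exact List.mem_singleton_self W
  | succ n ih =>
    intro i hi W hW τ hτ hP
    obtain ⟨p, hp, τ', hτ', rfl⟩ := grp_step i (by omega) τ hτ
    have h3 := ok3 i (by omega) p hp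
    have hW' : ∀ l ∈ W ++ tw i p, l < ngen := by
      intro l hl
      rcases List.mem_append.1 hl with h | h
      · exact hW l h
      · exact (h3.1 l h).1
    have hP' : P (evalW (W ++ tw i p) * τ') := by
      rw [evalW_append, mul_assoc]
      exact hP
    have hl := hlvl i (by omega) (W ++ tw i p) hW' τ' hτ' hP'
    obtain ⟨W', hmem, e⟩ := ih (i + 1) (by omega) (W ++ tw i p) hW' τ' hτ' hP'
    refine ⟨W', ?_, ?_⟩
    · rw [searchN_succ, List.mem_flatMap]
      exact ⟨p, hp, by rw [if_pos hl]; exact hmem⟩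
    · rw [← e, evalW_append, mul_assoc]

/-- the words found by the search pass the final test and use generator letters only -/
theorem searchN_sound (lvl : ℕ → List ℕ → Bool) (fin : List ℕ → Bool) :
    ∀ n i : ℕ, i + n = 7 → ∀ W : List ℕ, (∀ l ∈ W, l < ngen) →
      ∀ W' ∈ searchN lvl fin n i W, (∀ l ∈ W', l < ngen) ∧ fin W' = true := by
  intro n
  induction n with
  | zero =>
    intro i _ W hW W' hW'
    rw [searchN_zero] at hW'
    split_ifs at hW' with h
    · rw [List.mem_singleton] at hW'
      subst hW'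
      exact ⟨hW, h⟩
    · exact absurd hW' List.not_mem_nil
  | succ n ih =>
    intro i hi W hW W' hW'
    rw [searchN_succ, List.mem_flatMap] at hW'
    obtain ⟨p, hp, hmem⟩ := hW'
    split_ifs at hmem with h
    · have h3 := ok3 i (by omega) p hp
      apply ih (i + 1) (by omega) (W ++ tw i p) _ W' hmem
      intro l hl
      rcases List.mem_append.1 hl with h' | h'
      · exact hW l h'
      · exact (h3.1 l h').1
    · exact absurd hmem List.not_mem_nil

/-- the full search from the top of the chain -/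
def searchAll (lvl : ℕ → List ℕ → Bool) (fin : List ℕ → Bool) : List (List ℕ) :=
  searchN lvl fin 7 0 []

theorem searchAll_complete (lvl : ℕ → List ℕ → Bool) (fin : List ℕ → Bool)
    (P : Equiv.Perm GolayPt → Prop)
    (hlvl : ∀ i < 7, ∀ W : List ℕ, (∀ l ∈ W, l < ngen) → ∀ τ ∈ grp (i + 1),
      P (evalW W * τ) → lvl i W = true)
    (hfin : ∀ W : List ℕ, (∀ l ∈ W, l < ngen) → P (evalW W) → fin W = true)
    (g : Equiv.Perm GolayPt) (hg : g ∈ M24) (hP : P g) :
    ∃ W ∈ searchAll lvl fin, g = evalW W := by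
  rw [M24_eq_grp] at hg
  have h := searchN_spec lvl fin P hlvl hfin 7 0 rfl [] (fun _ hl => absurd hl List.not_mem_nil)
    g hg (by rw [evalW_nil, one_mul]; exact hP)
  rw [evalW_nil, one_mul] at h
  exact h

theorem searchAll_sound (lvl : ℕ → List ℕ → Bool) (fin : List ℕ → Bool) :
    ∀ W ∈ searchAll lvl fin, (∀ l ∈ W, l < ngen) ∧ fin W = true :=
  searchN_sound lvl fin 7 0 rfl [] (fun _ hl => absurd hl List.not_mem_nil)

/-! ### The search for the elements fixing each set of a list of masks -/

/-- `g` maps each of the sets with masks in `Ms` to itself -/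
def FixesAll (Ms : List ℕ) (g : Equiv.Perm GolayPt) : Prop :=
  ∀ T ∈ Ms, g • maskSet T = maskSet T

/-- level test: the image of the base point stays in the set `tm i` that contains it -/
def lvlM (tm : ℕ → ℕ) (i : ℕ) (W : List ℕ) : Bool := (tm i).testBit (appW W (bpt i))

/-- final test: each set of the list is mapped into itself -/
def finM (Ms : List ℕ) (W : List ℕ) : Bool := Ms.all fun T => decide (mapsW W T T)

theorem lvlM_ok (Ms : List ℕ) (tm : ℕ → ℕ)
    (htm : ∀ i < 7, tm i ∈ Ms ∧ (tm i).testBit (bpt i) = true) :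
    ∀ i < 7, ∀ W : List ℕ, (∀ l ∈ W, l < ngen) → ∀ τ ∈ grp (i + 1),
      FixesAll Ms (evalW W * τ) → lvlM tm i W = true := by
  intro i hi W hW τ hτ hP
  have h1 := hP (tm i) (htm i hi).1
  have h2 : dec (bpt i) ∈ maskSet (tm i) := (mem_maskSet_idx _ _ (bpt_lt i hi)).2 (htm i hi).2
  have h3 : (evalW W * τ) (dec (bpt i)) ∈ maskSet (tm i) := by
    rw [← h1]
    exact Finset.smul_mem_smul_finset (a := evalW W * τ) h2
  rw [Equiv.Perm.mul_apply, grp_succ_fix i hi τ hτ, mem_maskSet, idx_evalW W hW,
    idx_dec_bpt i hi] at h3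
  exact h3

theorem finM_ok (Ms : List ℕ) :
    ∀ W : List ℕ, (∀ l ∈ W, l < ngen) → FixesAll Ms (evalW W) → finM Ms W = true := by
  intro W hW hP
  unfold finM
  rw [List.all_eq_true]
  intro T hT
  rw [decide_eq_true_eq]
  intro x hx hb
  have h2 : evalW W (dec x) ∈ maskSet T := by
    rw [← hP T hT]
    exact Finset.smul_mem_smul_finset (a := evalW W) ((mem_maskSet_idx _ x hx).2 hb)
  rw [mem_maskSet, idx_evalW W hW] at h2
  have hx' : idx (dec x) = x := idx_dec ⟨x, hx⟩
  rwa [hx'] at h2

theorem fixesAll_of_finM (Ms : List ℕ) (W : List ℕ) (hW : ∀ l ∈ W, l < ngen)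
    (h : finM Ms W = true) : FixesAll Ms (evalW W) := by
  intro T hT
  unfold finM at h
  rw [List.all_eq_true] at h
  have := h T hT
  rw [decide_eq_true_eq] at this
  exact smul_eq_of_mapsW W hW T T le_rfl this

theorem fixesAll_iff_famSet (Ms : List ℕ) (g : Equiv.Perm GolayPt) :
    FixesAll Ms g ↔ ∀ t ∈ famSet Ms, g • t = t := by
  constructor
  · intro h t ht
    obtain ⟨m, hm, rfl⟩ := (mem_famSet _ _).1 ht
    exact h m hm
  · intro h T hT
    exact h _ ((mem_famSet _ _).2 ⟨T, hT, rfl⟩)

/-- the action of a word, as the list of images of the 24 encoded points -/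
def codeW (W : List ℕ) : List ℕ := (List.range 24).map (appW W)

theorem codeW_eq_of_evalW_eq (W₁ W₂ : List ℕ) (h₁ : ∀ l ∈ W₁, l < ngen) (h₂ : ∀ l ∈ W₂, l < ngen)
    (h : evalW W₁ = evalW W₂) : codeW W₁ = codeW W₂ := by
  unfold codeW
  apply List.map_congr_left
  intro x hx
  rw [List.mem_range] at hx
  have h1 := idx_evalW W₁ h₁ (dec x)
  have h2 := idx_evalW W₂ h₂ (dec x)
  have hx' : idx (dec x) = x := idx_dec ⟨x, hx⟩
  rw [hx'] at h1 h2
  rw [← h1, ← h2, h]

end Cfsg.Agent.Helper29.M24
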