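import Mathlib
import Cfsg.Agent.Lib.Helper29.M24Search
import Cfsg.Agent.Lib.Helper29.M24Fixed

set_option autoImplicit false
open Cfsg

namespace Cfsg.Agent.Helper29.M24

open Cfsg.Agent.Helper27 Cfsg.Agent.Helper29
open Cfsg.Agent.S0358 (idx)
open scoped Pointwise

/-! ### Pruned search through the stabilizer chain, carrying the packed action of the prefix

The search of `M24Search` applies words letter by letter; here the packed permutation of the
prefix is carried along, so that the tests read images off a number. -/

/-- pack the values `v s, v (s + 1), …` as digits in base 32 -/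
def packF (v : ℕ → ℕ) : ℕ → ℕ → ℕ
  | _, 0 => 0
  | s, k + 1 => Nat.add (v s) (Nat.mul 32 (packF v (Nat.succ s) k))

theorem app_packF (v : ℕ → ℕ) (hv : ∀ y, v y < 32) :
    ∀ k s x, x < k → app (packF v s k) x = v (s + x) := by
  intro k
  induction k with
  | zero => intro s x hx; exact absurd hx (Nat.not_lt_zero x)
  | succ k ih =>
    intro s x hx
    unfold packF
    show app (v s + 32 * packF v (s + 1) k) x = v (s + x)
    cases x with
    | zero =>
      unfold app
      have h31 : (31 : ℕ) = 2 ^ 5 - 1 := by norm_num
      rw [Nat.mul_zero, Nat.shiftRight_zero, h31, Nat.and_two_pow_sub_one_eq_mod]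
      have := hv s
      simp only [Nat.add_zero]
      omega
    | succ x =>
      have hx' : x < k := by omega
      have h := ih (s + 1) x hx'
      unfold app at h ⊢
      have e : (v s + 32 * packF v (s + 1) k) >>> (5 * (x + 1)) =
          packF v (s + 1) k >>> (5 * x) := by
        have : 5 * (x + 1) = 5 + 5 * x := by ring
        rw [this, Nat.shiftRight_add, Nat.shiftRight_eq_div_pow _ 5]
        congr 1
        have := hv s
        omega
      rw [e, h]
      congr 1
      omega

/-- the packed product of two packed permutations -/
def compF (c d : ℕ) : ℕ := packF (fun x => appF c (appF d x)) 0 24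

theorem app_compF (c d x : ℕ) (hx : x < 24) : app (compF c d) x = app c (app d x) := by
  unfold compF
  rw [app_packF _ _ 24 0 x hx, Nat.zero_add]
  · rfl
  · intro y
    show (c >>> (5 * appF d y)) &&& 31 < 32
    exact Nat.lt_succ_of_le Nat.and_le_right

theorem appW_lt (V : List ℕ) (hV : ∀ j ∈ V, j < ngen) (x : ℕ) (hx : x < 24) : appW V x < 24 := by
  have hd : idx (dec x) = x := idx_dec ⟨x, hx⟩
  have h1 : appW V x = idx (evalW V (dec x)) := by rw [idx_evalW _ hV, hd]
  rw [h1]
  exact M24.idx_lt _

theorem repr_compF (c d : ℕ) (W V : List ℕ) (hc : Repr c W) (hd : Repr d V) :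
    Repr (compF c d) (W ++ V) := by
  refine ⟨?_, ?_⟩
  · intro j hj
    rcases List.mem_append.1 hj with h | h
    · exact hc.1 j h
    · exact hd.1 j h
  · intro x hx
    rw [app_compF c d x hx, hd.2 x hx, hc.2 _ (appW_lt V hd.1 x hx)]
    unfold appW
    rw [List.foldr_append]

instance (P : ℕ) (w : List ℕ) : Decidable (Repr P w) := by
  unfold Repr
  infer_instance

/-- the packed identity -/
def cId : ℕ := 984818244535754528103549039458486304

theorem repr_cId : Repr cId [] := by decide

/-- the packed actions of the transversal words -/
def twctab : List (List ℕ) := [
  [1795248432537898728475572672376535, 44673570877212604306017735907225623, 87551893321887283366365293184594999, 130430215766561988943882167652005975, 167949343988397239805631053865205783, 210827666405266651532036746081813559, 253823597301981865184255958302697047, 296701919746656570761798121513429623, 350089150122176138052413882814349330, 388414534648940437069202076403765952, 436945429454090370206507247441779927, 477144491347695089491217979027889856, 520022813792369793915838637655891969, 562901136209239204489322825265652770, 606430463705032075921020289251791584, 645267317966049346622286219446798688,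 688145640410724025682632677212540289, 735587699092264497034396794013002464, 755859705571862642503515274234732567, 798738028016510194473780937009603639, 841616349571415496814956027660707927, 885535552053993010777501352989086454, 928413874498667716355043516223936224, 984818244535754528103549039458486304],
  [984818244535754528103549039458486304, 956302485175575353788796878166559809, 956709441910203461498593497208492130, 958020233522794296771657265635857539, 956085195133363055212480936219446308, 957425142709759139735883430963155013, 978766510459594708251448298497017958, 980106457146221389564379418514361479, 981446404722617474113677611114696872, 982785441175144644623093477960357065, 963716496262025890856626474012726794, 965056443838421126855697275974441515, 981479756257583331316758900546032684, 964521808570850532854157028147337869, 961196939926324211683031215110199982, 962535976378851382192447081955860175, 968623797688358402946156788819430064, 958596671242428955923981881557747345, 955976305995358692400003018625453266, 957316225099133873385554888546685171, 958656172675529957934853081123656980, 959966964288120793207916849551022389, 979382536624200311149222395249789110,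 0],
  [0, 984818244535754528103549039458486304, 969952412052033243847481939299780672, 965870617150227898590737774526781536, 977864963184960973661438897150854272, 975312014457633787008290956044294304, 960102983020038063436963867289584832, 975560147356030016358585956731374816, 970253576350206908736745236429588736, 971594707570478176045540228399891744, 967126699897531728973970302952360256, 957221337507505973610300988599209312, 964521953486073787214971590946721152, 967680261006123120659324014218844576, 958629792518776428064823910614784448, 984147185391469286531675458309104096, 980763666375311211522297573570613760, 963721390392724170056306368119552544, 974380510768821363662145534143076928, 979237512961369782767096800185331296, 958768647567374193787788441772364416, 961040282282422923708803062378678944, 960907087215413438320230550522711744, 0],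
  [0, 0, 984818244535754528103549039458486304, 973090888158172030455026131530910752, 978367047950466704177579717896245280, 974340819652154985771143390105441312, 960033848829269131965107149858969632, 979440977020814898109171719888870432, 975327285985924187911589954515836960, 964962505551033560627896462764287008, 970412053727790148363145457445185568, 984817991648557182271122796119993376, 979583915351052509684663277618671648, 971067425761103077249563997613143072, 984817871867329002512743410423019552, 977625164113062764779502193423367200, 963683973571650591774322336883425312, 971067479764906185676370039935452192, 963825467651839158943536912151332896, 975327388589488350565696502603729952, 979440941935200233464249839734345760, 979583992404381547555516355153417248, 975645119516978822271889339680643104, 0],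
  [0, 0, 0, 984818244535754528103549039458486304, 970490885909941007113178752422643744, 980480371405599146820808885219264544, 982251114264959631096782468745988128, 974047838953398371220996715143464992, 978266852674382294020052675747645472, 976888774479474864997516652471158816, 971748839566330706286476990097983520, 982865866827004433896179597614352416, 962549533795522802628366667846387744, 980670515492242546655962587769243680, 984724508489452699215480746259449888, 974028975324366749664780523551557664, 981693190123713776154413302211414048, 977023451795203591179182037798520864, 983238193231949244611641028452616224, 976664397333815404804390449247258656, 983347576399000436617585635815458848, 982009244765976044190323411028445216, 983274280615770709666703144662009888, 0],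
  [0, 0, 0, 0, 0, 984818244535754528103549039458486304, 0, 0, 0, 0, 0, 0, 0, 0, 966039336168793943308839874394687520, 0, 0, 982125237077252311731715764534741024, 0, 0, 0, 0, 0, 0],
  [0, 0, 0, 0, 984818244535754528103549039458486304, 0, 965128854020860192151391391390468128, 963721886883755259286232606933354528, 979121071158219704299181131031480352, 968708902336673183175954409307867168, 967812279691448225500382947153381408, 971592882964418941354553515258775584, 970499966350631336865513127433832480, 976448692869377735270425038196672544, 0, 981818691054096003685363657089320992, 972512676110088067912772961567868960, 0, 966182099583441531322624363496310816, 983548720921252936276249910206105632, 975346028712660580592452217730074656, 980224387687010295957922729495201824, 961365507626256404119956257276790816, 0]]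

def twc (i p : ℕ) : ℕ := (twctab.getD i []).getD p 0

set_option maxRecDepth 100000 in
theorem twc_ok : ∀ i < 7, ∀ p ∈ orb i, Repr (twc i p) (tw i p) := by decide +kernel

/-- the pruned search: `lvl i c p` tests the extension of the prefix with packed action `c` by
the transversal word of the point `p` at level `i`; `fin` is the final test -/
def searchC (lvl : ℕ → ℕ → ℕ → Bool) (fin : ℕ → Bool) :
    ℕ → ℕ → List ℕ → ℕ → List (List ℕ × ℕ)
  | 0, _, W, c => if fin c = true then [(W, c)] else []
  | n + 1, i, W, c => (orb i).flatMap fun p =>
      if lvl i c p = true then searchC lvl fin n (i + 1) (W ++ tw i p) (compF c (twc i p)) else []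

theorem searchC_zero (lvl : ℕ → ℕ → ℕ → Bool) (fin : ℕ → Bool) (i : ℕ) (W : List ℕ) (c : ℕ) :
    searchC lvl fin 0 i W c = if fin c = true then [(W, c)] else [] := rfl

theorem searchC_succ (lvl : ℕ → ℕ → ℕ → Bool) (fin : ℕ → Bool) (n i : ℕ) (W : List ℕ) (c : ℕ) :
    searchC lvl fin (n + 1) i W c = (orb i).flatMap fun p =>
      if lvl i c p = true then searchC lvl fin n (i + 1) (W ++ tw i p) (compF c (twc i p))
      else [] := rfl

/-- completeness of the search -/
theorem searchC_spec (lvl : ℕ → ℕ → ℕ → Bool) (fin : ℕ → Bool)
    (P : Equiv.Perm GolayPt → Prop)
    (hlvl : ∀ i < 7, ∀ (W : List ℕ) (c : ℕ), Repr c W → ∀ p ∈ orb i, ∀ τ ∈ grp (i + 1),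
      P (evalW (W ++ tw i p) * τ) → lvl i c p = true)
    (hfin : ∀ (W : List ℕ) (c : ℕ), Repr c W → P (evalW W) → fin c = true) :
    ∀ n i : ℕ, i + n = 7 → ∀ (W : List ℕ) (c : ℕ), Repr c W → ∀ τ ∈ grp i, P (evalW W * τ) →
      ∃ q ∈ searchC lvl fin n i W c, evalW W * τ = evalW q.1 := by
  intro n
  induction n with
  | zero =>
    intro i hi W c hr τ hτ hP
    have h7 : i = 7 := by omega
    subst h7
    rw [grp_seven, Subgroup.mem_bot] at hτ
    subst hτ
    rw [mul_one] at hP ⊢
    refine ⟨(W, c), ?_, rfl⟩
    rw [searchC_zero, if_pos (hfin W c hr hP)]
    exact List.mem_singleton_self _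
  | succ n ih =>
    intro i hi W c hr τ hτ hP
    obtain ⟨p, hp, τ', hτ', rfl⟩ := grp_step i (by omega) τ hτ
    have h3 := ok3 i (by omega) p hp
    have hr' : Repr (compF c (twc i p)) (W ++ tw i p) :=
      repr_compF c (twc i p) W (tw i p) hr (twc_ok i (by omega) p hp)
    have hP' : P (evalW (W ++ tw i p) * τ') := by
      rw [evalW_append, mul_assoc]
      exact hP
    have hl := hlvl i (by omega) W c hr p hp τ' hτ' hP'
    obtain ⟨q, hmem, e⟩ := ih (i + 1) (by omega) (W ++ tw i p) _ hr' τ' hτ' hP'
    refine ⟨q, ?_, ?_⟩
    · rw [searchC_succ, List.mem_flatMap]
      exact ⟨p, hp, by rw [if_pos hl]; exact hmem⟩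
    · rw [← e, evalW_append, mul_assoc]

/-- the pairs found by the search consist of a word and its packed action, and pass the final
test -/
theorem searchC_sound (lvl : ℕ → ℕ → ℕ → Bool) (fin : ℕ → Bool) :
    ∀ n i : ℕ, i + n = 7 → ∀ (W : List ℕ) (c : ℕ), Repr c W →
      ∀ q ∈ searchC lvl fin n i W c, Repr q.2 q.1 ∧ fin q.2 = true := by
  intro n
  induction n with
  | zero =>
    intro i _ W c hr q hq
    rw [searchC_zero] at hq
    split_ifs at hq with h
    · rw [List.mem_singleton] at hq
      subst hq
      exact ⟨hr, h⟩
    · exact absurd hq List.not_mem_nil
  | succ n ih =>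
    intro i hi W c hr q hq
    rw [searchC_succ, List.mem_flatMap] at hq
    obtain ⟨p, hp, hmem⟩ := hq
    split_ifs at hmem with h
    · exact ih (i + 1) (by omega) (W ++ tw i p) _
        (repr_compF c (twc i p) W (tw i p) hr (twc_ok i (by omega) p hp)) q hmem
    · exact absurd hmem List.not_mem_nil

/-- the full search from the top of the chain -/
def searchCAll (lvl : ℕ → ℕ → ℕ → Bool) (fin : ℕ → Bool) : List (List ℕ × ℕ) :=
  searchC lvl fin 7 0 [] cId

theorem searchCAll_complete (lvl : ℕ → ℕ → ℕ → Bool) (fin : ℕ → Bool)
    (P : Equiv.Perm GolayPt → Prop)
    (hlvl : ∀ i < 7, ∀ (W : List ℕ) (c : ℕ), Repr c W → ∀ p ∈ orb i, ∀ τ ∈ grp (i + 1),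
      P (evalW (W ++ tw i p) * τ) → lvl i c p = true)
    (hfin : ∀ (W : List ℕ) (c : ℕ), Repr c W → P (evalW W) → fin c = true)
    (g : Equiv.Perm GolayPt) (hg : g ∈ M24) (hP : P g) :
    ∃ q ∈ searchCAll lvl fin, g = evalW q.1 := by
  rw [M24_eq_grp] at hg
  have h := searchC_spec lvl fin P hlvl hfin 7 0 rfl [] cId repr_cId g hg
    (by rw [evalW_nil, one_mul]; exact hP)
  rw [evalW_nil, one_mul] at h
  exact h

theorem searchCAll_sound (lvl : ℕ → ℕ → ℕ → Bool) (fin : ℕ → Bool) :
    ∀ q ∈ searchCAll lvl fin, Repr q.2 q.1 ∧ fin q.2 = true :=
  searchC_sound lvl fin 7 0 rfl [] cId repr_cId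

/-- the images of the base points under an extended prefix -/
theorem idx_ext_lt (i : ℕ) (hi : i < 7) (W : List ℕ) (c : ℕ) (hr : Repr c W) (p : ℕ)
    (hp : p ∈ orb i) (τ : Equiv.Perm GolayPt) (hτ : τ ∈ grp (i + 1)) (j : ℕ) (hj : j < i) :
    idx ((evalW (W ++ tw i p) * τ) (dec (bpt j))) = app c (bpt j) := by
  have h3 := ok3 i hi p hp
  have ht : evalW (tw i p) ∈ grp i := evalW_mem_grp i _ h3.1
  have hj7 : j < 7 := by omega
  have h1 : τ (dec (bpt j)) = dec (bpt j) := grp_fix (i + 1) (by omega) τ hτ j (by omega)
  have h2 : evalW (tw i p) (dec (bpt j)) = dec (bpt j) := grp_fix i (by omega) _ ht j hj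
  rw [Equiv.Perm.mul_apply, h1, evalW_append, Equiv.Perm.mul_apply, h2, idx_evalW W hr.1,
    idx_dec_bpt j hj7, hr.2 _ (bpt_lt j hj7)]

theorem idx_ext_eq (i : ℕ) (hi : i < 7) (W : List ℕ) (c : ℕ) (hr : Repr c W) (p : ℕ)
    (hp : p ∈ orb i) (τ : Equiv.Perm GolayPt) (hτ : τ ∈ grp (i + 1)) :
    idx ((evalW (W ++ tw i p) * τ) (dec (bpt i))) = app c p := by
  have h3 := ok3 i hi p hp
  have h1 : τ (dec (bpt i)) = dec (bpt i) := grp_succ_fix i hi τ hτ
  have hp24 : p < 24 := (ok1 i hi).2.2.2 p hp
  rw [Equiv.Perm.mul_apply, h1, evalW_append, Equiv.Perm.mul_apply, idx_evalW W hr.1,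
    idx_evalW _ (fun l hl => (h3.1 l hl).1), idx_dec_bpt i hi, h3.2, hr.2 p hp24]

end Cfsg.Agent.Helper29.M24
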