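import Mathlib
import Cfsg.Agent.Lib.Helper29.M24SearchC

set_option autoImplicit false
open Cfsg

namespace Cfsg.Agent.Helper29.M24

open Cfsg.Agent.Helper27 Cfsg.Agent.Helper29
open Cfsg.Agent.S0358 (idx)
open scoped Pointwise

/-! ### The packed search for the elements fixing each set of a list of masks -/

/-- level test: the image of the base point stays in the set `tm i` that contains it -/
def lvlMC (tm : ℕ → ℕ) (i c p : ℕ) : Bool := Nat.beq (bitF (tm i) (appF c p)) 1

/-- final test: each set of the list is mapped to itself -/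
def finMC (Ms : List ℕ) (c : ℕ) : Bool := Ms.all fun T => Nat.beq (imgP c T) T

theorem lvlMC_ok (Ms : List ℕ) (tm : ℕ → ℕ)
    (htm : ∀ i < 7, tm i ∈ Ms ∧ (tm i).testBit (bpt i) = true) :
    ∀ i < 7, ∀ (W : List ℕ) (c : ℕ), Repr c W → ∀ p ∈ orb i, ∀ τ ∈ grp (i + 1),
      FixesAll Ms (evalW (W ++ tw i p) * τ) → lvlMC tm i c p = true := by
  intro i hi W c hr p hp τ hτ hP
  have h1 := hP (tm i) (htm i hi).1
  have h2 : dec (bpt i) ∈ maskSet (tm i) := (mem_maskSet_idx _ _ (bpt_lt i hi)).2 (htm i hi).2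
  have h3 : (evalW (W ++ tw i p) * τ) (dec (bpt i)) ∈ maskSet (tm i) := by
    rw [← h1]
    exact Finset.smul_mem_smul_finset (a := evalW (W ++ tw i p) * τ) h2
  rw [mem_maskSet, idx_ext_eq i hi W c hr p hp τ hτ] at h3
  unfold lvlMC
  rw [bitF_eq, appF_eq, if_pos h3]
  rfl

theorem finMC_ok (Ms : List ℕ) (hlt : ∀ T ∈ Ms, T < 2 ^ 24) :
    ∀ (W : List ℕ) (c : ℕ), Repr c W → FixesAll Ms (evalW W) → finMC Ms c = true := by
  intro W c hr hP
  unfold finMC
  rw [List.all_eq_true]
  intro T hT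
  have h := hP T hT
  rw [maskSet_imgP c W hr.1 hr.2] at h
  rw [maskSet_inj (testBit_imgP_lt c W hr T) (hlt T hT) h]
  exact Nat.beq_refl _

theorem fixesAll_of_finMC (Ms : List ℕ) (W : List ℕ) (c : ℕ) (hr : Repr c W)
    (h : finMC Ms c = true) : FixesAll Ms (evalW W) := by
  intro T hT
  unfold finMC at h
  rw [List.all_eq_true] at h
  rw [maskSet_imgP c W hr.1 hr.2, Nat.eq_of_beq_eq_true (h T hT)]

/-- two words with the same packed action give the same permutation -/
theorem evalW_eq_of_repr (c : ℕ) (W W' : List ℕ) (h : Repr c W) (h' : Repr c W') :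
    evalW W = evalW W' := by
  apply Equiv.ext
  intro a
  apply M24.idx_injective
  rw [idx_evalW W h.1, idx_evalW W' h'.1, ← h.2 _ (M24.idx_lt a), ← h'.2 _ (M24.idx_lt a)]

end Cfsg.Agent.Helper29.M24
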