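import Mathlib
import Cfsg.Agent.Lib.Helper29.M24SearchM
import Cfsg.Agent.Lib.Helper19.PGroupBasic

set_option autoImplicit false
open Cfsg

namespace Cfsg.Agent.Helper29.FusCert

open Cfsg.Agent.Helper27 Cfsg.Agent.Helper29 Cfsg.Agent.Helper29.M24
open Cfsg.Agent.S0358 (idx)

/-! ### Certificates for the absence of proper nontrivial fusion-closed subgroups -/

/-- no proper nontrivial subgroup of `Q` is closed under fusion in `Gp` -/
def CoreA (Gp Q : Subgroup (Equiv.Perm GolayPt)) : Prop :=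
  ∀ T : Subgroup (Equiv.Perm GolayPt), T ≤ Q → T ≠ ⊥ →
    (∀ t ∈ T, ∀ k ∈ Gp, k * t * k⁻¹ ∈ Q → k * t * k⁻¹ ∈ T) → Q ≤ T

/-- `Q` is self-normalizing in `Gp` -/
def CoreN (Gp Q : Subgroup (Equiv.Perm GolayPt)) : Prop :=
  ∀ n ∈ Gp, (∀ x ∈ Q, n * x * n⁻¹ ∈ Q) → n ∈ Q

/-- the data describing the subgroup `Q` of `Gp` by tests on packed actions and a list -/
structure Ctx (Gp Q : Subgroup (Equiv.Perm GolayPt)) (gtest qtest : ℕ → Bool)
    (QL : List (List ℕ × ℕ)) : Prop where
  hG : ∀ (W : List ℕ) (c : ℕ), Repr c W → gtest c = true → evalW W ∈ Gp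
  hQ : ∀ (W : List ℕ) (c : ℕ), Repr c W → qtest c = true → evalW W ∈ Q
  hQL : ∀ g ∈ Q, ∃ q ∈ QL, Repr q.2 q.1 ∧ g = evalW q.1
  hQG : Q ≤ Gp
  hpow : ∀ g ∈ Q, g ^ 8 = 1

/-- equality of the actions of two packed permutations -/
def eqC (c d : ℕ) : Bool := (List.range 24).all fun x => Nat.beq (appF c x) (appF d x)

theorem eqC_of_evalW_eq (c d : ℕ) (W V : List ℕ) (hc : Repr c W) (hd : Repr d V)
    (e : evalW W = evalW V) : eqC c d = true := by
  unfold eqC
  rw [List.all_eq_true]
  intro x hx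
  rw [List.mem_range] at hx
  rw [appF_eq, appF_eq, hc.2 x hx, hd.2 x hx]
  have h1 := idx_evalW W hc.1 (dec x)
  have h2 := idx_evalW V hd.1 (dec x)
  have hx' : idx (dec x) = x := idx_dec ⟨x, hx⟩
  rw [hx'] at h1 h2
  rw [← h1, ← h2, e]
  exact Nat.beq_refl _

/-- the steps of a certificate: conjugate a known element by a word, or multiply two known
elements -/
inductive Step
  | conj (i : ℕ) (W : List ℕ) (c : ℕ) (Wi : List ℕ) (ci : ℕ)
  | mul (i j : ℕ)

/-- the value of a step, if its tests succeed -/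
def stepVal (gtest qtest : ℕ → Bool) (z : List ℕ × ℕ) (kn : List (List ℕ × ℕ)) :
    Step → Option (List ℕ × ℕ)
  | .conj i W c Wi ci =>
      if (decide (Repr c W) && decide (Repr ci Wi) && Nat.beq (compF c ci) cId && gtest c &&
          qtest (compF c (compF (kn.getD i z).2 ci))) = true then
        some (W ++ ((kn.getD i z).1 ++ Wi), compF c (compF (kn.getD i z).2 ci))
      else none
  | .mul i j => some ((kn.getD i z).1 ++ (kn.getD j z).1, compF (kn.getD i z).2 (kn.getD j z).2)

theorem stepVal_conj (gtest qtest : ℕ → Bool) (z : List ℕ × ℕ) (kn : List (List ℕ × ℕ))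
    (i : ℕ) (W : List ℕ) (c : ℕ) (Wi : List ℕ) (ci : ℕ) :
    stepVal gtest qtest z kn (.conj i W c Wi ci) =
      if (decide (Repr c W) && decide (Repr ci Wi) && Nat.beq (compF c ci) cId && gtest c &&
          qtest (compF c (compF (kn.getD i z).2 ci))) = true then
        some (W ++ ((kn.getD i z).1 ++ Wi), compF c (compF (kn.getD i z).2 ci))
      else none := rfl

theorem stepVal_mul (gtest qtest : ℕ → Bool) (z : List ℕ × ℕ) (kn : List (List ℕ × ℕ))
    (i j : ℕ) :
    stepVal gtest qtest z kn (.mul i j) =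
      some ((kn.getD i z).1 ++ (kn.getD j z).1, compF (kn.getD i z).2 (kn.getD j z).2) := rfl

/-- run the steps, appending the values to the list of known elements -/
def runSteps (gtest qtest : ℕ → Bool) (z : List ℕ × ℕ) :
    List Step → List (List ℕ × ℕ) → Option (List (List ℕ × ℕ))
  | [], kn => some kn
  | s :: ss, kn =>
    match stepVal gtest qtest z kn s with
    | some v => runSteps gtest qtest z ss (kn ++ [v])
    | none => none

/-- all products, in order, of sublists of a list of elements -/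
def span : List (List ℕ × ℕ) → List (List ℕ × ℕ)
  | [] => [([], cId)]
  | g :: gs => span gs ++ (span gs).map fun q => (g.1 ++ q.1, compF g.2 q.2)

/-- the certificate check -/
def checkA (gtest qtest : ℕ → Bool) (QL : List (List ℕ × ℕ)) (z : List ℕ × ℕ)
    (ys : List (List ℕ × ℕ)) (steps : List Step) (gens : List ℕ) : Bool :=
  decide (Repr z.2 z.1) &&
  (ys.all fun y => decide (Repr y.2 y.1) && qtest y.2) &&
  (QL.all fun q => Nat.beq q.2 cId || Nat.beq q.2 z.2 ||
    ys.any fun y => !eqC (compF q.2 y.2) (compF y.2 q.2)) &&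
  match runSteps gtest qtest z steps [] with
  | none => false
  | some kn => QL.all fun q => (span (gens.map fun i => kn.getD i z)).any fun r => Nat.beq r.2 q.2

theorem getD_prop {α : Type*} (P : α → Prop) (L : List α) (d : α) (hd : P d)
    (hL : ∀ v ∈ L, P v) (i : ℕ) : P (L.getD i d) := by
  rw [List.getD_eq_getElem?_getD]
  cases h : L[i]? with
  | none => exact hd
  | some v => exact hL v (List.mem_of_getElem? h)

section

variable {Gp Q : Subgroup (Equiv.Perm GolayPt)} {gtest qtest : ℕ → Bool}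
  {QL : List (List ℕ × ℕ)}

theorem stepVal_ok (C : Ctx Gp Q gtest qtest QL) (T : Subgroup (Equiv.Perm GolayPt))
    (hcl : ∀ t ∈ T, ∀ k ∈ Gp, k * t * k⁻¹ ∈ Q → k * t * k⁻¹ ∈ T)
    (z : List ℕ × ℕ) (hz : Repr z.2 z.1 ∧ evalW z.1 ∈ T)
    (kn : List (List ℕ × ℕ)) (hkn : ∀ v ∈ kn, Repr v.2 v.1 ∧ evalW v.1 ∈ T)
    (s : Step) (v : List ℕ × ℕ) (hv : stepVal gtest qtest z kn s = some v) :
    Repr v.2 v.1 ∧ evalW v.1 ∈ T := by
  cases s with
  | conj i W c Wi ci =>
    rw [stepVal_conj] at hv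
    split_ifs at hv with h
    rw [Option.some.injEq] at hv
    subst hv
    simp only [Bool.and_eq_true, decide_eq_true_eq] at h
    obtain ⟨⟨⟨⟨hW, hWi⟩, hid⟩, hg⟩, hq⟩ := h
    have hx := getD_prop (fun v => Repr v.2 v.1 ∧ evalW v.1 ∈ T) kn z hz hkn i
    have hr : Repr (compF c (compF (kn.getD i z).2 ci)) (W ++ ((kn.getD i z).1 ++ Wi)) :=
      repr_compF c (compF (kn.getD i z).2 ci) W ((kn.getD i z).1 ++ Wi) hW
        (repr_compF (kn.getD i z).2 ci (kn.getD i z).1 Wi hx.1 hWi)
    dsimp only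
    refine ⟨hr, ?_⟩
    have hinv : evalW W * evalW Wi = 1 := by
      have h1 : Repr cId (W ++ Wi) := by
        rw [← Nat.eq_of_beq_eq_true hid]
        exact repr_compF c ci W Wi hW hWi
      have h2 := evalW_eq_of_repr cId (W ++ Wi) [] h1 repr_cId
      rw [evalW_append, evalW_nil] at h2
      exact h2
    have hWi' : evalW Wi = (evalW W)⁻¹ := (inv_eq_of_mul_eq_one_right hinv).symm
    have e : evalW (W ++ ((kn.getD i z).1 ++ Wi)) =
        evalW W * evalW (kn.getD i z).1 * (evalW W)⁻¹ := by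
      rw [evalW_append, evalW_append, hWi', mul_assoc]
    have hQm := C.hQ (W ++ ((kn.getD i z).1 ++ Wi)) (compF c (compF (kn.getD i z).2 ci)) hr hq
    rw [e] at hQm ⊢
    exact hcl _ hx.2 _ (C.hG W c hW hg) hQm
  | mul i j =>
    rw [stepVal_mul, Option.some.injEq] at hv
    subst hv
    have hx := getD_prop (fun v => Repr v.2 v.1 ∧ evalW v.1 ∈ T) kn z hz hkn i
    have hy := getD_prop (fun v => Repr v.2 v.1 ∧ evalW v.1 ∈ T) kn z hz hkn j
    have hr : Repr (compF (kn.getD i z).2 (kn.getD j z).2) ((kn.getD i z).1 ++ (kn.getD j z).1) :=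
      repr_compF (kn.getD i z).2 (kn.getD j z).2 (kn.getD i z).1 (kn.getD j z).1 hx.1 hy.1
    have hm : evalW ((kn.getD i z).1 ++ (kn.getD j z).1) ∈ T := by
      rw [evalW_append]
      exact T.mul_mem hx.2 hy.2
    dsimp only
    exact ⟨hr, hm⟩

theorem runSteps_ok (C : Ctx Gp Q gtest qtest QL) (T : Subgroup (Equiv.Perm GolayPt))
    (hcl : ∀ t ∈ T, ∀ k ∈ Gp, k * t * k⁻¹ ∈ Q → k * t * k⁻¹ ∈ T)
    (z : List ℕ × ℕ) (hz : Repr z.2 z.1 ∧ evalW z.1 ∈ T) :
    ∀ (steps : List Step) (kn : List (List ℕ × ℕ)),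
      (∀ v ∈ kn, Repr v.2 v.1 ∧ evalW v.1 ∈ T) →
      ∀ kn', runSteps gtest qtest z steps kn = some kn' →
        ∀ v ∈ kn', Repr v.2 v.1 ∧ evalW v.1 ∈ T := by
  intro steps
  induction steps with
  | nil =>
    intro kn hkn kn' h
    unfold runSteps at h
    rw [Option.some.injEq] at h
    subst h
    exact hkn
  | cons s ss ih =>
    intro kn hkn kn' h
    unfold runSteps at h
    cases hs : stepVal gtest qtest z kn s with
    | none => rw [hs] at h; exact absurd h (by simp)
    | some v =>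
      rw [hs] at h
      have hv := stepVal_ok C T hcl z hz kn hkn s v hs
      refine ih (kn ++ [v]) ?_ kn' h
      intro w hw
      rcases List.mem_append.1 hw with h1 | h1
      · exact hkn w h1
      · rw [List.mem_singleton] at h1
        subst h1
        exact hv

theorem span_ok (T : Subgroup (Equiv.Perm GolayPt)) :
    ∀ gs : List (List ℕ × ℕ), (∀ g ∈ gs, Repr g.2 g.1 ∧ evalW g.1 ∈ T) →
      ∀ r ∈ span gs, Repr r.2 r.1 ∧ evalW r.1 ∈ T := by
  intro gs
  induction gs with
  | nil =>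
    intro _ r hr
    unfold span at hr
    rw [List.mem_singleton] at hr
    subst hr
    have hm : evalW [] ∈ T := by rw [evalW_nil]; exact T.one_mem
    dsimp only
    exact ⟨repr_cId, hm⟩
  | cons g gs ih =>
    intro hgs r hr
    have hg := hgs g List.mem_cons_self
    have ih' := ih (fun g' hg' => hgs g' (List.mem_cons_of_mem _ hg'))
    unfold span at hr
    rcases List.mem_append.1 hr with h | h
    · exact ih' r h
    · obtain ⟨q, hq, rfl⟩ := List.mem_map.1 h
      have hq' := ih' q hq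
      have hr2 : Repr (compF g.2 q.2) (g.1 ++ q.1) := repr_compF g.2 q.2 g.1 q.1 hg.1 hq'.1
      have hm : evalW (g.1 ++ q.1) ∈ T := by
        rw [evalW_append]
        exact T.mul_mem hg.2 hq'.2
      dsimp only
      exact ⟨hr2, hm⟩

/-- a verified certificate gives the closure property -/
theorem coreA_of_check (C : Ctx Gp Q gtest qtest QL) (z : List ℕ × ℕ)
    (ys : List (List ℕ × ℕ)) (steps : List Step) (gens : List ℕ)
    (h : checkA gtest qtest QL z ys steps gens = true) : CoreA Gp Q := by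
  have : Fact (Nat.Prime 2) := ⟨by norm_num⟩
  unfold checkA at h
  rw [Bool.and_eq_true, Bool.and_eq_true, Bool.and_eq_true] at h
  obtain ⟨⟨⟨hz, hys⟩, hcen⟩, hrun⟩ := h
  rw [decide_eq_true_eq] at hz
  rw [List.all_eq_true] at hys hcen
  intro T hTQ hTne hcl
  -- the central involution lies in `T`
  have hzT : evalW z.1 ∈ T := by
    have hp : IsPGroup 2 ↥Q := by
      intro g
      refine ⟨3, ?_⟩
      apply Subtype.ext
      have := C.hpow g.1 g.2
      simpa using this
    have hN : (T.subgroupOf Q).Normal := by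
      constructor
      intro n hn g
      rw [Subgroup.mem_subgroupOf] at hn ⊢
      have h1 : (g : Equiv.Perm GolayPt) * (n : Equiv.Perm GolayPt) * (g : Equiv.Perm GolayPt)⁻¹ ∈ Q :=
        Q.mul_mem (Q.mul_mem g.2 n.2) (Q.inv_mem g.2)
      exact hcl _ hn _ (C.hQG g.2) h1
    have hne : T.subgroupOf Q ≠ ⊥ := by
      intro hb
      apply hTne
      rw [Subgroup.eq_bot_iff_forall]
      intro x hx
      have h1 : (⟨x, hTQ hx⟩ : ↥Q) ∈ T.subgroupOf Q := by
        rw [Subgroup.mem_subgroupOf]; exact hx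
      rw [hb, Subgroup.mem_bot] at h1
      exact congrArg Subtype.val h1
    have h2 := Cfsg.Agent.Helper19.normal_inf_center_ne_bot hp (T.subgroupOf Q) hne
    obtain ⟨x, hx1⟩ := (Subgroup.ne_bot_iff_exists_ne_one).1 h2
    obtain ⟨x, hxm⟩ := x
    rw [Subgroup.mem_inf, Subgroup.mem_subgroupOf, Subgroup.mem_center_iff] at hxm
    obtain ⟨hxT, hxc⟩ := hxm
    obtain ⟨g, hgQ⟩ := x
    have hg1 : g ≠ 1 := by
      intro h1
      apply hx1
      apply Subtype.ext
      apply Subtype.ext
      exact h1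
    have hgT : g ∈ T := hxT
    have hgc : ∀ y ∈ Q, y * g = g * y := by
      intro y hy
      have := hxc ⟨y, hy⟩
      exact congrArg Subtype.val this
    obtain ⟨q, hq, hr, e⟩ := C.hQL g hgQ
    have h3 := hcen q hq
    rw [Bool.or_eq_true, Bool.or_eq_true] at h3
    rcases h3 with (h3 | h3) | h3
    · exfalso
      apply hg1
      rw [e]
      have h4 : Repr cId q.1 := by rw [← Nat.eq_of_beq_eq_true h3]; exact hr
      have := evalW_eq_of_repr cId q.1 [] h4 repr_cId
      rw [this, evalW_nil]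
    · have h4 : Repr q.2 z.1 := by rw [Nat.eq_of_beq_eq_true h3]; exact hz
      have := evalW_eq_of_repr q.2 q.1 z.1 hr h4
      rw [← this, ← e]
      exact hgT
    · exfalso
      rw [List.any_eq_true] at h3
      obtain ⟨y, hy, hne⟩ := h3
      have hy' := hys y hy
      rw [Bool.and_eq_true, decide_eq_true_eq] at hy'
      have hyQ := C.hQ y.1 y.2 hy'.1 hy'.2
      have hcomm := hgc _ hyQ
      have h5 := eqC_of_evalW_eq (compF q.2 y.2) (compF y.2 q.2) (q.1 ++ y.1) (y.1 ++ q.1)
        (repr_compF q.2 y.2 q.1 y.1 hr hy'.1) (repr_compF y.2 q.2 y.1 q.1 hy'.1 hr)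
        (by rw [evalW_append, evalW_append, ← e]; exact hcomm.symm)
      rw [h5] at hne
      exact absurd hne (by decide)
  -- the steps
  cases hk : runSteps gtest qtest z steps [] with
  | none => rw [hk] at hrun; exact absurd hrun Bool.false_ne_true
  | some kn =>
    rw [hk] at hrun
    simp only at hrun
    rw [List.all_eq_true] at hrun
    have hkn := runSteps_ok C T hcl z ⟨hz, hzT⟩ steps [] (fun v hv => absurd hv List.not_mem_nil)
      kn hk
    have hgens : ∀ g ∈ gens.map (fun i => kn.getD i z), Repr g.2 g.1 ∧ evalW g.1 ∈ T := by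
      intro g hg
      obtain ⟨i, _, rfl⟩ := List.mem_map.1 hg
      exact getD_prop (fun v => Repr v.2 v.1 ∧ evalW v.1 ∈ T) kn z ⟨hz, hzT⟩ hkn i
    have hsp := span_ok T _ hgens
    intro g hg
    obtain ⟨q, hq, hr, e⟩ := C.hQL g hg
    have h6 := hrun q hq
    rw [List.any_eq_true] at h6
    obtain ⟨r, hr', hb⟩ := h6
    have h7 := hsp r hr'
    have h8 : Repr q.2 r.1 := by rw [← Nat.eq_of_beq_eq_true hb]; exact h7.1
    rw [e, evalW_eq_of_repr q.2 q.1 r.1 hr h8]
    exact h7.2

end

end Cfsg.Agent.Helper29.FusCert
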