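import Mathlib
import Cfsg.Agent.Lib.Helper29.FusCertA
import Cfsg.Agent.Lib.Helper29.M24Syl2

set_option autoImplicit false
open Cfsg

namespace Cfsg.Agent.Helper29.FusCert

open Cfsg.Agent.Helper27 Cfsg.Agent.Helper29 Cfsg.Agent.Helper29.M24
open Cfsg.Agent.Helper29.Syl2
open Cfsg.Agent.S0358 (idx)
open scoped Pointwise

/-! ### Search for the permutations preserving a list of families of sets -/

/-- all the families are preserved -/
def PG (LFs : List (List ℕ)) (g : Equiv.Perm GolayPt) : Prop := ∀ LF ∈ LFs, PresF LF g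

/-- the co-occurrence bits of a pair of points -/
def sigG (LFs : List (List ℕ)) (x y : ℕ) : List Bool := LFs.map fun LF => coB LF x y

theorem sigG_inv (LFs : List (List ℕ)) (g : Equiv.Perm GolayPt) (h : PG LFs g) (a b : GolayPt) :
    sigG LFs (idx (g a)) (idx (g b)) = sigG LFs (idx a) (idx b) := by
  unfold sigG
  apply List.map_congr_left
  intro LF hLF
  exact coB_inv LF g (h LF hLF) a b

/-- level test -/
def lvlG (LFs : List (List ℕ)) (i c p : ℕ) : Bool :=
  (sigG LFs (appF c p) (appF c p) == sigG LFs (bpt i) (bpt i)) &&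
    (List.range i).all fun j =>
      sigG LFs (appF c (bpt j)) (appF c p) == sigG LFs (bpt j) (bpt i)

/-- final test -/
def finG (LFs : List (List ℕ)) (c : ℕ) : Bool := LFs.all fun LF => famOKc LF c

theorem lvlG_ok (LFs : List (List ℕ)) : ∀ i < 7, ∀ (W : List ℕ) (c : ℕ), Repr c W →
    ∀ p ∈ orb i, ∀ τ ∈ grp (i + 1), PG LFs (evalW (W ++ tw i p) * τ) → lvlG LFs i c p = true := by
  intro i hi W c hr p hp τ hτ hP
  have hpi := idx_ext_eq i hi W c hr p hp τ hτ
  have key : ∀ j, j ≤ i → ∀ xj, idx ((evalW (W ++ tw i p) * τ) (dec (bpt j))) = xj →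
      sigG LFs xj (appF c p) = sigG LFs (bpt j) (bpt i) := by
    intro j hj xj hxj
    have hj7 : j < 7 := by omega
    have h1 := sigG_inv LFs _ hP (dec (bpt j)) (dec (bpt i))
    rw [hxj, hpi, idx_dec_bpt j hj7, idx_dec_bpt i hi] at h1
    rw [appF_eq]
    exact h1
  unfold lvlG
  rw [Bool.and_eq_true, List.all_eq_true]
  constructor
  · have e : sigG LFs (appF c p) (appF c p) = sigG LFs (bpt i) (bpt i) := key i le_rfl _ hpi
    rw [e]
    exact beq_self_eq_true _
  · intro j hj
    rw [List.mem_range] at hj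
    have e : sigG LFs (appF c (bpt j)) (appF c p) = sigG LFs (bpt j) (bpt i) :=
      key j (by omega) _ (idx_ext_lt i hi W c hr p hp τ hτ j hj)
    rw [e]
    exact beq_self_eq_true _

theorem finG_ok (LFs : List (List ℕ)) (hlt : ∀ LF ∈ LFs, ∀ A ∈ LF, A < 2 ^ 24) :
    ∀ (W : List ℕ) (c : ℕ), Repr c W → PG LFs (evalW W) → finG LFs c = true := by
  intro W c hr hP
  unfold finG
  rw [List.all_eq_true]
  intro LF hLF
  exact famOKc_ok LF (hlt LF hLF) W c hr (hP LF hLF)

theorem PG_of_finG (LFs : List (List ℕ)) (W : List ℕ) (c : ℕ) (hr : Repr c W)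
    (h : finG LFs c = true) : PG LFs (evalW W) := by
  unfold finG at h
  rw [List.all_eq_true] at h
  intro LF hLF
  exact presF_of_famOKc LF W c hr (h LF hLF)

/-- every permutation of the group of the code preserving the families is found -/
theorem searchG_complete (LFs : List (List ℕ)) (hlt : ∀ LF ∈ LFs, ∀ A ∈ LF, A < 2 ^ 24)
    (g : Equiv.Perm GolayPt) (hM : g ∈ Cfsg.M24) (hP : PG LFs g) :
    ∃ q ∈ searchCAll (lvlG LFs) (finG LFs), Repr q.2 q.1 ∧ g = evalW q.1 := by
  obtain ⟨q, hq, e⟩ := searchCAll_complete (lvlG LFs) (finG LFs) (PG LFs) (lvlG_ok LFs)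
    (finG_ok LFs hlt) g hM hP
  exact ⟨q, hq, (searchCAll_sound (lvlG LFs) (finG LFs) q hq).1, e⟩

/-! ### Canonical families: cycles of powers of the elements of order 8 -/

/-- `A` is a cycle of length `k` of the `e`-th power of an element of order 8 of `P` -/
def IsCycE (P : Subgroup (Equiv.Perm GolayPt)) (e k : ℕ) (A : Finset GolayPt) : Prop :=
  ∃ x ∈ P, x ^ 4 ≠ 1 ∧ ∃ a, A = cycS (x ^ e) a ∧ A.card = k

theorem isCycE_smul (P : Subgroup (Equiv.Perm GolayPt)) (n : Equiv.Perm GolayPt)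
    (hn : ∀ x ∈ P, n * x * n⁻¹ ∈ P) (e k : ℕ) (A : Finset GolayPt) (h : IsCycE P e k A) :
    IsCycE P e k (n • A) := by
  obtain ⟨x, hx, h4, a, rfl, hc⟩ := h
  refine ⟨n * x * n⁻¹, hn x hx, ?_, n a, ?_, ?_⟩
  · rw [conj_pow]
    intro h1
    exact h4 (conj_eq_one_iff.1 h1)
  · rw [conj_pow]
    exact smul_cycS n (x ^ e) a
  · rw [Finset.card_smul_finset]
    exact hc

/-- packed power -/
def powC (c : ℕ) : ℕ → ℕ
  | 0 => cId
  | e + 1 => compF c (powC c e)

/-- repeated word -/
def powW (W : List ℕ) : ℕ → List ℕ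
  | 0 => []
  | e + 1 => W ++ powW W e

theorem repr_powC (c : ℕ) (W : List ℕ) (hr : Repr c W) : ∀ e, Repr (powC c e) (powW W e)
  | 0 => repr_cId
  | e + 1 => repr_compF c (powC c e) W (powW W e) hr (repr_powC c W hr e)

theorem evalW_powW (W : List ℕ) : ∀ e, evalW (powW W e) = evalW W ^ e
  | 0 => by rw [pow_zero]; exact evalW_nil
  | e + 1 => by
    show evalW (W ++ powW W e) = _
    rw [evalW_append, evalW_powW W e, pow_succ']

/-- a canonical family: exponent, cycle length, list of masks -/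
abbrev CFam := ℕ × ℕ × List ℕ

/-- every cycle of the right length of a listed element of order 8 is in the family -/
def subCheck (QL : List (List ℕ × ℕ)) (fams : List CFam) : Bool :=
  QL.all fun q => !ord8 q.2 || fams.all fun f =>
    (fun pc => (List.range 24).all fun a =>
      (fun m => !Nat.beq (popF m) f.2.1 || f.2.2.contains m) (cycM pc a)) (powC q.2 f.1)

/-- every set of the family is a cycle of the right length of a witness of order 8 -/
def supCheck (qtest : ℕ → Bool) (wit : List (List ℕ × ℕ)) (fams : List CFam) : Bool :=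
  (wit.all fun q => decide (Repr q.2 q.1) && qtest q.2 && ord8 q.2) &&
  fams.all fun f => f.2.2.all fun m => Nat.beq (popF m) f.2.1 &&
    wit.any fun q => (fun pc => (List.range 24).any fun a => Nat.beq (cycM pc a) m) (powC q.2 f.1)

section

variable {Gp Q : Subgroup (Equiv.Perm GolayPt)} {gtest qtest : ℕ → Bool}
  {QL : List (List ℕ × ℕ)}

theorem isCycE_sub (C : Ctx Gp Q gtest qtest QL) (fams : List CFam)
    (h : subCheck QL fams = true) (f : CFam) (hf : f ∈ fams) (A : Finset GolayPt)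
    (hA : IsCycE Q f.1 f.2.1 A) : A ∈ famSet f.2.2 := by
  obtain ⟨x, hx, h4, a, rfl, hc⟩ := hA
  obtain ⟨q, hq, hr, rfl⟩ := C.hQL x hx
  have h8 : ord8 q.2 = true := (ord8_iff q.1 q.2 hr).2 h4
  unfold subCheck at h
  rw [List.all_eq_true] at h
  have h2 := h q hq
  rw [h8, Bool.not_true, Bool.false_or, List.all_eq_true] at h2
  have h3 := h2 f hf
  simp only [List.all_eq_true] at h3
  have h5 := h3 (idx a) (List.mem_range.2 (M24.idx_lt a))
  have hrp := repr_powC q.2 q.1 hr f.1
  have hm := maskSet_cycM (powW q.1 f.1) (powC q.2 f.1) hrp a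
  rw [evalW_powW] at hm
  rw [← hm] at hc ⊢
  rw [card_maskSet, ← popF_eq] at hc
  rw [hc, Nat.beq_refl, Bool.not_true, Bool.false_or] at h5
  rw [mem_famSet]
  exact ⟨_, by simpa using h5, rfl⟩

theorem isCycE_sup (C : Ctx Gp Q gtest qtest QL) (wit : List (List ℕ × ℕ)) (fams : List CFam)
    (h : supCheck qtest wit fams = true) (f : CFam) (hf : f ∈ fams) (A : Finset GolayPt)
    (hA : A ∈ famSet f.2.2) : IsCycE Q f.1 f.2.1 A := by
  obtain ⟨m, hm, rfl⟩ := (mem_famSet _ _).1 hA
  unfold supCheck at h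
  rw [Bool.and_eq_true, List.all_eq_true, List.all_eq_true] at h
  obtain ⟨hw, hfam⟩ := h
  have h2 := hfam f hf
  rw [List.all_eq_true] at h2
  have h3 := h2 m hm
  rw [Bool.and_eq_true, List.any_eq_true] at h3
  obtain ⟨hpop, q, hq, h4⟩ := h3
  simp only [List.any_eq_true] at h4
  obtain ⟨a, ha, e⟩ := h4
  rw [List.mem_range] at ha
  have hq' := hw q hq
  rw [Bool.and_eq_true, Bool.and_eq_true, decide_eq_true_eq] at hq'
  obtain ⟨⟨hr, hqt⟩, h8⟩ := hq'
  have hrp := repr_powC q.2 q.1 hr f.1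
  have hms := maskSet_cycM (powW q.1 f.1) (powC q.2 f.1) hrp (dec a)
  rw [evalW_powW, idx_dec ⟨a, ha⟩, Nat.eq_of_beq_eq_true e] at hms
  refine ⟨evalW q.1, C.hQ q.1 q.2 hr hqt, (ord8_iff q.1 q.2 hr).1 h8, dec a, hms, ?_⟩
  rw [card_maskSet, ← popF_eq]
  exact Nat.eq_of_beq_eq_true hpop

/-- an element normalizing `Q` preserves the canonical families -/
theorem presF_of_normalizes (C : Ctx Gp Q gtest qtest QL) (wit : List (List ℕ × ℕ))
    (fams : List CFam) (hsub : subCheck QL fams = true) (hsup : supCheck qtest wit fams = true)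
    (n : Equiv.Perm GolayPt) (hn : ∀ x ∈ Q, n * x * n⁻¹ ∈ Q) (f : CFam) (hf : f ∈ fams) :
    PresF f.2.2 n := by
  unfold PresF
  apply Finset.eq_of_subset_of_card_le
  · intro t ht
    obtain ⟨s, hs, rfl⟩ := Finset.mem_smul_finset.1 ht
    exact isCycE_sub C fams hsub f hf _
      (isCycE_smul Q n hn f.1 f.2.1 s (isCycE_sup C wit fams hsup f hf s hs))
  · rw [Finset.card_smul_finset]

/-- the self-normalizing property from the canonical families and a search -/
theorem coreN_of_check (C : Ctx Gp Q gtest qtest QL) (hM : Gp ≤ Cfsg.M24)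
    (wit : List (List ℕ × ℕ)) (fams : List CFam) (extra : List (List ℕ))
    (hextra : ∀ n ∈ Gp, ∀ LF ∈ extra, PresF LF n)
    (hsub : subCheck QL fams = true) (hsup : supCheck qtest wit fams = true)
    (hlt : ∀ LF ∈ fams.map (fun f => f.2.2) ++ extra, ∀ A ∈ LF, A < 2 ^ 24)
    (hsearch : ((searchCAll (lvlG (fams.map (fun f => f.2.2) ++ extra))
      (finG (fams.map (fun f => f.2.2) ++ extra))).all fun r => qtest r.2) = true) :
    CoreN Gp Q := by
  intro n hnG hn
  have hP : PG (fams.map (fun f => f.2.2) ++ extra) n := by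
    intro LF hLF
    rcases List.mem_append.1 hLF with h | h
    · obtain ⟨f, hf, rfl⟩ := List.mem_map.1 h
      exact presF_of_normalizes C wit fams hsub hsup n hn f hf
    · exact hextra n hnG LF h
  obtain ⟨q, hq, hr, e⟩ := searchG_complete _ hlt n (hM hnG) hP
  rw [List.all_eq_true] at hsearch
  rw [e]
  exact C.hQ q.1 q.2 hr (hsearch q hq)

end

end Cfsg.Agent.Helper29.FusCert
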