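import Mathlib
import Cfsg.Agent.Lib.Helper25.FusionSimpCrit
import Cfsg.Agent.Lib.Helper25.FusionSylow3
import Cfsg.Agent.Lib.Helper25.FusionAut

set_option autoImplicit false

namespace Cfsg.Agent.Helper29.FusSimple

open Cfsg Cfsg.FusionSystem Cfsg.Agent.Helper25

variable {G : Type*} [Group G]

/-- Membership in a conjugate Sylow subgroup. -/
theorem mem_smul_sylow {p : ℕ} (S0 : Sylow p G) (g x : G) :
    x ∈ ((g • S0 : Sylow p G) : Subgroup G) ↔ g⁻¹ * x * g ∈ (S0 : Subgroup G) := by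
  rw [Sylow.coe_subgroup_smul, Subgroup.mem_pointwise_smul_iff_inv_smul_mem]
  show (MulAut.conj g)⁻¹ • x ∈ (S0 : Subgroup G) ↔ _
  rw [MulAut.smul_def, MulAut.conj_inv_apply]

/-- The criterion for one Sylow subgroup: self-normalizing and no proper nontrivial
subgroup closed under fusion of elements. -/
theorem simple_of_hyps [Finite G] (S : Sylow 2 G)
    (h1 : (S : Subgroup G) ≠ ⊥)
    (hN : Subgroup.normalizer ((S : Subgroup G) : Set G) ≤ (S : Subgroup G))
    (ha : ∀ T : Subgroup G, T ≤ (S : Subgroup G) → T ≠ ⊥ →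
      (∀ t ∈ T, ∀ k : G, k * t * k⁻¹ ∈ (S : Subgroup G) → k * t * k⁻¹ ∈ T) →
      T = (S : Subgroup G)) :
    (groupFusionSystem (S : Subgroup G)).IsSimple 2 := by
  have : Fact (Nat.Prime 2) := ⟨by norm_num⟩
  have hF : (groupFusionSystem (S : Subgroup G)).IsSaturated 2 :=
    groupFusionSystem_isSaturated 2 S
  refine ⟨hF, h1, fun T E hE => ?_⟩
  obtain ⟨⟨hEsat, -, hinv⟩, -⟩ := hE
  have hsc := hinv.2.1
  by_cases hT : T = ⊥
  · exact Or.inl hT
  · right
    have hTS : T = (S : Subgroup G) := by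
      refine ha T hsc.1 hT (fun t ht k hk => ?_)
      have hR : Subgroup.zpowers t ≤ T := by
        rw [Subgroup.zpowers_le]; exact ht
      have hmem : conjHom (Subgroup.zpowers t) k ∈
          (groupFusionSystem (S : Subgroup G)).Hom (Subgroup.zpowers t) := by
        refine ⟨hR.trans hsc.1, fun x => ?_, k, fun x => rfl⟩
        obtain ⟨n, hn⟩ := Subgroup.mem_zpowers_iff.mp x.2
        show k * (x : G) * k⁻¹ ∈ (S : Subgroup G)
        rw [← hn]
        have e : k * t ^ n * k⁻¹ = (k * t * k⁻¹) ^ n := by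
          rw [conj_zpow]
        rw [e]
        exact Subgroup.zpow_mem _ hk n
      exact hsc.2 _ hR _ hmem ⟨t, Subgroup.mem_zpowers t⟩
    subst hTS
    refine ⟨rfl, fun P => ?_⟩
    apply SimpCrit.hom_eq_of_autGroup_le hinv
    rw [groupFusionSystem_autGroup le_rfl]
    intro β hβ
    obtain ⟨g, -, hgβ⟩ := (mem_autInducedBy_iff β).mp hβ
    have hgN : g ∈ Subgroup.normalizer ((S : Subgroup G) : Set G) := by
      rw [Subgroup.mem_normalizer_iff]
      intro y
      constructor
      · intro hy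
        have := hgβ ⟨y, hy⟩
        rw [← this]
        exact (β ⟨y, hy⟩).2
      · intro hy
        have h2 := hgβ (β⁻¹ ⟨g * y * g⁻¹, hy⟩)
        rw [MulAut.apply_inv_self] at h2
        have h3 : y = ((β⁻¹ ⟨g * y * g⁻¹, hy⟩ : (S : Subgroup G)) : G) := by
          have h4 : g * y * g⁻¹ = g * ((β⁻¹ ⟨g * y * g⁻¹, hy⟩ : (S : Subgroup G)) : G) * g⁻¹ := h2
          exact mul_left_cancel (mul_right_cancel h4)
        rw [h3]
        exact (β⁻¹ ⟨g * y * g⁻¹, hy⟩).2
    apply autInducedBy_le_autGroup E le_rfl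
    exact (mem_autInducedBy_iff β).mpr ⟨g, hN hgN, hgβ⟩

/-- The criterion checked on one Sylow subgroup gives simplicity of the fusion system on all. -/
theorem simple_of_base [Finite G] (S0 : Sylow 2 G)
    (h1 : (S0 : Subgroup G) ≠ ⊥)
    (hN : Subgroup.normalizer ((S0 : Subgroup G) : Set G) ≤ (S0 : Subgroup G))
    (ha : ∀ T : Subgroup G, T ≤ (S0 : Subgroup G) → T ≠ ⊥ →
      (∀ t ∈ T, ∀ k : G, k * t * k⁻¹ ∈ (S0 : Subgroup G) → k * t * k⁻¹ ∈ T) →
      T = (S0 : Subgroup G))
    (S : Sylow 2 G) :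
    (groupFusionSystem (S : Subgroup G)).IsSimple 2 := by
  have : Fact (Nat.Prime 2) := ⟨by norm_num⟩
  obtain ⟨g, rfl⟩ := MulAction.exists_smul_eq G S0 S
  apply simple_of_hyps
  · intro hbot
    apply h1
    rw [Subgroup.eq_bot_iff_forall]
    intro x hx
    have h2 : g * x * g⁻¹ ∈ ((g • S0 : Sylow 2 G) : Subgroup G) := by
      rw [mem_smul_sylow]
      have : g⁻¹ * (g * x * g⁻¹) * g = x := by group
      rw [this]; exact hx
    rw [hbot, Subgroup.mem_bot] at h2
    have : g * x * g⁻¹ = g * 1 * g⁻¹ := by rw [h2]; group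
    exact mul_left_cancel (mul_right_cancel this)
  · intro n hn
    rw [Subgroup.mem_normalizer_iff] at hn
    rw [mem_smul_sylow]
    apply hN
    rw [Subgroup.mem_normalizer_iff]
    have key : ∀ y, y ∈ (S0 : Subgroup G) → g⁻¹ * n * g * y * (g⁻¹ * n * g)⁻¹ ∈ (S0 : Subgroup G) := by
      intro y hy
      have h1 : g * y * g⁻¹ ∈ ((g • S0 : Sylow 2 G) : Subgroup G) := by
        rw [mem_smul_sylow]
        have : g⁻¹ * (g * y * g⁻¹) * g = y := by group
        rw [this]
        exact hy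
      have h2 := (hn (g * y * g⁻¹)).1 h1
      have h3 := (mem_smul_sylow S0 g _).1 h2
      have e : g⁻¹ * (n * (g * y * g⁻¹) * n⁻¹) * g = g⁻¹ * n * g * y * (g⁻¹ * n * g)⁻¹ := by group
      rw [e] at h3
      exact h3
    have key' : ∀ y, g⁻¹ * n * g * y * (g⁻¹ * n * g)⁻¹ ∈ (S0 : Subgroup G) → y ∈ (S0 : Subgroup G) := by
      intro y hy
      have h1 : g * (g⁻¹ * n * g * y * (g⁻¹ * n * g)⁻¹) * g⁻¹ ∈ ((g • S0 : Sylow 2 G) : Subgroup G) := by
        rw [mem_smul_sylow]
        have : g⁻¹ * (g * (g⁻¹ * n * g * y * (g⁻¹ * n * g)⁻¹) * g⁻¹) * g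
            = g⁻¹ * n * g * y * (g⁻¹ * n * g)⁻¹ := by group
        rw [this]
        exact hy
      have e : g * (g⁻¹ * n * g * y * (g⁻¹ * n * g)⁻¹) * g⁻¹ = n * (g * y * g⁻¹) * n⁻¹ := by group
      rw [e] at h1
      have h2 := (hn (g * y * g⁻¹)).2 h1
      have h3 := (mem_smul_sylow S0 g _).1 h2
      have e2 : g⁻¹ * (g * y * g⁻¹) * g = y := by group
      rw [e2] at h3
      exact h3
    exact fun y => ⟨key y, key' y⟩
  · intro T hT hTne hcl
    -- T0 = g⁻¹ T g
    let T0 : Subgroup G := T.comap (MulAut.conj g).toMonoidHom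
    have hmemT0 : ∀ x, x ∈ T0 ↔ g * x * g⁻¹ ∈ T := fun x => Iff.rfl
    have hT0 : T0 = (S0 : Subgroup G) := by
      apply ha
      · intro x hx
        have := hT ((hmemT0 x).1 hx)
        rw [mem_smul_sylow] at this
        have e : g⁻¹ * (g * x * g⁻¹) * g = x := by group
        rw [e] at this
        exact this
      · intro hb
        apply hTne
        rw [Subgroup.eq_bot_iff_forall]
        intro x hx
        have h2 : g⁻¹ * x * g ∈ T0 := by
          rw [hmemT0]
          have e : g * (g⁻¹ * x * g) * g⁻¹ = x := by group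
          rw [e]; exact hx
        rw [hb, Subgroup.mem_bot] at h2
        have : g⁻¹ * x * g = g⁻¹ * 1 * g := by rw [h2]; group
        exact mul_left_cancel (mul_right_cancel this)
      · intro t ht k hk
        rw [hmemT0] at ht ⊢
        have h3 := hcl _ ht (g * k * g⁻¹) (by
          rw [mem_smul_sylow]
          have e : g⁻¹ * (g * k * g⁻¹ * (g * t * g⁻¹) * (g * k * g⁻¹)⁻¹) * g = k * t * k⁻¹ := by group
          rw [e]; exact hk)
        have e : g * k * g⁻¹ * (g * t * g⁻¹) * (g * k * g⁻¹)⁻¹ = g * (k * t * k⁻¹) * g⁻¹ := by group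
        rw [e] at h3
        exact h3
    apply le_antisymm hT
    intro x hx
    rw [mem_smul_sylow, ← hT0, hmemT0] at hx
    have e : g * (g⁻¹ * x * g) * g⁻¹ = x := by group
    rw [e] at hx
    exact hx

end Cfsg.Agent.Helper29.FusSimple
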