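import Mathlib
import Cfsg.Agent.Lib.Helper29.FusCertA
import Cfsg.Agent.Lib.Helper29.FusSimple

set_option autoImplicit false
open Cfsg

namespace Cfsg.Agent.Helper29.FusCert

open Cfsg.Agent.Helper29.FusSimple

/-- a self-normalizing 2-subgroup without proper nontrivial fusion-closed subgroups gives a
simple fusion system on every Sylow 2-subgroup -/
theorem simple_of_core (Gp Q : Subgroup (Equiv.Perm GolayPt)) (hQG : Q ≤ Gp)
    (hpow : ∀ g ∈ Q, g ^ 8 = 1) (hne : Q ≠ ⊥) (hA : CoreA Gp Q) (hN : CoreN Gp Q)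
    (S : Sylow 2 ↥Gp) :
    (Cfsg.groupFusionSystem (S : Subgroup ↥Gp)).IsSimple 2 := by
  have : Fact (Nat.Prime 2) := ⟨by norm_num⟩
  have hmemQ' : ∀ x : ↥Gp, x ∈ Q.subgroupOf Gp ↔ (x : Equiv.Perm GolayPt) ∈ Q :=
    fun x => Subgroup.mem_subgroupOf
  have hpQ' : IsPGroup 2 ↥(Q.subgroupOf Gp) := by
    intro g
    refine ⟨3, ?_⟩
    apply Subtype.ext
    apply Subtype.ext
    have := hpow g.1.1 ((hmemQ' g.1).1 g.2)
    simpa using this
  -- one-sided normalization suffices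
  have hNQ' : ∀ n : ↥Gp, (∀ x ∈ Q.subgroupOf Gp, n * x * n⁻¹ ∈ Q.subgroupOf Gp) →
      n ∈ Q.subgroupOf Gp := by
    intro n hn
    rw [hmemQ']
    apply hN _ n.2
    intro x hx
    have := hn ⟨x, hQG hx⟩ ((hmemQ' _).2 hx)
    rw [hmemQ'] at this
    exact this
  obtain ⟨S1, hS1⟩ := hpQ'.exists_le_sylow
  have hS1eq : (S1 : Subgroup ↥Gp) = Q.subgroupOf Gp := by
    apply le_antisymm _ hS1
    by_contra hcon
    -- work inside the finite 2-group `S1`
    have hnil : Group.IsNilpotent ↥(S1 : Subgroup ↥Gp) := S1.isPGroup'.isNilpotent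
    have hnc := @Group.normalizerCondition_of_isNilpotent ↥(S1 : Subgroup ↥Gp) _ hnil
    have hlt : (Q.subgroupOf Gp).subgroupOf (S1 : Subgroup ↥Gp) < ⊤ := by
      rw [lt_top_iff_ne_top]
      intro htop
      apply hcon
      intro x hx
      have : (⟨x, hx⟩ : ↥(S1 : Subgroup ↥Gp)) ∈ (Q.subgroupOf Gp).subgroupOf (S1 : Subgroup ↥Gp) := by
        rw [htop]; exact Subgroup.mem_top _
      exact Subgroup.mem_subgroupOf.1 this
    have h2 := hnc _ hlt
    obtain ⟨r, hrN, hrH⟩ := SetLike.exists_of_lt h2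
    apply hrH
    rw [Subgroup.mem_subgroupOf]
    apply hNQ'
    intro x hx
    rw [Subgroup.mem_normalizer_iff] at hrN
    have h3 := (hrN ⟨x, hS1 hx⟩).1 (Subgroup.mem_subgroupOf.2 hx)
    exact Subgroup.mem_subgroupOf.1 h3
  apply simple_of_base S1
  · rw [hS1eq]
    intro hb
    apply hne
    rw [Subgroup.eq_bot_iff_forall]
    intro x hx
    have h1 : (⟨x, hQG hx⟩ : ↥Gp) ∈ Q.subgroupOf Gp := (hmemQ' _).2 hx
    rw [hb, Subgroup.mem_bot] at h1
    exact congrArg Subtype.val h1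
  · rw [hS1eq]
    intro n hn
    apply hNQ'
    intro x hx
    rw [Subgroup.mem_normalizer_iff] at hn
    exact (hn x).1 hx
  · rw [hS1eq]
    intro T hT hTne hcl
    apply le_antisymm hT
    have hQT : Q ≤ T.map Gp.subtype := by
      apply hA
      · rintro _ ⟨x, hx, rfl⟩
        exact (hmemQ' x).1 (hT hx)
      · intro hb
        apply hTne
        rw [Subgroup.eq_bot_iff_forall]
        intro x hx
        have h1 : (x : Equiv.Perm GolayPt) ∈ T.map Gp.subtype := ⟨x, hx, rfl⟩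
        rw [hb, Subgroup.mem_bot] at h1
        exact Subtype.ext h1
      · rintro _ ⟨t, ht, rfl⟩ k hk hkq
        have h1 := hcl t ht ⟨k, hk⟩ ((hmemQ' _).2 hkq)
        exact ⟨_, h1, rfl⟩
    intro x hx
    obtain ⟨y, hy, e⟩ := hQT ((hmemQ' x).1 hx)
    have : y = x := Subtype.ext e
    rw [← this]
    exact hy

end Cfsg.Agent.Helper29.FusCert
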