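import Mathlib
import Cfsg.Agent.Lib.Helper29.FusMain
import Cfsg.Agent.Lib.Helper29.FusCertN
import Cfsg.Prelude.Def_Spor_Mathieu

set_option autoImplicit false
open Cfsg

namespace Cfsg.Agent.Helper29.FusPt

open Cfsg.Agent.Helper27 Cfsg.Agent.Helper29 Cfsg.Agent.Helper29.M24
open Cfsg.Agent.Helper29.FusCert Cfsg.Agent.Helper29.Syl2
open Cfsg.Agent.S0358 (idx)
open scoped Pointwise

/-! ### Fixed points and packed actions -/

theorem fix_of_appF (W : List ℕ) (c : ℕ) (hr : Repr c W) (x : ℕ) (hx : x < 24)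
    (h : appF c x = x) : evalW W (dec x) = dec x := by
  apply M24.idx_injective
  rw [idx_evalW W hr.1, idx_dec ⟨x, hx⟩, ← hr.2 x hx, ← appF_eq]
  exact h

theorem appF_of_fix (W : List ℕ) (c : ℕ) (hr : Repr c W) (x : ℕ) (hx : x < 24)
    (h : evalW W (dec x) = dec x) : appF c x = x := by
  have h2 := idx_evalW W hr.1 (dec x)
  rw [h, idx_dec ⟨x, hx⟩] at h2
  rw [appF_eq, hr.2 x hx]
  exact h2.symm

theorem evalW_ne_one (W : List ℕ) (c : ℕ) (hr : Repr c W) (x : ℕ) (hx : x < 24)
    (h : appF c x ≠ x) : evalW W ≠ 1 := by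
  intro h1
  apply h
  apply appF_of_fix W c hr x hx
  rw [h1, Equiv.Perm.one_apply]

theorem presF_single (m : ℕ) (n : Equiv.Perm GolayPt) (h : n • maskSet m = maskSet m) :
    PresF [m] n := by
  unfold PresF
  have e : famSet [m] = {maskSet m} := by
    ext s
    rw [mem_famSet, Finset.mem_singleton]
    constructor
    · rintro ⟨m', hm', rfl⟩
      rw [List.mem_singleton] at hm'
      rw [hm']
    · rintro rfl
      exact ⟨m, List.mem_singleton_self m, rfl⟩
  rw [e, Finset.smul_finset_singleton, h]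

theorem presF_point (x : ℕ) (hx : x < 24) (n : Equiv.Perm GolayPt)
    (h : n (dec x) = dec x) (m : ℕ) (hm : maskSet m = {dec x}) : PresF [m] n := by
  apply presF_single
  rw [hm, Finset.smul_finset_singleton]
  show ({n (dec x)} : Finset GolayPt) = _
  rw [h]

theorem dec23 : dec 23 = (none : GolayPt) := by decide

theorem dec0 : dec 0 = (some 0 : GolayPt) := by decide

theorem mask23 : maskSet 8388608 = {dec 23} := by decide

theorem mask0 : maskSet 1 = {dec 0} := by decide

end Cfsg.Agent.Helper29.FusPt
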