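import Mathlib
import Cfsg.Agent.Lib.Helper29.FusPt

set_option autoImplicit false
open Cfsg

namespace Cfsg.Agent.Helper29.FusM23

open Cfsg.Agent.Helper27 Cfsg.Agent.Helper29 Cfsg.Agent.Helper29.M24
open Cfsg.Agent.Helper29.FusCert Cfsg.Agent.Helper29.Syl2 Cfsg.Agent.Helper29.FusPt
open Cfsg.Agent.S0358 (idx)
open scoped Pointwise

/-- the elements of the Sylow 2-subgroup of the large group fixing the extra point -/
def Q23 : Subgroup (Equiv.Perm GolayPt) :=
  P0 ⊓ MulAction.stabilizer (Equiv.Perm GolayPt) (none : GolayPt)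

def gt (c : ℕ) : Bool := Nat.beq (appF c 23) 23

def qt (c : ℕ) : Bool := finC c && Nat.beq (appF c 23) 23

def QL : List (List ℕ × ℕ) := PC.filter fun q => Nat.beq (appF q.2 23) 23

theorem mem_stab_none (g : Equiv.Perm GolayPt) :
    g ∈ MulAction.stabilizer (Equiv.Perm GolayPt) (none : GolayPt) ↔ g (dec 23) = dec 23 := by
  rw [dec23]
  exact MulAction.mem_stabilizer_iff

theorem ctx : Ctx Cfsg.Spor.M23 Q23 gt qt QL where
  hG := by
    intro W c hr h
    refine Subgroup.mem_inf.2 ⟨evalW_mem_M24 W hr.1, (mem_stab_none _).2 ?_⟩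
    exact fix_of_appF W c hr 23 (by norm_num) (Nat.eq_of_beq_eq_true h)
  hQ := by
    intro W c hr h
    unfold qt at h
    rw [Bool.and_eq_true] at h
    refine Subgroup.mem_inf.2 ⟨mem_P0_of_fin W c hr h.1, (mem_stab_none _).2 ?_⟩
    exact fix_of_appF W c hr 23 (by norm_num) (Nat.eq_of_beq_eq_true h.2)
  hQL := by
    intro g hg
    obtain ⟨hP, hs⟩ := Subgroup.mem_inf.1 hg
    obtain ⟨q, hq, hr, rfl⟩ := P0_sub g hP
    refine ⟨q, ?_, hr, rfl⟩
    unfold QL
    rw [List.mem_filter]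
    refine ⟨hq, ?_⟩
    rw [appF_of_fix q.1 q.2 hr 23 (by norm_num) ((mem_stab_none _).1 hs)]
    rfl
  hQG := by
    intro g hg
    obtain ⟨hP, hs⟩ := Subgroup.mem_inf.1 hg
    exact Subgroup.mem_inf.2 ⟨((mem_P0 g).1 hP).1, hs⟩
  hpow := fun g hg => P0_pow8 g (Subgroup.mem_inf.1 hg).1

def zz : List ℕ × ℕ := ([11, 9], 968708902336673183175954409307867168)

def ys : List (List ℕ × ℕ) := [([12, 10], 983548720921252936276249910206105632), ([5, 5, 4, 7, 6, 8, 8, 10], 984600170262332565272975762020961312), ([12, 10, 9], 979121071158219704299181131031480352), ([2, 2, 2, 3, 4, 5, 4, 6, 6, 7, 6, 12, 11, 10], 979620524885551344968935166850468384), ([3, 2, 5, 6, 6, 7, 6, 7], 984447605950483845026378443585012832)]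

def steps : List Step := [
  .conj 9999 [0, 0, 0, 3, 3, 2, 5, 4, 4, 5, 4, 7, 6, 6, 6, 7, 6, 8, 12, 9] 980681503835678863430025048855364643 [2, 2, 2, 0, 2, 0, 2, 2, 2, 4, 5, 4, 4, 5, 4, 7, 6, 7, 8, 8, 12] 976977943831889064534130201580288049,
  .conj 0 [2, 0, 0, 2, 0, 2, 2, 4, 5, 7, 6, 7, 10, 9] 961081286100968851119607466075827210 [0, 3, 3, 2, 2, 5, 5, 4, 6, 6, 7, 6, 7, 8, 12, 10] 959657546054677994677687338968233409,
  .conj 9999 [0, 2, 2, 0, 2, 3, 4, 4, 5, 7, 6, 6, 8, 8, 12, 11, 10, 9] 975720280853973247675492175083768869 [2, 2, 2, 0, 2, 0, 2, 2, 2, 4, 5, 5, 4, 7, 8, 8, 12] 979616559822060482484879992957244465,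
  .conj 9999 [0, 0, 2, 0, 0, 3, 2, 2, 3, 5, 4, 4, 5, 4, 8, 8, 12, 10, 9] 963844483247056575402386954803810600 [2, 2, 0, 2, 0, 3, 2, 2, 3, 4, 5, 7, 7, 6, 7, 6, 8, 11, 10] 964682912930316488272298400455101838,
  .conj 9999 [0, 2, 2, 0, 3, 2, 2, 5, 4, 5, 4, 6] 966458811939776211769010992111400389 [2, 2, 2, 0, 2, 0, 4, 5, 4, 5, 4, 6, 6, 7, 6, 7, 8, 9] 973847839172432141643611498081690257,
  .mul 2 4,
  .mul 5 2,
  .mul 6 4,
  .mul 9999 4,
  .mul 8 2,
  .mul 9 4,
  .mul 8 0,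
  .mul 11 4,
  .mul 3 4,
  .mul 13 3,
  .mul 14 4,
  .mul 4 3,
  .mul 16 4,
  .mul 9999 3,
  .mul 18 4,
  .mul 19 3]

def gens : List ℕ := [20, 17, 15, 12, 10, 7, 9999]

def fams : List CFam := [(1, 2, [16416]), (2, 2, [12, 131074])]

def extra : List (List ℕ) := [[8388608]]

def wit : List (List ℕ × ℕ) := [([2, 2, 2, 4, 5, 7, 6, 6, 12, 11], 961491682891104798281857303806264384)]

set_option maxRecDepth 100000 in
theorem check : checkA gt qt QL zz ys steps gens = true := by decide +kernel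

theorem coreA : CoreA Cfsg.Spor.M23 Q23 := coreA_of_check ctx zz ys steps gens check

set_option maxRecDepth 100000 in
theorem hsub : subCheck QL fams = true := by decide +kernel

set_option maxRecDepth 100000 in
theorem hsup : supCheck qt wit fams = true := by decide +kernel

set_option maxRecDepth 100000 in
theorem hsearch : ((searchCAll (lvlG (fams.map (fun f => f.2.2) ++ extra))
    (finG (fams.map (fun f => f.2.2) ++ extra))).all fun r => qt r.2) = true := by
  decide +kernel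

theorem coreN : CoreN Cfsg.Spor.M23 Q23 := by
  refine coreN_of_check ctx (fun g hg => (Subgroup.mem_inf.1 hg).1) wit fams extra ?_ hsub hsup
    (by decide) hsearch
  intro n hn LF hLF
  have hLF' : LF = [8388608] := by simpa [extra] using hLF
  subst hLF'
  exact presF_point 23 (by norm_num) n ((mem_stab_none n).1 (Subgroup.mem_inf.1 hn).2) _ mask23

theorem zz_ok : Repr zz.2 zz.1 ∧ qt zz.2 = true ∧ appF zz.2 4 ≠ 4 := by decide +kernel

theorem Q23_ne_bot : Q23 ≠ ⊥ := by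
  intro hb
  have h1 : evalW zz.1 ∈ Q23 := ctx.hQ zz.1 zz.2 zz_ok.1 zz_ok.2.1
  rw [hb, Subgroup.mem_bot] at h1
  exact evalW_ne_one zz.1 zz.2 zz_ok.1 4 (by norm_num) zz_ok.2.2 h1

end Cfsg.Agent.Helper29.FusM23
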