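import Mathlib
import Cfsg.Agent.Lib.Helper29.FusPt

set_option autoImplicit false
open Cfsg

namespace Cfsg.Agent.Helper29.FusM12

open Cfsg.Agent.Helper27 Cfsg.Agent.Helper29 Cfsg.Agent.Helper29.M24
open Cfsg.Agent.Helper29.FusCert Cfsg.Agent.Helper29.Syl2 Cfsg.Agent.Helper29.FusPt
open Cfsg.Agent.S0358 (idx)
open scoped Pointwise

/-- the dodecad of squares as a mask -/
def Dsq : ℕ := 340831

theorem sqD : Cfsg.Spor.squareDodecad = maskSet Dsq := by decide +kernel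

theorem smul_of_imgP (W : List ℕ) (c : ℕ) (hr : Repr c W) (m : ℕ) (h : imgP c m = m) :
    evalW W • maskSet m = maskSet m := by
  rw [maskSet_imgP c W hr.1 hr.2, h]

theorem imgP_of_smul (W : List ℕ) (c : ℕ) (hr : Repr c W) (m : ℕ) (hm : m < 2 ^ 24)
    (h : evalW W • maskSet m = maskSet m) : imgP c m = m := by
  rw [maskSet_imgP c W hr.1 hr.2] at h
  exact maskSet_inj (testBit_imgP_lt c W hr m) hm h

theorem mem_stab_D (g : Equiv.Perm GolayPt) :
    g ∈ MulAction.stabilizer (Equiv.Perm GolayPt) Cfsg.Spor.squareDodecad ↔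
      g • maskSet Dsq = maskSet Dsq := by
  rw [sqD]
  exact MulAction.mem_stabilizer_iff

/-! ### The conjugating element -/

def Wy : List ℕ := [0, 2, 2, 0, 2, 0, 3, 4, 4, 4, 5, 4, 6, 6, 6, 11, 10]

def cy : ℕ := 980623276430013226653021283577562127

def Wyi : List ℕ := [0, 7, 6, 8, 11]

def cyi : ℕ := 979079702869731272563788390409276481

theorem y_ok : Repr cy Wy ∧ Repr cyi Wyi ∧ compF cy cyi = cId ∧ compF cyi cy = cId := by
  decide +kernel

theorem y_mul : evalW Wy * evalW Wyi = 1 := by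
  have h1 : Repr cId (Wy ++ Wyi) := by
    rw [← y_ok.2.2.1]
    exact repr_compF cy cyi Wy Wyi y_ok.1 y_ok.2.1
  have h2 := evalW_eq_of_repr cId (Wy ++ Wyi) [] h1 repr_cId
  rw [evalW_append, evalW_nil] at h2
  exact h2

theorem yi_eq : evalW Wyi = (evalW Wy)⁻¹ := (inv_eq_of_mul_eq_one_right y_mul).symm

/-- the conjugate of the Sylow 2-subgroup of the large group by `y` -/
def P0y : Subgroup (Equiv.Perm GolayPt) := P0.comap (MulAut.conj (evalW Wyi)).toMonoidHom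

theorem mem_P0y (g : Equiv.Perm GolayPt) : g ∈ P0y ↔ evalW Wyi * g * evalW Wy ∈ P0 := by
  unfold P0y
  rw [Subgroup.mem_comap]
  show evalW Wyi * g * (evalW Wyi)⁻¹ ∈ P0 ↔ _
  rw [yi_eq, inv_inv]

/-- conjugate a listed element by `y` -/
def conjq (q : List ℕ × ℕ) : List ℕ × ℕ := (Wy ++ (q.1 ++ Wyi), compF cy (compF q.2 cyi))

theorem repr_conjq (q : List ℕ × ℕ) (hr : Repr q.2 q.1) : Repr (conjq q).2 (conjq q).1 := by
  have h : Repr (compF cy (compF q.2 cyi)) (Wy ++ (q.1 ++ Wyi)) :=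
    repr_compF cy (compF q.2 cyi) Wy (q.1 ++ Wyi) y_ok.1 (repr_compF q.2 cyi q.1 Wyi hr y_ok.2.1)
  unfold conjq
  dsimp only
  exact h

theorem evalW_conjq (q : List ℕ × ℕ) :
    evalW (conjq q).1 = evalW Wy * evalW q.1 * evalW Wyi := by
  show evalW (Wy ++ (q.1 ++ Wyi)) = _
  rw [evalW_append, evalW_append, mul_assoc]

/-- the packed action conjugated back -/
def backC (c : ℕ) : ℕ := compF cyi (compF c cy)

theorem repr_backC (W : List ℕ) (c : ℕ) (hr : Repr c W) : Repr (backC c) (Wyi ++ (W ++ Wy)) :=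
  repr_compF cyi (compF c cy) Wyi (W ++ Wy) y_ok.2.1 (repr_compF c cy W Wy hr y_ok.1)

theorem mem_P0y_of_fin (W : List ℕ) (c : ℕ) (hr : Repr c W) (h : finC (backC c) = true) :
    evalW W ∈ P0y := by
  rw [mem_P0y]
  have h1 := mem_P0_of_fin _ _ (repr_backC W c hr) h
  rw [evalW_append, evalW_append, ← mul_assoc] at h1
  exact h1

theorem P0y_sub (g : Equiv.Perm GolayPt) (hg : g ∈ P0y) :
    ∃ q ∈ PC.map conjq, Repr q.2 q.1 ∧ g = evalW q.1 := by
  rw [mem_P0y] at hg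
  obtain ⟨q, hq, hr, e⟩ := P0_sub _ hg
  refine ⟨conjq q, List.mem_map.2 ⟨q, hq, rfl⟩, repr_conjq q hr, ?_⟩
  rw [evalW_conjq, ← e, yi_eq]
  group

theorem P0y_pow8 (g : Equiv.Perm GolayPt) (hg : g ∈ P0y) : g ^ 8 = 1 := by
  rw [mem_P0y] at hg
  have h := P0_pow8 _ hg
  rw [yi_eq] at h
  have e : (evalW Wy)⁻¹ * g * evalW Wy = (evalW Wy)⁻¹ * g * ((evalW Wy)⁻¹)⁻¹ := by rw [inv_inv]
  rw [e, conj_pow] at h
  exact conj_eq_one_iff.1 h

/-! ### The context for the stabilizer of the dodecad -/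

def Q12 : Subgroup (Equiv.Perm GolayPt) := Cfsg.Spor.M12 ⊓ P0y

def gt (c : ℕ) : Bool := Nat.beq (imgP c Dsq) Dsq

def qt (c : ℕ) : Bool := finC (backC c) && Nat.beq (imgP c Dsq) Dsq

def QL : List (List ℕ × ℕ) := (PC.map conjq).filter fun q => Nat.beq (imgP q.2 Dsq) Dsq

theorem mem_M12_of (W : List ℕ) (c : ℕ) (hr : Repr c W) (h : Nat.beq (imgP c Dsq) Dsq = true) :
    evalW W ∈ Cfsg.Spor.M12 :=
  Subgroup.mem_inf.2 ⟨evalW_mem_M24 W hr.1,
    (mem_stab_D _).2 (smul_of_imgP W c hr Dsq (Nat.eq_of_beq_eq_true h))⟩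

theorem ctx : Ctx Cfsg.Spor.M12 Q12 gt qt QL where
  hG := fun W c hr h => mem_M12_of W c hr h
  hQ := by
    intro W c hr h
    unfold qt at h
    rw [Bool.and_eq_true] at h
    exact Subgroup.mem_inf.2 ⟨mem_M12_of W c hr h.2, mem_P0y_of_fin W c hr h.1⟩
  hQL := by
    intro g hg
    obtain ⟨hM, hP⟩ := Subgroup.mem_inf.1 hg
    obtain ⟨q, hq, hr, rfl⟩ := P0y_sub g hP
    refine ⟨q, ?_, hr, rfl⟩
    unfold QL
    rw [List.mem_filter]
    refine ⟨hq, ?_⟩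
    rw [imgP_of_smul q.1 q.2 hr Dsq (by decide) ((mem_stab_D _).1 (Subgroup.mem_inf.1 hM).2)]
    exact Nat.beq_refl _
  hQG := inf_le_left
  hpow := fun g hg => P0y_pow8 g (Subgroup.mem_inf.1 hg).2

def zz : List ℕ × ℕ := ([6, 11, 10], 970254902120350598020240965873371168)

def ys : List (List ℕ × ℕ) := [([0, 0, 0, 2, 0, 0, 3, 2, 5, 6, 6, 6, 6, 8, 8, 12, 11, 9], 980911448981122463911395371816978473), ([1, 0, 0, 0, 1, 0, 2, 0, 0, 2, 0, 3, 3, 5, 5, 4, 6, 6, 6, 6, 8, 12, 11, 9], 651942783398063165504333944119822377), ([1, 0, 0, 0, 1, 0, 2, 0, 0, 2, 0, 3, 3, 3, 2, 5, 4, 7, 6, 6, 8, 10], 638219180794556583621599200540820553), ([0, 0, 2, 0, 1, 0, 2, 2, 4, 4, 5, 4, 7, 6, 7, 6, 11, 10], 845644152782281121559550017587577122), ([1, 0, 0, 0, 1, 3, 3, 4, 6, 6, 6, 11, 10, 9], 629863500390412654982178157189269536), ([2, 0, 0, 2, 0, 1, 2, 2, 2, 0, 2, 0, 3, 3, 4, 4, 4, 4, 5, 4, 7, 6, 6, 6, 7, 6, 12, 11, 10], 425260589770023667920228681599158304)]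

def steps : List Step := [
  .conj 9999 [1, 0, 1, 0, 0, 1, 2, 0, 0, 2, 0, 0, 3, 2, 2, 4, 7, 6, 6, 6, 7, 6, 8, 8] 895202618948299154908705265290316033 [1, 0, 0, 0, 1, 0, 0, 0, 2, 0, 2, 3, 3, 2, 4, 4, 4, 4, 4, 5, 4, 6, 6, 7, 6, 10, 9] 646102784245406855893849099145971715,
  .conj 0 [1, 0, 1, 2, 0, 0, 3, 2, 2, 5, 4, 7, 8, 8, 12, 11, 10, 9] 938931261979468239515812592598747176 [0, 2, 2, 0, 1, 0, 2, 2, 0, 2, 3, 5, 6, 10] 237850170122007229652181575650084902,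
  .conj 1 [1, 0, 0, 0, 1, 2, 0, 0, 2, 3, 2, 2, 3, 5, 4, 7, 6, 6, 8, 12, 9] 632383130534501301316123201640609025 [1, 0, 0, 0, 1, 0, 0, 0, 2, 0, 2, 3, 3, 2, 5, 4, 5, 4, 7, 6, 8, 8, 9] 645555164958010977482871446853657603,
  .conj 1 [1, 0, 0, 0, 1, 2, 2, 0, 0, 2, 0, 0, 2, 3, 2, 2, 3, 4, 6, 6, 8] 630158875308407179460706585926508688 [2, 1, 0, 1, 2, 0, 0, 2, 0, 0, 3, 2, 2, 4, 7, 7, 6, 12, 11, 9] 606506959688417699719398364288650630,
  .mul 1 0,
  .conj 4 [1, 0, 0, 0, 1, 0, 0, 2, 0, 2, 2, 4, 4, 4, 5, 4, 6, 7, 6, 7, 8, 8, 12, 10] 630488151153570250854033705891136514 [0, 0, 2, 0, 1, 2, 2, 0, 2, 0, 2, 3, 2, 2, 4, 5, 4, 7, 6, 6, 12, 10, 9] 858249338590762411966147903161237569,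
  .mul 9999 2,
  .mul 6 4,
  .mul 2 5,
  .mul 8 3,
  .mul 9999 4,
  .mul 9999 1,
  .mul 11 2,
  .mul 9999 5]

def gens : List ℕ := [13, 12, 10, 9, 7, 9999]

def fams : List CFam := [(2, 2, [6, 513, 1049600, 8421376]), (2, 4, [78080, 262232, 2244736, 4720672])]

def extra : List (List ℕ) := [[340831]]

def wit : List (List ℕ × ℕ) := [([0, 3, 2, 2, 3, 4, 5, 4, 5, 4, 6, 6, 8, 12, 11, 10, 9], 965374813651460509785490254847181089), ([2, 0, 0, 2, 0, 1, 2, 2, 2, 0, 2, 0, 3, 3, 2, 5, 4, 4, 4, 5, 6, 6, 7, 6, 7, 8, 8, 11], 437926948960526790524088372330497088)]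

set_option maxRecDepth 100000 in
theorem check : checkA gt qt QL zz ys steps gens = true := by decide +kernel

theorem coreA : CoreA Cfsg.Spor.M12 Q12 := coreA_of_check ctx zz ys steps gens check

set_option maxRecDepth 100000 in
theorem hsub : subCheck QL fams = true := by decide +kernel

set_option maxRecDepth 100000 in
theorem hsup : supCheck qt wit fams = true := by decide +kernel

set_option maxRecDepth 100000 in
theorem hsearch : ((searchCAll (lvlG (fams.map (fun f => f.2.2) ++ extra))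
    (finG (fams.map (fun f => f.2.2) ++ extra))).all fun r => qt r.2) = true := by
  decide +kernel

theorem coreN : CoreN Cfsg.Spor.M12 Q12 := by
  refine coreN_of_check ctx (fun g hg => (Subgroup.mem_inf.1 hg).1) wit fams extra ?_ hsub hsup
    (by decide) hsearch
  intro n hn LF hLF
  have hLF' : LF = [340831] := by simpa [extra] using hLF
  subst hLF'
  exact presF_single Dsq n ((mem_stab_D n).1 (Subgroup.mem_inf.1 hn).2)

theorem zz_ok : Repr zz.2 zz.1 ∧ qt zz.2 = true ∧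
    ((List.range 24).any fun x => !Nat.beq (appF zz.2 x) x) = true := by decide +kernel

theorem Q12_ne_bot : Q12 ≠ ⊥ := by
  intro hb
  have h1 : evalW zz.1 ∈ Q12 := ctx.hQ zz.1 zz.2 zz_ok.1 zz_ok.2.1
  rw [hb, Subgroup.mem_bot] at h1
  have h2 := zz_ok.2.2
  rw [List.any_eq_true] at h2
  obtain ⟨x, hx, hne⟩ := h2
  rw [List.mem_range] at hx
  refine evalW_ne_one zz.1 zz.2 zz_ok.1 x hx ?_ h1
  intro e
  rw [e, Nat.beq_refl] at hne
  exact absurd hne (by decide)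

end Cfsg.Agent.Helper29.FusM12
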