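import Mathlib
import Cfsg.Agent.Lib.Helper29.FusM12

set_option autoImplicit false
open Cfsg

namespace Cfsg.Agent.Helper29.FusM11

open Cfsg.Agent.Helper27 Cfsg.Agent.Helper29 Cfsg.Agent.Helper29.M24
open Cfsg.Agent.Helper29.FusCert Cfsg.Agent.Helper29.Syl2 Cfsg.Agent.Helper29.FusPt
open Cfsg.Agent.Helper29.FusM12 (Dsq sqD smul_of_imgP imgP_of_smul mem_stab_D P0y mem_P0y conjq
  repr_conjq backC mem_P0y_of_fin P0y_sub P0y_pow8 mem_M12_of)
open Cfsg.Agent.S0358 (idx)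
open scoped Pointwise

def Q11 : Subgroup (Equiv.Perm GolayPt) := Cfsg.Spor.M11 ⊓ P0y

def gt (c : ℕ) : Bool := Nat.beq (imgP c Dsq) Dsq && Nat.beq (appF c 0) 0

def qt (c : ℕ) : Bool := finC (backC c) && (Nat.beq (imgP c Dsq) Dsq && Nat.beq (appF c 0) 0)

def QL : List (List ℕ × ℕ) :=
  (PC.map conjq).filter fun q => Nat.beq (imgP q.2 Dsq) Dsq && Nat.beq (appF q.2 0) 0

theorem mem_stab_zero (g : Equiv.Perm GolayPt) :
    g ∈ MulAction.stabilizer (Equiv.Perm GolayPt) (some 0 : GolayPt) ↔ g (dec 0) = dec 0 := by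
  rw [dec0]
  exact MulAction.mem_stabilizer_iff

theorem mem_M11_of (W : List ℕ) (c : ℕ) (hr : Repr c W) (h : gt c = true) :
    evalW W ∈ Cfsg.Spor.M11 := by
  unfold gt at h
  rw [Bool.and_eq_true] at h
  exact Subgroup.mem_inf.2 ⟨mem_M12_of W c hr h.1,
    (mem_stab_zero _).2 (fix_of_appF W c hr 0 (by norm_num) (Nat.eq_of_beq_eq_true h.2))⟩

theorem ctx : Ctx Cfsg.Spor.M11 Q11 gt qt QL where
  hG := fun W c hr h => mem_M11_of W c hr h
  hQ := by
    intro W c hr h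
    unfold qt at h
    rw [Bool.and_eq_true] at h
    exact Subgroup.mem_inf.2 ⟨mem_M11_of W c hr h.2, mem_P0y_of_fin W c hr h.1⟩
  hQL := by
    intro g hg
    obtain ⟨hM, hP⟩ := Subgroup.mem_inf.1 hg
    obtain ⟨hM12, hs0⟩ := Subgroup.mem_inf.1 hM
    obtain ⟨q, hq, hr, rfl⟩ := P0y_sub g hP
    refine ⟨q, ?_, hr, rfl⟩
    unfold QL
    rw [List.mem_filter]
    refine ⟨hq, ?_⟩
    rw [imgP_of_smul q.1 q.2 hr Dsq (by decide) ((mem_stab_D _).1 (Subgroup.mem_inf.1 hM12).2),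
      appF_of_fix q.1 q.2 hr 0 (by norm_num) ((mem_stab_zero _).1 hs0)]
    rfl
  hQG := inf_le_left
  hpow := fun g hg => P0y_pow8 g (Subgroup.mem_inf.1 hg).2

def zz : List ℕ × ℕ := ([6, 11, 10], 970254902120350598020240965873371168)

def ys : List (List ℕ × ℕ) := [([2, 2, 2, 4, 4, 4, 5, 6, 6, 7, 6, 8], 984642754306893001986305023279301696), ([1, 0, 0, 0, 1, 2, 3, 3, 2, 5, 4, 4, 4, 4, 5, 7, 6, 7, 8, 11, 9], 630443648067612166917968708617438272), ([1, 0, 0, 0, 1, 3, 3, 4, 6, 6, 6, 11, 10, 9], 629863500390412654982178157189269536), ([2, 0, 0, 2, 0, 1, 2, 2, 2, 0, 2, 0, 3, 3, 4, 4, 4, 4, 5, 4, 6, 8, 8, 12, 10, 9], 437673696385666828435562741295908896)]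

def steps : List Step := [
  .conj 9999 [1, 0, 1, 3, 2, 2, 4, 4, 4, 4, 5, 6, 7, 6, 8, 11, 9] 941904258028535242824958039816671808 [0, 0, 2, 0, 1, 2, 2, 2, 0, 2, 0, 3, 3, 2, 2, 4, 4, 5, 6, 7, 6, 8, 8, 11, 9] 861525337442125502649459282540773760,
  .conj 9999 [2, 0, 0, 2, 0, 1, 2, 2, 2, 0, 2, 0, 2, 2, 3, 5, 4, 4, 4, 5, 6, 8, 10] 422670483454125038900709530968204704 [0, 2, 0, 0, 1, 2, 2, 0, 3, 3, 5, 4, 4, 5, 4, 6, 6, 6, 8, 12, 9] 305682112699820370275471296578458176,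
  .mul 1 0,
  .conj 2 [2, 2, 2, 4, 5, 4, 5, 4, 6, 6, 6, 12, 10] 983351572974849664803883075435373632 [2, 3, 3, 2, 2, 6, 6, 6, 8, 11, 9] 978355761918629566805193093439456544,
  .mul 9999 2]

def gens : List ℕ := [3, 0, 4, 9999]

def fams : List CFam := [(1, 2, [6]), (2, 4, [78080, 262232, 2244736, 4720672])]

def extra : List (List ℕ) := [[340831], [1]]

def wit : List (List ℕ × ℕ) := [([2, 0, 0, 2, 0, 1, 2, 2, 2, 0, 2, 0, 3, 3, 2, 5, 4, 4, 4, 5, 6, 6, 7, 6, 7, 8, 8, 11], 437926948960526790524088372330497088)]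

set_option maxRecDepth 100000 in
theorem check : checkA gt qt QL zz ys steps gens = true := by decide +kernel

theorem coreA : CoreA Cfsg.Spor.M11 Q11 := coreA_of_check ctx zz ys steps gens check

set_option maxRecDepth 100000 in
theorem hsub : subCheck QL fams = true := by decide +kernel

set_option maxRecDepth 100000 in
theorem hsup : supCheck qt wit fams = true := by decide +kernel

set_option maxRecDepth 100000 in
theorem hsearch : ((searchCAll (lvlG (fams.map (fun f => f.2.2) ++ extra))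
    (finG (fams.map (fun f => f.2.2) ++ extra))).all fun r => qt r.2) = true := by
  decide +kernel

theorem coreN : CoreN Cfsg.Spor.M11 Q11 := by
  refine coreN_of_check ctx (fun g hg => (Subgroup.mem_inf.1 (Subgroup.mem_inf.1 hg).1).1)
    wit fams extra ?_ hsub hsup (by decide) hsearch
  intro n hn LF hLF
  obtain ⟨hM12, hs0⟩ := Subgroup.mem_inf.1 hn
  have hLF' : LF = [340831] ∨ LF = [1] := by simpa [extra] using hLF
  rcases hLF' with rfl | rfl
  · exact presF_single Dsq n ((mem_stab_D n).1 (Subgroup.mem_inf.1 hM12).2)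
  · exact presF_point 0 (by norm_num) n ((mem_stab_zero n).1 hs0) _ mask0

theorem zz_ok : Repr zz.2 zz.1 ∧ qt zz.2 = true ∧
    ((List.range 24).any fun x => !Nat.beq (appF zz.2 x) x) = true := by decide +kernel

theorem Q11_ne_bot : Q11 ≠ ⊥ := by
  intro hb
  have h1 : evalW zz.1 ∈ Q11 := ctx.hQ zz.1 zz.2 zz_ok.1 zz_ok.2.1
  rw [hb, Subgroup.mem_bot] at h1
  have h2 := zz_ok.2.2
  rw [List.any_eq_true] at h2
  obtain ⟨x, hx, hne⟩ := h2
  rw [List.mem_range] at hx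
  refine evalW_ne_one zz.1 zz.2 zz_ok.1 x hx ?_ h1
  intro e
  rw [e, Nat.beq_refl] at hne
  exact absurd hne (by decide)

end Cfsg.Agent.Helper29.FusM11
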