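import Mathlib

set_option autoImplicit false

namespace Cfsg.Agent.Helper29.StemSylow

/-! ### Central extensions with kernel in the commutator subgroup, seen on Sylow subgroups -/

variable {Γ : Type*} [Group Γ]

/-- the transfer argument: a central element of `Γ'` has its `|Γ : H|`-th power in `H'` -/
theorem pow_index_mem_comm (H : Subgroup Γ) [H.FiniteIndex]
    {a : Γ} (hc : a ∈ Subgroup.center Γ) (hd : a ∈ commutator Γ) (haH : a ^ H.index ∈ H) :
    a ^ H.index ∈ ⁅H, H⁆ := by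
  have key : ∀ (k : ℕ) (g₀ : Γ), g₀⁻¹ * a ^ k * g₀ ∈ H → g₀⁻¹ * a ^ k * g₀ = a ^ k := by
    intro k g₀ _
    have h1 : a ^ k ∈ Subgroup.center Γ := Subgroup.pow_mem _ hc k
    have h2 := Subgroup.mem_center_iff.mp h1 g₀
    rw [mul_assoc, ← h2, ← mul_assoc, inv_mul_cancel, one_mul]
  have h1 := MonoidHom.transfer_eq_pow (Abelianization.of : H →* Abelianization H) a key
  have h2 : MonoidHom.transfer (Abelianization.of : H →* Abelianization H) a = 1 := by
    have := Abelianization.commutator_subset_ker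
      (MonoidHom.transfer (Abelianization.of : H →* Abelianization H)) hd
    exact this
  rw [h2] at h1
  have h3 : (⟨a ^ H.index, haH⟩ : H) ∈ commutator H := by
    rw [← Abelianization.ker_of, MonoidHom.mem_ker]
    exact h1.symm
  have h4 : (commutator H).map H.subtype = ⁅H, H⁆ := by
    rw [commutator_def, Subgroup.map_commutator]
    have : Subgroup.map H.subtype ⊤ = H := by
      rw [← MonoidHom.range_eq_map, Subgroup.range_subtype]
    rw [this]
  rw [← h4]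
  exact ⟨_, h3, rfl⟩

/-- a central `p`-element of `Γ'` lying in a Sylow `p`-subgroup lies in its commutator
subgroup -/
theorem mem_comm_sylow [Finite Γ] {p : ℕ} [Fact p.Prime] (P : Sylow p Γ) {a : Γ}
    (hc : a ∈ Subgroup.center Γ) (hd : a ∈ commutator Γ) (haP : a ∈ (P : Subgroup Γ)) :
    a ∈ ⁅(P : Subgroup Γ), (P : Subgroup Γ)⁆ := by
  have h1 := pow_index_mem_comm (P : Subgroup Γ) hc hd (Subgroup.pow_mem _ haP _)
  obtain ⟨k, hk⟩ := (IsPGroup.iff_orderOf.mp P.isPGroup') ⟨a, haP⟩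
  have hk' : orderOf a = p ^ k := by
    rw [← hk]
    exact (Subgroup.orderOf_mk a haP).symm
  have hcop : ((P : Subgroup Γ).index).Coprime (orderOf a) := by
    rw [hk']
    apply Nat.Coprime.pow_right
    rw [Nat.coprime_comm]
    exact (Nat.Prime.coprime_iff_not_dvd Fact.out).2 P.not_dvd_index
  obtain ⟨m, hm⟩ := exists_pow_eq_self_of_coprime hcop
  rw [← hm]
  exact Subgroup.pow_mem _ h1 m

/-- two subgroups generated by pairwise commuting sets commute -/
theorem comm_of_closure {S : Set Γ} (h : ∀ s ∈ S, ∀ t ∈ S, s * t = t * s) :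
    ∀ g ∈ Subgroup.closure S, ∀ k ∈ Subgroup.closure S, g * k = k * g := by
  intro g hg k hk
  have hcomm : IsMulCommutative (Subgroup.closure S) :=
    Subgroup.isMulCommutative_closure (fun s hs t ht => h s hs t ht)
  have := hcomm.is_comm.comm (⟨g, hg⟩ : Subgroup.closure S) ⟨k, hk⟩
  exact congrArg Subtype.val this

end Cfsg.Agent.Helper29.StemSylow

namespace Cfsg.Agent.Helper29.StemSylow

open scoped commutatorElement

variable {Γ : Type*} [Group Γ] {G : Type*} [Group G]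

/-- elements with the same image differ by an element of the kernel -/
theorem exists_ker_mul (σ : Γ →* G) (u v : Γ) (h : σ u = σ v) : ∃ κ ∈ σ.ker, u = v * κ := by
  refine ⟨v⁻¹ * u, ?_, by group⟩
  rw [MonoidHom.mem_ker, map_mul, map_inv, h, inv_mul_cancel]

theorem central_comm (σ : Γ →* G) (hK : σ.ker ≤ Subgroup.center Γ) {κ : Γ} (hκ : κ ∈ σ.ker)
    (g : Γ) : g * κ = κ * g :=
  Subgroup.mem_center_iff.mp (hK hκ) g

/-- a subgroup whose image is cyclic is abelian, when the kernel is central -/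
theorem comm_eq_bot_of_cyclic (σ : Γ →* G) (hK : σ.ker ≤ Subgroup.center Γ) (P : Subgroup Γ)
    (g : Γ) (hh : ∀ u ∈ P, ∃ i : ℤ, σ u = σ g ^ i) : ⁅P, P⁆ = ⊥ := by
  rw [Subgroup.commutator_eq_bot_iff_le_centralizer]
  intro u hu
  rw [Subgroup.mem_centralizer_iff]
  intro v hv
  obtain ⟨i, hi⟩ := hh u hu
  obtain ⟨j, hj⟩ := hh v hv
  rw [← map_zpow] at hi hj
  obtain ⟨κ, hκ, rfl⟩ := exists_ker_mul σ u (g ^ i) hi
  obtain ⟨μ, hμ, rfl⟩ := exists_ker_mul σ v (g ^ j) hj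
  have c1 := central_comm σ hK hκ
  have c2 := central_comm σ hK hμ
  have c3 : g ^ i * g ^ j = g ^ j * g ^ i := (Commute.zpow_zpow_self g i j).eq
  calc g ^ j * μ * (g ^ i * κ) = g ^ j * (μ * g ^ i) * κ := by group
    _ = g ^ j * (g ^ i * μ) * κ := by rw [c2]
    _ = (g ^ j * g ^ i) * (μ * κ) := by group
    _ = (g ^ i * g ^ j) * (κ * μ) := by rw [c3, ← c1 μ]
    _ = g ^ i * (g ^ j * κ) * μ := by group
    _ = g ^ i * (κ * g ^ j) * μ := by rw [c1]
    _ = g ^ i * κ * (g ^ j * μ) := by group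

/-- central factors do not change commutators -/
theorem comm_central_left {z : Γ} (hz : ∀ g : Γ, g * z = z * g) (a b : Γ) :
    ⁅a * z, b⁆ = ⁅a, b⁆ := by
  rw [commutatorElement_def, commutatorElement_def]
  calc a * z * b * (a * z)⁻¹ * b⁻¹ = a * (z * b) * z⁻¹ * a⁻¹ * b⁻¹ := by group
    _ = a * (b * z) * z⁻¹ * a⁻¹ * b⁻¹ := by rw [hz b]
    _ = a * b * a⁻¹ * b⁻¹ := by group

theorem comm_central_right {z : Γ} (hz : ∀ g : Γ, g * z = z * g) (a b : Γ) :
    ⁅a, b * z⁆ = ⁅a, b⁆ := by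
  rw [commutatorElement_def, commutatorElement_def]
  calc a * (b * z) * a⁻¹ * (b * z)⁻¹ = a * b * (z * a⁻¹) * z⁻¹ * b⁻¹ := by group
    _ = a * b * (a⁻¹ * z) * z⁻¹ * b⁻¹ := by rw [hz a⁻¹]
    _ = a * b * a⁻¹ * b⁻¹ := by group

/-- a central commutator is inverted by inverting the second argument -/
theorem comm_inv_right_of_central (a b : Γ) (hz : ∀ g : Γ, g * ⁅a, b⁆ = ⁅a, b⁆ * g) :
    ⁅a, b⁻¹⁆ = ⁅a, b⁆⁻¹ := by
  have e : ⁅a, b⁻¹⁆ = b⁻¹ * ⁅a, b⁆⁻¹ * b := by
    rw [commutatorElement_def, commutatorElement_def]; group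
  rw [e]
  have h : Commute b⁻¹ ⁅a, b⁆ := hz b⁻¹
  rw [h.inv_right.eq]; group

/-- a central commutator is multiplicative in the first argument -/
theorem comm_mul_left_of_central (a a' b : Γ) (hz : ∀ g : Γ, g * ⁅a', b⁆ = ⁅a', b⁆ * g) :
    ⁅a * a', b⁆ = ⁅a, b⁆ * ⁅a', b⁆ := by
  have e : ⁅a * a', b⁆ = a * ⁅a', b⁆ * a⁻¹ * ⁅a, b⁆ := by
    rw [commutatorElement_def, commutatorElement_def, commutatorElement_def]; group
  rw [e, hz a]
  have h : Commute ⁅a, b⁆ ⁅a', b⁆ := hz _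
  rw [h.eq]; group

/-- a subgroup whose image is generated by two commuting elements of order dividing three,
one centralized and the other inverted by some element, is abelian -/
theorem comm_eq_bot_of_three (σ : Γ →* G) (hK : σ.ker ≤ Subgroup.center Γ) (P : Subgroup Γ)
    (x y n : Γ) (hx3 : σ x ^ 3 = 1) (hxy : σ x * σ y = σ y * σ x)
    (hnx : σ n * σ x * (σ n)⁻¹ = σ x) (hny : σ n * σ y * (σ n)⁻¹ = (σ y)⁻¹)
    (hh : ∀ u ∈ P, ∃ i j : ℤ, σ u = σ x ^ i * σ y ^ j) : ⁅P, P⁆ = ⊥ := by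
  -- the commutator of the lifts is central
  have hcK : ⁅x, y⁆ ∈ σ.ker := by
    rw [MonoidHom.mem_ker, map_commutatorElement, commutatorElement_def, hxy]
    group
  have cc := central_comm σ hK hcK
  -- conjugation by `n`
  obtain ⟨κ₁, hκ₁, e1⟩ := exists_ker_mul σ (n * x * n⁻¹) x (by
    rw [map_mul, map_mul, map_inv]; exact hnx)
  obtain ⟨κ₂, hκ₂, e2⟩ := exists_ker_mul σ (n * y * n⁻¹) y⁻¹ (by
    rw [map_mul, map_mul, map_inv, map_inv]; exact hny)
  have k1 := central_comm σ hK hκ₁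
  have k2 := central_comm σ hK hκ₂
  -- `c` is inverted and fixed by `n`
  have h1 : n * ⁅x, y⁆ * n⁻¹ = ⁅x, y⁆ := by
    rw [cc n]; group
  have h2 : n * ⁅x, y⁆ * n⁻¹ = ⁅x, y⁆⁻¹ := by
    rw [conjugate_commutatorElement, e1, e2, comm_central_left k1, comm_central_right k2]
    exact comm_inv_right_of_central x y cc
  have hc2 : ⁅x, y⁆ * ⁅x, y⁆ = 1 := by
    have : ⁅x, y⁆ = ⁅x, y⁆⁻¹ := h1.symm.trans h2
    calc ⁅x, y⁆ * ⁅x, y⁆ = ⁅x, y⁆ * ⁅x, y⁆⁻¹ := by rw [← this]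
      _ = 1 := mul_inv_cancel _
  -- `c ^ 3 = 1` since `x ^ 3` is central
  have hx3K : x ^ 3 ∈ σ.ker := by rw [MonoidHom.mem_ker, map_pow]; exact hx3
  have hc3 : ⁅x, y⁆ * ⁅x, y⁆ * ⁅x, y⁆ = 1 := by
    have hxk := central_comm σ hK hx3K
    have e0 : ⁅x ^ 3, y⁆ = 1 := by
      rw [commutatorElement_def, ← hxk y]
      simp
    have e1 : x ^ 3 = x * (x * x) := by rw [pow_succ', pow_two]
    have e2 : ⁅x * x, y⁆ = ⁅x, y⁆ * ⁅x, y⁆ := comm_mul_left_of_central x x y cc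
    have hz2 : ∀ g : Γ, g * ⁅x * x, y⁆ = ⁅x * x, y⁆ * g := by
      intro g
      rw [e2]
      have h : Commute g ⁅x, y⁆ := cc g
      exact (h.mul_right h).eq
    have e3 : ⁅x * (x * x), y⁆ = ⁅x, y⁆ * ⁅x * x, y⁆ := comm_mul_left_of_central x (x * x) y hz2
    rw [e1, e3, e2] at e0
    rw [mul_assoc]
    exact e0
  have hc1 : ⁅x, y⁆ = 1 := by
    calc ⁅x, y⁆ = ⁅x, y⁆ * ⁅x, y⁆ * ⁅x, y⁆ * (⁅x, y⁆ * ⁅x, y⁆)⁻¹ := by group
      _ = 1 := by rw [hc3, hc2]; group
  have hcomm : x * y = y * x := by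
    have : x * y = ⁅x, y⁆ * y * x := by rw [commutatorElement_def]; group
    rw [this, hc1, one_mul]
  -- now everything commutes
  rw [Subgroup.commutator_eq_bot_iff_le_centralizer]
  intro u hu
  rw [Subgroup.mem_centralizer_iff]
  intro v hv
  obtain ⟨i, j, hij⟩ := hh u hu
  obtain ⟨i', j', hij'⟩ := hh v hv
  rw [← map_zpow, ← map_zpow, ← map_mul] at hij hij'
  obtain ⟨κ, hκ, rfl⟩ := exists_ker_mul σ u (x ^ i * y ^ j) hij
  obtain ⟨μ, hμ, rfl⟩ := exists_ker_mul σ v (x ^ i' * y ^ j') hij'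
  have hS : ∀ s ∈ ({x, y, κ, μ} : Set Γ), ∀ t ∈ ({x, y, κ, μ} : Set Γ), s * t = t * s := by
    have c1 := central_comm σ hK hκ
    have c2 := central_comm σ hK hμ
    intro s hs t ht
    simp only [Set.mem_insert_iff, Set.mem_singleton_iff] at hs ht
    rcases hs with rfl | rfl | rfl | rfl <;> rcases ht with rfl | rfl | rfl | rfl <;>
      first
      | rfl
      | exact hcomm
      | exact hcomm.symm
      | exact c1 _
      | exact (c1 _).symm
      | exact c2 _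
      | exact (c2 _).symm
  have hmem : ∀ (a b k : Γ) (i j : ℤ), a ∈ ({x, y, κ, μ} : Set Γ) → b ∈ ({x, y, κ, μ} : Set Γ) →
      k ∈ ({x, y, κ, μ} : Set Γ) → a ^ i * b ^ j * k ∈ Subgroup.closure ({x, y, κ, μ} : Set Γ) := by
    intro a b k i j ha hb hk
    exact Subgroup.mul_mem _ (Subgroup.mul_mem _
      (Subgroup.zpow_mem _ (Subgroup.subset_closure ha) i)
      (Subgroup.zpow_mem _ (Subgroup.subset_closure hb) j)) (Subgroup.subset_closure hk)
  exact comm_of_closure hS _ (hmem x y μ i' j' (by simp) (by simp) (by simp)) _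
    (hmem x y κ i j (by simp) (by simp) (by simp))

/-- local criterion for the kernel of a stem extension to be trivial -/
theorem ker_eq_bot_of_local [Finite Γ] (σ : Γ →* G) (hs : Function.Surjective σ)
    (hK : σ.ker ≤ Subgroup.center Γ) (hK' : σ.ker ≤ commutator Γ)
    (h : ∀ p : ℕ, p.Prime → ∃ Q : Subgroup G, ¬ p ∣ Q.index ∧
      ∀ k ∈ ⁅Q.comap σ, Q.comap σ⁆, k ∈ σ.ker → k = 1) : σ.ker = ⊥ := by
  by_contra hne
  have hcard : Nat.card σ.ker ≠ 1 := by
    intro h1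
    exact hne (Subgroup.card_eq_one.mp h1)
  obtain ⟨p, hp, hpd⟩ := Nat.exists_prime_and_dvd hcard
  have : Fact p.Prime := ⟨hp⟩
  obtain ⟨k, hk⟩ := exists_prime_orderOf_dvd_card' p hpd
  obtain ⟨Q, hQ, hQ2⟩ := h p hp
  have hidx : (Q.comap σ).index = Q.index := Subgroup.index_comap_of_surjective Q hs
  have hkH : (k : Γ) ∈ Q.comap σ := by
    rw [Subgroup.mem_comap, (MonoidHom.mem_ker).1 k.2]
    exact Q.one_mem
  have h1 := pow_index_mem_comm (Q.comap σ) (hK k.2) (hK' k.2) (Subgroup.pow_mem _ hkH _)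
  have h2 := hQ2 _ h1 (Subgroup.pow_mem _ k.2 _)
  have h3 : orderOf (k : Γ) ∣ (Q.comap σ).index := orderOf_dvd_of_pow_eq_one h2
  rw [Subgroup.orderOf_coe, hk, hidx] at h3
  exact hQ h3

/-- a prime whose square does not divide the order of the quotient is harmless -/
theorem local_of_not_sq_dvd [Finite G] (σ : Γ →* G) (hs : Function.Surjective σ)
    (hK : σ.ker ≤ Subgroup.center Γ) (p : ℕ) (hp : p.Prime)
    (hsq : ¬ p ^ 2 ∣ Nat.card G) : ∃ Q : Subgroup G, ¬ p ∣ Q.index ∧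
      ∀ k ∈ ⁅Q.comap σ, Q.comap σ⁆, k ∈ σ.ker → k = 1 := by
  have : Fact p.Prime := ⟨hp⟩
  obtain ⟨S⟩ : Nonempty (Sylow p G) := inferInstance
  refine ⟨S, S.not_dvd_index, ?_⟩
  have hc : Nat.card S ∣ p := by
    rw [Sylow.card_eq_multiplicity]
    have h1 : (Nat.card G).factorization p ≤ 1 := by
      by_contra hh
      rw [not_le] at hh
      apply hsq
      exact (Nat.pow_dvd_pow p hh).trans (Nat.ordProj_dvd _ _)
    calc p ^ (Nat.card G).factorization p ∣ p ^ 1 := Nat.pow_dvd_pow p h1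
      _ = p := pow_one p
  have : IsCyclic S := isCyclic_of_card_dvd_prime hc
  obtain ⟨g, hg⟩ := IsCyclic.exists_generator (α := S)
  obtain ⟨g', hg'⟩ := hs g
  have hb := comm_eq_bot_of_cyclic σ hK ((S : Subgroup G).comap σ) g' (fun u hu => by
    obtain ⟨i, hi⟩ := Subgroup.mem_zpowers_iff.1 (hg ⟨σ u, hu⟩)
    refine ⟨i, ?_⟩
    rw [hg']
    have := congrArg Subtype.val hi
    simpa using this.symm)
  intro k hk _
  rw [hb] at hk
  exact Subgroup.mem_bot.1 hk

/-- the basic commutator in a group with a cyclic normal subgroup twisted by `b` -/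
theorem comm_twist (a b c : Γ) (hca : Commute c a)
    (hconj : ∀ z : ℤ, b * a ^ z * b⁻¹ = c ^ z * a ^ z) (i m : ℤ) :
    ⁅a ^ i * b, a ^ m⁆ = c ^ m := by
  have h1 : a ^ i * c ^ m = c ^ m * a ^ i := ((hca.zpow_zpow m i).symm).eq
  have h2 : a ^ i * a ^ m = a ^ m * a ^ i := (Commute.zpow_zpow_self a i m).eq
  calc ⁅a ^ i * b, a ^ m⁆ = a ^ i * (b * a ^ m * b⁻¹) * (a ^ i)⁻¹ * (a ^ m)⁻¹ := by
        rw [commutatorElement_def]; group
    _ = a ^ i * (c ^ m * a ^ m) * (a ^ i)⁻¹ * (a ^ m)⁻¹ := by rw [hconj]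
    _ = (a ^ i * c ^ m) * a ^ m * (a ^ i)⁻¹ * (a ^ m)⁻¹ := by group
    _ = c ^ m * (a ^ i * a ^ m) * (a ^ i)⁻¹ * (a ^ m)⁻¹ := by rw [h1]; group
    _ = c ^ m := by rw [h2]; group

theorem comm_twist' (a b c : Γ) (hca : Commute c a)
    (hconj : ∀ z : ℤ, b * a ^ z * b⁻¹ = c ^ z * a ^ z) (i m : ℤ) :
    ⁅a ^ i * b, a ^ m * b⁆ = c ^ (m - i) := by
  have h1 : a ^ i * c ^ (m - i) = c ^ (m - i) * a ^ i := ((hca.zpow_zpow (m - i) i).symm).eq
  calc ⁅a ^ i * b, a ^ m * b⁆ = a ^ i * (b * a ^ (m - i) * b⁻¹) * (a ^ m)⁻¹ := by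
        rw [commutatorElement_def]; group
    _ = a ^ i * (c ^ (m - i) * a ^ (m - i)) * (a ^ m)⁻¹ := by rw [hconj]
    _ = (a ^ i * c ^ (m - i)) * a ^ (m - i) * (a ^ m)⁻¹ := by group
    _ = c ^ (m - i) * a ^ i * a ^ (m - i) * (a ^ m)⁻¹ := by rw [h1]
    _ = c ^ (m - i) := by group

/-- the semidihedral case: the commutator subgroup of the preimage of a semidihedral group of
order 16 meets the kernel trivially -/
theorem comm_inf_ker_of_sd (σ : Γ →* G) (hK : σ.ker ≤ Subgroup.center Γ) (H : Subgroup Γ)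
    (a b : Γ) (ha8 : σ a ^ 8 = 1) (ha4 : σ a ^ 4 ≠ 1) (hb2 : σ b * σ b = 1)
    (hba : σ b * σ a * (σ b)⁻¹ = σ a ^ 3)
    (hh : ∀ u ∈ H, ∃ i : ℤ, σ u = σ a ^ i ∨ σ u = σ a ^ i * σ b) :
    ∀ k ∈ ⁅H, H⁆, k ∈ σ.ker → k = 1 := by
  obtain ⟨c, hc⟩ : ∃ c, c = ⁅b, a⁆ := ⟨_, rfl⟩
  have hbab : b * a * b⁻¹ = c * a := by rw [hc, commutatorElement_def]; group
  have hσc : σ c = σ a ^ 2 := by
    rw [hc, map_commutatorElement, commutatorElement_def, hba]; group
  obtain ⟨κ₁, hκ₁, e1⟩ := exists_ker_mul σ c (a ^ 2) (by rw [hσc, map_pow])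
  have k1 := central_comm σ hK hκ₁
  have hca : Commute c a := by
    show c * a = a * c
    rw [e1, mul_assoc, ← k1 a, ← mul_assoc, ← mul_assoc, ← pow_succ, ← pow_succ']
  -- conjugation of `c` by `b`
  have hbc : b * c * b⁻¹ = c ^ 3 := by
    calc b * c * b⁻¹ = b * a ^ 2 * (κ₁ * b⁻¹) := by rw [e1]; group
      _ = b * a ^ 2 * (b⁻¹ * κ₁) := by rw [k1 b⁻¹]
      _ = (b * a * b⁻¹) ^ 2 * κ₁ := by rw [conj_pow]; group
      _ = (c * a) ^ 2 * κ₁ := by rw [hbab]
      _ = c ^ 2 * a ^ 2 * κ₁ := by rw [hca.mul_pow]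
      _ = c ^ 2 * c := by rw [e1]; group
      _ = c ^ 3 := by rw [← pow_succ]
  -- `b * b` is central
  have hb2K : b * b ∈ σ.ker := by rw [MonoidHom.mem_ker, map_mul]; exact hb2
  have kb := central_comm σ hK hb2K
  have hc4 : c ^ 4 = 1 := by
    have e2 : (b * b) * a * (b * b)⁻¹ = c ^ 4 * a := by
      calc (b * b) * a * (b * b)⁻¹ = b * (b * a * b⁻¹) * b⁻¹ := by group
        _ = b * (c * a) * b⁻¹ := by rw [hbab]
        _ = (b * c * b⁻¹) * (b * a * b⁻¹) := by group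
        _ = c ^ 3 * (c * a) := by rw [hbc, hbab]
        _ = c ^ 4 * a := by rw [← mul_assoc, ← pow_succ]
    have e3 : (b * b) * a * (b * b)⁻¹ = a := by
      rw [← kb a]; group
    rw [e3] at e2
    exact (mul_eq_right.1 e2.symm)
  have hconj : ∀ z : ℤ, b * a ^ z * b⁻¹ = c ^ z * a ^ z := by
    intro z
    rw [← conj_zpow, hbab, hca.mul_zpow]
  -- all commutators lie in the cyclic group generated by `c`
  have hle : ⁅H, H⁆ ≤ Subgroup.zpowers c := by
    rw [Subgroup.commutator_le]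
    intro u hu v hv
    obtain ⟨i, hi⟩ := hh u hu
    obtain ⟨m, hm⟩ := hh v hv
    simp only [← map_zpow, ← map_mul] at hi hm
    rcases hi with hi | hi <;> rcases hm with hm | hm
    · obtain ⟨κ, hκ, rfl⟩ := exists_ker_mul σ u _ hi
      obtain ⟨μ, hμ, rfl⟩ := exists_ker_mul σ v _ hm
      rw [comm_central_left (central_comm σ hK hκ), comm_central_right (central_comm σ hK hμ)]
      have : ⁅a ^ i, a ^ m⁆ = 1 := by
        rw [commutatorElement_eq_one_iff_commute]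
        exact Commute.zpow_zpow_self a i m
      rw [this]
      exact Subgroup.one_mem _
    · obtain ⟨κ, hκ, rfl⟩ := exists_ker_mul σ u _ hi
      obtain ⟨μ, hμ, rfl⟩ := exists_ker_mul σ v _ hm
      rw [comm_central_left (central_comm σ hK hκ), comm_central_right (central_comm σ hK hμ),
        ← commutatorElement_inv, comm_twist a b c hca hconj]
      exact Subgroup.inv_mem _ (Subgroup.zpow_mem_zpowers c i)
    · obtain ⟨κ, hκ, rfl⟩ := exists_ker_mul σ u _ hi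
      obtain ⟨μ, hμ, rfl⟩ := exists_ker_mul σ v _ hm
      rw [comm_central_left (central_comm σ hK hκ), comm_central_right (central_comm σ hK hμ),
        comm_twist a b c hca hconj]
      exact Subgroup.zpow_mem_zpowers c m
    · obtain ⟨κ, hκ, rfl⟩ := exists_ker_mul σ u _ hi
      obtain ⟨μ, hμ, rfl⟩ := exists_ker_mul σ v _ hm
      rw [comm_central_left (central_comm σ hK hκ), comm_central_right (central_comm σ hK hμ),
        comm_twist' a b c hca hconj]
      exact Subgroup.zpow_mem_zpowers c _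
  intro k hk hkK
  obtain ⟨j, rfl⟩ := Subgroup.mem_zpowers_iff.1 (hle hk)
  rw [MonoidHom.mem_ker, map_zpow, hσc, ← zpow_natCast, ← zpow_mul] at hkK
  have h8 : orderOf (σ a) = 2 ^ (2 + 1) := by
    have : Fact (Nat.Prime 2) := ⟨Nat.prime_two⟩
    exact orderOf_eq_prime_pow (by norm_num; exact ha4) (by norm_num; exact ha8)
  have hd := (orderOf_dvd_iff_zpow_eq_one).2 hkK
  rw [h8] at hd
  have h4 : (4 : ℤ) ∣ j := by
    obtain ⟨t, ht⟩ := hd
    refine ⟨t, ?_⟩
    push_cast at ht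
    omega
  obtain ⟨t, rfl⟩ := h4
  rw [zpow_mul, zpow_ofNat, hc4, one_zpow]

end Cfsg.Agent.Helper29.StemSylow

namespace Cfsg.Agent.Helper29.StemSylow

variable {G : Type*} [Group G]

/-- a self-normalizing `p`-subgroup is a Sylow `p`-subgroup -/
theorem exists_sylow_eq_of_selfNormalizing [Finite G] (p : ℕ) [Fact p.Prime] (Q : Subgroup G)
    (hp : IsPGroup p Q) (hN : ∀ n : G, (∀ x ∈ Q, n * x * n⁻¹ ∈ Q) → n ∈ Q) :
    ∃ S : Sylow p G, (S : Subgroup G) = Q := by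
  obtain ⟨S1, hS1⟩ := hp.exists_le_sylow
  refine ⟨S1, ?_⟩
  apply le_antisymm _ hS1
  by_contra hcon
  have hnil : Group.IsNilpotent ↥(S1 : Subgroup G) := S1.isPGroup'.isNilpotent
  have hnc := @Group.normalizerCondition_of_isNilpotent ↥(S1 : Subgroup G) _ hnil
  have hlt : Q.subgroupOf (S1 : Subgroup G) < ⊤ := by
    rw [lt_top_iff_ne_top]
    intro htop
    apply hcon
    intro x hx
    have : (⟨x, hx⟩ : ↥(S1 : Subgroup G)) ∈ Q.subgroupOf (S1 : Subgroup G) := by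
      rw [htop]; exact Subgroup.mem_top _
    exact Subgroup.mem_subgroupOf.1 this
  have h2 := hnc _ hlt
  obtain ⟨r, hrN, hrH⟩ := SetLike.exists_of_lt h2
  apply hrH
  rw [Subgroup.mem_subgroupOf]
  apply hN
  intro x hx
  rw [Subgroup.mem_normalizer_iff] at hrN
  have h3 := (hrN ⟨x, hS1 hx⟩).1 (Subgroup.mem_subgroupOf.2 hx)
  exact Subgroup.mem_subgroupOf.1 h3

/-- the subgroup generated by two commuting elements -/
def pairSubgroup (x y : G) (h : Commute x y) : Subgroup G where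
  carrier := {g | ∃ i j : ℤ, g = x ^ i * y ^ j}
  mul_mem' := by
    rintro _ _ ⟨i, j, rfl⟩ ⟨i', j', rfl⟩
    refine ⟨i + i', j + j', ?_⟩
    have h1 : y ^ j * x ^ i' = x ^ i' * y ^ j := ((h.zpow_zpow i' j).symm).eq
    rw [zpow_add, zpow_add]
    calc x ^ i * y ^ j * (x ^ i' * y ^ j') = x ^ i * (y ^ j * x ^ i') * y ^ j' := by group
      _ = x ^ i * (x ^ i' * y ^ j) * y ^ j' := by rw [h1]
      _ = x ^ i * x ^ i' * (y ^ j * y ^ j') := by group
  one_mem' := ⟨0, 0, by simp⟩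
  inv_mem' := by
    rintro _ ⟨i, j, rfl⟩
    refine ⟨-i, -j, ?_⟩
    have h1 : y ^ (-j) * x ^ (-i) = x ^ (-i) * y ^ (-j) := ((h.zpow_zpow (-i) (-j)).symm).eq
    rw [mul_inv_rev, ← zpow_neg, ← zpow_neg, h1]

theorem mem_pairSubgroup (x y : G) (h : Commute x y) (g : G) :
    g ∈ pairSubgroup x y h ↔ ∃ i j : ℤ, g = x ^ i * y ^ j := Iff.rfl

/-- the index of an elementary abelian subgroup of order nine -/
theorem not_dvd_index_pair [Finite G] (x y : G) (h : Commute x y) (hx3 : x ^ 3 = 1)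
    (hy3 : y ^ 3 = 1) (hx : x ≠ 1) (hy1 : y ≠ 1) (hyx : y ≠ x) (hyx2 : y ≠ x ^ 2)
    (h27 : ¬ 27 ∣ Nat.card G) : ¬ 3 ∣ (pairSubgroup x y h).index := by
  have : Fact (Nat.Prime 3) := ⟨Nat.prime_three⟩
  have hP : IsPGroup 3 (pairSubgroup x y h) := by
    intro g
    refine ⟨1, ?_⟩
    obtain ⟨i, j, hg⟩ := g.2
    apply Subtype.ext
    rw [pow_one, Subgroup.coe_pow, hg, (h.zpow_zpow i j).mul_pow, ← zpow_natCast, ← zpow_natCast,
      ← zpow_mul, ← zpow_mul, mul_comm i, mul_comm j, zpow_mul, zpow_mul, zpow_natCast,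
      zpow_natCast, hx3, hy3, one_zpow, one_zpow, mul_one]
    rfl
  obtain ⟨k, hk⟩ := (IsPGroup.iff_card).1 hP
  have hxo : orderOf x = 3 := orderOf_eq_prime hx3 hx
  have hle : Subgroup.zpowers x ≤ pairSubgroup x y h := by
    rw [Subgroup.zpowers_le]
    exact ⟨1, 0, by simp⟩
  have hymem : y ∈ pairSubgroup x y h := ⟨0, 1, by simp⟩
  have hynot : y ∉ Subgroup.zpowers x := by
    classical
    rw [mem_zpowers_iff_mem_range_orderOf, hxo]
    simp only [Finset.mem_image, Finset.mem_range, not_exists, not_and]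
    intro i hi e
    interval_cases i
    · exact hy1 (by rw [← e, pow_zero])
    · exact hyx (by rw [← e, pow_one])
    · exact hyx2 e.symm
  have hk2 : 2 ≤ k := by
    by_contra hlt
    have hk1 : k ≤ 1 := by omega
    have hc : Nat.card (pairSubgroup x y h) ≤ Nat.card (Subgroup.zpowers x) := by
      rw [hk, Nat.card_zpowers, hxo]
      calc 3 ^ k ≤ 3 ^ 1 := Nat.pow_le_pow_right (by norm_num) hk1
        _ = 3 := by norm_num
    have := Subgroup.eq_of_le_of_card_ge hle hc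
    apply hynot
    rw [this]
    exact hymem
  intro h3
  apply h27
  have h9 : 9 ∣ Nat.card (pairSubgroup x y h) := by
    rw [hk]
    exact (show 9 = 3 ^ 2 by norm_num) ▸ Nat.pow_dvd_pow 3 hk2
  rw [← Subgroup.card_mul_index (pairSubgroup x y h)]
  exact (show 27 = 9 * 3 by norm_num) ▸ Nat.mul_dvd_mul h9 h3

end Cfsg.Agent.Helper29.StemSylow
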