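import Mathlib
import Cfsg.Agent.Lib.Helper29.StemSylow
import Cfsg.Agent.Lib.Helper29.FusM11
import Cfsg.Agent.Lib.Helper29.M24Dodecad2
import Cfsg.Agent.Lib.Helper29.M24Classes
import Cfsg.Agent.Lib.Helper20.Schur

set_option autoImplicit false
open Cfsg

namespace Cfsg.Agent.Helper29.SchurM11

open Cfsg.Agent.Helper27 Cfsg.Agent.Helper29 Cfsg.Agent.Helper29.M24
open Cfsg.Agent.Helper29.FusCert Cfsg.Agent.Helper29.Syl2 Cfsg.Agent.Helper29.FusPt
open Cfsg.Agent.Helper29.FusM11 (Q11 gt qt QL ctx coreN mem_M11_of)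
open Cfsg.Agent.Helper29.StemSylow
open Cfsg.Agent.S0358 (idx)
open scoped Pointwise

/-! ### The order of the small Mathieu group -/

theorem squareDodecad_mem : Cfsg.Spor.squareDodecad ∈ Cfsg.dodecads := by
  refine ⟨⟨Cfsg.qrWord 0, qrWord_mem 0, rfl⟩, ?_⟩
  unfold Cfsg.Spor.squareDodecad
  rw [qrWord_eq_ofMask 0, ← maskSet_eq_support₂, card_maskSet]
  decide +kernel

theorem zero_mem_sq : (some 0 : GolayPt) ∈ Cfsg.Spor.squareDodecad := by decide +kernel

theorem card_M11 : Nat.card ↥Cfsg.Spor.M11 = 7920 := by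
  have h1 := card_stab_dodecad_point Cfsg.Spor.squareDodecad squareDodecad_mem (some 0)
    zero_mem_sq
  have h2 : (MulAction.stabilizer M24 Cfsg.Spor.squareDodecad ⊓
      MulAction.stabilizer M24 (some 0 : GolayPt)).map M24.subtype = Cfsg.Spor.M11 := by
    ext g
    rw [Subgroup.mem_map]
    constructor
    · rintro ⟨⟨g', hg'⟩, hk, rfl⟩
      obtain ⟨hk1, hk2⟩ := Subgroup.mem_inf.1 hk
      refine Subgroup.mem_inf.2 ⟨Subgroup.mem_inf.2 ⟨hg', ?_⟩, ?_⟩
      · exact MulAction.mem_stabilizer_iff.2 (MulAction.mem_stabilizer_iff.1 hk1)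
      · exact MulAction.mem_stabilizer_iff.2 (MulAction.mem_stabilizer_iff.1 hk2)
    · intro hg
      obtain ⟨hM12, hs0⟩ := Subgroup.mem_inf.1 hg
      obtain ⟨hM24, hsD⟩ := Subgroup.mem_inf.1 hM12
      refine ⟨⟨g, hM24⟩, Subgroup.mem_inf.2 ⟨?_, ?_⟩, rfl⟩
      · exact MulAction.mem_stabilizer_iff.2 (MulAction.mem_stabilizer_iff.1 hsD)
      · exact MulAction.mem_stabilizer_iff.2 (MulAction.mem_stabilizer_iff.1 hs0)
  rw [← h2, Subgroup.card_map_of_injective (Subgroup.subtype_injective _)]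
  exact h1

/-! ### Equality of words -/

/-- two words act in the same way -/
def weq (W V : List ℕ) : Bool :=
  W.all (fun j => decide (j < ngen)) && V.all (fun j => decide (j < ngen)) &&
    (List.range 24).all fun x => Nat.beq (appW W x) (appW V x)

theorem evalW_eq_of_weq (W V : List ℕ) (h : weq W V = true) : evalW W = evalW V := by
  unfold weq at h
  simp only [Bool.and_eq_true, List.all_eq_true, decide_eq_true_eq, List.mem_range] at h
  obtain ⟨⟨h1, h2⟩, h3⟩ := h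
  exact evalW_eq_of_appW W V h1 h2 (fun x hx => Nat.eq_of_beq_eq_true (h3 x hx))

theorem evalW_eq_of_eqC (c d : ℕ) (W V : List ℕ) (hc : Repr c W) (hd : Repr d V)
    (h : eqC c d = true) : evalW W = evalW V := by
  apply evalW_eq_of_appW W V hc.1 hd.1
  intro x hx
  unfold eqC at h
  rw [List.all_eq_true] at h
  have h1 := h x (List.mem_range.2 hx)
  rw [← hc.2 x hx, ← hd.2 x hx, ← appF_eq, ← appF_eq]
  exact Nat.eq_of_beq_eq_true h1

/-! ### The explicit elements -/

def Wa : List ℕ := [2, 0, 0, 2, 0, 1, 2, 2, 2, 0, 2, 0, 3, 3, 2, 5, 4, 4, 4, 5, 6, 6, 8, 12, 11, 10, 9]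

def ca : ℕ := 425392702613757505799707065917539392

def Wb : List ℕ := [2, 2, 2, 4, 4, 4, 5, 6, 6, 7, 6, 8]

def cb : ℕ := 984642754306893001986305023279301696

def Wx : List ℕ := [2, 1, 0, 1, 3, 3, 4, 5, 4, 5, 4, 6, 6, 6, 8, 9]

def cx : ℕ := 594828054250596267137404573885665792

def Wy : List ℕ := [3, 2, 4, 5, 4, 8, 8, 11, 9]

def cy : ℕ := 969077489916502254098451918490835040

def Wn : List ℕ := [3, 2, 4, 6, 8, 8, 12, 10, 9]

def cn : ℕ := 983549310955746530506231437997410400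

theorem reprs : Repr ca Wa ∧ Repr cb Wb ∧ Repr cx Wx ∧ Repr cy Wy ∧ Repr cn Wn := by
  decide +kernel

theorem gts : gt ca = true ∧ gt cb = true ∧ gt cx = true ∧ gt cy = true ∧ gt cn = true := by
  decide +kernel

def A : Equiv.Perm GolayPt := evalW Wa
def B : Equiv.Perm GolayPt := evalW Wb
def X : Equiv.Perm GolayPt := evalW Wx
def Y : Equiv.Perm GolayPt := evalW Wy
def N : Equiv.Perm GolayPt := evalW Wn

theorem A_mem : A ∈ Cfsg.Spor.M11 := mem_M11_of Wa ca reprs.1 gts.1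
theorem B_mem : B ∈ Cfsg.Spor.M11 := mem_M11_of Wb cb reprs.2.1 gts.2.1
theorem X_mem : X ∈ Cfsg.Spor.M11 := mem_M11_of Wx cx reprs.2.2.1 gts.2.2.1
theorem Y_mem : Y ∈ Cfsg.Spor.M11 := mem_M11_of Wy cy reprs.2.2.2.1 gts.2.2.2.1
theorem N_mem : N ∈ Cfsg.Spor.M11 := mem_M11_of Wn cn reprs.2.2.2.2 gts.2.2.2.2

theorem A_pow8 : A ^ 8 = 1 := by
  have h := evalW_eq_of_weq (FusCert.powW Wa 8) [] (by decide +kernel)
  rw [FusCert.evalW_powW, evalW_nil] at h
  exact h

theorem A_pow4 : A ^ 4 ≠ 1 := by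
  have h := FusPt.evalW_ne_one (FusCert.powW Wa 4) (powC ca 4) (repr_powC ca Wa reprs.1 4) 3
    (by norm_num) (by decide +kernel)
  rw [FusCert.evalW_powW] at h
  exact h

theorem B_sq : B * B = 1 := by
  have h := evalW_eq_of_weq (Wb ++ Wb) [] (by decide +kernel)
  rw [evalW_append, evalW_nil] at h
  exact h

theorem B_A : B * A * B⁻¹ = A ^ 3 := by
  have h := evalW_eq_of_weq (Wb ++ Wa) (FusCert.powW Wa 3 ++ Wb) (by decide +kernel)
  rw [evalW_append, evalW_append, FusCert.evalW_powW] at h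
  show evalW Wb * evalW Wa * (evalW Wb)⁻¹ = evalW Wa ^ 3
  rw [h]
  group

theorem Q11_check : (QL.all fun q => (List.range 8).any fun i =>
    eqC q.2 (powC ca i) || eqC q.2 (compF (powC ca i) cb)) = true := by decide +kernel

theorem Q11_struct (g : Equiv.Perm GolayPt) (hg : g ∈ Q11) :
    ∃ i : ℕ, g = A ^ i ∨ g = A ^ i * B := by
  obtain ⟨q, hq, hr, rfl⟩ := ctx.hQL g hg
  have h := Q11_check
  rw [List.all_eq_true] at h
  have h1 := h q hq
  rw [List.any_eq_true] at h1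
  obtain ⟨i, -, hi⟩ := h1
  refine ⟨i, ?_⟩
  rw [Bool.or_eq_true] at hi
  have hri := repr_powC ca Wa reprs.1 i
  rcases hi with hi | hi
  · left
    rw [evalW_eq_of_eqC _ _ _ _ hr hri hi, FusCert.evalW_powW]
    rfl
  · right
    rw [evalW_eq_of_eqC _ _ _ _ hr (repr_compF _ _ _ _ hri reprs.2.1) hi, evalW_append,
      FusCert.evalW_powW]
    rfl

theorem X_pow3 : X ^ 3 = 1 := by
  have h := evalW_eq_of_weq (FusCert.powW Wx 3) [] (by decide +kernel)
  rw [FusCert.evalW_powW, evalW_nil] at h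
  exact h

theorem Y_pow3 : Y ^ 3 = 1 := by
  have h := evalW_eq_of_weq (FusCert.powW Wy 3) [] (by decide +kernel)
  rw [FusCert.evalW_powW, evalW_nil] at h
  exact h

theorem X_Y : X * Y = Y * X := by
  have h := evalW_eq_of_weq (Wx ++ Wy) (Wy ++ Wx) (by decide +kernel)
  rw [evalW_append, evalW_append] at h
  exact h

theorem N_X : N * X * N⁻¹ = X := by
  have h := evalW_eq_of_weq (Wn ++ Wx) (Wx ++ Wn) (by decide +kernel)
  rw [evalW_append, evalW_append] at h
  show evalW Wn * evalW Wx * (evalW Wn)⁻¹ = evalW Wx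
  rw [h]
  group

theorem N_Y : N * Y * N⁻¹ = Y⁻¹ := by
  have h := evalW_eq_of_weq (Wy ++ (Wn ++ Wy)) Wn (by decide +kernel)
  rw [evalW_append, evalW_append] at h
  show evalW Wn * evalW Wy * (evalW Wn)⁻¹ = (evalW Wy)⁻¹
  have h2 : evalW Wn * evalW Wy = (evalW Wy)⁻¹ * evalW Wn := by
    rw [eq_inv_mul_iff_mul_eq]
    exact h
  rw [h2]
  group

theorem X_ne : X ≠ 1 :=
  FusPt.evalW_ne_one Wx cx reprs.2.2.1 1 (by norm_num) (by decide +kernel)

theorem Y_ne : Y ≠ 1 :=
  FusPt.evalW_ne_one Wy cy reprs.2.2.2.1 1 (by norm_num) (by decide +kernel)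

theorem Y_ne_X : Y ≠ X := by
  intro e
  have h := eqC_of_evalW_eq cy cx Wy Wx reprs.2.2.2.1 reprs.2.2.1 e
  revert h
  decide +kernel

theorem Y_ne_X2 : Y ≠ X ^ 2 := by
  intro e
  have e' : evalW Wy = evalW (Wx ++ Wx) := by
    rw [evalW_append, ← pow_two]
    exact e
  have h := eqC_of_evalW_eq cy (compF cx cx) Wy (Wx ++ Wx) reprs.2.2.2.1
    (repr_compF _ _ _ _ reprs.2.2.1 reprs.2.2.1) e'
  revert h
  decide +kernel

/-! ### The Sylow 2-subgroup -/

theorem sylow2 : ∃ S : Sylow 2 ↥Cfsg.Spor.M11,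
    (S : Subgroup ↥Cfsg.Spor.M11) = Q11.subgroupOf Cfsg.Spor.M11 := by
  have : Fact (Nat.Prime 2) := ⟨Nat.prime_two⟩
  apply exists_sylow_eq_of_selfNormalizing 2
  · intro g
    refine ⟨3, ?_⟩
    apply Subtype.ext
    apply Subtype.ext
    have := ctx.hpow g.1.1 (Subgroup.mem_subgroupOf.1 g.2)
    simpa using this
  · intro n hn
    rw [Subgroup.mem_subgroupOf]
    apply coreN _ n.2
    intro x hx
    have := hn ⟨x, ctx.hQG hx⟩ (Subgroup.mem_subgroupOf.2 hx)
    rw [Subgroup.mem_subgroupOf] at this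
    exact this

def aG : ↥Cfsg.Spor.M11 := ⟨A, A_mem⟩
def bG : ↥Cfsg.Spor.M11 := ⟨B, B_mem⟩
def xG : ↥Cfsg.Spor.M11 := ⟨X, X_mem⟩
def yG : ↥Cfsg.Spor.M11 := ⟨Y, Y_mem⟩
def nG : ↥Cfsg.Spor.M11 := ⟨N, N_mem⟩

theorem not_sq_dvd (p : ℕ) (hp : p.Prime) (h2 : p ≠ 2) (h3 : p ≠ 3) : ¬ p ^ 2 ∣ 7920 := by
  intro hd
  have h1 : p ∣ 2 ^ 4 * 3 ^ 2 * 5 * 11 := (dvd_pow_self p (by norm_num)).trans hd
  rcases (Nat.Prime.dvd_mul hp).1 h1 with h | h
  · rcases (Nat.Prime.dvd_mul hp).1 h with h | h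
    · rcases (Nat.Prime.dvd_mul hp).1 h with h | h
      · exact h2 ((Nat.prime_dvd_prime_iff_eq hp Nat.prime_two).1 (hp.dvd_of_dvd_pow h))
      · exact h3 ((Nat.prime_dvd_prime_iff_eq hp Nat.prime_three).1 (hp.dvd_of_dvd_pow h))
    · have := (Nat.prime_dvd_prime_iff_eq hp Nat.prime_five).1 h
      subst this
      revert hd
      decide
  · have := (Nat.prime_dvd_prime_iff_eq hp (by norm_num : Nat.Prime 11)).1 h
    subst this
    revert hd
    decide

/-- every finite stem extension of the small Mathieu group is an isomorphism -/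
theorem ker_eq_bot (Γ : Type) [Group Γ] [Finite Γ] (σ : Γ →* ↥Cfsg.Spor.M11)
    (hσ : Cfsg.IsStemExtension σ) : σ.ker = ⊥ := by
  obtain ⟨hs, hK, hK'⟩ := hσ
  apply ker_eq_bot_of_local σ hs hK hK'
  intro p hp
  by_cases h2 : p = 2
  · subst h2
    have : Fact (Nat.Prime 2) := ⟨Nat.prime_two⟩
    obtain ⟨S, hS⟩ := sylow2
    refine ⟨S, S.not_dvd_index, ?_⟩
    obtain ⟨a, ha⟩ := hs aG
    obtain ⟨b, hb⟩ := hs bG
    apply comm_inf_ker_of_sd σ hK _ a b
    · rw [ha]
      apply Subtype.ext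
      exact A_pow8
    · rw [ha]
      intro h
      exact A_pow4 (congrArg Subtype.val h)
    · rw [hb]
      apply Subtype.ext
      exact B_sq
    · rw [ha, hb]
      apply Subtype.ext
      exact B_A
    · intro u hu
      have h1 : (σ u : Equiv.Perm GolayPt) ∈ Q11 := by
        have h0 : σ u ∈ (S : Subgroup ↥Cfsg.Spor.M11) := hu
        rw [hS] at h0
        exact Subgroup.mem_subgroupOf.1 h0
      obtain ⟨i, hi⟩ := Q11_struct _ h1
      refine ⟨(i : ℤ), ?_⟩
      rw [ha, hb, zpow_natCast]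
      rcases hi with hi | hi
      · left
        apply Subtype.ext
        rw [hi]
        rfl
      · right
        apply Subtype.ext
        rw [hi]
        rfl
  by_cases h3 : p = 3
  · subst h3
    have hxy : Commute xG yG := Subtype.ext X_Y
    refine ⟨pairSubgroup xG yG hxy, ?_, ?_⟩
    · apply not_dvd_index_pair xG yG hxy
      · exact Subtype.ext X_pow3
      · exact Subtype.ext Y_pow3
      · intro h
        exact X_ne (congrArg Subtype.val h)
      · intro h
        exact Y_ne (congrArg Subtype.val h)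
      · intro h
        exact Y_ne_X (congrArg Subtype.val h)
      · intro h
        exact Y_ne_X2 (congrArg Subtype.val h)
      · rw [card_M11]
        decide
    · obtain ⟨x, hx⟩ := hs xG
      obtain ⟨y, hy⟩ := hs yG
      obtain ⟨n, hn⟩ := hs nG
      have hb := comm_eq_bot_of_three σ hK ((pairSubgroup xG yG hxy).comap σ) x y n
        (by rw [hx]; exact Subtype.ext X_pow3)
        (by rw [hx, hy]; exact Subtype.ext X_Y)
        (by rw [hx, hn]; exact Subtype.ext N_X)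
        (by rw [hy, hn]; exact Subtype.ext N_Y)
        (by
          intro u hu
          obtain ⟨i, j, hij⟩ := (mem_pairSubgroup xG yG hxy (σ u)).1 hu
          exact ⟨i, j, by rw [hx, hy]; exact hij⟩)
      intro k hk _
      rw [hb] at hk
      exact Subgroup.mem_bot.1 hk
  · apply local_of_not_sq_dvd σ hs hK p hp
    rw [card_M11]
    exact not_sq_dvd p hp h2 h3

end Cfsg.Agent.Helper29.SchurM11
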