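import Mathlib
import Cfsg.Agent.Lib.Helper29.StemSylow

set_option autoImplicit false

namespace Cfsg.Agent.Helper29.StemSplit

open Cfsg.Agent.Helper29.StemSylow
open scoped commutatorElement

variable {Γ : Type*} [Group Γ] {G : Type*} [Group G]

/-- the preimage of a subgroup generated by a set of images is generated by the preimages and
the kernel -/
theorem comap_closure_le (σ : Γ →* G) (S : Set G) (hS : ∀ s ∈ S, ∃ a, σ a = s) :
    (Subgroup.closure S).comap σ ≤ Subgroup.closure (σ ⁻¹' S ∪ (σ.ker : Set Γ)) := by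
  have h1 : Subgroup.closure S ≤ (Subgroup.closure (σ ⁻¹' S ∪ (σ.ker : Set Γ))).map σ := by
    rw [Subgroup.closure_le]
    intro s hs
    obtain ⟨a, rfl⟩ := hS s hs
    exact ⟨a, Subgroup.subset_closure (Or.inl hs), rfl⟩
  have h2 : σ.ker ≤ Subgroup.closure (σ ⁻¹' S ∪ (σ.ker : Set Γ)) := by
    intro x hx
    exact Subgroup.subset_closure (Or.inr hx)
  calc (Subgroup.closure S).comap σ
      ≤ ((Subgroup.closure (σ ⁻¹' S ∪ (σ.ker : Set Γ))).map σ).comap σ :=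
        Subgroup.comap_mono h1
    _ = Subgroup.closure (σ ⁻¹' S ∪ (σ.ker : Set Γ)) ⊔ σ.ker := Subgroup.comap_map_eq _ _
    _ = Subgroup.closure (σ ⁻¹' S ∪ (σ.ker : Set Γ)) := sup_eq_left.2 h2

/-- if generators have commuting lifts, the whole preimage is abelian -/
theorem comm_comap_closure (σ : Γ →* G) (hK : σ.ker ≤ Subgroup.center Γ) (S : Set G)
    (hS : ∀ s ∈ S, ∀ t ∈ S, ∃ a b, σ a = s ∧ σ b = t ∧ a * b = b * a) :
    ∀ u ∈ (Subgroup.closure S).comap σ, ∀ v ∈ (Subgroup.closure S).comap σ, u * v = v * u := by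
  have hS' : ∀ s ∈ S, ∃ a, σ a = s := by
    intro s hs
    obtain ⟨a, -, ha, -, -⟩ := hS s hs s hs
    exact ⟨a, ha⟩
  have hle := comap_closure_le σ S hS'
  have hc : ∀ s ∈ σ ⁻¹' S ∪ (σ.ker : Set Γ), ∀ t ∈ σ ⁻¹' S ∪ (σ.ker : Set Γ), s * t = t * s := by
    intro s hs t ht
    rcases hs with hs | hs
    · rcases ht with ht | ht
      · obtain ⟨a, b, ha, hb, hab⟩ := hS _ hs _ ht
        obtain ⟨κ, hκ, rfl⟩ := exists_ker_mul σ s a ha.symm
        obtain ⟨μ, hμ, rfl⟩ := exists_ker_mul σ t b hb.symm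
        have c1 := central_comm σ hK hκ
        have c2 := central_comm σ hK hμ
        calc a * κ * (b * μ) = a * (κ * b) * μ := by group
          _ = a * (b * κ) * μ := by rw [c1 b]
          _ = (a * b) * (κ * μ) := by group
          _ = (b * a) * (μ * κ) := by rw [hab, c1 μ]
          _ = b * (a * μ) * κ := by group
          _ = b * (μ * a) * κ := by rw [c2 a]
          _ = b * μ * (a * κ) := by group
      · exact (central_comm σ hK ht s)
    · exact (central_comm σ hK hs t).symm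
  intro u hu v hv
  exact comm_of_closure hc u (hle hu) v (hle hv)

/-- fusion kills the commutator pairing: if `(u, v)` is conjugate both to `(u, v w)` and to
`(u, w)`, lifts of `u` and `v` commute -/
theorem comm_of_fusion (σ : Γ →* G) (hK : σ.ker ≤ Subgroup.center Γ) (u v w g₁ g₂ : Γ)
    (huv : σ u * σ v = σ v * σ u) (huw : σ u * σ w = σ w * σ u)
    (h1u : σ g₁ * σ u * (σ g₁)⁻¹ = σ u) (h1v : σ g₁ * σ v * (σ g₁)⁻¹ = σ v * σ w)
    (h2u : σ g₂ * σ u * (σ g₂)⁻¹ = σ u) (h2v : σ g₂ * σ v * (σ g₂)⁻¹ = σ w) :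
    u * v = v * u := by
  have hbK : ⁅u, v⁆ ∈ σ.ker := by
    rw [MonoidHom.mem_ker, map_commutatorElement, commutatorElement_def, huv]; group
  have hb'K : ⁅u, w⁆ ∈ σ.ker := by
    rw [MonoidHom.mem_ker, map_commutatorElement, commutatorElement_def, huw]; group
  have cb := central_comm σ hK hbK
  have cb' := central_comm σ hK hb'K
  -- conjugation by `g₁`
  obtain ⟨κ₁, hκ₁, e1⟩ := exists_ker_mul σ (g₁ * u * g₁⁻¹) u (by
    rw [map_mul, map_mul, map_inv]; exact h1u)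
  obtain ⟨κ₂, hκ₂, e2⟩ := exists_ker_mul σ (g₁ * v * g₁⁻¹) (v * w) (by
    rw [map_mul, map_mul, map_inv, map_mul]; exact h1v)
  obtain ⟨κ₃, hκ₃, e3⟩ := exists_ker_mul σ (g₂ * u * g₂⁻¹) u (by
    rw [map_mul, map_mul, map_inv]; exact h2u)
  obtain ⟨κ₄, hκ₄, e4⟩ := exists_ker_mul σ (g₂ * v * g₂⁻¹) w (by
    rw [map_mul, map_mul, map_inv]; exact h2v)
  have f1 : ⁅u, v⁆ = ⁅u, v * w⁆ := by
    have : g₁ * ⁅u, v⁆ * g₁⁻¹ = ⁅u, v⁆ := by rw [cb g₁]; group
    rw [← this, conjugate_commutatorElement, e1, e2,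
      comm_central_left (central_comm σ hK hκ₁), comm_central_right (central_comm σ hK hκ₂)]
  have f2 : ⁅u, v⁆ = ⁅u, w⁆ := by
    have : g₂ * ⁅u, v⁆ * g₂⁻¹ = ⁅u, v⁆ := by rw [cb g₂]; group
    rw [← this, conjugate_commutatorElement, e3, e4,
      comm_central_left (central_comm σ hK hκ₃), comm_central_right (central_comm σ hK hκ₄)]
  have f3 : ⁅u, v * w⁆ = ⁅u, v⁆ * ⁅u, w⁆ := by
    have e : ⁅u, v * w⁆ = ⁅u, v⁆ * (v * ⁅u, w⁆ * v⁻¹) := by
      rw [commutatorElement_def, commutatorElement_def, commutatorElement_def]; group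
    rw [e, cb' v]; group
  have f4 : ⁅u, v⁆ = 1 := by
    have h : ⁅u, v⁆ = ⁅u, v⁆ * ⁅u, v⁆ := by
      calc ⁅u, v⁆ = ⁅u, v * w⁆ := f1
        _ = ⁅u, v⁆ * ⁅u, w⁆ := f3
        _ = ⁅u, v⁆ * ⁅u, v⁆ := by rw [← f2]
    exact (mul_eq_left.1 h.symm)
  exact (commutatorElement_eq_one_iff_mul_comm.1 f4)

/-- commuting lifts are transported by conjugation -/
theorem comm_of_conj (σ : Γ →* G) (hK : σ.ker ≤ Subgroup.center Γ) (u v a b h : Γ)
    (huv : u * v = v * u) (ha : σ h * σ u * (σ h)⁻¹ = σ a) (hb : σ h * σ v * (σ h)⁻¹ = σ b) :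
    a * b = b * a := by
  obtain ⟨κ₁, hκ₁, e1⟩ := exists_ker_mul σ a (h * u * h⁻¹) (by
    rw [map_mul, map_mul, map_inv]; exact ha.symm)
  obtain ⟨κ₂, hκ₂, e2⟩ := exists_ker_mul σ b (h * v * h⁻¹) (by
    rw [map_mul, map_mul, map_inv]; exact hb.symm)
  have f : ⁅a, b⁆ = 1 := by
    rw [e1, e2, comm_central_left (central_comm σ hK hκ₁),
      comm_central_right (central_comm σ hK hκ₂), ← conjugate_commutatorElement,
      commutatorElement_eq_one_iff_mul_comm.2 huv]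
    group
  exact commutatorElement_eq_one_iff_mul_comm.1 f

/-! ### The complement of the kernel given by a fixed point free automorphism -/

section compl

variable (σ : Γ →* G) (E : Subgroup G) (z : Γ)
  (hE : ∀ u ∈ E.comap σ, ∀ v ∈ E.comap σ, u * v = v * u)
  (hz : ∀ u ∈ E, σ z * u * (σ z)⁻¹ ∈ E)

include hz in
theorem conj_mem_comap {u : Γ} (hu : u ∈ E.comap σ) : z * u * z⁻¹ ∈ E.comap σ := by
  rw [Subgroup.mem_comap, map_mul, map_mul, map_inv]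
  exact hz _ hu

include hz in
theorem comm_mem_comap {u : Γ} (hu : u ∈ E.comap σ) : ⁅u, z⁆ ∈ E.comap σ := by
  have : ⁅u, z⁆ = u * (z * u⁻¹ * z⁻¹) := by rw [commutatorElement_def]; group
  rw [this]
  exact Subgroup.mul_mem _ hu (conj_mem_comap σ E z hz (Subgroup.inv_mem _ hu))

include hE hz in
theorem comm_mul_of_abelian {u v : Γ} (hu : u ∈ E.comap σ) (hv : v ∈ E.comap σ) :
    ⁅u * v, z⁆ = ⁅u, z⁆ * ⁅v, z⁆ := by
  have h1 : ⁅u * v, z⁆ = u * ⁅v, z⁆ * (z * u⁻¹ * z⁻¹) := by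
    rw [commutatorElement_def, commutatorElement_def]; group
  have h2 : ⁅u, z⁆ = u * (z * u⁻¹ * z⁻¹) := by rw [commutatorElement_def]; group
  have h3 := hE _ (comm_mem_comap σ E z hz hv) _
    (conj_mem_comap σ E z hz (Subgroup.inv_mem _ hu))
  rw [h1, h2, mul_assoc, h3]
  group

/-- the set of commutators with `z` of the elements over `E` -/
def fpfCompl : Subgroup Γ where
  carrier := {e | ∃ u ∈ E.comap σ, e = ⁅u, z⁆}
  mul_mem' := by
    rintro _ _ ⟨u, hu, rfl⟩ ⟨v, hv, rfl⟩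
    exact ⟨u * v, Subgroup.mul_mem _ hu hv, (comm_mul_of_abelian σ E z hE hz hu hv).symm⟩
  one_mem' := ⟨1, Subgroup.one_mem _, by simp⟩
  inv_mem' := by
    rintro _ ⟨u, hu, rfl⟩
    refine ⟨u⁻¹, Subgroup.inv_mem _ hu, ?_⟩
    have h := comm_mul_of_abelian σ E z hE hz (Subgroup.inv_mem _ hu) hu
    rw [inv_mul_cancel, commutatorElement_one_left] at h
    exact (eq_inv_of_mul_eq_one_left h.symm).symm

theorem mem_fpfCompl (e : Γ) :
    e ∈ fpfCompl σ E z hE hz ↔ ∃ u ∈ E.comap σ, e = ⁅u, z⁆ := Iff.rfl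

theorem fpfCompl_le : fpfCompl σ E z hE hz ≤ E.comap σ := by
  rintro _ ⟨u, hu, rfl⟩
  exact comm_mem_comap σ E z hz hu

/-- the complement meets the kernel trivially -/
theorem fpfCompl_inf_ker (hK : σ.ker ≤ Subgroup.center Γ)
    (hfpf : ∀ u ∈ E, σ z * u * (σ z)⁻¹ = u → u = 1) (e : Γ)
    (he : e ∈ fpfCompl σ E z hE hz) (heK : e ∈ σ.ker) : e = 1 := by
  obtain ⟨u, hu, rfl⟩ := he
  rw [MonoidHom.mem_ker, map_commutatorElement, commutatorElement_def] at heK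
  have h1 : σ z * (σ u)⁻¹ * (σ z)⁻¹ = (σ u)⁻¹ := by
    calc σ z * (σ u)⁻¹ * (σ z)⁻¹ = (σ u)⁻¹ * (σ u * σ z * (σ u)⁻¹ * (σ z)⁻¹) := by group
      _ = (σ u)⁻¹ := by rw [heK, mul_one]
  have h2 := hfpf _ (Subgroup.inv_mem _ hu) h1
  rw [inv_eq_one] at h2
  have h3 : u ∈ σ.ker := h2
  have h4 := central_comm σ hK h3 z
  rw [commutatorElement_def, ← h4]
  group

/-- every element over `E` is the product of an element of the complement and of the kernel -/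
theorem exists_fpfCompl_mul [Finite G] (hER : ∀ u ∈ E, ∃ a, σ a = u)
    (hfpf : ∀ u ∈ E, σ z * u * (σ z)⁻¹ = u → u = 1) (v : Γ) (hv : v ∈ E.comap σ) :
    ∃ e ∈ fpfCompl σ E z hE hz, ∃ κ ∈ σ.ker, v = e * κ := by
  let f : E → E := fun u => ⟨u.1 * (σ z * u.1⁻¹ * (σ z)⁻¹),
    Subgroup.mul_mem _ u.2 (hz _ (Subgroup.inv_mem _ u.2))⟩
  have hinj : Function.Injective f := by
    intro u v huv
    have h1 : u.1 * (σ z * u.1⁻¹ * (σ z)⁻¹) = v.1 * (σ z * v.1⁻¹ * (σ z)⁻¹) :=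
      congrArg Subtype.val huv
    have h2 : σ z * (v.1⁻¹ * u.1) * (σ z)⁻¹ = v.1⁻¹ * u.1 := by
      calc σ z * (v.1⁻¹ * u.1) * (σ z)⁻¹
          = (σ z * v.1⁻¹ * (σ z)⁻¹) * (σ z * u.1⁻¹ * (σ z)⁻¹)⁻¹ := by group
        _ = v.1⁻¹ * (v.1 * (σ z * v.1⁻¹ * (σ z)⁻¹)) * (σ z * u.1⁻¹ * (σ z)⁻¹)⁻¹ := by group
        _ = v.1⁻¹ * (u.1 * (σ z * u.1⁻¹ * (σ z)⁻¹)) * (σ z * u.1⁻¹ * (σ z)⁻¹)⁻¹ := by rw [h1]
        _ = v.1⁻¹ * u.1 := by group
    have h3 := hfpf _ (Subgroup.mul_mem _ (Subgroup.inv_mem _ v.2) u.2) h2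
    apply Subtype.ext
    exact (inv_mul_eq_one.1 h3).symm
  have hsurj : Function.Surjective f := Finite.surjective_of_injective hinj
  obtain ⟨u₀, hu₀⟩ := hsurj ⟨σ v, hv⟩
  obtain ⟨u, hu⟩ := hER _ u₀.2
  have huE : u ∈ E.comap σ := by rw [Subgroup.mem_comap, hu]; exact u₀.2
  have h1 : σ v = σ ⁅u, z⁆ := by
    rw [map_commutatorElement, commutatorElement_def, hu]
    have h0 : u₀.1 * (σ z * u₀.1⁻¹ * (σ z)⁻¹) = σ v := congrArg Subtype.val hu₀
    rw [← h0]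
    group
  obtain ⟨κ, hκ, e⟩ := exists_ker_mul σ v ⁅u, z⁆ h1
  exact ⟨_, ⟨u, huE, rfl⟩, κ, hκ, e⟩

/-- an element whose image normalizes `E` and commutes with the image of `z` normalizes the
complement, and its commutators with the elements over `E` lie in the complement -/
theorem conj_mem_fpfCompl (hK : σ.ker ≤ Subgroup.center Γ) (y : Γ)
    (hy : ∀ u ∈ E, σ y * u * (σ y)⁻¹ ∈ E) (hyz : σ y * σ z = σ z * σ y) (e : Γ)
    (he : e ∈ fpfCompl σ E z hE hz) : y * e * y⁻¹ ∈ fpfCompl σ E z hE hz := by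
  obtain ⟨u, hu, rfl⟩ := he
  refine ⟨y * u * y⁻¹, conj_mem_comap σ E y hy hu, ?_⟩
  obtain ⟨κ, hκ, e1⟩ := exists_ker_mul σ (y * z * y⁻¹) z (by
    rw [map_mul, map_mul, map_inv, hyz]; group)
  rw [conjugate_commutatorElement, e1, comm_central_right (central_comm σ hK hκ)]

/-- conjugation by an element moving `z` to an element commuting with `z` -/
theorem conj_mem_fpfCompl' [Finite G] (hK : σ.ker ≤ Subgroup.center Γ)
    (hER : ∀ u ∈ E, ∃ a, σ a = u) (hfpf : ∀ u ∈ E, σ z * u * (σ z)⁻¹ = u → u = 1) (d y : Γ)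
    (hd : ∀ u ∈ E, σ d * u * (σ d)⁻¹ ∈ E) (hy : ∀ u ∈ E, σ y * u * (σ y)⁻¹ ∈ E)
    (hyz : σ y * σ z = σ z * σ y) (hdz : σ d * σ z * (σ d)⁻¹ = σ y) (e : Γ)
    (he : e ∈ fpfCompl σ E z hE hz) : d * e * d⁻¹ ∈ fpfCompl σ E z hE hz := by
  obtain ⟨u, hu, rfl⟩ := he
  obtain ⟨κ, hκ, e1⟩ := exists_ker_mul σ (d * z * d⁻¹) y (by
    rw [map_mul, map_mul, map_inv, hdz])
  have hu' : d * u * d⁻¹ ∈ E.comap σ := conj_mem_comap σ E d hd hu
  obtain ⟨e', he', κ', hκ', e2⟩ := exists_fpfCompl_mul σ E z hE hz hER hfpf _ hu'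
  rw [conjugate_commutatorElement, e1, comm_central_right (central_comm σ hK hκ), e2,
    comm_central_left (central_comm σ hK hκ')]
  have h1 : ⁅e', y⁆ = e' * (y * e'⁻¹ * y⁻¹) := by rw [commutatorElement_def]; group
  rw [h1]
  exact Subgroup.mul_mem _ he'
    (conj_mem_fpfCompl σ E z hE hz hK y hy hyz _ (Subgroup.inv_mem _ he'))

/-- the reduction: the preimage of `E D` has a commutator subgroup meeting the kernel
trivially, if this holds for `D` and the complement is normalized by the preimage of `D` -/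
theorem comm_inf_ker_of_split [Finite G] (hK : σ.ker ≤ Subgroup.center Γ)
    (hER : ∀ u ∈ E, ∃ a, σ a = u) (hfpf : ∀ u ∈ E, σ z * u * (σ z)⁻¹ = u → u = 1)
    (D P : Subgroup G)
    (hDn : ∀ d ∈ D.comap σ, ∀ e ∈ fpfCompl σ E z hE hz, d * e * d⁻¹ ∈ fpfCompl σ E z hE hz)
    (hDc : ∀ c ∈ ⁅D.comap σ, D.comap σ⁆, σ c ∈ E → c = 1)
    (hP : ∀ g ∈ P, ∃ e ∈ E, ∃ d ∈ D, g = e * d) :
    ∀ k ∈ ⁅P.comap σ, P.comap σ⁆, k ∈ σ.ker → k = 1 := by
  have hDD : ⁅D.comap σ, D.comap σ⁆ ≤ D.comap σ := by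
    rw [Subgroup.commutator_le]
    intro g hg h hh
    rw [commutatorElement_def]
    exact Subgroup.mul_mem _ (Subgroup.mul_mem _ (Subgroup.mul_mem _ hg hh)
      (Subgroup.inv_mem _ hg)) (Subgroup.inv_mem _ hh)
  -- the subgroup `E₁ D'`
  let M : Subgroup Γ :=
    { carrier := {g | ∃ e ∈ fpfCompl σ E z hE hz, ∃ c ∈ ⁅D.comap σ, D.comap σ⁆, g = e * c}
      mul_mem' := by
        rintro _ _ ⟨e, he, c, hc, rfl⟩ ⟨e', he', c', hc', rfl⟩
        refine ⟨e * (c * e' * c⁻¹), Subgroup.mul_mem _ he (hDn c (hDD hc) e' he'), c * c',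
          Subgroup.mul_mem _ hc hc', by group⟩
      one_mem' := ⟨1, Subgroup.one_mem _, 1, Subgroup.one_mem _, by group⟩
      inv_mem' := by
        rintro _ ⟨e, he, c, hc, rfl⟩
        refine ⟨c⁻¹ * e⁻¹ * (c⁻¹)⁻¹, hDn c⁻¹ (hDD (Subgroup.inv_mem _ hc)) _
          (Subgroup.inv_mem _ he), c⁻¹, Subgroup.inv_mem _ hc, by group⟩ }
  have hE₁M : ∀ e ∈ fpfCompl σ E z hE hz, e ∈ M := fun e he =>
    ⟨e, he, 1, Subgroup.one_mem _, by group⟩
  have hD'M : ∀ c ∈ ⁅D.comap σ, D.comap σ⁆, c ∈ M := fun c hc =>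
    ⟨1, Subgroup.one_mem _, c, hc, by group⟩
  -- decomposition of the elements over `P`
  have hdec : ∀ g ∈ P.comap σ, ∃ e ∈ fpfCompl σ E z hE hz, ∃ d ∈ D.comap σ, g = e * d := by
    intro g hg
    obtain ⟨e₀, he₀, d₀, hd₀, h0⟩ := hP _ hg
    obtain ⟨v, hv⟩ := hER _ he₀
    have hvE : v ∈ E.comap σ := by rw [Subgroup.mem_comap, hv]; exact he₀
    obtain ⟨e, he, κ, hκ, e2⟩ := exists_fpfCompl_mul σ E z hE hz hER hfpf v hvE
    refine ⟨e, he, e⁻¹ * g, ?_, by group⟩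
    rw [Subgroup.mem_comap, map_mul, map_inv, h0]
    have h1 : σ e = e₀ := by
      have h2 : σ v = σ e := by rw [e2, map_mul, (MonoidHom.mem_ker).1 hκ, mul_one]
      rw [← h2, hv]
    rw [h1]
    have h3 : e₀⁻¹ * (e₀ * d₀) = d₀ := by group
    rw [h3]
    exact hd₀
  -- conjugates of elements of the complement
  have hconj : ∀ h ∈ P.comap σ, ∀ e ∈ fpfCompl σ E z hE hz,
      h * e * h⁻¹ ∈ fpfCompl σ E z hE hz := by
    intro h hh e he
    obtain ⟨e', he', d', hd', rfl⟩ := hdec h hh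
    have h1 := hDn d' hd' e he
    have h2 : e' * d' * e * (e' * d')⁻¹ = e' * (d' * e * d'⁻¹) * e'⁻¹ := by group
    rw [h2]
    exact Subgroup.mul_mem _ (Subgroup.mul_mem _ he' h1) (Subgroup.inv_mem _ he')
  have hle : ⁅P.comap σ, P.comap σ⁆ ≤ M := by
    rw [Subgroup.commutator_le]
    intro g hg h hh
    obtain ⟨e, he, d, hd, rfl⟩ := hdec g hg
    obtain ⟨e', he', d', hd', rfl⟩ := hdec h hh
    have i1 : ⁅e * d, e' * d'⁆ = e * ⁅d, e' * d'⁆ * e⁻¹ * ⁅e, e' * d'⁆ := by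
      simp only [commutatorElement_def]; group
    have i2 : ⁅d, e' * d'⁆ = ⁅d, e'⁆ * (e' * ⁅d, d'⁆ * e'⁻¹) := by
      simp only [commutatorElement_def]; group
    have m1 : ⁅d, e'⁆ ∈ M := by
      have : ⁅d, e'⁆ = d * e' * d⁻¹ * e'⁻¹ := commutatorElement_def _ _
      rw [this]
      exact hE₁M _ (Subgroup.mul_mem _ (hDn d hd e' he') (Subgroup.inv_mem _ he'))
    have m2 : ⁅d, d'⁆ ∈ M := hD'M _ (Subgroup.commutator_mem_commutator hd hd')
    have m3 : ⁅e, e' * d'⁆ ∈ M := by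
      have : ⁅e, e' * d'⁆ = e * ((e' * d') * e⁻¹ * (e' * d')⁻¹) := by
        rw [commutatorElement_def]; group
      rw [this]
      exact hE₁M _ (Subgroup.mul_mem _ he (hconj _ hh _ (Subgroup.inv_mem _ he)))
    rw [i1, i2]
    exact Subgroup.mul_mem _ (Subgroup.mul_mem _ (Subgroup.mul_mem _ (hE₁M e he)
      (Subgroup.mul_mem _ m1 (Subgroup.mul_mem _ (Subgroup.mul_mem _ (hE₁M e' he') m2)
        (Subgroup.inv_mem _ (hE₁M e' he'))))) (Subgroup.inv_mem _ (hE₁M e he))) m3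
  intro k hk hkK
  obtain ⟨e, he, c, hc, rfl⟩ := hle hk
  have heE : σ e ∈ E := fpfCompl_le σ E z hE hz he
  have h1 : σ c = (σ e)⁻¹ := by
    rw [MonoidHom.mem_ker, map_mul] at hkK
    exact (eq_inv_of_mul_eq_one_right hkK)
  have h2 : c = 1 := hDc c hc (by rw [h1]; exact Subgroup.inv_mem _ heE)
  rw [h2, mul_one] at hkK ⊢
  exact fpfCompl_inf_ker σ E z hE hz hK hfpf e he hkK

end compl

/-- a group over a group `⟨a⟩⟨b⟩` with `b a b⁻¹ = a ^ 3` and `b ^ 2 = 1`: all commutators are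
powers of `⁅b, a⁆`, whose square is `⁅b, a ^ 2⁆` -/
theorem twist_core (σ : Γ →* G) (hK : σ.ker ≤ Subgroup.center Γ) (H : Subgroup Γ)
    (a b : Γ) (hba : σ b * σ a * (σ b)⁻¹ = σ a ^ 3)
    (hh : ∀ u ∈ H, ∃ i : ℤ, σ u = σ a ^ i ∨ σ u = σ a ^ i * σ b) :
    ⁅H, H⁆ ≤ Subgroup.zpowers ⁅b, a⁆ ∧ σ ⁅b, a⁆ = σ a ^ 2 ∧ ⁅b, a⁆ ^ 2 = ⁅b, a ^ 2⁆ := by
  obtain ⟨c, hc⟩ : ∃ c, c = ⁅b, a⁆ := ⟨_, rfl⟩
  rw [← hc]
  have hbab : b * a * b⁻¹ = c * a := by rw [hc, commutatorElement_def]; group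
  have hσc : σ c = σ a ^ 2 := by
    rw [hc, map_commutatorElement, commutatorElement_def, hba]; group
  obtain ⟨κ₁, hκ₁, e1⟩ := exists_ker_mul σ c (a ^ 2) (by rw [hσc, map_pow])
  have k1 := central_comm σ hK hκ₁
  have hca : Commute c a := by
    show c * a = a * c
    rw [e1, mul_assoc, ← k1 a, ← mul_assoc, ← mul_assoc, ← pow_succ, ← pow_succ']
  have hconj : ∀ z : ℤ, b * a ^ z * b⁻¹ = c ^ z * a ^ z := by
    intro z
    rw [← conj_zpow, hbab, hca.mul_zpow]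
  refine ⟨?_, hσc, ?_⟩
  · rw [Subgroup.commutator_le]
    intro u hu v hv
    obtain ⟨i, hi⟩ := hh u hu
    obtain ⟨m, hm⟩ := hh v hv
    simp only [← map_zpow, ← map_mul] at hi hm
    rcases hi with hi | hi <;> rcases hm with hm | hm
    · obtain ⟨κ, hκ, rfl⟩ := exists_ker_mul σ u _ hi
      obtain ⟨μ, hμ, rfl⟩ := exists_ker_mul σ v _ hm
      rw [comm_central_left (central_comm σ hK hκ), comm_central_right (central_comm σ hK hμ)]
      have : ⁅a ^ i, a ^ m⁆ = 1 := by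
        rw [commutatorElement_eq_one_iff_commute]
        exact Commute.zpow_zpow_self a i m
      rw [this]
      exact Subgroup.one_mem _
    · obtain ⟨κ, hκ, rfl⟩ := exists_ker_mul σ u _ hi
      obtain ⟨μ, hμ, rfl⟩ := exists_ker_mul σ v _ hm
      rw [comm_central_left (central_comm σ hK hκ), comm_central_right (central_comm σ hK hμ),
        ← commutatorElement_inv, comm_twist a b c hca hconj]
      exact Subgroup.inv_mem _ (Subgroup.zpow_mem_zpowers c i)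
    · obtain ⟨κ, hκ, rfl⟩ := exists_ker_mul σ u _ hi
      obtain ⟨μ, hμ, rfl⟩ := exists_ker_mul σ v _ hm
      rw [comm_central_left (central_comm σ hK hκ), comm_central_right (central_comm σ hK hμ),
        comm_twist a b c hca hconj]
      exact Subgroup.zpow_mem_zpowers c m
    · obtain ⟨κ, hκ, rfl⟩ := exists_ker_mul σ u _ hi
      obtain ⟨μ, hμ, rfl⟩ := exists_ker_mul σ v _ hm
      rw [comm_central_left (central_comm σ hK hκ), comm_central_right (central_comm σ hK hμ),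
        comm_twist' a b c hca hconj]
      exact Subgroup.zpow_mem_zpowers c _
  · have h2 := hconj 2
    rw [commutatorElement_def]
    have h3 : b * a ^ 2 * b⁻¹ * (a ^ 2)⁻¹ = b * a ^ (2 : ℤ) * b⁻¹ * (a ^ (2 : ℤ))⁻¹ := by
      rw [zpow_ofNat]
    rw [h3, h2, zpow_ofNat, zpow_ofNat]
    group

/-- the dihedral case: if moreover lifts of `b` and `a ^ 2` commute, the commutators of the
preimage are `1` and `⁅b, a⁆` -/
theorem comm_dihedral (σ : Γ →* G) (hK : σ.ker ≤ Subgroup.center Γ) (H : Subgroup Γ)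
    (a b : Γ) (hba : σ b * σ a * (σ b)⁻¹ = σ a ^ 3) (hcomm : b * a ^ 2 = a ^ 2 * b)
    (hh : ∀ u ∈ H, ∃ i : ℤ, σ u = σ a ^ i ∨ σ u = σ a ^ i * σ b) (E : Subgroup G)
    (ha2 : σ a ^ 2 ∉ E) : ∀ c ∈ ⁅H, H⁆, σ c ∈ E → c = 1 := by
  obtain ⟨h1, h2, h3⟩ := twist_core σ hK H a b hba hh
  have h4 : ⁅b, a⁆ ^ 2 = 1 := by
    rw [h3]
    exact commutatorElement_eq_one_iff_mul_comm.2 hcomm
  intro c hc hcE
  obtain ⟨j, rfl⟩ := Subgroup.mem_zpowers_iff.1 (h1 hc)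
  rcases Int.even_or_odd' j with ⟨t, rfl | rfl⟩
  · rw [zpow_mul, zpow_ofNat, h4, one_zpow]
  · exfalso
    apply ha2
    rw [zpow_add, zpow_mul, zpow_ofNat, h4, one_zpow, one_mul, zpow_one, h2] at hcE
    exact hcE

end Cfsg.Agent.Helper29.StemSplit
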