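import Mathlib
import Cfsg.Agent.Lib.Helper29.StemSplit
import Cfsg.Agent.Lib.Helper29.SchurM11
import Cfsg.Agent.Lib.Helper29.FusM23
import Cfsg.Agent.Lib.Helper29.M24Stab

set_option autoImplicit false
open Cfsg

namespace Cfsg.Agent.Helper29.SchurM23

open Cfsg.Agent.Helper27 Cfsg.Agent.Helper29 Cfsg.Agent.Helper29.M24
open Cfsg.Agent.Helper29.FusCert Cfsg.Agent.Helper29.Syl2 Cfsg.Agent.Helper29.FusPt
open Cfsg.Agent.Helper29.FusM23 (Q23 gt qt QL ctx coreN)
open Cfsg.Agent.Helper29.StemSylow Cfsg.Agent.Helper29.StemSplit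
open Cfsg.Agent.Helper29.SchurM11 (weq evalW_eq_of_weq evalW_eq_of_eqC)
open Cfsg.Agent.S0358 (idx)
open scoped Pointwise

/-! ### Order and Sylow 2-subgroup -/

theorem card_M23 : Nat.card ↥Cfsg.Spor.M23 = 10200960 := by
  have h1 := card_stab_point (none : GolayPt)
  have h2 : (MulAction.stabilizer M24 (none : GolayPt)).map M24.subtype = Cfsg.Spor.M23 := by
    ext g
    rw [Subgroup.mem_map]
    constructor
    · rintro ⟨⟨g', hg'⟩, hk, rfl⟩
      exact Subgroup.mem_inf.2 ⟨hg', MulAction.mem_stabilizer_iff.2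
        (MulAction.mem_stabilizer_iff.1 hk)⟩
    · intro hg
      obtain ⟨h24, hs⟩ := Subgroup.mem_inf.1 hg
      exact ⟨⟨g, h24⟩, MulAction.mem_stabilizer_iff.2 (MulAction.mem_stabilizer_iff.1 hs), rfl⟩
  rw [← h2, Subgroup.card_map_of_injective (Subgroup.subtype_injective _)]
  exact h1

theorem sylow2 : ∃ S : Sylow 2 ↥Cfsg.Spor.M23,
    (S : Subgroup ↥Cfsg.Spor.M23) = Q23.subgroupOf Cfsg.Spor.M23 := by
  have : Fact (Nat.Prime 2) := ⟨Nat.prime_two⟩
  apply exists_sylow_eq_of_selfNormalizing 2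
  · intro g
    refine ⟨3, ?_⟩
    apply Subtype.ext
    apply Subtype.ext
    have := ctx.hpow g.1.1 (Subgroup.mem_subgroupOf.1 g.2)
    simpa using this
  · intro n hn
    rw [Subgroup.mem_subgroupOf]
    apply coreN _ n.2
    intro x hx
    have := hn ⟨x, ctx.hQG hx⟩ (Subgroup.mem_subgroupOf.2 hx)
    rw [Subgroup.mem_subgroupOf] at this
    exact this

/-! ### The elementary abelian subgroup fixing an octad pointwise -/

def mO : ℕ := 8536111

theorem gens_fix : ∀ j < ngen, 6 ≤ depthOf j → ∀ p : GolayPt, mO.testBit (idx p) = true →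
    gfun (gcode j) p = p := by decide +kernel

theorem bpt_mem : ∀ i < 6, mO.testBit (bpt i) = true := by decide +kernel

theorem grp6_fix (u : Equiv.Perm GolayPt) (hu : u ∈ grp 6) (p : GolayPt)
    (hp : p ∈ maskSet mO) : u p = p := by
  let F : Subgroup (Equiv.Perm GolayPt) := MulAction.stabilizer (Equiv.Perm GolayPt) p
  have hle : grp 6 ≤ F := by
    unfold grp
    rw [Subgroup.closure_le]
    rintro g ⟨j, hj, hd, rfl⟩
    show gP j • p = p
    rw [Equiv.Perm.smul_def, gP_apply j hj]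
    exact gens_fix j hj hd p ((mem_maskSet _ _).1 hp)
  exact hle hu

theorem mem_grp6 (u : Equiv.Perm GolayPt) (hu : u ∈ M24)
    (h : ∀ p ∈ maskSet mO, u p = p) : u ∈ grp 6 := by
  rw [mem_grp_iff 6 (by norm_num)]
  refine ⟨hu, fun i hi => h _ ?_⟩
  rw [mem_maskSet, idx_dec_bpt i (by omega)]
  exact bpt_mem i hi

/-- elements stabilizing the octad normalize its pointwise stabilizer -/
theorem normalizes_grp6 (g : Equiv.Perm GolayPt) (hg : g ∈ M24)
    (hgO : g • maskSet mO = maskSet mO) (u : Equiv.Perm GolayPt) (hu : u ∈ grp 6) :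
    g * u * g⁻¹ ∈ grp 6 := by
  apply mem_grp6 _ (Subgroup.mul_mem _ (Subgroup.mul_mem _ hg (grp_le_M24 6 hu))
    (Subgroup.inv_mem _ hg))
  intro p hp
  have h1 : g⁻¹ p ∈ maskSet mO := by
    have : g⁻¹ • p ∈ maskSet mO := by
      rw [Finset.inv_smul_mem_iff, hgO]
      exact hp
    exact this
  rw [Equiv.Perm.mul_apply, Equiv.Perm.mul_apply, grp6_fix u hu _ h1]
  simp


/-! ### Explicit elements -/

def Wz : List ℕ := [0, 2, 2, 0, 2, 3, 4, 5, 8, 11, 10]

def cz : ℕ := 971255290527840728689584921422956581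

def Wr : List ℕ := [2, 2, 2, 4, 5, 7, 6, 6, 12]

def cr : ℕ := 964733696827839539990591931246756928

def Ws : List ℕ := [3, 2, 5, 6, 6, 7, 6, 7, 11, 9]

def cs : ℕ := 968632550561690124106994060238046304

def Wg1 : List ℕ := [0, 2, 2, 0, 5, 4]

def cg1 : ℕ := 972443429363760011408123339494427717

def Wg2 : List ℕ := [2, 2, 2, 5, 5, 4, 7, 6, 6, 8]

def cg2 : ℕ := 982939420336662894431691245045713984

def Wx : List ℕ := [0, 0, 3, 3, 2, 4, 5, 4, 6, 7, 8, 11, 9]

def cx : ℕ := 961452393580250833805897797384373250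

def Wy : List ℕ := [8, 12, 10]

def cy : ℕ := 980874226864350081512017426024335392

def Wn : List ℕ := [6, 6, 6, 6, 8, 11, 9]

def cn : ℕ := 969232461595853951584584395019323424

def WgV : List ℕ := [3, 3, 4, 5, 4, 4, 5, 4, 6, 7, 6, 12]

def cgV : ℕ := 968976441896301259358659314259988672

def WgVi : List ℕ := [2, 3, 2, 2, 4, 5, 4, 6, 6, 6, 11, 9]

def cgVi : ℕ := 968671735536232500357694285607997600

def Wh02 : List ℕ := [2, 2, 2, 5, 5, 4, 7, 6, 6, 8]

def ch02 : ℕ := 982939420336662894431691245045713984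

def Wh03 : List ℕ := [0, 3, 3, 2, 2, 4, 5, 7]

def ch03 : ℕ := 964089491922405863437993565272217025

def Wh12 : List ℕ := [3, 2, 5, 6]

def ch12 : ℕ := 984237382802458464806812850379506784

def Wh13 : List ℕ := [0, 0, 3, 2, 5, 4, 6]

def ch13 : ℕ := 960841967935260009131107016348011682

def Wh23 : List ℕ := [5, 4, 6]

def ch23 : ℕ := 983145689634181655486132647509476384

def ce9 : ℕ := 967812279691448225500382947153381408

def ce10 : ℕ := 975346028712660580592452217730074656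

def ce11 : ℕ := 961365507626256404119956257276790816

def ce12 : ℕ := 971592882964418941354553515258775584

def EL : List (List ℕ × ℕ) := [([], 984818244535754528103549039458486304), ([12, 9], 965128854020860192151391391390468128), ([12, 11, 9], 963721886883755259286232606933354528), ([12, 10, 9], 979121071158219704299181131031480352), ([11, 9], 968708902336673183175954409307867168), ([9], 967812279691448225500382947153381408), ([12], 971592882964418941354553515258775584), ([12, 11], 970499966350631336865513127433832480), ([10, 9], 976448692869377735270425038196672544), ([11, 10], 981818691054096003685363657089320992), ([11, 10, 9], 972512676110088067912772961567868960), ([12, 11, 10, 9], 966182099583441531322624363496310816), ([12, 10], 983548720921252936276249910206105632), ([10], 975346028712660580592452217730074656), ([12, 11, 10], 980224387687010295957922729495201824), ([11], 961365507626256404119956257276790816)]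

/-- the packed permutation fixes the octad pointwise -/
def fixO (c : ℕ) : Bool := (List.range 24).all fun k => !mO.testBit k || Nat.beq (appF c k) k

theorem z_ok : Repr cz Wz ∧ gt cz = true ∧ Nat.beq (imgP cz mO) mO = true := by decide +kernel
theorem r_ok : Repr cr Wr ∧ qt cr = true := by decide +kernel
theorem s_ok : Repr cs Ws ∧ qt cs = true := by decide +kernel
theorem g1_ok : Repr cg1 Wg1 ∧ gt cg1 = true := by decide +kernel
theorem g2_ok : Repr cg2 Wg2 ∧ gt cg2 = true := by decide +kernel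
theorem gV_ok : Repr cgV WgV ∧ gt cgV = true := by decide +kernel
theorem gVi_ok : Repr cgVi WgVi ∧ gt cgVi = true := by decide +kernel
theorem h02_ok : Repr ch02 Wh02 ∧ gt ch02 = true := by decide +kernel
theorem h03_ok : Repr ch03 Wh03 ∧ gt ch03 = true := by decide +kernel
theorem h12_ok : Repr ch12 Wh12 ∧ gt ch12 = true := by decide +kernel
theorem h13_ok : Repr ch13 Wh13 ∧ gt ch13 = true := by decide +kernel
theorem h23_ok : Repr ch23 Wh23 ∧ gt ch23 = true := by decide +kernel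
theorem x_ok : Repr cx Wx ∧ gt cx = true := by decide +kernel
theorem y_ok : Repr cy Wy ∧ gt cy = true := by decide +kernel
theorem n_ok : Repr cn Wn ∧ gt cn = true := by decide +kernel
theorem e_ok : Repr ce9 [9] ∧ Repr ce10 [10] ∧ Repr ce11 [11] ∧ Repr ce12 [12] ∧
    gt ce9 = true ∧ gt ce10 = true ∧ gt ce11 = true ∧ gt ce12 = true := by decide +kernel

def Z : Equiv.Perm GolayPt := evalW Wz
def R : Equiv.Perm GolayPt := evalW Wr
def S : Equiv.Perm GolayPt := evalW Ws

theorem mem_of (W : List ℕ) (c : ℕ) (h : Repr c W ∧ gt c = true) : evalW W ∈ Cfsg.Spor.M23 :=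
  ctx.hG W c h.1 h.2

theorem Z_mem : Z ∈ Cfsg.Spor.M23 := ctx.hG Wz cz z_ok.1 z_ok.2.1

theorem Z_mem24 : Z ∈ M24 := evalW_mem_M24 Wz z_ok.1.1

theorem Z_O : Z • maskSet mO = maskSet mO :=
  Cfsg.Agent.Helper29.FusM12.smul_of_imgP Wz cz z_ok.1 mO (Nat.eq_of_beq_eq_true z_ok.2.2)

theorem Zinv_O : Z⁻¹ • maskSet mO = maskSet mO := by
  rw [inv_smul_eq_iff, Z_O]

theorem Z_pow3 : Z ^ 3 = 1 := by
  have h := evalW_eq_of_weq (FusCert.powW Wz 3) [] (by decide +kernel)
  rw [FusCert.evalW_powW, evalW_nil] at h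
  exact h

theorem Z_inv : Z⁻¹ = Z * Z := by
  apply inv_eq_of_mul_eq_one_right
  rw [← Z_pow3, pow_succ', pow_two]

theorem Z_fixed : ∀ k < 24, appF cz k = k → k = 4 ∨ mO.testBit k = true := by decide +kernel

/-- the chosen element of order three acts without fixed points on the subgroup -/
theorem Z_fpf (u : Equiv.Perm GolayPt) (hu : u ∈ grp 6) (h : Z * u * Z⁻¹ = u) : u = 1 := by
  have hc : Z * u = u * Z := mul_inv_eq_iff_eq_mul.1 h
  have h4 : Z (dec 4) = dec 4 := fix_of_appF Wz cz z_ok.1 4 (by norm_num) (by decide +kernel)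
  have h5 : Z (u (dec 4)) = u (dec 4) := by
    have := congrArg (fun f : Equiv.Perm GolayPt => f (dec 4)) hc
    simp only [Equiv.Perm.mul_apply] at this
    rw [this, h4]
  have h6 : appF cz (idx (u (dec 4))) = idx (u (dec 4)) := by
    apply appF_of_fix Wz cz z_ok.1 _ (M24.idx_lt _)
    rw [dec_idx]
    exact h5
  have h7 : u (dec 4) = dec 4 := by
    rcases Z_fixed _ (M24.idx_lt _) h6 with h | h
    · rw [← dec_idx (u (dec 4)), h]
    · exfalso
      have h8 : u (dec 4) ∈ maskSet mO := (mem_maskSet _ _).2 h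
      have h9 := grp6_fix u hu _ h8
      have h10 : u (dec 4) = dec 4 := u.injective h9
      rw [h10] at h8
      revert h8
      rw [mem_maskSet]
      decide
  apply rigid u (grp_le_M24 6 hu)
  intro i hi
  by_cases h6 : i < 6
  · apply grp6_fix u hu
    rw [mem_maskSet, idx_dec_bpt i hi]
    exact bpt_mem i h6
  · have : i = 6 := by omega
    subst this
    exact h7

/-! ### The complement -/

/-- the elements normalizing the group generated by `z`, when it has order three -/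
def invNorm {G : Type*} [Group G] (z : G) : Subgroup G where
  carrier := {g | g * z * g⁻¹ = z ∨ g * z * g⁻¹ = z⁻¹}
  mul_mem' := by
    rintro g h hg hh
    have e : g * h * z * (g * h)⁻¹ = g * (h * z * h⁻¹) * g⁻¹ := by group
    rcases hh with hh | hh
    · rw [Set.mem_ofPred_eq, e, hh]
      exact hg
    · rw [Set.mem_ofPred_eq, e, hh]
      have e2 : g * z⁻¹ * g⁻¹ = (g * z * g⁻¹)⁻¹ := by group
      rw [e2]
      rcases hg with hg | hg
      · right; rw [hg]
      · left; rw [hg, inv_inv]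
  one_mem' := Or.inl (by group)
  inv_mem' := by
    rintro g hg
    rcases hg with hg | hg
    · left
      have h1 : g⁻¹ * z * g⁻¹⁻¹ = g⁻¹ * (g * z * g⁻¹) * g := by rw [hg]; group
      rw [h1]
      group
    · right
      have h1 : g⁻¹ * z⁻¹ * g = z := by rw [← hg]; group
      have h2 : g⁻¹ * z * g⁻¹⁻¹ = (g⁻¹ * z⁻¹ * g)⁻¹ := by group
      rw [h2, h1]

def D : Subgroup (Equiv.Perm GolayPt) := Q23 ⊓ invNorm Z

theorem R_Z : R * Z * R⁻¹ = Z⁻¹ := by
  have h := evalW_eq_of_weq (Wr ++ Wz) (Wz ++ (Wz ++ Wr)) (by decide +kernel)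
  rw [evalW_append, evalW_append, evalW_append] at h
  show evalW Wr * evalW Wz * (evalW Wr)⁻¹ = _
  rw [h, Z_inv]
  show Z * (Z * R) * R⁻¹ = Z * Z
  group

theorem S_Z : S * Z * S⁻¹ = Z := by
  have h := evalW_eq_of_weq (Ws ++ Wz) (Wz ++ Ws) (by decide +kernel)
  rw [evalW_append, evalW_append] at h
  show evalW Ws * evalW Wz * (evalW Ws)⁻¹ = _
  rw [h]
  show Z * S * S⁻¹ = Z
  group

theorem R_mem : R ∈ D := Subgroup.mem_inf.2 ⟨ctx.hQ Wr cr r_ok.1 r_ok.2, Or.inr R_Z⟩

theorem S_mem : S ∈ D := Subgroup.mem_inf.2 ⟨ctx.hQ Ws cs s_ok.1 s_ok.2, Or.inl S_Z⟩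

/-- the test for normalizing the group generated by `z` -/
def ntest (c : ℕ) : Bool :=
  eqC (compF c cz) (compF cz c) || eqC (compF c cz) (compF cz (compF cz c))

def DL : List (List ℕ × ℕ) := (List.range 4).flatMap fun i =>
  [(FusCert.powW Wr i, powC cr i), (FusCert.powW Wr i ++ Ws, compF (powC cr i) cs)]

theorem D_check : (QL.all fun q => !(ntest q.2) || DL.any fun d => eqC q.2 d.2) = true := by
  decide +kernel

theorem DL_spec (d : List ℕ × ℕ) (hd : d ∈ DL) : Repr d.2 d.1 ∧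
    ∃ i : ℕ, evalW d.1 = R ^ i ∨ evalW d.1 = R ^ i * S := by
  unfold DL at hd
  rw [List.mem_flatMap] at hd
  obtain ⟨i, -, hdi⟩ := hd
  simp only [List.mem_cons, List.not_mem_nil, or_false] at hdi
  have hri := repr_powC cr Wr r_ok.1 i
  rcases hdi with rfl | rfl
  · dsimp only
    refine ⟨hri, i, Or.inl ?_⟩
    rw [FusCert.evalW_powW]
    rfl
  · have hr2 : Repr (compF (powC cr i) cs) (FusCert.powW Wr i ++ Ws) :=
      repr_compF (powC cr i) cs (FusCert.powW Wr i) Ws hri s_ok.1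
    dsimp only
    refine ⟨hr2, i, Or.inr ?_⟩
    rw [evalW_append, FusCert.evalW_powW]
    rfl

theorem D_struct (g : Equiv.Perm GolayPt) (hg : g ∈ D) : ∃ i : ℕ, g = R ^ i ∨ g = R ^ i * S := by
  obtain ⟨hQ, hN⟩ := Subgroup.mem_inf.1 hg
  obtain ⟨q, hq, hr, rfl⟩ := ctx.hQL g hQ
  have ht : ntest q.2 = true := by
    unfold ntest
    rw [Bool.or_eq_true]
    rcases hN with h | h
    · left
      apply eqC_of_evalW_eq _ _ (q.1 ++ Wz) (Wz ++ q.1) (repr_compF _ _ _ _ hr z_ok.1)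
        (repr_compF _ _ _ _ z_ok.1 hr)
      rw [evalW_append, evalW_append]
      exact mul_inv_eq_iff_eq_mul.1 h
    · right
      apply eqC_of_evalW_eq _ _ (q.1 ++ Wz) (Wz ++ (Wz ++ q.1)) (repr_compF _ _ _ _ hr z_ok.1)
        (repr_compF _ _ _ _ z_ok.1 (repr_compF _ _ _ _ z_ok.1 hr))
      rw [evalW_append, evalW_append, evalW_append, ← mul_assoc]
      have h2 := mul_inv_eq_iff_eq_mul.1 h
      show evalW q.1 * Z = Z * Z * evalW q.1
      rw [h2, Z_inv]
  have h1 := List.all_eq_true.1 D_check q hq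
  rw [ht, Bool.not_true, Bool.false_or, List.any_eq_true] at h1
  obtain ⟨d, hd, hde⟩ := h1
  obtain ⟨hrd, i, hi⟩ := DL_spec d hd
  refine ⟨i, ?_⟩
  rw [evalW_eq_of_eqC _ _ _ _ hr hrd hde]
  exact hi

theorem DL_mem (d : List ℕ × ℕ) (hd : d ∈ DL) : evalW d.1 ∈ D := by
  obtain ⟨-, i, hi⟩ := DL_spec d hd
  rcases hi with hi | hi
  · rw [hi]
    exact Subgroup.pow_mem _ R_mem i
  · rw [hi]
    exact Subgroup.mul_mem _ (Subgroup.pow_mem _ R_mem i) S_mem

theorem EL_ok : (EL.all fun e => decide (Repr e.2 e.1) && fixO e.2) = true := by decide +kernel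

theorem mem_grp6_of_fixO (W : List ℕ) (c : ℕ) (hr : Repr c W) (h : fixO c = true) :
    evalW W ∈ grp 6 := by
  apply mem_grp6 _ (evalW_mem_M24 W hr.1)
  intro p hp
  unfold fixO at h
  rw [List.all_eq_true] at h
  have h1 := h (idx p) (List.mem_range.2 (M24.idx_lt p))
  rw [(mem_maskSet _ _).1 hp, Bool.not_true, Bool.false_or] at h1
  have h2 := fix_of_appF W c hr (idx p) (M24.idx_lt p) (Nat.eq_of_beq_eq_true h1)
  rw [dec_idx] at h2
  exact h2

theorem P_check : (QL.all fun q => EL.any fun e => DL.any fun d =>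
    eqC q.2 (compF e.2 d.2)) = true := by decide +kernel

theorem P_struct (g : Equiv.Perm GolayPt) (hg : g ∈ Q23) : ∃ e ∈ grp 6, ∃ d ∈ D, g = e * d := by
  obtain ⟨q, hq, hr, rfl⟩ := ctx.hQL g hg
  have h1 := List.all_eq_true.1 P_check q hq
  rw [List.any_eq_true] at h1
  obtain ⟨e, he, h2⟩ := h1
  rw [List.any_eq_true] at h2
  obtain ⟨d, hd, h3⟩ := h2
  have hE := List.all_eq_true.1 EL_ok e he
  rw [Bool.and_eq_true, decide_eq_true_eq] at hE
  obtain ⟨hrd, -⟩ := DL_spec d hd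
  refine ⟨evalW e.1, mem_grp6_of_fixO _ _ hE.1 hE.2, evalW d.1, DL_mem d hd, ?_⟩
  rw [evalW_eq_of_eqC _ _ _ _ hr (repr_compF _ _ _ _ hE.1 hrd) h3, evalW_append]

theorem Q23_check : (QL.all fun q => Nat.beq (imgP q.2 mO) mO) = true := by decide +kernel

theorem Q23_O (g : Equiv.Perm GolayPt) (hg : g ∈ Q23) : g • maskSet mO = maskSet mO := by
  obtain ⟨q, hq, hr, rfl⟩ := ctx.hQL g hg
  exact Cfsg.Agent.Helper29.FusM12.smul_of_imgP q.1 q.2 hr mO (Nat.eq_of_beq_eq_true (List.all_eq_true.1 Q23_check q hq))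


/-! ### Relations between the explicit elements -/

theorem conj_of_weq (Wg Wu Wv : List ℕ) (h : weq (Wg ++ Wu) (Wv ++ Wg) = true) :
    evalW Wg * evalW Wu * (evalW Wg)⁻¹ = evalW Wv := by
  have h1 := evalW_eq_of_weq _ _ h
  rw [evalW_append, evalW_append] at h1
  rw [h1]
  group

theorem evalW_single (j : ℕ) : evalW [j] = gP j := by
  rw [evalW_cons, evalW_nil, mul_one]

theorem evalW_pair (i j : ℕ) : evalW [i, j] = gP i * gP j := by
  rw [evalW_cons, evalW_single]

theorem level6 : ∀ j < ngen, 6 ≤ depthOf j → j = 9 ∨ j = 10 ∨ j = 11 ∨ j = 12 := by decide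

theorem gP_mem23 (j : ℕ) (hj : j = 9 ∨ j = 10 ∨ j = 11 ∨ j = 12) : gP j ∈ Cfsg.Spor.M23 := by
  rw [← evalW_single]
  rcases hj with rfl | rfl | rfl | rfl
  · exact ctx.hG _ ce9 e_ok.1 e_ok.2.2.2.2.1
  · exact ctx.hG _ ce10 e_ok.2.1 e_ok.2.2.2.2.2.1
  · exact ctx.hG _ ce11 e_ok.2.2.1 e_ok.2.2.2.2.2.2.1
  · exact ctx.hG _ ce12 e_ok.2.2.2.1 e_ok.2.2.2.2.2.2.2

theorem GVi_eq : evalW WgVi = (evalW WgV)⁻¹ := by
  have h := evalW_eq_of_weq (WgV ++ WgVi) [] (by decide +kernel)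
  rw [evalW_append, evalW_nil] at h
  exact (inv_eq_of_mul_eq_one_right h).symm

theorem conjS_ok : fixO (compF cgV (compF cs cgVi)) = true ∧
    fixO (compF cgV (compF (compF cr cr) cgVi)) = true := by decide +kernel

theorem conjS_mem : evalW WgV * S * (evalW WgV)⁻¹ ∈ grp 6 := by
  have h := mem_grp6_of_fixO (WgV ++ (Ws ++ WgVi)) _
    (repr_compF _ _ _ _ gV_ok.1 (repr_compF _ _ _ _ s_ok.1 gVi_ok.1)) conjS_ok.1
  rw [evalW_append, evalW_append, GVi_eq, ← mul_assoc] at h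
  exact h

theorem conjR2_mem : evalW WgV * R ^ 2 * (evalW WgV)⁻¹ ∈ grp 6 := by
  have h := mem_grp6_of_fixO (WgV ++ ((Wr ++ Wr) ++ WgVi)) _
    (repr_compF _ _ _ _ gV_ok.1 (repr_compF _ _ _ _ (repr_compF _ _ _ _ r_ok.1 r_ok.1)
      gVi_ok.1)) conjS_ok.2
  rw [evalW_append, evalW_append, evalW_append, GVi_eq, ← mul_assoc, ← pow_two] at h
  exact h

theorem R2_not_mem : R ^ 2 ∉ grp 6 := by
  intro h
  have h1 := grp6_fix _ h (dec 1) (by rw [mem_maskSet]; decide)
  have h2 : evalW (Wr ++ Wr) (dec 1) = dec 1 := by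
    rw [evalW_append, ← pow_two]
    exact h1
  have h3 := appF_of_fix (Wr ++ Wr) (compF cr cr) (repr_compF _ _ _ _ r_ok.1 r_ok.1) 1
    (by norm_num) h2
  revert h3
  decide +kernel

theorem none_mem_O : (none : GolayPt) ∈ maskSet mO := by
  rw [mem_maskSet]
  decide

theorem grp6_le_M23 : grp 6 ≤ Cfsg.Spor.M23 := by
  intro u hu
  exact Subgroup.mem_inf.2 ⟨grp_le_M24 6 hu,
    MulAction.mem_stabilizer_iff.2 (grp6_fix u hu none none_mem_O)⟩

/-! ### The prime two -/

theorem local2 (Γ : Type) [Group Γ] [Finite Γ] (σ : Γ →* ↥Cfsg.Spor.M23)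
    (hs : Function.Surjective σ) (hK : σ.ker ≤ Subgroup.center Γ) :
    ∀ k ∈ ⁅(Q23.subgroupOf Cfsg.Spor.M23).comap σ, (Q23.subgroupOf Cfsg.Spor.M23).comap σ⁆,
      k ∈ σ.ker → k = 1 := by
  obtain ⟨τ, hτ⟩ : ∃ τ : Γ →* Equiv.Perm GolayPt, τ = (Subgroup.subtype _).comp σ := ⟨_, rfl⟩
  have hτa : ∀ a, τ a = (σ a : Equiv.Perm GolayPt) := by
    intro a
    rw [hτ]
    rfl
  have hker : τ.ker = σ.ker := by
    ext a
    rw [MonoidHom.mem_ker, MonoidHom.mem_ker, hτa]
    constructor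
    · intro h
      exact Subtype.ext h
    · intro h
      rw [h]
      rfl
  have hKτ : τ.ker ≤ Subgroup.center Γ := hker ▸ hK
  have hlift : ∀ g ∈ Cfsg.Spor.M23, ∃ a, τ a = g := by
    intro g hg
    obtain ⟨a, ha⟩ := hs ⟨g, hg⟩
    exact ⟨a, by rw [hτa, ha]⟩
  have hcomap : (Q23.subgroupOf Cfsg.Spor.M23).comap σ = Q23.comap τ := by
    ext a
    rw [Subgroup.mem_comap, Subgroup.mem_comap, Subgroup.mem_subgroupOf, hτa]
  rw [hcomap, ← hker]
  -- lifts of the generators of the elementary abelian subgroup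
  have hL : ∃ L : ℕ → Γ, ∀ j, (j = 9 ∨ j = 10 ∨ j = 11 ∨ j = 12) → τ (L j) = gP j := by
    have h : ∀ j : ℕ, ∃ a : Γ, (j = 9 ∨ j = 10 ∨ j = 11 ∨ j = 12) → τ a = gP j := by
      intro j
      by_cases hj : j = 9 ∨ j = 10 ∨ j = 11 ∨ j = 12
      · obtain ⟨a, ha⟩ := hlift _ (gP_mem23 j hj)
        exact ⟨a, fun _ => ha⟩
      · exact ⟨1, fun h => absurd h hj⟩
    choose L hL using h
    exact ⟨L, hL⟩
  obtain ⟨L, hL⟩ := hL
  have t9 := hL 9 (by norm_num)
  have t10 := hL 10 (by norm_num)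
  have t11 := hL 11 (by norm_num)
  have t12 := hL 12 (by norm_num)
  obtain ⟨g1, hg1⟩ := hlift _ (mem_of Wg1 cg1 g1_ok)
  obtain ⟨g2, hg2⟩ := hlift _ (mem_of Wg2 cg2 g2_ok)
  have c9_10 : L 9 * L 10 = L 10 * L 9 := by
    apply comm_of_fusion τ hKτ (L 9) (L 10) (L 11) g1 g2
    · rw [t9, t10, ← evalW_pair, ← evalW_pair]
      exact evalW_eq_of_weq _ _ (by decide +kernel)
    · rw [t9, t11, ← evalW_pair, ← evalW_pair]
      exact evalW_eq_of_weq _ _ (by decide +kernel)
    · rw [t9, hg1, ← evalW_single]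
      exact conj_of_weq Wg1 [9] [9] (by decide +kernel)
    · rw [t10, t11, hg1, ← evalW_pair, ← evalW_single]
      exact conj_of_weq Wg1 [10] [10, 11] (by decide +kernel)
    · rw [t9, hg2, ← evalW_single]
      exact conj_of_weq Wg2 [9] [9] (by decide +kernel)
    · rw [t10, t11, hg2, ← evalW_single, ← evalW_single]
      exact conj_of_weq Wg2 [10] [11] (by decide +kernel)
  have hcj : ∀ (Wh : List ℕ) (ch i j : ℕ), (Repr ch Wh ∧ gt ch = true) →
      (i = 9 ∨ i = 10 ∨ i = 11 ∨ i = 12) → (j = 9 ∨ j = 10 ∨ j = 11 ∨ j = 12) →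
      weq (Wh ++ [9]) ([i] ++ Wh) = true → weq (Wh ++ [10]) ([j] ++ Wh) = true →
      L i * L j = L j * L i := by
    intro Wh ch i j hok hi hj w1 w2
    obtain ⟨h, hh⟩ := hlift _ (mem_of Wh ch hok)
    apply comm_of_conj τ hKτ (L 9) (L 10) (L i) (L j) h c9_10
    · rw [hh, t9, hL i hi, ← evalW_single, ← evalW_single]
      exact conj_of_weq Wh [9] [i] w1
    · rw [hh, t10, hL j hj, ← evalW_single, ← evalW_single]
      exact conj_of_weq Wh [10] [j] w2
  have c9_11 := hcj Wh02 ch02 9 11 h02_ok (by norm_num) (by norm_num) (by decide +kernel)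
    (by decide +kernel)
  have c9_12 := hcj Wh03 ch03 9 12 h03_ok (by norm_num) (by norm_num) (by decide +kernel)
    (by decide +kernel)
  have c10_11 := hcj Wh12 ch12 10 11 h12_ok (by norm_num) (by norm_num) (by decide +kernel)
    (by decide +kernel)
  have c10_12 := hcj Wh13 ch13 10 12 h13_ok (by norm_num) (by norm_num) (by decide +kernel)
    (by decide +kernel)
  have c11_12 := hcj Wh23 ch23 11 12 h23_ok (by norm_num) (by norm_num) (by decide +kernel)
    (by decide +kernel)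
  have hLc : ∀ i j, (i = 9 ∨ i = 10 ∨ i = 11 ∨ i = 12) → (j = 9 ∨ j = 10 ∨ j = 11 ∨ j = 12) →
      L i * L j = L j * L i := by
    intro i j hi hj
    rcases hi with rfl | rfl | rfl | rfl <;> rcases hj with rfl | rfl | rfl | rfl <;>
      first
      | rfl
      | assumption
      | (symm; assumption)
  have hE : ∀ u ∈ (grp 6).comap τ, ∀ v ∈ (grp 6).comap τ, u * v = v * u := by
    apply comm_comap_closure τ hKτ (Sset 6)
    rintro s ⟨i, hi, hdi, rfl⟩ t ⟨j, hj, hdj, rfl⟩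
    have hi' := level6 i hi hdi
    have hj' := level6 j hj hdj
    exact ⟨L i, L j, hL i hi', hL j hj', hLc i j hi' hj'⟩
  -- the element of order three
  obtain ⟨z, hz0⟩ := hlift Z Z_mem
  have hz : ∀ u ∈ grp 6, τ z * u * (τ z)⁻¹ ∈ grp 6 := by
    rw [hz0]
    exact normalizes_grp6 Z Z_mem24 Z_O
  have hfpf : ∀ u ∈ grp 6, τ z * u * (τ z)⁻¹ = u → u = 1 := by
    rw [hz0]
    exact Z_fpf
  have hER : ∀ u ∈ grp 6, ∃ a, τ a = u := fun u hu => hlift u (grp6_le_M23 hu)
  have hDn : ∀ d ∈ D.comap τ, ∀ e ∈ fpfCompl τ (grp 6) z hE hz,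
      d * e * d⁻¹ ∈ fpfCompl τ (grp 6) z hE hz := by
    intro d hd e he
    have hdD : τ d ∈ D := hd
    obtain ⟨hdQ, hdN⟩ := Subgroup.mem_inf.1 hdD
    have hdn : ∀ u ∈ grp 6, τ d * u * (τ d)⁻¹ ∈ grp 6 :=
      normalizes_grp6 (τ d) (Subgroup.mem_inf.1 (ctx.hQG hdQ)).1 (Q23_O _ hdQ)
    rcases hdN with h | h
    · exact conj_mem_fpfCompl' τ (grp 6) z hE hz hKτ hER hfpf d z hdn hz rfl
        (by rw [hz0]; exact h) e he
    · refine conj_mem_fpfCompl' τ (grp 6) z hE hz hKτ hER hfpf d z⁻¹ hdn ?_ ?_ ?_ e he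
      · rw [map_inv, hz0]
        exact normalizes_grp6 Z⁻¹ (Subgroup.inv_mem _ Z_mem24) Zinv_O
      · rw [map_inv]
        group
      · rw [map_inv, hz0]
        exact h
  -- the dihedral complement
  obtain ⟨r, hr⟩ := hlift R (ctx.hQG R_mem.1)
  obtain ⟨s, hs'⟩ := hlift S (ctx.hQG S_mem.1)
  obtain ⟨g, hg⟩ := hlift _ (mem_of WgV cgV gV_ok)
  have hcomm : s * r ^ 2 = r ^ 2 * s := by
    have hu : g * s * g⁻¹ ∈ (grp 6).comap τ := by
      rw [Subgroup.mem_comap, map_mul, map_mul, map_inv, hg, hs']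
      exact conjS_mem
    have hv : g * r ^ 2 * g⁻¹ ∈ (grp 6).comap τ := by
      rw [Subgroup.mem_comap, map_mul, map_mul, map_inv, map_pow, hg, hr]
      exact conjR2_mem
    have h1 := hE _ hu _ hv
    have e1 : g * s * g⁻¹ * (g * r ^ 2 * g⁻¹) = g * (s * r ^ 2) * g⁻¹ := by group
    have e2 : g * r ^ 2 * g⁻¹ * (g * s * g⁻¹) = g * (r ^ 2 * s) * g⁻¹ := by group
    rw [e1, e2] at h1
    exact mul_left_cancel (mul_right_cancel h1)
  have hDc : ∀ c ∈ ⁅D.comap τ, D.comap τ⁆, τ c ∈ grp 6 → c = 1 := by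
    apply comm_dihedral τ hKτ (D.comap τ) r s ?_ hcomm ?_ (grp 6) ?_
    · rw [hr, hs']
      have h := conj_of_weq Ws Wr (FusCert.powW Wr 3) (by decide +kernel)
      rw [FusCert.evalW_powW] at h
      exact h
    · intro u hu
      obtain ⟨i, hi⟩ := D_struct (τ u) hu
      refine ⟨(i : ℤ), ?_⟩
      rw [hr, hs', zpow_natCast]
      exact hi
    · rw [hr]
      exact R2_not_mem
  exact comm_inf_ker_of_split τ (grp 6) z hE hz hKτ hER hfpf D Q23 hDn hDc P_struct


/-! ### The prime three -/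

def X : Equiv.Perm GolayPt := evalW Wx
def Y : Equiv.Perm GolayPt := evalW Wy
def N : Equiv.Perm GolayPt := evalW Wn

theorem X_mem : X ∈ Cfsg.Spor.M23 := mem_of Wx cx x_ok
theorem Y_mem : Y ∈ Cfsg.Spor.M23 := mem_of Wy cy y_ok
theorem N_mem : N ∈ Cfsg.Spor.M23 := mem_of Wn cn n_ok

theorem X_pow3 : X ^ 3 = 1 := by
  have h := evalW_eq_of_weq (FusCert.powW Wx 3) [] (by decide +kernel)
  rw [FusCert.evalW_powW, evalW_nil] at h
  exact h

theorem Y_pow3 : Y ^ 3 = 1 := by
  have h := evalW_eq_of_weq (FusCert.powW Wy 3) [] (by decide +kernel)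
  rw [FusCert.evalW_powW, evalW_nil] at h
  exact h

theorem X_Y : X * Y = Y * X := by
  have h := evalW_eq_of_weq (Wx ++ Wy) (Wy ++ Wx) (by decide +kernel)
  rw [evalW_append, evalW_append] at h
  exact h

theorem N_X : N * X * N⁻¹ = X := conj_of_weq Wn Wx Wx (by decide +kernel)

theorem N_Y : N * Y * N⁻¹ = Y⁻¹ := by
  have h := evalW_eq_of_weq (Wy ++ (Wn ++ Wy)) Wn (by decide +kernel)
  rw [evalW_append, evalW_append] at h
  show evalW Wn * evalW Wy * (evalW Wn)⁻¹ = (evalW Wy)⁻¹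
  have h2 : evalW Wn * evalW Wy = (evalW Wy)⁻¹ * evalW Wn := by
    rw [eq_inv_mul_iff_mul_eq]
    exact h
  rw [h2]
  group

theorem X_ne : X ≠ 1 :=
  FusPt.evalW_ne_one Wx cx x_ok.1 0 (by norm_num) (by decide +kernel)

theorem Y_ne : Y ≠ 1 :=
  FusPt.evalW_ne_one Wy cy y_ok.1 4 (by norm_num) (by decide +kernel)

theorem Y_ne_X : Y ≠ X := by
  intro e
  have h := eqC_of_evalW_eq cy cx Wy Wx y_ok.1 x_ok.1 e
  revert h
  decide +kernel

theorem Y_ne_X2 : Y ≠ X ^ 2 := by
  intro e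
  have e' : evalW Wy = evalW (Wx ++ Wx) := by
    rw [evalW_append, ← pow_two]
    exact e
  have h := eqC_of_evalW_eq cy (compF cx cx) Wy (Wx ++ Wx) y_ok.1
    (repr_compF _ _ _ _ x_ok.1 x_ok.1) e'
  revert h
  decide +kernel

def xG : ↥Cfsg.Spor.M23 := ⟨X, X_mem⟩
def yG : ↥Cfsg.Spor.M23 := ⟨Y, Y_mem⟩
def nG : ↥Cfsg.Spor.M23 := ⟨N, N_mem⟩

theorem not_sq_dvd (p : ℕ) (hp : p.Prime) (h2 : p ≠ 2) (h3 : p ≠ 3) : ¬ p ^ 2 ∣ 10200960 := by
  intro hd
  have h1 : p ∣ 2 ^ 7 * 3 ^ 2 * 5 * 7 * 11 * 23 := (dvd_pow_self p (by norm_num)).trans hd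
  have hfin : ∀ q : ℕ, q.Prime → p ∣ q → ¬ q ^ 2 ∣ 10200960 → False := by
    intro q hq hpq hn
    have := (Nat.prime_dvd_prime_iff_eq hp hq).1 hpq
    subst this
    exact hn hd
  rcases (Nat.Prime.dvd_mul hp).1 h1 with h | h
  · rcases (Nat.Prime.dvd_mul hp).1 h with h | h
    · rcases (Nat.Prime.dvd_mul hp).1 h with h | h
      · rcases (Nat.Prime.dvd_mul hp).1 h with h | h
        · rcases (Nat.Prime.dvd_mul hp).1 h with h | h
          · exact h2 ((Nat.prime_dvd_prime_iff_eq hp Nat.prime_two).1 (hp.dvd_of_dvd_pow h))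
          · exact h3 ((Nat.prime_dvd_prime_iff_eq hp Nat.prime_three).1 (hp.dvd_of_dvd_pow h))
        · exact hfin 5 Nat.prime_five h (by decide)
      · exact hfin 7 (by norm_num) h (by decide)
    · exact hfin 11 (by norm_num) h (by decide)
  · exact hfin 23 (by norm_num) h (by decide)

/-- every finite stem extension of the Mathieu group of degree 23 is an isomorphism -/
theorem ker_eq_bot (Γ : Type) [Group Γ] [Finite Γ] (σ : Γ →* ↥Cfsg.Spor.M23)
    (hσ : Cfsg.IsStemExtension σ) : σ.ker = ⊥ := by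
  obtain ⟨hs, hK, hK'⟩ := hσ
  apply ker_eq_bot_of_local σ hs hK hK'
  intro p hp
  by_cases h2 : p = 2
  · subst h2
    have : Fact (Nat.Prime 2) := ⟨Nat.prime_two⟩
    obtain ⟨S, hS⟩ := sylow2
    refine ⟨S, S.not_dvd_index, ?_⟩
    rw [hS]
    exact local2 Γ σ hs hK
  by_cases h3 : p = 3
  · subst h3
    have hxy : Commute xG yG := Subtype.ext X_Y
    refine ⟨pairSubgroup xG yG hxy, ?_, ?_⟩
    · apply not_dvd_index_pair xG yG hxy
      · exact Subtype.ext X_pow3
      · exact Subtype.ext Y_pow3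
      · intro h
        exact X_ne (congrArg Subtype.val h)
      · intro h
        exact Y_ne (congrArg Subtype.val h)
      · intro h
        exact Y_ne_X (congrArg Subtype.val h)
      · intro h
        exact Y_ne_X2 (congrArg Subtype.val h)
      · rw [card_M23]
        decide
    · obtain ⟨x, hx⟩ := hs xG
      obtain ⟨y, hy⟩ := hs yG
      obtain ⟨n, hn⟩ := hs nG
      have hb := comm_eq_bot_of_three σ hK ((pairSubgroup xG yG hxy).comap σ) x y n
        (by rw [hx]; exact Subtype.ext X_pow3)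
        (by rw [hx, hy]; exact Subtype.ext X_Y)
        (by rw [hx, hn]; exact Subtype.ext N_X)
        (by rw [hy, hn]; exact Subtype.ext N_Y)
        (by
          intro u hu
          obtain ⟨i, j, hij⟩ := (mem_pairSubgroup xG yG hxy (σ u)).1 hu
          exact ⟨i, j, by rw [hx, hy]; exact hij⟩)
      intro k hk _
      rw [hb] at hk
      exact Subgroup.mem_bot.1 hk
  · apply local_of_not_sq_dvd σ hs hK p hp
    rw [card_M23]
    exact not_sq_dvd p hp h2 h3

end Cfsg.Agent.Helper29.SchurM23
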