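import Mathlib
import Cfsg.Agent.Lib.Helper29.IdxTools
import Cfsg.Agent.Lib.Helper29.SchurM23
import Cfsg.Agent.Lib.Helper29.PermChain
import Cfsg.Agent.Lib.Helper29.M24OctStab

set_option autoImplicit false
open Cfsg

namespace Cfsg.Agent.Helper29.M23Idx

open Cfsg.Agent.Helper27 Cfsg.Agent.Helper29 Cfsg.Agent.Helper29.M24
open Cfsg.Agent.Helper29.FusCert Cfsg.Agent.Helper29.Syl2 Cfsg.Agent.Helper29.FusPt
open Cfsg.Agent.Helper29.FusM23 (Q23 gt qt QL ctx)
open Cfsg.Agent.Helper29.IdxTools
open Cfsg.Agent.S0358 (idx)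
open scoped Pointwise

/-! ### The orbits of the Sylow 2-subgroup of the point stabilizer -/

def repTab : List ℕ := [0, 1, 1, 1, 4, 5, 4, 4, 4, 4, 4, 4, 4, 4, 5, 4, 4, 1, 4, 4, 4, 4, 4, 23]

def conTab : List (List ℕ × ℕ) := [([], 984818244535754528103549039458486304), ([], 984818244535754528103549039458486304), ([2, 2, 2, 4, 5, 7, 6, 6], 983441459068339977419056189134652480), ([3, 2, 5, 4, 7, 6, 8, 8], 961192747559150132331975843551675488), ([], 984818244535754528103549039458486304), ([], 984818244535754528103549039458486304), ([12, 9], 965128854020860192151391391390468128), ([12, 11, 9], 963721886883755259286232606933354528), ([12, 10, 9], 979121071158219704299181131031480352), ([11, 9], 968708902336673183175954409307867168), ([9], 967812279691448225500382947153381408), ([12], 971592882964418941354553515258775584), ([12, 11], 970499966350631336865513127433832480), ([10, 9], 976448692869377735270425038196672544), ([5, 5, 4, 7, 6, 8, 8], 972435502930899157304980190634511392), ([11,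 10], 981818691054096003685363657089320992), ([11, 10, 9], 972512676110088067912772961567868960), ([2, 2, 2, 3, 4, 5, 4, 6, 6, 7, 6], 968533965925265131744561505160497696), ([12, 11, 10, 9], 966182099583441531322624363496310816), ([12, 10], 983548720921252936276249910206105632), ([10], 975346028712660580592452217730074656), ([12, 11, 10], 980224387687010295957922729495201824), ([11], 961365507626256404119956257276790816), ([], 984818244535754528103549039458486304)]

def clsTab : List ℕ := [1, 3, 3, 3, 4, 2, 4, 4, 4, 4, 4, 4, 4, 4, 2, 4, 4, 3, 4, 4, 4, 4, 4, 0]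

def repOf (k : ℕ) : ℕ := repTab.getD k 0

def clsOf (k : ℕ) : ℕ := clsTab.getD k 0

theorem conTab_ok : ∀ k < 24, Repr (conTab.getD k ([], 0)).2 (conTab.getD k ([], 0)).1 ∧
    qt (conTab.getD k ([], 0)).2 = true ∧ appF (conTab.getD k ([], 0)).2 (repOf k) = k ∧
    repOf k < 24 := by
  decide +kernel

theorem rep_cls : ∀ k < 24, repOf k = [23, 0, 5, 1, 4].getD (clsOf k) 0 ∧ clsOf k < 5 := by
  decide

theorem evalW_dec (W : List ℕ) (c : ℕ) (hr : Repr c W) (a : ℕ) (ha : a < 24) :
    evalW W (dec a) = dec (appF c a) := by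
  rw [← dec_idx (evalW W (dec a)), idx_evalW W hr.1, idx_dec ⟨a, ha⟩, ← hr.2 a ha, ← appF_eq]

/-- every point is the image of its representative under an element of the 2-subgroup -/
theorem con (p : GolayPt) : ∃ q ∈ Q23, q (dec (repOf (idx p))) = p := by
  obtain ⟨hr, hq, ha, hlt⟩ := conTab_ok (idx p) (M24.idx_lt p)
  refine ⟨evalW (conTab.getD (idx p) ([], 0)).1, ctx.hQ _ _ hr hq, ?_⟩
  rw [evalW_dec _ _ hr _ hlt, ha, dec_idx]

/-- the orbit of a point under a permutation group, as a set -/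
def Orb (K : Subgroup (Equiv.Perm GolayPt)) (a : GolayPt) : Set GolayPt := {p | ∃ g ∈ K, g a = p}

theorem orb_smul (K : Subgroup (Equiv.Perm GolayPt)) (a : GolayPt) (q : Equiv.Perm GolayPt)
    (hq : q ∈ K) (y : GolayPt) : q y ∈ Orb K a ↔ y ∈ Orb K a := by
  constructor
  · rintro ⟨g, hg, e⟩
    refine ⟨q⁻¹ * g, K.mul_mem (K.inv_mem hq) hg, ?_⟩
    rw [Equiv.Perm.mul_apply, e]; simp
  · rintro ⟨g, hg, e⟩
    refine ⟨q * g, K.mul_mem hq hg, ?_⟩
    rw [Equiv.Perm.mul_apply, e]

theorem mem_orb_iff_rep (K : Subgroup (Equiv.Perm GolayPt)) (hQ : Q23 ≤ K) (a p : GolayPt) :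
    p ∈ Orb K a ↔ dec (repOf (idx p)) ∈ Orb K a := by
  obtain ⟨q, hq, e⟩ := con p
  conv_lhs => rw [← e]
  exact orb_smul K a q (hQ hq) _

/-- the mask of the orbit of the point 4, according to which small orbits it absorbs -/
def oMask (b0 b5 b1 : Bool) : ℕ :=
  8241104 + (if b0 then 1 else 0) + (if b5 then 16416 else 0) + (if b1 then 131086 else 0)

/-- the mask of the complement of the orbit among the 23 points -/
def cMask (b0 b5 b1 : Bool) : ℕ :=
  (if b0 then 0 else 1) + (if b5 then 0 else 16416) + (if b1 then 0 else 131086)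

theorem oMask_ok : ∀ b0 b5 b1 : Bool, ∀ k < 24,
    (oMask b0 b5 b1).testBit k = [false, b0, b5, b1, true].getD (clsOf k) false := by
  decide

theorem cMask_ok : ∀ b0 b5 b1 : Bool, ∀ k < 24,
    (cMask b0 b5 b1).testBit k = (!(oMask b0 b5 b1).testBit k && !(k == 23)) := by
  decide

theorem dec_inj {a b : ℕ} (ha : a < 24) (hb : b < 24) (h : dec a = dec b) : a = b := by
  have := congrArg idx h
  rwa [idx_dec ⟨a, ha⟩, idx_dec ⟨b, hb⟩] at this

theorem mem_M23 (g : Equiv.Perm GolayPt) : g ∈ Cfsg.Spor.M23 ↔ g ∈ Cfsg.M24 ∧ g (dec 23) = dec 23 := by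
  unfold Cfsg.Spor.M23
  rw [Subgroup.mem_inf, FusM23.mem_stab_none]

/-- the orbit analysis: a subgroup of the point stabilizer containing its Sylow 2-subgroup -/
theorem orbit_cases (K : Subgroup (Equiv.Perm GolayPt)) (hKM : K ≤ Cfsg.Spor.M23)
    (hQ : Q23 ≤ K) :
    ∃ b0 b5 b1 : Bool, pop24 (oMask b0 b5 b1) ∣ Nat.card K ∧
      ∀ g ∈ K, g • maskSet (cMask b0 b5 b1) = maskSet (cMask b0 b5 b1) := by
  classical
  set O := Orb K (dec 4) with hO
  have hfix : ∀ g ∈ K, g (dec 23) = dec 23 := fun g hg => ((mem_M23 g).1 (hKM hg)).2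
  have h4 : dec 4 ∈ O := ⟨1, K.one_mem, rfl⟩
  have h23 : dec 23 ∉ O := by
    rintro ⟨g, hg, e⟩
    have h1 := hfix g hg
    rw [← h1] at e
    have := dec_inj (by norm_num) (by norm_num) (g.injective e)
    omega
  refine ⟨decide (dec 0 ∈ O), decide (dec 5 ∈ O), decide (dec 1 ∈ O), ?_, ?_⟩
  all_goals
    set b0 := decide (dec 0 ∈ O) with hb0
    set b5 := decide (dec 5 ∈ O) with hb5
    set b1 := decide (dec 1 ∈ O) with hb1
    have hmem : ∀ p, p ∈ O ↔ (oMask b0 b5 b1).testBit (idx p) = true := by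
      intro p
      rw [hO, mem_orb_iff_rep K hQ, ← hO, oMask_ok b0 b5 b1 _ (M24.idx_lt p)]
      obtain ⟨hrc, hc5⟩ := rep_cls (idx p) (M24.idx_lt p)
      rw [hrc]
      generalize clsOf (idx p) = c at hc5
      interval_cases c
      · simpa using h23
      · simp [hb0]
      · simp [hb5]
      · simp [hb1]
      · simpa using h4
  · have h1 : ∀ g ∈ K, g (dec 4) ∈ maskSet (oMask b0 b5 b1) := by
      intro g hg
      rw [mem_maskSet, ← hmem]
      exact ⟨g, hg, rfl⟩
    have h2 : ∀ q ∈ maskSet (oMask b0 b5 b1), ∃ g ∈ K, g (dec 4) = q := by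
      intro q hq
      rw [mem_maskSet, ← hmem] at hq
      exact hq
    have h3 := card_chain_step K (dec 4) (maskSet (oMask b0 b5 b1)) h1 h2
    rw [card_maskSet] at h3
    exact ⟨_, h3⟩
  · intro g hg
    rw [smul_eq_iff_forall]
    have hC : ∀ p, p ∈ maskSet (cMask b0 b5 b1) ↔ p ∉ O ∧ p ≠ dec 23 := by
      intro p
      rw [mem_maskSet, cMask_ok b0 b5 b1 _ (M24.idx_lt p), hmem]
      simp only [Bool.and_eq_true, Bool.not_eq_true', beq_eq_false_iff_ne, ne_eq, Bool.not_eq_true]
      refine and_congr Iff.rfl (not_congr ?_)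
      constructor
      · intro h
        rw [← dec_idx p, h]
      · intro h
        rw [h]
        exact idx_dec ⟨23, by norm_num⟩
    intro x
    rw [hC, hC, hO, orb_smul K _ g hg]
    refine and_congr Iff.rfl (not_congr ?_)
    constructor
    · intro h
      rw [← hfix g hg] at h
      exact g.injective h
    · intro h
      rw [h]
      exact hfix g hg

end Cfsg.Agent.Helper29.M23Idx
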