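import Mathlib
import Cfsg.Agent.Lib.Helper29.M23Idx

set_option autoImplicit false
open Cfsg

namespace Cfsg.Agent.Helper29.M23Idx

open Cfsg.Agent.Helper27 Cfsg.Agent.Helper29 Cfsg.Agent.Helper29.M24
open Cfsg.Agent.Helper29.FusCert Cfsg.Agent.Helper29.Syl2 Cfsg.Agent.Helper29.FusPt
open Cfsg.Agent.Helper29.FusM23 (Q23 gt qt QL ctx)
open Cfsg.Agent.Helper29.IdxTools
open Cfsg.Agent.S0358 (idx)
open scoped Pointwise

/-! ### Conjugates of permutation groups -/

/-- the conjugate `g K g⁻¹` -/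
def conjS (g : Equiv.Perm GolayPt) (K : Subgroup (Equiv.Perm GolayPt)) :
    Subgroup (Equiv.Perm GolayPt) := K.map (MulAut.conj g).toMonoidHom

theorem mem_conjS (g : Equiv.Perm GolayPt) (K : Subgroup (Equiv.Perm GolayPt))
    (y : Equiv.Perm GolayPt) : y ∈ conjS g K ↔ g⁻¹ * y * g ∈ K := by
  unfold conjS
  rw [Subgroup.mem_map]
  constructor
  · rintro ⟨x, hx, rfl⟩
    have : g⁻¹ * (MulAut.conj g).toMonoidHom x * g = x := by
      show g⁻¹ * (g * x * g⁻¹) * g = x
      group
    rw [this]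
    exact hx
  · intro h
    refine ⟨g⁻¹ * y * g, h, ?_⟩
    show g * (g⁻¹ * y * g) * g⁻¹ = y
    group

theorem card_conjS (g : Equiv.Perm GolayPt) (K : Subgroup (Equiv.Perm GolayPt)) :
    Nat.card (conjS g K) = Nat.card K :=
  Subgroup.card_map_of_injective (MulAut.conj g).injective

theorem conjS_conjS (g h : Equiv.Perm GolayPt) (K : Subgroup (Equiv.Perm GolayPt)) :
    conjS g (conjS h K) = conjS (g * h) K := by
  ext y
  rw [mem_conjS, mem_conjS, mem_conjS]
  have : h⁻¹ * (g⁻¹ * y * g) * h = (g * h)⁻¹ * y * (g * h) := by group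
  rw [this]

theorem conjS_inv_eq (g : Equiv.Perm GolayPt) (K L : Subgroup (Equiv.Perm GolayPt))
    (h : conjS g K = L) : K = conjS g⁻¹ L := by
  rw [← h, conjS_conjS, inv_mul_cancel]
  ext y
  rw [mem_conjS]
  simp

/-! ### Stabilizers of three points -/

theorem map_stab_bp012 : (MulAction.stabilizer M24 (bp 0) ⊓ MulAction.stabilizer M24 (bp 1) ⊓
    MulAction.stabilizer M24 (bp 2)).map M24.subtype = grp 3 := by
  ext σ
  rw [Subgroup.mem_map, mem_grp_iff 3 (by norm_num)]
  constructor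
  · rintro ⟨x, hx, rfl⟩
    refine ⟨x.2, fun i' hi' => ?_⟩
    have : i' = 0 ∨ i' = 1 ∨ i' = 2 := by omega
    rcases this with rfl | rfl | rfl
    · exact hx.1.1
    · exact hx.1.2
    · exact hx.2
  · rintro ⟨h1, h2⟩
    exact ⟨⟨σ, h1⟩, ⟨⟨h2 0 (by norm_num), h2 1 (by norm_num)⟩, h2 2 (by norm_num)⟩, rfl⟩

theorem card_stab_three (p q r : GolayPt) (hpq : p ≠ q) (hpr : p ≠ r) (hqr : q ≠ r) :
    Nat.card ↥(MulAction.stabilizer M24 p ⊓ MulAction.stabilizer M24 q ⊓
      MulAction.stabilizer M24 r) = 20160 := by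
  obtain ⟨g, hg, hgp⟩ := exists_map_emb (k := 3) (by norm_num)
    ⟨fun i => if i = 0 then p else if i = 1 then q else r, by
      intro i j hij
      fin_cases i <;> fin_cases j <;> simp_all [eq_comm]⟩
  have h0 : p = (⟨g, hg⟩ : M24) • bp 0 := (hgp 0).symm
  have h1 : q = (⟨g, hg⟩ : M24) • bp 1 := (hgp 1).symm
  have h2 : r = (⟨g, hg⟩ : M24) • bp 2 := (hgp 2).symm
  rw [h0, h1, h2, MulAction.stabilizer_smul_eq_stabilizer_map_conj,
    MulAction.stabilizer_smul_eq_stabilizer_map_conj,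
    MulAction.stabilizer_smul_eq_stabilizer_map_conj,
    ← Subgroup.map_inf _ _ _ (MulEquiv.injective _), ← Subgroup.map_inf _ _ _ (MulEquiv.injective _),
    Subgroup.card_map_of_injective (MulEquiv.injective _), card_of_map_eq _ _ map_stab_bp012,
    card_grp 3 (by norm_num)]
  rfl

/-- the pointwise stabilizer of three points, inside the permutation group -/
theorem card_fix_three (p q r : GolayPt) (hpq : p ≠ q) (hpr : p ≠ r) (hqr : q ≠ r) :
    Nat.card ↥(Cfsg.M24 ⊓ MulAction.stabilizer (Equiv.Perm GolayPt) p ⊓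
      MulAction.stabilizer (Equiv.Perm GolayPt) q ⊓
      MulAction.stabilizer (Equiv.Perm GolayPt) r) = 20160 := by
  rw [← card_stab_three p q r hpq hpr hqr]
  symm
  apply card_of_map_eq
  ext σ
  rw [Subgroup.mem_map]
  constructor
  · rintro ⟨x, hx, rfl⟩
    exact Subgroup.mem_inf.2 ⟨Subgroup.mem_inf.2 ⟨Subgroup.mem_inf.2 ⟨x.2, hx.1.1⟩, hx.1.2⟩, hx.2⟩
  · intro h
    obtain ⟨h1, h2⟩ := Subgroup.mem_inf.1 h
    obtain ⟨h3, h4⟩ := Subgroup.mem_inf.1 h1
    obtain ⟨h5, h6⟩ := Subgroup.mem_inf.1 h3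
    exact ⟨⟨σ, h5⟩, ⟨⟨h6, h4⟩, h2⟩, rfl⟩

/-! ### The two subgroups of index 253 in standard position -/

/-- the stabilizer of the pair `{5, 14}` in the point stabilizer -/
def Lpair : Subgroup (Equiv.Perm GolayPt) :=
  Cfsg.Spor.M23 ⊓ MulAction.stabilizer (Equiv.Perm GolayPt) ({dec 5, dec 14} : Finset GolayPt)

/-- the stabilizer of the base octad in the point stabilizer -/
def Loct : Subgroup (Equiv.Perm GolayPt) :=
  Cfsg.Spor.M23 ⊓ MulAction.stabilizer (Equiv.Perm GolayPt) oct0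

theorem mem_Lpair (g : Equiv.Perm GolayPt) : g ∈ Lpair ↔
    g ∈ Cfsg.M24 ∧ g (dec 23) = dec 23 ∧ g • ({dec 5, dec 14} : Finset GolayPt) = {dec 5, dec 14} := by
  unfold Lpair
  rw [Subgroup.mem_inf, mem_M23, and_assoc]
  exact and_congr Iff.rfl (and_congr Iff.rfl MulAction.mem_stabilizer_iff)

theorem mem_Loct (g : Equiv.Perm GolayPt) : g ∈ Loct ↔
    g ∈ Cfsg.M24 ∧ g (dec 23) = dec 23 ∧ g • oct0 = oct0 := by
  unfold Loct
  rw [Subgroup.mem_inf, mem_M23, and_assoc]
  exact and_congr Iff.rfl (and_congr Iff.rfl MulAction.mem_stabilizer_iff)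

theorem dec23_mem_oct0 : dec 23 ∈ oct0 := by
  rw [oct0_eq, mem_maskSet_idx _ _ (by norm_num)]
  decide

theorem bp0_eq : bp 0 = dec 23 := rfl

theorem card_Loct : Nat.card ↥Loct = 40320 := by
  have h1 : ∀ g ∈ octK oct0, g (dec 23) ∈ oct0 := by
    intro g hg
    have := ((mem_octK oct0 g).1 hg).2
    rw [smul_eq_iff_forall] at this
    exact (this _).2 dec23_mem_oct0
  have h2 : ∀ q ∈ oct0, ∃ g ∈ octK oct0, g (dec 23) = q := by
    intro q hq
    obtain ⟨g0, hg0, e1, e2⟩ := exists_map_octad_point oct0 oct0_mem q hq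
    exact ⟨g0, (mem_octK oct0 g0).2 ⟨hg0, e1⟩, e2⟩
  have h3 := card_chain_step (octK oct0) (dec 23) oct0 h1 h2
  rw [card_octK oct0 oct0_mem, oct0_mem.2] at h3
  have e : octK oct0 ⊓ MulAction.stabilizer (Equiv.Perm GolayPt) (dec 23) = Loct := by
    ext g
    rw [Subgroup.mem_inf, mem_octK, mem_Loct, MulAction.mem_stabilizer_iff]
    constructor
    · rintro ⟨⟨a, b⟩, c⟩
      exact ⟨a, c, b⟩
    · rintro ⟨a, c, b⟩
      exact ⟨⟨a, b⟩, c⟩
  rw [e] at h3
  omega

def q14 : List ℕ × ℕ := conTab.getD 14 ([], 0)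

theorem q14_ok : Repr q14.2 q14.1 ∧ qt q14.2 = true ∧ appF q14.2 5 = 14 ∧ appF q14.2 14 = 5 ∧
    appF q14.2 23 = 23 := by
  decide +kernel

theorem card_Lpair : Nat.card ↥Lpair = 40320 := by
  obtain ⟨hr, hq, a5, a14, a23⟩ := q14_ok
  have hne : dec 5 ≠ dec 14 := fun h => by
    have := dec_inj (by norm_num) (by norm_num) h
    omega
  have hsw : evalW q14.1 ∈ Lpair := by
    rw [mem_Lpair]
    refine ⟨evalW_mem_M24 _ hr.1, ?_, ?_⟩
    · rw [evalW_dec _ _ hr 23 (by norm_num), a23]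
    · rw [Finset.smul_finset_insert, Finset.smul_finset_singleton]
      show ({evalW q14.1 (dec 5), evalW q14.1 (dec 14)} : Finset GolayPt) = _
      rw [evalW_dec _ _ hr 5 (by norm_num), evalW_dec _ _ hr 14 (by norm_num), a5, a14]
      exact Finset.pair_comm _ _
  have h1 : ∀ g ∈ Lpair, g (dec 5) ∈ ({dec 5, dec 14} : Finset GolayPt) := by
    intro g hg
    have := ((mem_Lpair g).1 hg).2.2
    rw [smul_eq_iff_forall] at this
    exact (this _).2 (by simp)
  have h2 : ∀ q ∈ ({dec 5, dec 14} : Finset GolayPt), ∃ g ∈ Lpair, g (dec 5) = q := by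
    intro q hq
    rw [Finset.mem_insert, Finset.mem_singleton] at hq
    rcases hq with rfl | rfl
    · exact ⟨1, Subgroup.one_mem _, rfl⟩
    · refine ⟨evalW q14.1, hsw, ?_⟩
      rw [evalW_dec _ _ hr 5 (by norm_num), a5]
  have h3 := card_chain_step Lpair (dec 5) {dec 5, dec 14} h1 h2
  rw [Finset.card_pair hne] at h3
  have e : Lpair ⊓ MulAction.stabilizer (Equiv.Perm GolayPt) (dec 5) =
      Cfsg.M24 ⊓ MulAction.stabilizer (Equiv.Perm GolayPt) (dec 23) ⊓
      MulAction.stabilizer (Equiv.Perm GolayPt) (dec 5) ⊓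
      MulAction.stabilizer (Equiv.Perm GolayPt) (dec 14) := by
    ext g
    simp only [Subgroup.mem_inf, mem_Lpair, MulAction.mem_stabilizer_iff]
    constructor
    · rintro ⟨⟨a, b, c⟩, d⟩
      refine ⟨⟨⟨a, b⟩, d⟩, ?_⟩
      rw [smul_eq_iff_forall] at c
      have h14 := (c (dec 14)).2 (by simp)
      rw [Finset.mem_insert, Finset.mem_singleton] at h14
      rcases h14 with h | h
      · have d' : g (dec 5) = dec 5 := d
        rw [← d'] at h
        exact absurd (g.injective h) hne.symm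
      · exact h
    · rintro ⟨⟨⟨a, b⟩, d⟩, c⟩
      refine ⟨⟨a, b, ?_⟩, d⟩
      rw [Finset.smul_finset_insert, Finset.smul_finset_singleton]
      show ({g (dec 5), g (dec 14)} : Finset GolayPt) = _
      have d' : g (dec 5) = dec 5 := d
      have c' : g (dec 14) = dec 14 := c
      rw [d', c']
  have hne2 : dec 23 ≠ dec 5 := fun h => by
    have := dec_inj (by norm_num) (by norm_num) h
    omega
  have hne3 : dec 23 ≠ dec 14 := fun h => by
    have := dec_inj (by norm_num) (by norm_num) h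
    omega
  rw [e, card_fix_three _ _ _ hne2 hne3 hne] at h3
  omega

theorem cMask_23 : ∀ b0 b5 b1 : Bool, (cMask b0 b5 b1).testBit 23 = false := by decide

/-- subgroups of index 253 of the point stabilizer containing its Sylow 2-subgroup -/
theorem std_253 (K : Subgroup (Equiv.Perm GolayPt)) (hKM : K ≤ Cfsg.Spor.M23) (hQ : Q23 ≤ K)
    (hc : Nat.card K = 40320) : K = Lpair ∨ K = Loct := by
  have hKM24 : K ≤ Cfsg.M24 := fun g hg => ((mem_M23 g).1 (hKM hg)).1
  have hfix : ∀ g ∈ K, g (dec 23) = dec 23 := fun g hg => ((mem_M23 g).1 (hKM hg)).2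
  obtain ⟨b0, b5, b1, hdvd, hinv⟩ := orbit_cases K hKM hQ
  rw [hc] at hdvd
  have h7 : 7 ∣ Nat.card K := by rw [hc]; norm_num
  have hsmall : (maskSet (cMask b0 b5 b1)).card < 7 → (maskSet (cMask b0 b5 b1)).card ≤ 2 := by
    intro hlt
    refine small_inv_set K hKM24 h7 _ hinv (dec 23) ?_ hfix hlt
    rw [mem_maskSet_idx _ _ (by norm_num), cMask_23]
    exact Bool.false_ne_true
  rw [card_maskSet] at hsmall
  revert hdvd hsmall hinv
  rcases b0 with _ | _ <;> rcases b5 with _ | _ <;> rcases b1 with _ | _ <;> intro hdvd hinv hsmall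
  · -- orbit of size 16: the octad
    right
    apply Subgroup.eq_of_le_of_card_ge
    · intro g hg
      rw [mem_Loct]
      refine ⟨hKM24 hg, hfix g hg, ?_⟩
      have e : oct0 = insert (dec 23) (maskSet (cMask false false false)) := by
        rw [oct0_eq]
        decide
      rw [e, Finset.smul_finset_insert, hinv g hg]
      show insert (g (dec 23)) _ = _
      rw [hfix g hg]
    · rw [card_Loct, hc]
  · exfalso
    have := hsmall (by decide)
    revert this
    decide
  · exfalso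
    have := hsmall (by decide)
    revert this
    decide
  · exfalso
    revert hdvd
    decide
  · exfalso
    revert hdvd
    decide
  · left
    apply Subgroup.eq_of_le_of_card_ge
    · intro g hg
      rw [mem_Lpair]
      refine ⟨hKM24 hg, hfix g hg, ?_⟩
      have e : ({dec 5, dec 14} : Finset GolayPt) = maskSet (cMask true false true) := by
        decide
      rw [e]
      exact hinv g hg
    · rw [card_Lpair, hc]
  · exfalso
    revert hdvd
    decide
  · exfalso
    revert hdvd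
    decide

end Cfsg.Agent.Helper29.M23Idx
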