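import Mathlib
import Cfsg.Agent.Lib.Helper29.M23IdxB

set_option autoImplicit false
open Cfsg

namespace Cfsg.Agent.Helper29.M23Idx

open Cfsg.Agent.Helper27 Cfsg.Agent.Helper29 Cfsg.Agent.Helper29.M24
open Cfsg.Agent.Helper29.FusCert Cfsg.Agent.Helper29.Syl2 Cfsg.Agent.Helper29.FusPt
open Cfsg.Agent.Helper29.FusM23 (Q23 gt qt QL ctx)
open Cfsg.Agent.Helper29.IdxTools
open Cfsg.Agent.S0358 (idx)
open scoped Pointwise

theorem fact2 : (10200960 : ℕ).factorization 2 = 7 := by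
  have h : (10200960 : ℕ) = 2 ^ 7 * 79695 := by norm_num
  rw [h, Nat.factorization_mul (by norm_num) (by norm_num), Finsupp.add_apply,
    Nat.factorization_pow, Finsupp.smul_apply, Nat.prime_two.factorization_self,
    Nat.factorization_eq_zero_of_not_dvd (by norm_num)]
  rfl

theorem conj_smul_iff (g h : Equiv.Perm GolayPt) (C : Finset GolayPt) :
    (g * h * g⁻¹) • C = C ↔ h • (g⁻¹ • C) = g⁻¹ • C := by
  rw [mul_smul, mul_smul, smul_eq_iff_eq_inv_smul]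

/-- a subgroup fixing a point and of order divisible by 128 is conjugate to a subgroup of the
standard point stabilizer containing the standard Sylow 2-subgroup -/
theorem conj_to_std (K : Subgroup (Equiv.Perm GolayPt)) (hKM : K ≤ Cfsg.M24) (x : GolayPt)
    (hx : ∀ g ∈ K, g x = x) (h128 : 128 ∣ Nat.card K) :
    ∃ g ∈ Cfsg.M24, g x = dec 23 ∧ Q23 ≤ conjS g K ∧ conjS g K ≤ Cfsg.Spor.M23 := by
  have : Fact (Nat.Prime 2) := ⟨Nat.prime_two⟩
  obtain ⟨g1, hg1, hg1x⟩ := exists_map_emb (k := 1) (by norm_num)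
    ⟨fun _ => x, fun _ _ _ => Subsingleton.elim _ _⟩
  have hg1x' : g1 (dec 23) = x := hg1x 0
  have hg1i : g1⁻¹ x = dec 23 := by rw [← hg1x']; simp
  have hK1 : conjS g1⁻¹ K ≤ Cfsg.Spor.M23 := by
    intro y hy
    rw [mem_conjS] at hy
    rw [inv_inv] at hy
    rw [mem_M23]
    have e : y = g1⁻¹ * (g1 * y * g1⁻¹) * g1 := by group
    constructor
    · rw [e]
      exact Subgroup.mul_mem _ (Subgroup.mul_mem _ (Subgroup.inv_mem _ hg1) (hKM hy)) hg1
    · have h1 := hx _ hy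
      rw [Equiv.Perm.mul_apply, Equiv.Perm.mul_apply, hg1i] at h1
      have h2 : y (dec 23) = g1⁻¹ (g1 (y (dec 23))) := by simp
      rw [h2, h1, hg1i]
  have : Finite ↥Cfsg.Spor.M23 := Nat.finite_of_card_ne_zero (by rw [SchurM23.card_M23]; norm_num)
  obtain ⟨S, hS⟩ := SchurM23.sylow2
  have hcS : Nat.card (S : Subgroup ↥Cfsg.Spor.M23) = 128 := by
    rw [S.card_eq_multiplicity, SchurM23.card_M23, fact2]
    norm_num
  have hcK1 : Nat.card ((conjS g1⁻¹ K).subgroupOf Cfsg.Spor.M23) = Nat.card K := by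
    rw [Nat.card_congr (Subgroup.subgroupOfEquivOfLe hK1).toEquiv, card_conjS]
  obtain ⟨h0, hh0⟩ := exists_conj_sylow_le 2 S ((conjS g1⁻¹ K).subgroupOf Cfsg.Spor.M23)
    (by rw [hcS, hcK1]; exact h128)
  have hh0M : (h0 : Equiv.Perm GolayPt) ∈ Cfsg.Spor.M23 := h0.2
  refine ⟨(h0 : Equiv.Perm GolayPt)⁻¹ * g1⁻¹, ?_, ?_, ?_, ?_⟩
  · exact Subgroup.mul_mem _ (Subgroup.inv_mem _ ((mem_M23 _).1 hh0M).1) (Subgroup.inv_mem _ hg1)
  · rw [Equiv.Perm.mul_apply, hg1i]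
    have := ((mem_M23 _).1 hh0M).2
    conv_lhs => rw [← this]
    simp
  · intro q hq
    rw [← conjS_conjS, mem_conjS, inv_inv]
    have hq23 : q ∈ Cfsg.Spor.M23 := ctx.hQG hq
    have h1 : (⟨q, hq23⟩ : ↥Cfsg.Spor.M23) ∈ (S : Subgroup ↥Cfsg.Spor.M23) := by
      rw [hS]
      exact Subgroup.mem_subgroupOf.2 hq
    have h2 := hh0 _ h1
    rw [Subgroup.mem_subgroupOf] at h2
    simpa using h2
  · intro y hy
    rw [← conjS_conjS, mem_conjS, inv_inv] at hy
    have h1 := hK1 hy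
    have e : y = (h0 : Equiv.Perm GolayPt)⁻¹ * ((h0 : Equiv.Perm GolayPt) * y *
        (h0 : Equiv.Perm GolayPt)⁻¹) * (h0 : Equiv.Perm GolayPt) := by group
    rw [e]
    exact Subgroup.mul_mem _ (Subgroup.mul_mem _ (Subgroup.inv_mem _ hh0M) h1) hh0M

end Cfsg.Agent.Helper29.M23Idx
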