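import Mathlib
import Cfsg.Agent.Lib.Helper29.FusMain
import Cfsg.Agent.Lib.Helper29.M24Syl2

set_option autoImplicit false
open Cfsg

namespace Cfsg.Agent.Helper29.FusM24

open Cfsg.Agent.Helper27 Cfsg.Agent.Helper29 Cfsg.Agent.Helper29.M24
open Cfsg.Agent.Helper29.FusCert Cfsg.Agent.Helper29.Syl2
open Cfsg.Agent.S0358 (idx)

/-- a word whose packed action moves a point is not the identity -/
theorem evalW_ne_one (W : List ℕ) (c : ℕ) (hr : Repr c W) (x : ℕ) (hx : x < 24)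
    (h : appF c x ≠ x) : evalW W ≠ 1 := by
  intro h1
  apply h
  have h2 := idx_evalW W hr.1 (dec x)
  rw [h1, Equiv.Perm.one_apply, idx_dec ⟨x, hx⟩] at h2
  rw [appF_eq, hr.2 x hx]
  exact h2.symm

theorem ctx : Ctx M24 P0 (fun _ => true) finC PC where
  hG := fun W _ hr _ => evalW_mem_M24 W hr.1
  hQ := fun W c hr h => mem_P0_of_fin W c hr h
  hQL := P0_sub
  hQG := fun g hg => ((mem_P0 g).1 hg).1
  hpow := P0_pow8

def zz : List ℕ × ℕ := ([11, 9], 968708902336673183175954409307867168)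

def ys : List (List ℕ × ℕ) := [([2, 2, 2, 4, 4, 4, 5, 7, 6, 6, 6, 7, 6, 8, 11, 10], 972770454313256898457466314500375616), ([12, 10, 9], 979121071158219704299181131031480352), ([1, 2, 2, 4, 5, 4, 4, 5, 4, 8, 11, 10, 9], 13640695473577106212603157010287159), ([0, 2, 2, 0, 1, 2, 2, 0, 0, 2, 0, 0, 3, 3, 2, 4, 6, 7, 8, 12, 9], 227499690583746644101550772108494894), ([2, 2, 1, 0, 1, 2, 0, 0, 2, 0, 0, 3, 2, 4, 5, 4, 4, 5, 4, 6, 6, 6, 8, 8, 12, 10], 735369959660987762383015352408913921), ([12, 11, 9], 963721886883755259286232606933354528)]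

def steps : List Step := [
  .conj 9999 [2, 2, 0, 1, 2, 2, 0, 2, 0, 2, 4, 4, 4, 4, 5, 4, 6, 6, 6, 7, 6, 12, 11, 9] 186128314776233322244857648336884462 [0, 1, 0, 2, 0, 0, 2, 0, 3, 2, 3, 2, 2, 4, 4, 4, 5, 7, 7, 6, 8, 12, 11, 10, 9] 62635099115511169313521596823289251,
  .conj 9999 [0, 2, 2, 0, 2, 3, 4, 4, 5, 7, 6, 6, 8, 8, 12, 11, 10, 9] 975720280853973247675492175083768869 [2, 2, 2, 0, 2, 0, 2, 2, 2, 4, 5, 5, 4, 7, 8, 8, 12] 979616559822060482484879992957244465,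
  .conj 9999 [1, 0, 0, 0, 1, 0, 0, 0, 2, 0, 3, 3, 2, 2, 4, 4, 4, 5, 7, 7, 6, 7, 6, 11, 9] 635412690099804770868720814593099843 [1, 0, 0, 0, 1, 2, 2, 2, 0, 2, 0, 2, 2, 4, 5, 4, 5, 4, 6, 7, 6, 8, 8, 10, 9] 638986106434933237495842269573416237,
  .conj 0 [0, 0, 0, 1, 0, 0, 2, 0, 2, 3, 4, 5, 6, 6, 7, 6, 8, 12, 11, 10, 9] 145799215924608358655683422803427787 [2, 0, 0, 1, 0, 2, 0, 0, 2, 0, 2, 2, 2, 3, 5, 6, 6, 6, 7, 6, 12, 10] 271726536530359109494018566336004386,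
  .conj 9999 [0, 2, 0, 1, 0, 0, 0, 2, 0, 2, 2, 2, 3, 5, 4, 4, 4, 4, 5, 7, 6, 6, 6, 7, 6, 8, 8, 10] 795294870532390139703090628276207178 [0, 1, 0, 0, 0, 1, 2, 0, 2, 0, 2, 2, 2, 4, 5, 5, 4, 6, 6, 6, 7, 6, 12, 11, 10, 9] 669377474342797346727369132548071026,
  .conj 9999 [0, 1, 0, 2, 0, 0, 2, 0, 3, 3, 2, 2, 4, 5, 7, 6, 6, 7, 6, 12, 11, 9] 59212774766575275640203009757086435 [0, 1, 2, 0, 2, 0, 2, 4, 4, 4, 4, 5, 8, 12, 10, 9] 67930447560731030804337320363298530,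
  .mul 3 5,
  .mul 6 3,
  .mul 7 5,
  .mul 0 1,
  .mul 9 0,
  .mul 9999 0,
  .mul 11 2,
  .mul 12 0,
  .mul 13 3,
  .mul 14 2,
  .mul 15 3,
  .mul 9 2,
  .mul 17 0,
  .mul 18 2,
  .mul 19 1,
  .mul 9 3,
  .mul 21 2,
  .mul 22 0,
  .mul 23 3,
  .mul 12 3,
  .mul 25 2,
  .mul 0 3,
  .mul 27 2,
  .mul 28 0,
  .mul 29 3,
  .mul 30 4]

def gens : List ℕ := [31, 0, 26, 24, 20, 16, 5, 10, 8, 9999]

set_option maxRecDepth 100000 in
theorem check : checkA (fun _ => true) finC PC zz ys steps gens = true := by decide +kernel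

theorem coreA : CoreA M24 P0 := coreA_of_check ctx zz ys steps gens check

theorem coreN : CoreN M24 P0 := fun n hn h => P0_normalizer n hn h

theorem zz_ok : Repr zz.2 zz.1 ∧ finC zz.2 = true ∧ appF zz.2 4 ≠ 4 := by decide +kernel

theorem P0_ne_bot : P0 ≠ ⊥ := by
  intro hb
  have h1 : evalW zz.1 ∈ P0 := mem_P0_of_fin zz.1 zz.2 zz_ok.1 zz_ok.2.1
  rw [hb, Subgroup.mem_bot] at h1
  exact evalW_ne_one zz.1 zz.2 zz_ok.1 4 (by norm_num) zz_ok.2.2 h1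

end Cfsg.Agent.Helper29.FusM24
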