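import Mathlib
import Cfsg.Agent.Lib.Helper29.StemSplit

set_option autoImplicit false

namespace Cfsg.Agent.Helper29.StemSplit

open Cfsg.Agent.Helper29.StemSylow
open scoped commutatorElement

variable {Γ : Type*} [Group Γ] {G : Type*} [Group G]

/-- a factor commuting with the other argument does not change a commutator -/
theorem comm_strip_left (x y z : Γ) (hz : z * y = y * z) : ⁅x * z, y⁆ = ⁅x, y⁆ := by
  have h1 : z * y * z⁻¹ = y := by rw [hz]; group
  calc ⁅x * z, y⁆ = x * (z * y * z⁻¹) * x⁻¹ * y⁻¹ := by rw [commutatorElement_def]; group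
    _ = ⁅x, y⁆ := by rw [h1, commutatorElement_def]

theorem comm_strip_right (x y z : Γ) (hz : z * x = x * z) : ⁅x, y * z⁆ = ⁅x, y⁆ := by
  have h1 : z * x⁻¹ * z⁻¹ = x⁻¹ := by
    have : z * x⁻¹ = x⁻¹ * z := by
      calc z * x⁻¹ = x⁻¹ * (x * z) * x⁻¹ := by group
        _ = x⁻¹ * (z * x) * x⁻¹ := by rw [hz]
        _ = x⁻¹ * z := by group
    rw [this]; group
  calc ⁅x, y * z⁆ = x * y * (z * x⁻¹ * z⁻¹) * y⁻¹ := by rw [commutatorElement_def]; group
    _ = ⁅x, y⁆ := by rw [h1, commutatorElement_def]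

/-- conjugation by an element mapping generators into the generated subgroup preserves it -/
theorem conj_mem_closure (S : Set G) (g : G) (h : ∀ s ∈ S, g * s * g⁻¹ ∈ Subgroup.closure S)
    (u : G) (hu : u ∈ Subgroup.closure S) : g * u * g⁻¹ ∈ Subgroup.closure S := by
  have hle : Subgroup.closure S ≤ (Subgroup.closure S).comap (MulAut.conj g).toMonoidHom := by
    rw [Subgroup.closure_le]
    intro s hs
    exact h s hs
  exact hle hu

/-- the twisted cyclic case with an additional commuting element -/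
theorem twist_core_c (σ : Γ →* G) (hK : σ.ker ≤ Subgroup.center Γ) (H : Subgroup Γ)
    (a b t : Γ) (hta : t * a = a * t) (htb : t * b = b * t)
    (hba : σ b * σ a * (σ b)⁻¹ = σ a ^ 3)
    (hh : ∀ u ∈ H, ∃ i j : ℤ, σ u = σ a ^ i * σ t ^ j ∨ σ u = σ a ^ i * σ b * σ t ^ j) :
    ⁅H, H⁆ ≤ Subgroup.zpowers ⁅b, a⁆ ∧ σ ⁅b, a⁆ = σ a ^ 2 ∧ ⁅b, a⁆ ^ 2 = ⁅b, a ^ 2⁆ := by
  obtain ⟨c, hc⟩ : ∃ c, c = ⁅b, a⁆ := ⟨_, rfl⟩
  rw [← hc]
  have hbab : b * a * b⁻¹ = c * a := by rw [hc, commutatorElement_def]; group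
  have hσc : σ c = σ a ^ 2 := by
    rw [hc, map_commutatorElement, commutatorElement_def, hba]; group
  obtain ⟨κ₁, hκ₁, e1⟩ := exists_ker_mul σ c (a ^ 2) (by rw [hσc, map_pow])
  have k1 := central_comm σ hK hκ₁
  have hca : Commute c a := by
    show c * a = a * c
    rw [e1, mul_assoc, ← k1 a, ← mul_assoc, ← mul_assoc, ← pow_succ, ← pow_succ']
  have hconj : ∀ z : ℤ, b * a ^ z * b⁻¹ = c ^ z * a ^ z := by
    intro z
    rw [← conj_zpow, hbab, hca.mul_zpow]
  have cta : Commute t a := hta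
  have ctb : Commute t b := htb
  have t1 : ∀ (j i : ℤ), t ^ j * a ^ i = a ^ i * t ^ j := fun j i => (cta.zpow_zpow j i).eq
  have t2 : ∀ (j i : ℤ), t ^ j * (a ^ i * b) = a ^ i * b * t ^ j := fun j i =>
    ((cta.zpow_zpow j i).mul_right (ctb.zpow_left j)).eq
  refine ⟨?_, hσc, ?_⟩
  · rw [Subgroup.commutator_le]
    intro u hu v hv
    obtain ⟨i, j, hi⟩ := hh u hu
    obtain ⟨m, l, hm⟩ := hh v hv
    simp only [← map_zpow, ← map_mul] at hi hm
    rcases hi with hi | hi <;> rcases hm with hm | hm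
    · obtain ⟨κ, hκ, rfl⟩ := exists_ker_mul σ u _ hi
      obtain ⟨μ, hμ, rfl⟩ := exists_ker_mul σ v _ hm
      rw [comm_central_left (central_comm σ hK hκ), comm_central_right (central_comm σ hK hμ),
        comm_strip_right _ _ _ ((cta.zpow_zpow l i).mul_right (Commute.zpow_zpow_self t l j)).eq,
        comm_strip_left _ _ _ (t1 j m)]
      have : ⁅a ^ i, a ^ m⁆ = 1 := by
        rw [commutatorElement_eq_one_iff_commute]
        exact Commute.zpow_zpow_self a i m
      rw [this]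
      exact Subgroup.one_mem _
    · obtain ⟨κ, hκ, rfl⟩ := exists_ker_mul σ u _ hi
      obtain ⟨μ, hμ, rfl⟩ := exists_ker_mul σ v _ hm
      rw [comm_central_left (central_comm σ hK hκ), comm_central_right (central_comm σ hK hμ),
        comm_strip_right _ _ _ ((cta.zpow_zpow l i).mul_right (Commute.zpow_zpow_self t l j)).eq,
        comm_strip_left _ _ _ (t2 j m),
        ← commutatorElement_inv, comm_twist a b c hca hconj]
      exact Subgroup.inv_mem _ (Subgroup.zpow_mem_zpowers c i)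
    · obtain ⟨κ, hκ, rfl⟩ := exists_ker_mul σ u _ hi
      obtain ⟨μ, hμ, rfl⟩ := exists_ker_mul σ v _ hm
      rw [comm_central_left (central_comm σ hK hκ), comm_central_right (central_comm σ hK hμ),
        comm_strip_right _ _ _
          (((cta.zpow_zpow l i).mul_right (ctb.zpow_left l)).mul_right
            (Commute.zpow_zpow_self t l j)).eq,
        comm_strip_left _ _ _ (t1 j m), comm_twist a b c hca hconj]
      exact Subgroup.zpow_mem_zpowers c m
    · obtain ⟨κ, hκ, rfl⟩ := exists_ker_mul σ u _ hi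
      obtain ⟨μ, hμ, rfl⟩ := exists_ker_mul σ v _ hm
      rw [comm_central_left (central_comm σ hK hκ), comm_central_right (central_comm σ hK hμ),
        comm_strip_right _ _ _
          (((cta.zpow_zpow l i).mul_right (ctb.zpow_left l)).mul_right
            (Commute.zpow_zpow_self t l j)).eq,
        comm_strip_left _ _ _ (t2 j m), comm_twist' a b c hca hconj]
      exact Subgroup.zpow_mem_zpowers c _
  · have h2 := hconj 2
    rw [commutatorElement_def]
    have h3 : b * a ^ 2 * b⁻¹ * (a ^ 2)⁻¹ = b * a ^ (2 : ℤ) * b⁻¹ * (a ^ (2 : ℤ))⁻¹ := by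
      rw [zpow_ofNat]
    rw [h3, h2, zpow_ofNat, zpow_ofNat]
    group

/-- the case of a dihedral group times a group of order two -/
theorem comm_dihedral_c (σ : Γ →* G) (hK : σ.ker ≤ Subgroup.center Γ) (H : Subgroup Γ)
    (a b t : Γ) (hta : t * a = a * t) (htb : t * b = b * t)
    (hba : σ b * σ a * (σ b)⁻¹ = σ a ^ 3) (hcomm : b * a ^ 2 = a ^ 2 * b)
    (hh : ∀ u ∈ H, ∃ i j : ℤ, σ u = σ a ^ i * σ t ^ j ∨ σ u = σ a ^ i * σ b * σ t ^ j)
    (E : Subgroup G) (ha2 : σ a ^ 2 ∉ E) : ∀ c ∈ ⁅H, H⁆, σ c ∈ E → c = 1 := by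
  obtain ⟨h1, h2, h3⟩ := twist_core_c σ hK H a b t hta htb hba hh
  have h4 : ⁅b, a⁆ ^ 2 = 1 := by
    rw [h3]
    exact commutatorElement_eq_one_iff_mul_comm.2 hcomm
  intro c hc hcE
  obtain ⟨j, rfl⟩ := Subgroup.mem_zpowers_iff.1 (h1 hc)
  rcases Int.even_or_odd' j with ⟨t', rfl | rfl⟩
  · rw [zpow_mul, zpow_ofNat, h4, one_zpow]
  · exfalso
    apply ha2
    rw [zpow_add, zpow_mul, zpow_ofNat, h4, one_zpow, one_mul, zpow_one, h2] at hcE
    exact hcE

/-- the order of the group generated by two commuting elements of order three -/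
theorem nine_dvd_card_pair [Finite G] (x y : G) (h : Commute x y) (hx3 : x ^ 3 = 1)
    (hy3 : y ^ 3 = 1) (hx : x ≠ 1) (hy1 : y ≠ 1) (hyx : y ≠ x) (hyx2 : y ≠ x ^ 2) :
    IsPGroup 3 (pairSubgroup x y h) ∧ 3 ^ 2 ∣ Nat.card (pairSubgroup x y h) := by
  have : Fact (Nat.Prime 3) := ⟨Nat.prime_three⟩
  have hP : IsPGroup 3 (pairSubgroup x y h) := by
    intro g
    refine ⟨1, ?_⟩
    obtain ⟨i, j, hg⟩ := g.2
    apply Subtype.ext
    rw [pow_one, Subgroup.coe_pow, hg, (h.zpow_zpow i j).mul_pow, ← zpow_natCast, ← zpow_natCast,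
      ← zpow_mul, ← zpow_mul, mul_comm i, mul_comm j, zpow_mul, zpow_mul, zpow_natCast,
      zpow_natCast, hx3, hy3, one_zpow, one_zpow, mul_one]
    rfl
  refine ⟨hP, ?_⟩
  obtain ⟨k, hk⟩ := (IsPGroup.iff_card).1 hP
  have hxo : orderOf x = 3 := orderOf_eq_prime hx3 hx
  have hle : Subgroup.zpowers x ≤ pairSubgroup x y h := by
    rw [Subgroup.zpowers_le]
    exact ⟨1, 0, by simp⟩
  have hymem : y ∈ pairSubgroup x y h := ⟨0, 1, by simp⟩
  have hynot : y ∉ Subgroup.zpowers x := by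
    classical
    rw [mem_zpowers_iff_mem_range_orderOf, hxo]
    simp only [Finset.mem_image, Finset.mem_range, not_exists, not_and]
    intro i hi e
    interval_cases i
    · exact hy1 (by rw [← e, pow_zero])
    · exact hyx (by rw [← e, pow_one])
    · exact hyx2 e.symm
  have hk2 : 2 ≤ k := by
    by_contra hlt
    have hk1 : k ≤ 1 := by omega
    have hc : Nat.card (pairSubgroup x y h) ≤ Nat.card (Subgroup.zpowers x) := by
      rw [hk, Nat.card_zpowers, hxo]
      calc 3 ^ k ≤ 3 ^ 1 := Nat.pow_le_pow_right (by norm_num) hk1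
        _ = 3 := by norm_num
    have := Subgroup.eq_of_le_of_card_ge hle hc
    apply hynot
    rw [this]
    exact hymem
  rw [hk]
  exact Nat.pow_dvd_pow 3 hk2

/-- a `p`-subgroup properly containing a subgroup of order divisible by `p ^ k` has index
prime to `p`, if `p ^ (k + 2)` does not divide the order of the group -/
theorem not_dvd_index_of_lt [Finite G] (p : ℕ) [Fact p.Prime] (E P : Subgroup G)
    (hP : IsPGroup p P) (hEP : E ≤ P) (hne : ∃ d ∈ P, d ∉ E) (k : ℕ)
    (hE : p ^ k ∣ Nat.card E) (hG : ¬ p ^ (k + 2) ∣ Nat.card G) : ¬ p ∣ P.index := by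
  have hp : p.Prime := Fact.out
  obtain ⟨m, hm⟩ := (IsPGroup.iff_card).1 hP
  obtain ⟨j, hj⟩ := (IsPGroup.iff_card).1 (hP.to_le hEP)
  have hkj : k ≤ j := by
    rw [hj] at hE
    exact (Nat.pow_dvd_pow_iff_le_right hp.one_lt).1 hE
  have hjm : j ≤ m := by
    have h1 := Subgroup.card_dvd_of_le hEP
    rw [hj, hm] at h1
    exact (Nat.pow_dvd_pow_iff_le_right hp.one_lt).1 h1
  have hne' : j ≠ m := by
    intro e
    obtain ⟨d, hdP, hdE⟩ := hne
    have hc : Nat.card P ≤ Nat.card E := by rw [hj, hm, e]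
    have := Subgroup.eq_of_le_of_card_ge hEP hc
    exact hdE (this ▸ hdP)
  have hkm : k + 1 ≤ m := by omega
  intro hd
  apply hG
  rw [← Subgroup.card_mul_index P, hm, pow_succ]
  exact Nat.mul_dvd_mul ((Nat.pow_dvd_pow p hkm)) hd

end Cfsg.Agent.Helper29.StemSplit
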