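import Mathlib
import Cfsg.Agent.Lib.Helper29.StemSplit2
import Cfsg.Agent.Lib.Helper29.SchurM23
import Cfsg.Agent.Lib.Helper29.FusM24

set_option autoImplicit false
open Cfsg

namespace Cfsg.Agent.Helper29.SchurM24

open Cfsg.Agent.Helper27 Cfsg.Agent.Helper29 Cfsg.Agent.Helper29.M24
open Cfsg.Agent.Helper29.FusCert Cfsg.Agent.Helper29.Syl2 Cfsg.Agent.Helper29.FusPt
open Cfsg.Agent.Helper29.FusM24 (ctx coreN)
open Cfsg.Agent.Helper29.StemSylow Cfsg.Agent.Helper29.StemSplit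
open Cfsg.Agent.Helper29.SchurM11 (weq evalW_eq_of_weq evalW_eq_of_eqC)
open Cfsg.Agent.Helper29.SchurM23 (mO grp6_fix mem_grp6 normalizes_grp6 conj_of_weq evalW_single
  evalW_pair level6 invNorm fixO mem_grp6_of_fixO)
open Cfsg.Agent.S0358 (idx)
open scoped Pointwise

/-! ### The Sylow 2-subgroup -/

theorem sylow2 : ∃ S : Sylow 2 ↥M24, (S : Subgroup ↥M24) = P0.subgroupOf M24 := by
  have : Fact (Nat.Prime 2) := ⟨Nat.prime_two⟩
  apply exists_sylow_eq_of_selfNormalizing 2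
  · intro g
    refine ⟨3, ?_⟩
    apply Subtype.ext
    apply Subtype.ext
    have := ctx.hpow g.1.1 (Subgroup.mem_subgroupOf.1 g.2)
    simpa using this
  · intro n hn
    rw [Subgroup.mem_subgroupOf]
    apply coreN _ n.2
    intro x hx
    have := hn ⟨x, ctx.hQG hx⟩ (Subgroup.mem_subgroupOf.2 hx)
    rw [Subgroup.mem_subgroupOf] at this
    exact this

/-! ### Lists closed under multiplication -/

theorem closure_sub_list (S : Set (Equiv.Perm GolayPt)) (L : List (List ℕ × ℕ))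
    (hL : ∀ q ∈ L, Repr q.2 q.1)
    (hS : ∀ s ∈ S, ∃ q ∈ L, s = evalW q.1)
    (hone : (L.any fun q => eqC q.2 cId) = true)
    (hmul : (L.all fun p => L.all fun q => L.any fun r => eqC (compF p.2 q.2) r.2) = true)
    (hinv : (L.all fun p => L.any fun q => eqC (compF p.2 q.2) cId) = true)
    (u : Equiv.Perm GolayPt) (hu : u ∈ Subgroup.closure S) : ∃ q ∈ L, u = evalW q.1 := by
  induction hu using Subgroup.closure_induction with
  | mem s hs => exact hS s hs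
  | one =>
    obtain ⟨q, hq, h⟩ := List.any_eq_true.1 hone
    refine ⟨q, hq, ?_⟩
    rw [evalW_eq_of_eqC _ _ _ _ (hL q hq) repr_cId h, evalW_nil]
  | mul x y _ _ ihx ihy =>
    obtain ⟨p, hp, rfl⟩ := ihx
    obtain ⟨q, hq, rfl⟩ := ihy
    have h1 := List.all_eq_true.1 (List.all_eq_true.1 hmul p hp) q hq
    obtain ⟨r, hr, h⟩ := List.any_eq_true.1 h1
    refine ⟨r, hr, ?_⟩
    rw [← evalW_append]
    exact evalW_eq_of_eqC _ _ _ _ (repr_compF _ _ _ _ (hL p hp) (hL q hq)) (hL r hr) h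
  | inv x _ ih =>
    obtain ⟨p, hp, rfl⟩ := ih
    have h1 := List.all_eq_true.1 hinv p hp
    obtain ⟨q, hq, h⟩ := List.any_eq_true.1 h1
    refine ⟨q, hq, ?_⟩
    have h2 := evalW_eq_of_eqC _ _ _ _ (repr_compF _ _ _ _ (hL p hp) (hL q hq)) repr_cId h
    rw [evalW_append, evalW_nil] at h2
    exact inv_eq_of_mul_eq_one_right h2

/-- all products of sublists -/
def prods : List (List ℕ × ℕ) → List (List ℕ × ℕ)
  | [] => [([], cId)]
  | g :: gs => prods gs ++ (prods gs).map fun q => (g.1 ++ q.1, compF g.2 q.2)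

theorem prods_spec (K : Subgroup (Equiv.Perm GolayPt)) : ∀ gs : List (List ℕ × ℕ),
    (∀ g ∈ gs, Repr g.2 g.1 ∧ evalW g.1 ∈ K) → ∀ q ∈ prods gs, Repr q.2 q.1 ∧ evalW q.1 ∈ K
  | [], _, q, hq => by
    unfold prods at hq
    rw [List.mem_singleton] at hq
    subst hq
    exact ⟨repr_cId, by rw [evalW_nil]; exact Subgroup.one_mem _⟩
  | g :: gs, h, q, hq => by
    have ih := prods_spec K gs (fun g' hg' => h g' (List.mem_cons_of_mem _ hg'))
    unfold prods at hq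
    rw [List.mem_append, List.mem_map] at hq
    rcases hq with hq | ⟨q', hq', rfl⟩
    · exact ih q hq
    · have hg := h g List.mem_cons_self
      have hq'' := ih q' hq'
      have hr : Repr (compF g.2 q'.2) (g.1 ++ q'.1) := repr_compF _ _ _ _ hg.1 hq''.1
      dsimp only
      refine ⟨hr, ?_⟩
      rw [evalW_append]
      exact Subgroup.mul_mem _ hg.2 hq''.2

/-! ### Explicit elements -/

def Wz : List ℕ := [1, 0, 1, 0, 0, 0, 3, 4, 5, 7, 6, 7, 8]

def cz : ℕ := 929627309438872078008758102134443370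

def Wt : List ℕ := [12]

def ct : ℕ := 971592882964418941354553515258775584

def Wr : List ℕ := [0, 0, 0, 1, 0, 3, 2, 2, 4, 4, 4, 4, 5, 6, 8, 8, 9]

def cr : ℕ := 148169951611992686471020569743004674

def Ws : List ℕ := [1, 3, 2, 2, 2, 3, 5, 4, 5, 4, 6, 6, 6, 7, 6, 8, 9]

def cs : ℕ := 13316960554011327727071109117428855

def Wgsr2 : List ℕ := [0, 1, 0, 2, 5, 4, 6]

def cgsr2 : ℕ := 58678765728743923684033739015936224

def Wgsr2i : List ℕ := [1, 0, 2, 2, 0, 1, 2, 3, 2, 2, 3, 4, 4, 4, 4, 5, 4, 6, 7, 6, 7, 8, 8, 12]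

def cgsr2i : ℕ := 376898395939568235756939129223911136

def Wgts : List ℕ := [0, 2, 0, 0, 1, 0, 0, 3, 3, 2, 2]

def cgts : ℕ := 294765106267313990373350078555733706

def Wgtsi : List ℕ := [2, 0, 0, 1, 2, 0, 3, 2, 2, 4, 4, 5, 4, 6, 7, 6, 7, 8, 8, 12, 11, 9]

def cgtsi : ℕ := 251313690327516879054009255197365517

def Wgtsp : List ℕ := [1, 0, 1, 0, 2, 0, 4, 5, 6, 8]

def cgtsp : ℕ := 939954692231522996531408136583855693

def Wgtspi : List ℕ := [0, 0, 1, 0, 0, 1, 2, 2, 0, 0, 2, 0, 0, 3, 3, 5, 4, 4, 5, 4, 6, 6, 6, 8, 8, 12, 11, 10]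

def cgtspi : ℕ := 570694439931412994023752197923836199

def Wa1 : List ℕ := [10]

def ca1 : ℕ := 975346028712660580592452217730074656

def Wa2 : List ℕ := [12, 11]

def ca2 : ℕ := 970499966350631336865513127433832480

def Wa3 : List ℕ := [11, 9]

def ca3 : ℕ := 968708902336673183175954409307867168

def Wp1 : List ℕ := [12, 11, 10]

def cp1 : ℕ := 980224387687010295957922729495201824

def Wp2 : List ℕ := [12, 9]

def cp2 : ℕ := 965128854020860192151391391390468128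

def Wp3 : List ℕ := [12, 10, 9]

def cp3 : ℕ := 979121071158219704299181131031480352

def Wk1 : List ℕ := [0, 0, 0, 1, 4, 4, 5, 4, 7, 8]

def ck1 : ℕ := 153543439912685103459179175298401367

def Wk2 : List ℕ := [3, 2, 5, 6, 6, 7, 6, 7]

def ck2 : ℕ := 984447605950483845026378443585012832

def Wk01 : List ℕ := [3, 2, 5, 6, 6, 7, 6, 7]

def ck01 : ℕ := 984447605950483845026378443585012832

def Wk02 : List ℕ := [0, 1, 5, 4, 5, 4, 6, 11]

def ck02 : ℕ := 51301170555236395843896836639275031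

def Wk10 : List ℕ := [0, 0, 0, 2, 2, 2, 5, 4, 7, 6, 7, 6]

def ck10 : ℕ := 965336743761190617053456644301654179

def Wk11 : List ℕ := [0, 0, 0, 1, 4, 5, 4, 6, 6, 7, 6]

def ck11 : ℕ := 137966472584491515111137530887050327

def Wk12 : List ℕ := [0, 0, 3, 3, 3, 2, 4, 7, 6, 6, 6, 7, 6]

def ck12 : ℕ := 970484667887728615965471515919519170

def Wk20 : List ℕ := [2, 2, 2, 0, 2, 0, 3, 2, 6]

def ck20 : ℕ := 968693685096882196336848729162582129

def Wk21 : List ℕ := [2, 1, 0, 1, 2, 5, 7, 11]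

def ck21 : ℕ := 595177628555879085255933019418560608

def Wk22 : List ℕ := [0, 7, 8]

def ck22 : ℕ := 973114981764498154731530865278913601

def Wc3 : List ℕ := [5, 7, 11, 10, 9]

def cc3 : ℕ := 966141574423338865930037117960540192

def We3 : List ℕ := [1, 0, 0, 1, 3, 2, 2, 3, 5, 5, 4, 7, 7, 6, 12, 11, 10, 9]

def ce3 : ℕ := 461113355931069070028003326503963680

def Wd3 : List ℕ := [0, 2, 2, 7, 7, 6, 8, 12, 9]

def cd3 : ℕ := 963724186430974700650841244109834401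

def Wz3 : List ℕ := [5, 7, 12]

def cz3 : ℕ := 959766694484248460905683087736393760

def Wn3 : List ℕ := [0, 1, 0, 0, 0, 1, 2, 0, 0, 0, 2, 0, 0, 3, 2, 4, 5, 7, 6, 8, 8, 11, 10]

def cn3 : ℕ := 683574547670436809966740746643133600

def PCcert : List (ℕ × ℕ) := [(58, 13), (34, 13), (50, 15), (10, 13), (50, 13), (34, 15), (58, 15), (42, 13), (10, 15), (2, 15), (26, 13), (26, 15), (18, 15), (18, 13), (2, 13), (42, 15), (61, 2), (37, 2), (53, 0), (5, 2), (53, 2), (37, 0), (61, 0), (45, 2), (5, 0), (13, 0), (21, 2), (21, 0), (29, 0), (29, 2), (13, 2), (45, 0), (23, 14), (39, 14), (31, 12), (15, 14), (31, 14), (39, 12), (23, 12), (47, 14), (15, 12), (7, 12), (55, 14), (55, 12), (63, 12), (63, 14), (7, 14), (47, 12), (62, 11), (14, 11), (54, 9), (46, 11), (54, 11), (14, 9), (62, 9), (6, 11), (46, 9), (38, 9), (22, 11), (22, 9), (30, 9), (30, 11), (38, 11), (6, 9), (56, 3), (0, 3), (48, 1), (32, 3), (48, 3), (0,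 1), (56, 1), (8, 3), (32, 1), (40, 1), (16, 3), (16, 1), (24, 1), (24, 3), (40, 3), (8, 1), (52, 6), (12, 6), (60, 4), (36, 6), (60, 6), (12, 4), (52, 4), (4, 6), (36, 4), (44, 4), (20, 6), (20, 4), (28, 4), (28, 6), (44, 6), (4, 4), (59, 8), (43, 8), (51, 10), (11, 8), (51, 8), (43, 10), (59, 10), (35, 8), (11, 10), (3, 10), (19, 8), (19, 10), (27, 10), (27, 8), (3, 8), (35, 10), (49, 7), (33, 7), (57, 5), (9, 7), (57, 7), (33, 5), (49, 5), (41, 7), (9, 5), (1, 5), (17, 7), (17, 5), (25, 5), (25, 7), (1, 7), (41, 5), (55, 0), (47, 0), (63, 2), (15, 0), (63, 0), (47, 2), (55, 2), (39, 0), (15, 2), (7, 2), (31, 0), (31, 2), (23, 2), (23, 0), (7, 0), (39, 2), (32, 15), (56, 15), (40, 13), (16, 15), (40, 15), (56, 13), (32, 13), (48, 15), (16, 13), (24, 13), (0, 15), (0, 13), (8, 13), (8, 15), (24, 15), (48, 13), (22, 4), (46, 4), (30, 6), (6, 4), (30, 4), (46, 6), (22, 6), (38, 4), (6, 6), (14, 6), (54,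 4), (54, 6), (62, 6), (62, 4), (14, 4), (38, 6), (58, 3), (2, 3), (50, 1), (34, 3), (50, 3), (2, 1), (58, 1), (10, 3), (34, 1), (42, 1), (18, 3), (18, 1), (26, 1), (26, 3), (42, 3), (10, 1), (60, 11), (12, 11), (52, 9), (44, 11), (52, 11), (12, 9), (60, 9), (4, 11), (44, 9), (36, 9), (20, 11), (20, 9), (28, 9), (28, 11), (36, 11), (4, 9), (61, 12), (13, 12), (53, 14), (37, 12), (53, 12), (13, 14), (61, 14), (5, 12), (37, 14), (45, 14), (29, 12), (29, 14), (21, 14), (21, 12), (45, 12), (5, 14), (57, 8), (41, 8), (49, 10), (9, 8), (49, 8), (41, 10), (57, 10), (33, 8), (9, 10), (1, 10), (17, 8), (17, 10), (25, 10), (25, 8), (1, 8), (33, 10), (43, 7), (59, 7), (35, 5), (19, 7), (35, 7), (59, 5), (43, 5), (51, 7), (19, 5), (27, 5), (11, 7), (11, 5), (3, 5), (3, 7), (27, 7), (51, 5), (30, 12), (46, 12), (22, 14), (6, 12), (22, 12), (46, 14), (30, 14), (38, 12), (6, 14), (14, 14), (62, 12), (62, 14), (54, 14),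 (54, 12), (14, 12), (38, 14), (23, 11), (39, 11), (31, 9), (7, 11), (31, 11), (39, 9), (23, 9), (47, 11), (7, 9), (15, 9), (63, 11), (63, 9), (55, 9), (55, 11), (15, 11), (47, 9), (18, 8), (2, 8), (26, 10), (34, 8), (26, 8), (2, 10), (18, 10), (10, 8), (34, 10), (42, 10), (58, 8), (58, 10), (50, 10), (50, 8), (42, 8), (10, 10), (24, 7), (8, 7), (16, 5), (32, 7), (16, 7), (8, 5), (24, 5), (0, 7), (32, 5), (40, 5), (56, 7), (56, 5), (48, 5), (48, 7), (40, 7), (0, 5), (9, 3), (49, 3), (1, 1), (17, 3), (1, 3), (49, 1), (9, 1), (57, 3), (17, 1), (25, 1), (33, 3), (33, 1), (41, 1), (41, 3), (25, 3), (57, 1), (53, 4), (13, 4), (61, 6), (37, 4), (61, 4), (13, 6), (53, 6), (5, 4), (37, 6), (45, 6), (21, 4), (21, 6), (29, 6), (29, 4), (45, 4), (5, 6), (12, 0), (20, 0), (4, 2), (52, 0), (4, 0), (20, 2), (12, 2), (28, 0), (52, 2), (60, 2), (36, 0), (36, 2), (44, 2), (44, 0), (60, 0), (28, 2), (3, 15), (27, 15), (11,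 13), (51, 15), (11, 15), (27, 13), (3, 13), (19, 15), (51, 13), (59, 13), (35, 15), (35, 13), (43, 13), (43, 15), (59, 15), (19, 13), (9, 2), (17, 2), (1, 0), (49, 2), (1, 2), (17, 0), (9, 0), (25, 2), (49, 0), (57, 0), (33, 2), (33, 0), (41, 0), (41, 2), (57, 2), (25, 0), (62, 15), (38, 15), (54, 13), (14, 15), (54, 15), (38, 13), (62, 13), (46, 15), (14, 13), (6, 13), (30, 15), (30, 13), (22, 13), (22, 15), (6, 15), (46, 13), (56, 6), (0, 6), (48, 4), (40, 6), (48, 6), (0, 4), (56, 4), (8, 6), (40, 4), (32, 4), (24, 6), (24, 4), (16, 4), (16, 6), (32, 6), (8, 4), (12, 1), (52, 1), (4, 3), (20, 1), (4, 1), (52, 3), (12, 3), (60, 1), (20, 3), (28, 3), (36, 1), (36, 3), (44, 3), (44, 1), (28, 1), (60, 3), (31, 8), (15, 8), (23, 10), (47, 8), (23, 8), (15, 10), (31, 10), (7, 8), (47, 10), (39, 10), (55, 8), (55, 10), (63, 10), (63, 8), (39, 8), (7, 10), (13, 7), (29, 7), (5, 5), (53, 7), (5, 7), (29, 5),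 (13, 5), (21, 7), (53, 5), (61, 5), (45, 7), (45, 5), (37, 5), (37, 7), (61, 7), (21, 5), (26, 9), (42, 9), (18, 11), (10, 9), (18, 9), (42, 11), (26, 11), (34, 9), (10, 11), (2, 11), (50, 9), (50, 11), (58, 11), (58, 9), (2, 9), (34, 11), (3, 14), (51, 14), (11, 12), (27, 14), (11, 14), (51, 12), (3, 12), (59, 14), (27, 12), (19, 12), (35, 14), (35, 12), (43, 12), (43, 14), (19, 14), (59, 12), (32, 9), (16, 9), (40, 11), (48, 9), (40, 9), (16, 11), (32, 11), (24, 9), (48, 11), (56, 11), (8, 9), (8, 11), (0, 11), (0, 9), (56, 9), (24, 11), (57, 14), (9, 14), (49, 12), (33, 14), (49, 14), (9, 12), (57, 12), (1, 14), (33, 12), (41, 12), (25, 14), (25, 12), (17, 12), (17, 14), (41, 14), (1, 12), (27, 0), (3, 0), (19, 2), (35, 0), (19, 0), (3, 2), (27, 2), (11, 0), (35, 2), (43, 2), (51, 0), (51, 2), (59, 2), (59, 0), (43, 0), (11, 2), (20, 13), (12, 13), (28, 15), (36, 13), (28, 13), (12, 15), (20, 15), (4,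 13), (36, 15), (44, 15), (52, 13), (52, 15), (60, 15), (60, 13), (44, 13), (4, 15), (63, 5), (47, 5), (55, 7), (7, 5), (55, 5), (47, 7), (63, 7), (39, 5), (7, 7), (15, 7), (31, 5), (31, 7), (23, 7), (23, 5), (15, 5), (39, 7), (45, 10), (61, 10), (37, 8), (29, 10), (37, 10), (61, 8), (45, 8), (53, 10), (29, 8), (21, 8), (5, 10), (5, 8), (13, 8), (13, 10), (21, 10), (53, 8), (26, 6), (34, 6), (18, 4), (10, 6), (18, 6), (34, 4), (26, 4), (42, 6), (10, 4), (2, 4), (58, 6), (58, 4), (50, 4), (50, 6), (2, 6), (42, 4), (22, 1), (46, 1), (30, 3), (14, 1), (30, 1), (46, 3), (22, 3), (38, 1), (14, 3), (6, 3), (62, 1), (62, 3), (54, 3), (54, 1), (6, 1), (38, 3), (19, 3), (43, 3), (27, 1), (11, 3), (27, 3), (43, 1), (19, 1), (35, 3), (11, 1), (3, 1), (59, 3), (59, 1), (51, 1), (51, 3), (3, 3), (35, 1), (23, 6), (47, 6), (31, 4), (7, 6), (31, 6), (47, 4), (23, 4), (39, 6), (7, 4), (15, 4), (55, 6), (55, 4), (63, 4),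 (63, 6), (15, 6), (39, 4), (10, 7), (26, 7), (2, 5), (50, 7), (2, 7), (26, 5), (10, 5), (18, 7), (50, 5), (58, 5), (42, 7), (42, 5), (34, 5), (34, 7), (58, 7), (18, 5), (0, 8), (16, 8), (8, 10), (48, 8), (8, 8), (16, 10), (0, 10), (24, 8), (48, 10), (56, 10), (40, 8), (40, 10), (32, 10), (32, 8), (56, 8), (24, 10), (62, 0), (38, 0), (54, 2), (6, 0), (54, 0), (38, 2), (62, 2), (46, 0), (6, 2), (14, 2), (22, 0), (22, 2), (30, 2), (30, 0), (14, 0), (46, 2), (25, 15), (1, 15), (17, 13), (41, 15), (17, 15), (1, 13), (25, 13), (9, 15), (41, 13), (33, 13), (57, 15), (57, 13), (49, 13), (49, 15), (33, 15), (9, 13), (28, 12), (44, 12), (20, 14), (4, 12), (20, 12), (44, 14), (28, 14), (36, 12), (4, 14), (12, 14), (60, 12), (60, 14), (52, 14), (52, 12), (12, 12), (36, 14), (21, 9), (37, 9), (29, 11), (5, 9), (29, 9), (37, 11), (21, 11), (45, 9), (5, 11), (13, 11), (61, 9), (61, 11), (53, 11), (53, 9), (13, 9), (45,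 11), (37, 15), (61, 15), (45, 13), (21, 15), (45, 15), (61, 13), (37, 13), (53, 15), (21, 13), (29, 13), (5, 15), (5, 13), (13, 13), (13, 15), (29, 15), (53, 13), (34, 2), (58, 2), (42, 0), (26, 2), (42, 2), (58, 0), (34, 0), (50, 2), (26, 0), (18, 0), (10, 2), (10, 0), (2, 0), (2, 2), (18, 2), (50, 0), (48, 14), (0, 14), (56, 12), (40, 14), (56, 14), (0, 12), (48, 12), (8, 14), (40, 12), (32, 12), (16, 14), (16, 12), (24, 12), (24, 14), (32, 14), (8, 12), (57, 9), (9, 9), (49, 11), (41, 9), (49, 9), (9, 11), (57, 11), (1, 9), (41, 11), (33, 11), (17, 9), (17, 11), (25, 11), (25, 9), (33, 9), (1, 11), (3, 6), (59, 6), (11, 4), (19, 6), (11, 6), (59, 4), (3, 4), (51, 6), (19, 4), (27, 4), (35, 6), (35, 4), (43, 4), (43, 6), (27, 6), (51, 4), (47, 1), (23, 1), (39, 3), (55, 1), (39, 1), (23, 3), (47, 3), (31, 1), (55, 3), (63, 3), (7, 1), (7, 3), (15, 3), (15, 1), (63, 1), (31, 3), (44, 8), (60, 8), (36,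 10), (28, 8), (36, 8), (60, 10), (44, 10), (52, 8), (28, 10), (20, 10), (4, 8), (4, 10), (12, 10), (12, 8), (20, 8), (52, 10), (14, 5), (30, 5), (6, 7), (54, 5), (6, 5), (30, 7), (14, 7), (22, 5), (54, 7), (62, 7), (46, 5), (46, 7), (38, 7), (38, 5), (62, 5), (22, 7), (0, 0), (24, 0), (8, 2), (56, 0), (8, 0), (24, 2), (0, 2), (16, 0), (56, 2), (48, 2), (40, 0), (40, 2), (32, 2), (32, 0), (48, 0), (16, 2), (63, 13), (39, 13), (55, 15), (15, 13), (55, 13), (39, 15), (63, 15), (47, 13), (15, 15), (7, 15), (31, 13), (31, 15), (23, 15), (23, 13), (7, 13), (47, 15), (53, 3), (13, 3), (61, 1), (45, 3), (61, 3), (13, 1), (53, 1), (5, 3), (45, 1), (37, 1), (29, 3), (29, 1), (21, 1), (21, 3), (37, 3), (5, 1), (33, 6), (25, 6), (41, 4), (49, 6), (41, 6), (25, 4), (33, 4), (17, 6), (49, 4), (57, 4), (1, 6), (1, 4), (9, 4), (9, 6), (57, 6), (17, 4), (18, 14), (34, 14), (26, 12), (10, 14), (26, 14), (34, 12), (18, 12),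 (42, 14), (10, 12), (2, 12), (50, 14), (50, 12), (58, 12), (58, 14), (2, 14), (42, 12), (35, 9), (19, 9), (43, 11), (51, 9), (43, 9), (19, 11), (35, 11), (27, 9), (51, 11), (59, 11), (11, 9), (11, 11), (3, 11), (3, 9), (59, 9), (27, 11), (60, 5), (44, 5), (52, 7), (4, 5), (52, 5), (44, 7), (60, 7), (36, 5), (4, 7), (12, 7), (28, 5), (28, 7), (20, 7), (20, 5), (12, 5), (36, 7), (54, 10), (38, 10), (62, 8), (6, 10), (62, 10), (38, 8), (54, 8), (46, 10), (6, 8), (14, 8), (30, 10), (30, 8), (22, 8), (22, 10), (14, 10), (46, 8)]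


/-! ### The normal subgroup of order 64 -/

theorem z_ok : Repr cz Wz := by decide +kernel
theorem t_ok : Repr ct Wt := by decide +kernel
theorem r_ok : Repr cr Wr := by decide +kernel
theorem s_ok : Repr cs Ws := by decide +kernel
theorem a_ok : Repr ca1 Wa1 ∧ Repr ca2 Wa2 ∧ Repr ca3 Wa3 := by decide +kernel
theorem p_ok : Repr cp1 Wp1 ∧ Repr cp2 Wp2 ∧ Repr cp3 Wp3 := by decide +kernel

def Z : Equiv.Perm GolayPt := evalW Wz

def Wzi : List ℕ := Wz ++ Wz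

def czi : ℕ := compF cz cz

theorem zi_ok : Repr czi Wzi := repr_compF _ _ _ _ z_ok z_ok

theorem Z_pow3 : Z ^ 3 = 1 := by
  have h := evalW_eq_of_weq (FusCert.powW Wz 3) [] (by decide +kernel)
  rw [FusCert.evalW_powW, evalW_nil] at h
  exact h

theorem Zi_eq : evalW Wzi = Z⁻¹ := by
  show evalW (Wz ++ Wz) = Z⁻¹
  rw [evalW_append]
  symm
  apply inv_eq_of_mul_eq_one_right
  show Z * (Z * Z) = 1
  rw [← Z_pow3, pow_succ', pow_two]

def ga1 : List ℕ × ℕ := (Wa1, ca1)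
def ga2 : List ℕ × ℕ := (Wa2, ca2)
def ga3 : List ℕ × ℕ := (Wa3, ca3)
def gb1 : List ℕ × ℕ := (Wz ++ (Wp1 ++ Wzi), compF cz (compF cp1 czi))
def gb2 : List ℕ × ℕ := (Wz ++ (Wp2 ++ Wzi), compF cz (compF cp2 czi))
def gb3 : List ℕ × ℕ := (Wz ++ (Wp3 ++ Wzi), compF cz (compF cp3 czi))

def gensE : List (List ℕ × ℕ) := [ga1, ga2, ga3, gb1, gb2, gb3]

def EL : List (List ℕ × ℕ) := prods gensE

def S6 : Set (Equiv.Perm GolayPt) := {u | ∃ g ∈ gensE, u = evalW g.1}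

def E : Subgroup (Equiv.Perm GolayPt) := Subgroup.closure S6

theorem gb_repr (Wp : List ℕ) (cp : ℕ) (h : Repr cp Wp) :
    Repr (compF cz (compF cp czi)) (Wz ++ (Wp ++ Wzi)) :=
  repr_compF _ _ _ _ z_ok (repr_compF _ _ _ _ h zi_ok)

theorem gens_repr : ∀ g ∈ gensE, Repr g.2 g.1 := by
  intro g hg
  simp only [gensE, List.mem_cons, List.not_mem_nil, or_false] at hg
  rcases hg with rfl | rfl | rfl | rfl | rfl | rfl
  · exact a_ok.1
  · exact a_ok.2.1
  · exact a_ok.2.2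
  · exact gb_repr Wp1 cp1 p_ok.1
  · exact gb_repr Wp2 cp2 p_ok.2.1
  · exact gb_repr Wp3 cp3 p_ok.2.2

theorem EL_spec : ∀ q ∈ EL, Repr q.2 q.1 ∧ evalW q.1 ∈ E :=
  prods_spec E gensE (fun g hg => ⟨gens_repr g hg, Subgroup.subset_closure ⟨g, hg, rfl⟩⟩)

theorem EL_gens : (gensE.all fun g => EL.any fun q => eqC g.2 q.2) = true := by decide +kernel

theorem EL_one : (EL.any fun q => eqC q.2 cId) = true := by decide +kernel

theorem EL_mul : (EL.all fun p => EL.all fun q => EL.any fun r =>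
    eqC (compF p.2 q.2) r.2) = true := by decide +kernel

theorem EL_inv : (EL.all fun p => EL.any fun q => eqC (compF p.2 q.2) cId) = true := by
  decide +kernel

theorem E_sub (u : Equiv.Perm GolayPt) (hu : u ∈ E) : ∃ q ∈ EL, u = evalW q.1 := by
  refine closure_sub_list S6 EL (fun q hq => (EL_spec q hq).1) ?_ EL_one EL_mul EL_inv u hu
  rintro s ⟨g, hg, rfl⟩
  have h1 := List.all_eq_true.1 EL_gens g hg
  obtain ⟨q, hq, h⟩ := List.any_eq_true.1 h1
  exact ⟨q, hq, evalW_eq_of_eqC _ _ _ _ (gens_repr g hg) (EL_spec q hq).1 h⟩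

theorem mem_E_of_code (W : List ℕ) (c : ℕ) (hr : Repr c W)
    (h : (EL.any fun q => eqC c q.2) = true) : evalW W ∈ E := by
  obtain ⟨q, hq, h1⟩ := List.any_eq_true.1 h
  rw [evalW_eq_of_eqC _ _ _ _ hr (EL_spec q hq).1 h1]
  exact (EL_spec q hq).2

/-- conjugation by the permutation with packed action `cg` maps the generators into the list -/
def fwdCheck (cg cgi : ℕ) : Bool :=
  gensE.all fun g => EL.any fun q => eqC (compF cg (compF g.2 cgi)) q.2

theorem fwd_of_check (Wg Wgi : List ℕ) (cg cgi : ℕ) (hg : Repr cg Wg) (hgi : Repr cgi Wgi)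
    (hinv : evalW Wgi = (evalW Wg)⁻¹) (h : fwdCheck cg cgi = true) (u : Equiv.Perm GolayPt)
    (hu : u ∈ E) : evalW Wg * u * (evalW Wg)⁻¹ ∈ E := by
  apply conj_mem_closure S6 (evalW Wg) _ u hu
  rintro s ⟨g, hgm, rfl⟩
  have h1 := List.all_eq_true.1 h g hgm
  have h2 := mem_E_of_code (Wg ++ (g.1 ++ Wgi)) _
    (repr_compF _ _ _ _ hg (repr_compF _ _ _ _ (gens_repr g hgm) hgi)) h1
  rw [evalW_append, evalW_append, hinv, ← mul_assoc] at h2
  exact h2

theorem Z_fwd : fwdCheck cz czi = true := by decide +kernel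

theorem Z_norm (u : Equiv.Perm GolayPt) (hu : u ∈ E) : Z * u * Z⁻¹ ∈ E :=
  fwd_of_check Wz Wzi cz czi z_ok zi_ok Zi_eq Z_fwd u hu

theorem Zi_fwd : fwdCheck czi cz = true := by decide +kernel

theorem Zi_norm (u : Equiv.Perm GolayPt) (hu : u ∈ E) : Z⁻¹ * u * Z⁻¹⁻¹ ∈ E := by
  have h := fwd_of_check Wzi Wz czi cz zi_ok z_ok (by rw [Zi_eq, inv_inv]; rfl) Zi_fwd u hu
  rw [Zi_eq] at h
  exact h

theorem Z_fpf_check : (EL.all fun q => !(eqC (compF cz q.2) (compF q.2 cz)) || eqC q.2 cId) = true := by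
  decide +kernel

theorem Z_fpf (u : Equiv.Perm GolayPt) (hu : u ∈ E) (h : Z * u * Z⁻¹ = u) : u = 1 := by
  obtain ⟨q, hq, rfl⟩ := E_sub u hu
  have hr := (EL_spec q hq).1
  have h1 := List.all_eq_true.1 Z_fpf_check q hq
  have h2 : eqC (compF cz q.2) (compF q.2 cz) = true := by
    apply eqC_of_evalW_eq _ _ (Wz ++ q.1) (q.1 ++ Wz) (repr_compF _ _ _ _ z_ok hr)
      (repr_compF _ _ _ _ hr z_ok)
    rw [evalW_append, evalW_append]
    exact mul_inv_eq_iff_eq_mul.1 h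
  rw [h2, Bool.not_true, Bool.false_or] at h1
  rw [evalW_eq_of_eqC _ _ _ _ hr repr_cId h1, evalW_nil]

theorem E_le_M24 : E ≤ M24 := by
  unfold E
  rw [Subgroup.closure_le]
  rintro s ⟨g, hg, rfl⟩
  exact evalW_mem_M24 _ (gens_repr g hg).1


/-! ### Lifts of the elements of the normal subgroup commute -/

theorem gP_mem24 (j : ℕ) (hj : j = 9 ∨ j = 10 ∨ j = 11 ∨ j = 12) : gP j ∈ M24 := by
  rw [← evalW_single]
  apply evalW_mem_M24
  intro l hl
  rw [List.mem_singleton] at hl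
  subst hl
  rcases hj with rfl | rfl | rfl | rfl <;> decide

open Cfsg.Agent.Helper29.SchurM23 (Wg1 Wg2 Wh02 Wh03 Wh12 Wh13 Wh23) in
/-- lifts of elements fixing the octad pointwise commute -/
theorem grp6_abelian {Γ : Type} [Group Γ] (τ : Γ →* Equiv.Perm GolayPt)
    (hKτ : τ.ker ≤ Subgroup.center Γ) (hlift : ∀ g ∈ M24, ∃ a, τ a = g) :
    ∀ u ∈ (grp 6).comap τ, ∀ v ∈ (grp 6).comap τ, u * v = v * u := by
  have hW : ∀ W : List ℕ, (∀ l ∈ W, l < ngen) → ∃ a, τ a = evalW W := fun W hW =>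
    hlift _ (evalW_mem_M24 W hW)
  have hL : ∃ L : ℕ → Γ, ∀ j, (j = 9 ∨ j = 10 ∨ j = 11 ∨ j = 12) → τ (L j) = gP j := by
    have h : ∀ j : ℕ, ∃ a : Γ, (j = 9 ∨ j = 10 ∨ j = 11 ∨ j = 12) → τ a = gP j := by
      intro j
      by_cases hj : j = 9 ∨ j = 10 ∨ j = 11 ∨ j = 12
      · obtain ⟨a, ha⟩ := hlift _ (gP_mem24 j hj)
        exact ⟨a, fun _ => ha⟩
      · exact ⟨1, fun h => absurd h hj⟩
    choose L hL using h
    exact ⟨L, hL⟩
  obtain ⟨L, hL⟩ := hL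
  have t9 := hL 9 (by norm_num)
  have t10 := hL 10 (by norm_num)
  have t11 := hL 11 (by norm_num)
  have t12 := hL 12 (by norm_num)
  obtain ⟨g1, hg1⟩ := hW Wg1 (by decide)
  obtain ⟨g2, hg2⟩ := hW Wg2 (by decide)
  have c9_10 : L 9 * L 10 = L 10 * L 9 := by
    apply comm_of_fusion τ hKτ (L 9) (L 10) (L 11) g1 g2
    · rw [t9, t10, ← evalW_pair, ← evalW_pair]
      exact evalW_eq_of_weq _ _ (by decide +kernel)
    · rw [t9, t11, ← evalW_pair, ← evalW_pair]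
      exact evalW_eq_of_weq _ _ (by decide +kernel)
    · rw [t9, hg1, ← evalW_single]
      exact conj_of_weq Wg1 [9] [9] (by decide +kernel)
    · rw [t10, t11, hg1, ← evalW_pair, ← evalW_single]
      exact conj_of_weq Wg1 [10] [10, 11] (by decide +kernel)
    · rw [t9, hg2, ← evalW_single]
      exact conj_of_weq Wg2 [9] [9] (by decide +kernel)
    · rw [t10, t11, hg2, ← evalW_single, ← evalW_single]
      exact conj_of_weq Wg2 [10] [11] (by decide +kernel)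
  have hcj : ∀ (Wh : List ℕ) (i j : ℕ), (∀ l ∈ Wh, l < ngen) →
      (i = 9 ∨ i = 10 ∨ i = 11 ∨ i = 12) → (j = 9 ∨ j = 10 ∨ j = 11 ∨ j = 12) →
      weq (Wh ++ [9]) ([i] ++ Wh) = true → weq (Wh ++ [10]) ([j] ++ Wh) = true →
      L i * L j = L j * L i := by
    intro Wh i j hok hi hj w1 w2
    obtain ⟨h, hh⟩ := hW Wh hok
    apply comm_of_conj τ hKτ (L 9) (L 10) (L i) (L j) h c9_10
    · rw [hh, t9, hL i hi, ← evalW_single, ← evalW_single]
      exact conj_of_weq Wh [9] [i] w1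
    · rw [hh, t10, hL j hj, ← evalW_single, ← evalW_single]
      exact conj_of_weq Wh [10] [j] w2
  have c9_11 := hcj Wh02 9 11 (by decide) (by norm_num) (by norm_num) (by decide +kernel)
    (by decide +kernel)
  have c9_12 := hcj Wh03 9 12 (by decide) (by norm_num) (by norm_num) (by decide +kernel)
    (by decide +kernel)
  have c10_11 := hcj Wh12 10 11 (by decide) (by norm_num) (by norm_num) (by decide +kernel)
    (by decide +kernel)
  have c10_12 := hcj Wh13 10 12 (by decide) (by norm_num) (by norm_num) (by decide +kernel)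
    (by decide +kernel)
  have c11_12 := hcj Wh23 11 12 (by decide) (by norm_num) (by norm_num) (by decide +kernel)
    (by decide +kernel)
  have hLc : ∀ i j, (i = 9 ∨ i = 10 ∨ i = 11 ∨ i = 12) → (j = 9 ∨ j = 10 ∨ j = 11 ∨ j = 12) →
      L i * L j = L j * L i := by
    intro i j hi hj
    rcases hi with rfl | rfl | rfl | rfl <;> rcases hj with rfl | rfl | rfl | rfl <;>
      first
      | rfl
      | assumption
      | (symm; assumption)
  apply comm_comap_closure τ hKτ (Sset 6)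
  rintro s ⟨i, hi, hdi, rfl⟩ t ⟨j, hj, hdj, rfl⟩
  have hi' := level6 i hi hdi
  have hj' := level6 j hj hdj
  exact ⟨L i, L j, hL i hi', hL j hj', hLc i j hi' hj'⟩

theorem ap_fix : fixO ca1 = true ∧ fixO ca2 = true ∧ fixO ca3 = true ∧ fixO cp1 = true ∧
    fixO cp2 = true ∧ fixO cp3 = true := by decide +kernel

def Wb1 : List ℕ := Wz ++ (Wp1 ++ Wzi)
def Wb2 : List ℕ := Wz ++ (Wp2 ++ Wzi)
def Wb3 : List ℕ := Wz ++ (Wp3 ++ Wzi)

set_option maxRecDepth 100000 in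
theorem k_ok : Repr ck1 Wk1 ∧ Repr ck2 Wk2 ∧ Repr ck01 Wk01 ∧ Repr ck02 Wk02 ∧ Repr ck10 Wk10 ∧
    Repr ck11 Wk11 ∧ Repr ck12 Wk12 ∧ Repr ck20 Wk20 ∧ Repr ck21 Wk21 ∧ Repr ck22 Wk22 := by
  decide +kernel

set_option maxRecDepth 100000 in
theorem xc1 : weq (Wa1 ++ Wb1) (Wb1 ++ Wa1) = true := by decide +kernel
set_option maxRecDepth 100000 in
theorem xc2 : weq (Wa1 ++ Wb2) (Wb2 ++ Wa1) = true := by decide +kernel
set_option maxRecDepth 100000 in
theorem xc3 : weq (Wk1 ++ Wa1) (Wa1 ++ Wk1) = true := by decide +kernel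
set_option maxRecDepth 100000 in
theorem xc4 : weq (Wk1 ++ Wb1) ((Wb1 ++ Wb2) ++ Wk1) = true := by decide +kernel
set_option maxRecDepth 100000 in
theorem xc5 : weq (Wk2 ++ Wa1) (Wa1 ++ Wk2) = true := by decide +kernel
set_option maxRecDepth 100000 in
theorem xc6 : weq (Wk2 ++ Wb1) (Wb2 ++ Wk2) = true := by decide +kernel
set_option maxRecDepth 100000 in
theorem xa01 : weq (Wk01 ++ Wa1) (Wa1 ++ Wk01) = true := by decide +kernel
set_option maxRecDepth 100000 in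
theorem xb01 : weq (Wk01 ++ Wb1) (Wb2 ++ Wk01) = true := by decide +kernel
set_option maxRecDepth 100000 in
theorem xa02 : weq (Wk02 ++ Wa1) (Wa1 ++ Wk02) = true := by decide +kernel
set_option maxRecDepth 100000 in
theorem xb02 : weq (Wk02 ++ Wb1) (Wb3 ++ Wk02) = true := by decide +kernel
set_option maxRecDepth 100000 in
theorem xa10 : weq (Wk10 ++ Wa1) (Wa2 ++ Wk10) = true := by decide +kernel
set_option maxRecDepth 100000 in
theorem xb10 : weq (Wk10 ++ Wb1) (Wb1 ++ Wk10) = true := by decide +kernel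
set_option maxRecDepth 100000 in
theorem xa11 : weq (Wk11 ++ Wa1) (Wa2 ++ Wk11) = true := by decide +kernel
set_option maxRecDepth 100000 in
theorem xb11 : weq (Wk11 ++ Wb1) (Wb2 ++ Wk11) = true := by decide +kernel
set_option maxRecDepth 100000 in
theorem xa12 : weq (Wk12 ++ Wa1) (Wa2 ++ Wk12) = true := by decide +kernel
set_option maxRecDepth 100000 in
theorem xb12 : weq (Wk12 ++ Wb1) (Wb3 ++ Wk12) = true := by decide +kernel
set_option maxRecDepth 100000 in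
theorem xa20 : weq (Wk20 ++ Wa1) (Wa3 ++ Wk20) = true := by decide +kernel
set_option maxRecDepth 100000 in
theorem xb20 : weq (Wk20 ++ Wb1) (Wb1 ++ Wk20) = true := by decide +kernel
set_option maxRecDepth 100000 in
theorem xa21 : weq (Wk21 ++ Wa1) (Wa3 ++ Wk21) = true := by decide +kernel
set_option maxRecDepth 100000 in
theorem xb21 : weq (Wk21 ++ Wb1) (Wb2 ++ Wk21) = true := by decide +kernel
set_option maxRecDepth 100000 in
theorem xa22 : weq (Wk22 ++ Wa1) (Wa3 ++ Wk22) = true := by decide +kernel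
set_option maxRecDepth 100000 in
theorem xb22 : weq (Wk22 ++ Wb1) (Wb3 ++ Wk22) = true := by decide +kernel

theorem E_abelian {Γ : Type} [Group Γ] (τ : Γ →* Equiv.Perm GolayPt)
    (hKτ : τ.ker ≤ Subgroup.center Γ) (hlift : ∀ g ∈ M24, ∃ a, τ a = g) :
    ∀ u ∈ E.comap τ, ∀ v ∈ E.comap τ, u * v = v * u := by
  have hW : ∀ (W : List ℕ) (c : ℕ), Repr c W → ∃ a, τ a = evalW W := fun W c hr =>
    hlift _ (evalW_mem_M24 W hr.1)
  have h6 := grp6_abelian τ hKτ hlift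
  obtain ⟨la1, ta1⟩ := hW Wa1 ca1 a_ok.1
  obtain ⟨la2, ta2⟩ := hW Wa2 ca2 a_ok.2.1
  obtain ⟨la3, ta3⟩ := hW Wa3 ca3 a_ok.2.2
  obtain ⟨lp1, tp1⟩ := hW Wp1 cp1 p_ok.1
  obtain ⟨lp2, tp2⟩ := hW Wp2 cp2 p_ok.2.1
  obtain ⟨lp3, tp3⟩ := hW Wp3 cp3 p_ok.2.2
  obtain ⟨z, tz⟩ := hW Wz cz z_ok
  have m6 : ∀ (l : Γ) (W : List ℕ) (c : ℕ), Repr c W → fixO c = true → τ l = evalW W →
      l ∈ (grp 6).comap τ := by
    intro l W c hr hf hl
    rw [Subgroup.mem_comap, hl]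
    exact mem_grp6_of_fixO W c hr hf
  have ma1 := m6 la1 Wa1 ca1 a_ok.1 ap_fix.1 ta1
  have ma2 := m6 la2 Wa2 ca2 a_ok.2.1 ap_fix.2.1 ta2
  have ma3 := m6 la3 Wa3 ca3 a_ok.2.2 ap_fix.2.2.1 ta3
  have mp1 := m6 lp1 Wp1 cp1 p_ok.1 ap_fix.2.2.2.1 tp1
  have mp2 := m6 lp2 Wp2 cp2 p_ok.2.1 ap_fix.2.2.2.2.1 tp2
  have mp3 := m6 lp3 Wp3 cp3 p_ok.2.2 ap_fix.2.2.2.2.2 tp3
  -- the conjugated generators
  have tb : ∀ (lp : Γ) (Wp : List ℕ), τ lp = evalW Wp →
      τ (z * lp * z⁻¹) = evalW (Wz ++ (Wp ++ Wzi)) := by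
    intro lp Wp h
    rw [map_mul, map_mul, map_inv, tz, h, evalW_append, evalW_append, Zi_eq, ← mul_assoc]
    rfl
  have tb1 : τ (z * lp1 * z⁻¹) = evalW Wb1 := tb lp1 Wp1 tp1
  have tb2 : τ (z * lp2 * z⁻¹) = evalW Wb2 := tb lp2 Wp2 tp2
  have tb3 : τ (z * lp3 * z⁻¹) = evalW Wb3 := tb lp3 Wp3 tp3
  have cz : ∀ x y : Γ, x * y = y * x → (z * x * z⁻¹) * (z * y * z⁻¹) = (z * y * z⁻¹) * (z * x * z⁻¹) := by
    intro x y h
    calc (z * x * z⁻¹) * (z * y * z⁻¹) = z * (x * y) * z⁻¹ := by group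
      _ = z * (y * x) * z⁻¹ := by rw [h]
      _ = (z * y * z⁻¹) * (z * x * z⁻¹) := by group
  have a12 := h6 la1 ma1 la2 ma2
  have a13 := h6 la1 ma1 la3 ma3
  have a23 := h6 la2 ma2 la3 ma3
  have b12 := cz lp1 lp2 (h6 lp1 mp1 lp2 mp2)
  have b13 := cz lp1 lp3 (h6 lp1 mp1 lp3 mp3)
  have b23 := cz lp2 lp3 (h6 lp2 mp2 lp3 mp3)
  -- the mixed pairs
  obtain ⟨k1, hk1⟩ := hW Wk1 ck1 k_ok.1
  obtain ⟨k2, hk2⟩ := hW Wk2 ck2 k_ok.2.1
  have x11 : la1 * (z * lp1 * z⁻¹) = (z * lp1 * z⁻¹) * la1 := by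
    apply comm_of_fusion τ hKτ la1 (z * lp1 * z⁻¹) (z * lp2 * z⁻¹) k1 k2
    · rw [ta1, tb1, ← evalW_append Wa1 Wb1, ← evalW_append Wb1 Wa1]
      exact evalW_eq_of_weq _ _ xc1
    · rw [ta1, tb2, ← evalW_append Wa1 Wb2, ← evalW_append Wb2 Wa1]
      exact evalW_eq_of_weq _ _ xc2
    · rw [ta1, hk1]
      exact conj_of_weq Wk1 Wa1 Wa1 xc3
    · rw [tb1, tb2, hk1, ← evalW_append Wb1 Wb2]
      exact conj_of_weq Wk1 Wb1 (Wb1 ++ Wb2) xc4
    · rw [ta1, hk2]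
      exact conj_of_weq Wk2 Wa1 Wa1 xc5
    · rw [tb1, tb2, hk2]
      exact conj_of_weq Wk2 Wb1 Wb2 xc6
  have hx : ∀ (Wh : List ℕ) (ch : ℕ) (la lb : Γ) (Wa Wb : List ℕ), Repr ch Wh →
      τ la = evalW Wa → τ lb = evalW Wb →
      weq (Wh ++ Wa1) (Wa ++ Wh) = true → weq (Wh ++ Wb1) (Wb ++ Wh) = true →
      la * lb = lb * la := by
    intro Wh ch la lb Wa Wb hr ha hb w1 w2
    obtain ⟨h, hh⟩ := hW Wh ch hr
    apply comm_of_conj τ hKτ la1 (z * lp1 * z⁻¹) la lb h x11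
    · rw [hh, ta1, ha]
      exact conj_of_weq Wh Wa1 Wa w1
    · rw [hh, tb1, hb]
      exact conj_of_weq Wh Wb1 Wb w2
  have x12 := hx Wk01 ck01 la1 (z * lp2 * z⁻¹) Wa1 Wb2 k_ok.2.2.1 ta1 tb2
    xa01 xb01
  have x13 := hx Wk02 ck02 la1 (z * lp3 * z⁻¹) Wa1 Wb3 k_ok.2.2.2.1 ta1 tb3
    xa02 xb02
  have x21 := hx Wk10 ck10 la2 (z * lp1 * z⁻¹) Wa2 Wb1 k_ok.2.2.2.2.1 ta2 tb1
    xa10 xb10
  have x22 := hx Wk11 ck11 la2 (z * lp2 * z⁻¹) Wa2 Wb2 k_ok.2.2.2.2.2.1 ta2 tb2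
    xa11 xb11
  have x23 := hx Wk12 ck12 la2 (z * lp3 * z⁻¹) Wa2 Wb3 k_ok.2.2.2.2.2.2.1 ta2 tb3
    xa12 xb12
  have x31 := hx Wk20 ck20 la3 (z * lp1 * z⁻¹) Wa3 Wb1 k_ok.2.2.2.2.2.2.2.1 ta3 tb1
    xa20 xb20
  have x32 := hx Wk21 ck21 la3 (z * lp2 * z⁻¹) Wa3 Wb2 k_ok.2.2.2.2.2.2.2.2.1 ta3 tb2
    xa21 xb21
  have x33 := hx Wk22 ck22 la3 (z * lp3 * z⁻¹) Wa3 Wb3 k_ok.2.2.2.2.2.2.2.2.2 ta3 tb3
    xa22 xb22
  -- all the lifts commute
  have hLS : ∀ a ∈ ({la1, la2, la3, z * lp1 * z⁻¹, z * lp2 * z⁻¹, z * lp3 * z⁻¹} : Set Γ),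
      ∀ b ∈ ({la1, la2, la3, z * lp1 * z⁻¹, z * lp2 * z⁻¹, z * lp3 * z⁻¹} : Set Γ),
      a * b = b * a := by
    intro a ha b hb
    simp only [Set.mem_insert_iff, Set.mem_singleton_iff] at ha hb
    rcases ha with rfl | rfl | rfl | rfl | rfl | rfl <;>
      rcases hb with rfl | rfl | rfl | rfl | rfl | rfl <;>
      first
      | rfl
      | assumption
      | (symm; assumption)
  have hpick : ∀ s ∈ S6, ∃ a ∈ ({la1, la2, la3, z * lp1 * z⁻¹, z * lp2 * z⁻¹,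
      z * lp3 * z⁻¹} : Set Γ), τ a = s := by
    rintro s ⟨g, hg, rfl⟩
    simp only [gensE, List.mem_cons, List.not_mem_nil, or_false] at hg
    rcases hg with rfl | rfl | rfl | rfl | rfl | rfl
    · exact ⟨la1, by simp, ta1⟩
    · exact ⟨la2, by simp, ta2⟩
    · exact ⟨la3, by simp, ta3⟩
    · exact ⟨z * lp1 * z⁻¹, by simp, tb1⟩
    · exact ⟨z * lp2 * z⁻¹, by simp, tb2⟩
    · exact ⟨z * lp3 * z⁻¹, by simp, tb3⟩
  apply comm_comap_closure τ hKτ S6
  intro s hs t ht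
  obtain ⟨a, ha, ha'⟩ := hpick s hs
  obtain ⟨b, hb, hb'⟩ := hpick t ht
  exact ⟨a, b, ha', hb', hLS a ha b hb⟩


/-! ### The complement -/

def R : Equiv.Perm GolayPt := evalW Wr
def S : Equiv.Perm GolayPt := evalW Ws
def T : Equiv.Perm GolayPt := evalW Wt

def D : Subgroup (Equiv.Perm GolayPt) := P0 ⊓ invNorm Z

set_option maxRecDepth 100000 in
theorem R_Z_check : weq (Wr ++ Wz) (Wz ++ Wr) = true := by decide +kernel

set_option maxRecDepth 100000 in
theorem S_Z_check : weq (Ws ++ Wz) (Wz ++ Ws) = true := by decide +kernel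

set_option maxRecDepth 100000 in
theorem T_Z_check : weq (Wt ++ Wz) (Wzi ++ Wt) = true := by decide +kernel

theorem R_Z : R * Z * R⁻¹ = Z := conj_of_weq Wr Wz Wz R_Z_check

theorem S_Z : S * Z * S⁻¹ = Z := conj_of_weq Ws Wz Wz S_Z_check

theorem T_Z : T * Z * T⁻¹ = Z⁻¹ := by
  rw [← Zi_eq]
  exact conj_of_weq Wt Wz Wzi T_Z_check

theorem rst_fin : finC cr = true ∧ finC cs = true ∧ finC ct = true := by decide +kernel

theorem R_mem : R ∈ D := Subgroup.mem_inf.2 ⟨ctx.hQ Wr cr r_ok rst_fin.1, Or.inl R_Z⟩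

theorem S_mem : S ∈ D := Subgroup.mem_inf.2 ⟨ctx.hQ Ws cs s_ok rst_fin.2.1, Or.inl S_Z⟩

theorem T_mem : T ∈ D := Subgroup.mem_inf.2 ⟨ctx.hQ Wt ct t_ok rst_fin.2.2, Or.inr T_Z⟩

/-- the test for normalizing the group generated by `Z` -/
def ntest (c : ℕ) : Bool :=
  eqC (compF c cz) (compF cz c) || eqC (compF c cz) (compF cz (compF cz c))

def DL : List (List ℕ × ℕ) := (List.range 4).flatMap fun i => (List.range 2).flatMap fun k =>
  [(FusCert.powW Wr i ++ FusCert.powW Wt k, compF (powC cr i) (powC ct k)),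
   (FusCert.powW Wr i ++ (Ws ++ FusCert.powW Wt k), compF (powC cr i) (compF cs (powC ct k)))]

theorem D_check : (PC.all fun q => !(ntest q.2) || DL.any fun d => eqC q.2 d.2) = true := by
  decide +kernel

theorem DL_spec (d : List ℕ × ℕ) (hd : d ∈ DL) : Repr d.2 d.1 ∧
    ∃ i k : ℕ, evalW d.1 = R ^ i * T ^ k ∨ evalW d.1 = R ^ i * S * T ^ k := by
  unfold DL at hd
  rw [List.mem_flatMap] at hd
  obtain ⟨i, -, hdi⟩ := hd
  rw [List.mem_flatMap] at hdi
  obtain ⟨k, -, hdk⟩ := hdi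
  simp only [List.mem_cons, List.not_mem_nil, or_false] at hdk
  have hri := repr_powC cr Wr r_ok i
  have htk := repr_powC ct Wt t_ok k
  rcases hdk with rfl | rfl
  · have hr2 : Repr (compF (powC cr i) (powC ct k)) (FusCert.powW Wr i ++ FusCert.powW Wt k) :=
      repr_compF _ _ _ _ hri htk
    dsimp only
    refine ⟨hr2, i, k, Or.inl ?_⟩
    rw [evalW_append, FusCert.evalW_powW, FusCert.evalW_powW]
    rfl
  · have hr2 : Repr (compF (powC cr i) (compF cs (powC ct k)))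
        (FusCert.powW Wr i ++ (Ws ++ FusCert.powW Wt k)) :=
      repr_compF _ _ _ _ hri (repr_compF _ _ _ _ s_ok htk)
    dsimp only
    refine ⟨hr2, i, k, Or.inr ?_⟩
    rw [evalW_append, evalW_append, FusCert.evalW_powW, FusCert.evalW_powW, ← mul_assoc]
    rfl

theorem Z_inv : Z⁻¹ = Z * Z := by
  rw [← Zi_eq]
  show evalW (Wz ++ Wz) = _
  rw [evalW_append]
  rfl

theorem D_struct (g : Equiv.Perm GolayPt) (hg : g ∈ D) :
    ∃ i k : ℕ, g = R ^ i * T ^ k ∨ g = R ^ i * S * T ^ k := by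
  obtain ⟨hQ, hN⟩ := Subgroup.mem_inf.1 hg
  obtain ⟨q, hq, hr, rfl⟩ := ctx.hQL g hQ
  have ht : ntest q.2 = true := by
    unfold ntest
    rw [Bool.or_eq_true]
    rcases hN with h | h
    · left
      apply eqC_of_evalW_eq _ _ (q.1 ++ Wz) (Wz ++ q.1) (repr_compF _ _ _ _ hr z_ok)
        (repr_compF _ _ _ _ z_ok hr)
      rw [evalW_append, evalW_append]
      exact mul_inv_eq_iff_eq_mul.1 h
    · right
      apply eqC_of_evalW_eq _ _ (q.1 ++ Wz) (Wz ++ (Wz ++ q.1)) (repr_compF _ _ _ _ hr z_ok)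
        (repr_compF _ _ _ _ z_ok (repr_compF _ _ _ _ z_ok hr))
      rw [evalW_append, evalW_append, evalW_append, ← mul_assoc]
      have h2 := mul_inv_eq_iff_eq_mul.1 h
      show evalW q.1 * Z = Z * Z * evalW q.1
      rw [h2, Z_inv]
  have h1 := List.all_eq_true.1 D_check q hq
  rw [ht, Bool.not_true, Bool.false_or, List.any_eq_true] at h1
  obtain ⟨d, hd, hde⟩ := h1
  obtain ⟨hrd, i, k, hi⟩ := DL_spec d hd
  refine ⟨i, k, ?_⟩
  rw [evalW_eq_of_eqC _ _ _ _ hr hrd hde]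
  exact hi

theorem DL_mem (d : List ℕ × ℕ) (hd : d ∈ DL) : evalW d.1 ∈ D := by
  obtain ⟨-, i, k, hi⟩ := DL_spec d hd
  rcases hi with hi | hi
  · rw [hi]
    exact Subgroup.mul_mem _ (Subgroup.pow_mem _ R_mem i) (Subgroup.pow_mem _ T_mem k)
  · rw [hi]
    exact Subgroup.mul_mem _ (Subgroup.mul_mem _ (Subgroup.pow_mem _ R_mem i) S_mem)
      (Subgroup.pow_mem _ T_mem k)

/-! ### The factorization of the Sylow subgroup -/

theorem getD_spec {α : Type} (P : α → Prop) (L : List α) (d : α) (hd : P d)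
    (hL : ∀ x ∈ L, P x) (i : ℕ) : P (L.getD i d) := by
  by_cases h : i < L.length
  · rw [List.getD_eq_getElem _ _ h]
    exact hL _ (List.getElem_mem h)
  · rw [List.getD_eq_default _ _ (not_lt.1 h)]
    exact hd

/-- the test of a certificate of factorization -/
def certTest (q : List ℕ × ℕ) (c : ℕ × ℕ) : Bool :=
  eqC q.2 (compF (EL.getD c.1 ([], cId)).2 (DL.getD c.2 ([], cId)).2)

def certChk : List (List ℕ × ℕ) → List (ℕ × ℕ) → Bool
  | [], _ => true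
  | _ :: _, [] => false
  | q :: qs, c :: cs => certTest q c && certChk qs cs

theorem certChk_spec : ∀ (L : List (List ℕ × ℕ)) (C : List (ℕ × ℕ)), certChk L C = true →
    ∀ q ∈ L, ∃ c : ℕ × ℕ, certTest q c = true
  | [], _, _, q, hq => by simp at hq
  | _ :: _, [], h, _, _ => by simp [certChk] at h
  | q' :: qs, c :: cs, h, q, hq => by
    rw [certChk, Bool.and_eq_true] at h
    rcases List.mem_cons.1 hq with rfl | hq'
    · exact ⟨c, h.1⟩
    · exact certChk_spec qs cs h.2 q hq'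

theorem P_check : certChk PC PCcert = true := by decide +kernel

theorem P_struct (g : Equiv.Perm GolayPt) (hg : g ∈ P0) : ∃ e ∈ E, ∃ d ∈ D, g = e * d := by
  obtain ⟨q, hq, hr, rfl⟩ := ctx.hQL g hg
  obtain ⟨c, hc⟩ := certChk_spec PC PCcert P_check q hq
  have he := getD_spec (fun e : List ℕ × ℕ => Repr e.2 e.1 ∧ evalW e.1 ∈ E) EL ([], cId)
    ⟨repr_cId, by rw [evalW_nil]; exact Subgroup.one_mem _⟩ EL_spec c.1
  have hd := getD_spec (fun d : List ℕ × ℕ => Repr d.2 d.1 ∧ evalW d.1 ∈ D) DL ([], cId)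
    ⟨repr_cId, by rw [evalW_nil]; exact Subgroup.one_mem _⟩
    (fun d hd => ⟨(DL_spec d hd).1, DL_mem d hd⟩) c.2
  refine ⟨_, he.2, _, hd.2, ?_⟩
  rw [evalW_eq_of_eqC _ _ _ _ hr (repr_compF _ _ _ _ he.1 hd.1) hc, evalW_append]

/-! ### The complement normalizes the normal subgroup -/

def Wri : List ℕ := Wr ++ (Wr ++ Wr)

def cri : ℕ := compF cr (compF cr cr)

theorem ri_ok : Repr cri Wri := repr_compF _ _ _ _ r_ok (repr_compF _ _ _ _ r_ok r_ok)

set_option maxRecDepth 100000 in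
theorem Ri_check : weq (Wr ++ Wri) [] = true := by decide +kernel

theorem inv_of_weq (Wg Wgi : List ℕ) (h : weq (Wg ++ Wgi) [] = true) :
    evalW Wgi = (evalW Wg)⁻¹ := by
  have h1 := evalW_eq_of_weq (Wg ++ Wgi) [] h
  rw [evalW_append, evalW_nil] at h1
  exact (inv_eq_of_mul_eq_one_right h1).symm

theorem Ri_eq : evalW Wri = (evalW Wr)⁻¹ := inv_of_weq Wr Wri Ri_check

set_option maxRecDepth 100000 in
theorem Si_check : weq (Ws ++ Ws) [] = true := by decide +kernel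

theorem Si_eq : evalW Ws = (evalW Ws)⁻¹ := inv_of_weq Ws Ws Si_check

theorem Ti_check : weq (Wt ++ Wt) [] = true := by decide +kernel

theorem Ti_eq : evalW Wt = (evalW Wt)⁻¹ := inv_of_weq Wt Wt Ti_check

theorem R_fwd : fwdCheck cr cri = true := by decide +kernel

theorem S_fwd : fwdCheck cs cs = true := by decide +kernel

theorem T_fwd : fwdCheck ct ct = true := by decide +kernel

theorem R_norm (u : Equiv.Perm GolayPt) (hu : u ∈ E) : R * u * R⁻¹ ∈ E :=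
  fwd_of_check Wr Wri cr cri r_ok ri_ok Ri_eq R_fwd u hu

theorem S_norm (u : Equiv.Perm GolayPt) (hu : u ∈ E) : S * u * S⁻¹ ∈ E :=
  fwd_of_check Ws Ws cs cs s_ok s_ok Si_eq S_fwd u hu

theorem T_norm (u : Equiv.Perm GolayPt) (hu : u ∈ E) : T * u * T⁻¹ ∈ E :=
  fwd_of_check Wt Wt ct ct t_ok t_ok Ti_eq T_fwd u hu

theorem norm_mul (g h : Equiv.Perm GolayPt) (hg : ∀ u ∈ E, g * u * g⁻¹ ∈ E)
    (hh : ∀ u ∈ E, h * u * h⁻¹ ∈ E) : ∀ u ∈ E, (g * h) * u * (g * h)⁻¹ ∈ E := by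
  intro u hu
  have h1 := hg _ (hh u hu)
  have e : g * h * u * (g * h)⁻¹ = g * (h * u * h⁻¹) * g⁻¹ := by group
  rw [e]
  exact h1

theorem norm_pow (g : Equiv.Perm GolayPt) (hg : ∀ u ∈ E, g * u * g⁻¹ ∈ E) :
    ∀ n : ℕ, ∀ u ∈ E, g ^ n * u * (g ^ n)⁻¹ ∈ E
  | 0 => by
    intro u hu
    rw [pow_zero, one_mul, inv_one, mul_one]
    exact hu
  | n + 1 => by
    rw [pow_succ]
    exact norm_mul _ _ (norm_pow g hg n) hg

theorem D_norm (d : Equiv.Perm GolayPt) (hd : d ∈ D) : ∀ u ∈ E, d * u * d⁻¹ ∈ E := by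
  obtain ⟨i, k, h | h⟩ := D_struct d hd
  · rw [h]
    exact norm_mul _ _ (norm_pow R R_norm i) (norm_pow T T_norm k)
  · rw [h]
    exact norm_mul _ _ (norm_mul _ _ (norm_pow R R_norm i) S_norm) (norm_pow T T_norm k)

/-! ### Conjugating pairs of elements into the normal subgroup -/

theorem conj_mem_E (Wg Wgi Wu : List ℕ) (cg cgi cu : ℕ) (hg : Repr cg Wg) (hgi : Repr cgi Wgi)
    (hu : Repr cu Wu) (hinv : evalW Wgi = (evalW Wg)⁻¹)
    (h : (EL.any fun q => eqC (compF cg (compF cu cgi)) q.2) = true) :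
    evalW Wg * evalW Wu * (evalW Wg)⁻¹ ∈ E := by
  have h2 := mem_E_of_code (Wg ++ (Wu ++ Wgi)) _
    (repr_compF _ _ _ _ hg (repr_compF _ _ _ _ hu hgi)) h
  rw [evalW_append, evalW_append, hinv, ← mul_assoc] at h2
  exact h2

theorem g_ok : Repr cgsr2 Wgsr2 ∧ Repr cgsr2i Wgsr2i ∧ Repr cgts Wgts ∧ Repr cgtsi Wgtsi ∧
    Repr cgtsp Wgtsp ∧ Repr cgtspi Wgtspi := by decide +kernel

set_option maxRecDepth 100000 in
theorem gsr2_inv : weq (Wgsr2 ++ Wgsr2i) [] = true := by decide +kernel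

set_option maxRecDepth 100000 in
theorem gts_inv : weq (Wgts ++ Wgtsi) [] = true := by decide +kernel

set_option maxRecDepth 100000 in
theorem gtsp_inv : weq (Wgtsp ++ Wgtspi) [] = true := by decide +kernel

theorem gsr2_c1 : (EL.any fun q => eqC (compF cgsr2 (compF cs cgsr2i)) q.2) = true := by
  decide +kernel

theorem gsr2_c2 : (EL.any fun q => eqC (compF cgsr2 (compF (compF cr cr) cgsr2i)) q.2) = true := by
  decide +kernel

theorem gts_c1 : (EL.any fun q => eqC (compF cgts (compF ct cgtsi)) q.2) = true := by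
  decide +kernel

theorem gts_c2 : (EL.any fun q => eqC (compF cgts (compF cs cgtsi)) q.2) = true := by
  decide +kernel

theorem gtsp_c1 : (EL.any fun q => eqC (compF cgtsp (compF ct cgtspi)) q.2) = true := by
  decide +kernel

theorem gtsp_c2 : (EL.any fun q => eqC (compF cgtsp (compF (compF cr cs) cgtspi)) q.2) = true := by
  decide +kernel

theorem gsr2_S : evalW Wgsr2 * S * (evalW Wgsr2)⁻¹ ∈ E :=
  conj_mem_E Wgsr2 Wgsr2i Ws cgsr2 cgsr2i cs g_ok.1 g_ok.2.1 s_ok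
    (inv_of_weq _ _ gsr2_inv) gsr2_c1

theorem gsr2_R2 : evalW Wgsr2 * R ^ 2 * (evalW Wgsr2)⁻¹ ∈ E := by
  have h := conj_mem_E Wgsr2 Wgsr2i (Wr ++ Wr) cgsr2 cgsr2i (compF cr cr) g_ok.1 g_ok.2.1
    (repr_compF _ _ _ _ r_ok r_ok) (inv_of_weq _ _ gsr2_inv) gsr2_c2
  rw [evalW_append, ← pow_two] at h
  exact h

theorem gts_T : evalW Wgts * T * (evalW Wgts)⁻¹ ∈ E :=
  conj_mem_E Wgts Wgtsi Wt cgts cgtsi ct g_ok.2.2.1 g_ok.2.2.2.1 t_ok
    (inv_of_weq _ _ gts_inv) gts_c1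

theorem gts_S : evalW Wgts * S * (evalW Wgts)⁻¹ ∈ E :=
  conj_mem_E Wgts Wgtsi Ws cgts cgtsi cs g_ok.2.2.1 g_ok.2.2.2.1 s_ok
    (inv_of_weq _ _ gts_inv) gts_c2

theorem gtsp_T : evalW Wgtsp * T * (evalW Wgtsp)⁻¹ ∈ E :=
  conj_mem_E Wgtsp Wgtspi Wt cgtsp cgtspi ct g_ok.2.2.2.2.1 g_ok.2.2.2.2.2 t_ok
    (inv_of_weq _ _ gtsp_inv) gtsp_c1

theorem gtsp_RS : evalW Wgtsp * (R * S) * (evalW Wgtsp)⁻¹ ∈ E := by
  have h := conj_mem_E Wgtsp Wgtspi (Wr ++ Ws) cgtsp cgtspi (compF cr cs) g_ok.2.2.2.2.1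
    g_ok.2.2.2.2.2 (repr_compF _ _ _ _ r_ok s_ok) (inv_of_weq _ _ gtsp_inv) gtsp_c2
  rw [evalW_append] at h
  exact h

theorem R2_check : (EL.all fun q => !eqC (compF cr cr) q.2) = true := by decide +kernel

theorem R2_not_mem : R ^ 2 ∉ E := by
  intro h
  obtain ⟨q, hq, hq2⟩ := E_sub _ h
  have e' : evalW (Wr ++ Wr) = evalW q.1 := by
    rw [evalW_append, ← pow_two]
    exact hq2
  have h1 := eqC_of_evalW_eq (compF cr cr) q.2 (Wr ++ Wr) q.1 (repr_compF _ _ _ _ r_ok r_ok)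
    (EL_spec q hq).1 e'
  have h2 := List.all_eq_true.1 R2_check q hq
  rw [h1] at h2
  exact absurd h2 (by decide)

set_option maxRecDepth 100000 in
theorem SR_check : weq (Ws ++ Wr) (FusCert.powW Wr 3 ++ Ws) = true := by decide +kernel

theorem S_R : S * R * S⁻¹ = R ^ 3 := by
  have h := conj_of_weq Ws Wr (FusCert.powW Wr 3) SR_check
  rw [FusCert.evalW_powW] at h
  exact h

theorem P0_le_M24 : P0 ≤ M24 := ctx.hQG

end Cfsg.Agent.Helper29.SchurM24
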