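import Mathlib
import Cfsg.Agent.Lib.Helper29.M21Simple

set_option autoImplicit false
open Cfsg

namespace Cfsg.Agent.Helper29.M24

open Cfsg.Agent.Helper27 Cfsg.Agent.Helper29
open Cfsg.Agent.S0358 (idx)
open scoped Pointwise

/-! ### Simplicity of the groups of the chain, going up -/

/-- the first `i` base points -/
def baseSet (i : ℕ) : Finset GolayPt := (Finset.range i).image bp

theorem mem_baseSet (i : ℕ) (p : GolayPt) : p ∈ baseSet i ↔ ∃ i' < i, bp i' = p := by
  unfold baseSet
  simp [Finset.mem_image]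

theorem card_baseSet (i : ℕ) (hi : i ≤ 7) : (baseSet i).card = i := by
  unfold baseSet
  rw [Finset.card_image_of_injOn, Finset.card_range]
  intro a ha b hb hab
  rw [Finset.coe_range, Set.mem_Iio] at ha hb
  exact bp_injOn (by omega) (by omega) hab

/-- the points other than the first `i` base points -/
abbrev Om (i : ℕ) : Type := {x : GolayPt // x ∉ baseSet i}

theorem card_Om (i : ℕ) (hi : i ≤ 7) : Nat.card (Om i) = 24 - i := by
  rw [Nat.card_eq_fintype_card, Fintype.card_subtype_compl, Fintype.card_coe, card_baseSet i hi]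
  have h24 : Fintype.card GolayPt = 24 := by decide
  rw [h24]

theorem smul_notMem (i : ℕ) (g : Equiv.Perm GolayPt) (hg : g ∈ grp i) (x : GolayPt)
    (hx : x ∉ baseSet i) : g x ∉ baseSet i := by
  by_cases hi : i ≤ 7
  · intro h
    apply hx
    rw [mem_baseSet] at h ⊢
    obtain ⟨i', hi', h'⟩ := h
    refine ⟨i', hi', ?_⟩
    rw [← grp_fix i hi g hg i' hi'] at h'
    exact g.injective h'
  · have h7 : grp i ≤ ⊥ := by
      rw [← grp_seven]
      exact grp_mono (by omega)
    have hg1 : g = 1 := (Subgroup.mem_bot).1 (h7 hg)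
    rw [hg1]
    exact hx

instance omAction (i : ℕ) : MulAction (grp i) (Om i) where
  smul g x := ⟨(g : Equiv.Perm GolayPt) x.1, smul_notMem i _ g.2 x.1 x.2⟩
  one_smul _ := Subtype.ext rfl
  mul_smul _ _ _ := Subtype.ext rfl

theorem om_smul_val (i : ℕ) (g : grp i) (x : Om i) :
    (g • x).1 = (g : Equiv.Perm GolayPt) x.1 := rfl

theorem om_faithful (i : ℕ) (hi : i ≤ 7) : FaithfulSMul (grp i) (Om i) := by
  refine ⟨fun {g g'} h => ?_⟩
  apply Subtype.ext
  apply Equiv.ext
  intro r
  by_cases hr : r ∈ baseSet i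
  · rw [mem_baseSet] at hr
    obtain ⟨i', hi', rfl⟩ := hr
    rw [grp_fix i hi _ g.2 i' hi', grp_fix i hi _ g'.2 i' hi']
  · have := h ⟨r, hr⟩
    exact congrArg Subtype.val this

/-- three-transitivity of the groups of the chain on the remaining points -/
theorem om_three_trans (i : ℕ) (hi : i ≤ 2) (x y z x' y' z' : Om i) (hxy : x ≠ y) (hxz : x ≠ z)
    (hyz : y ≠ z) (hxy' : x' ≠ y') (hxz' : x' ≠ z') (hyz' : y' ≠ z') :
    ∃ g : grp i, g • x = x' ∧ g • y = y' ∧ g • z = z' := by
  -- the sequence of the base points followed by three points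
  have key : ∀ a b c : Om i, a ≠ b → a ≠ c → b ≠ c →
      ∃ g ∈ M24, (∀ j < i, g (bp j) = bp j) ∧ g (bp i) = a.1 ∧ g (bp (i + 1)) = b.1 ∧
        g (bp (i + 2)) = c.1 := by
    intro a b c hab hac hbc
    let s : ℕ → GolayPt := fun j =>
      if j < i then bp j else if j = i then a.1 else if j = i + 1 then b.1 else c.1
    have hs : ∀ j < i + 3, ∀ j' < i + 3, s j = s j' → j = j' := by
      have hne : ∀ (p : Om i) (j : ℕ), j < i → bp j ≠ p.1 := by
        intro p j hj h
        exact p.2 ((mem_baseSet i _).2 ⟨j, hj, h⟩)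
      have hab' : a.1 ≠ b.1 := fun h => hab (Subtype.ext h)
      have hac' : a.1 ≠ c.1 := fun h => hac (Subtype.ext h)
      have hbc' : b.1 ≠ c.1 := fun h => hbc (Subtype.ext h)
      intro j hj j' hj' h
      simp only [s] at h
      by_cases h1 : j < i <;> by_cases h2 : j' < i
      · simp only [h1, h2, if_true] at h
        exact bp_injOn (by omega) (by omega) h
      · exfalso
        simp only [h1, h2, if_true, if_false] at h
        split_ifs at h
        · exact hne a j h1 h
        · exact hne b j h1 h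
        · exact hne c j h1 h
      · exfalso
        simp only [h1, h2, if_true, if_false] at h
        split_ifs at h
        · exact hne a j' h2 h.symm
        · exact hne b j' h2 h.symm
        · exact hne c j' h2 h.symm
      · simp only [h1, h2, if_false] at h
        split_ifs at h with h3 h4 h5 h6 h7 h8
        all_goals first | omega | (exfalso; first | exact hab' h | exact hab' h.symm | exact hac' h | exact hac' h.symm | exact hbc' h | exact hbc' h.symm)
    obtain ⟨g, hg, hgs⟩ := exists_map_base s (i + 3) (by omega) hs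
    refine ⟨g, hg, ?_, ?_, ?_, ?_⟩
    · intro j hj
      have := hgs j (by omega)
      simpa [s, hj] using this
    · have := hgs i (by omega)
      simpa [s] using this
    · have := hgs (i + 1) (by omega)
      simpa [s] using this
    · have := hgs (i + 2) (by omega)
      simpa [s] using this
  obtain ⟨g, hg, hgf, hga, hgb, hgc⟩ := key x y z hxy hxz hyz
  obtain ⟨g', hg', hgf', hga', hgb', hgc'⟩ := key x' y' z' hxy' hxz' hyz'
  have hmem : g' * g⁻¹ ∈ grp i := by
    rw [mem_grp_iff i (by omega)]
    refine ⟨Subgroup.mul_mem _ hg' (Subgroup.inv_mem _ hg), fun j hj => ?_⟩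
    show (g' * g⁻¹) (bp j) = bp j
    rw [Equiv.Perm.mul_apply]
    have : g⁻¹ (bp j) = bp j := by
      rw [Equiv.Perm.inv_def, Equiv.symm_apply_eq, hgf j hj]
    rw [this, hgf' j hj]
  refine ⟨⟨g' * g⁻¹, hmem⟩, ?_, ?_, ?_⟩
  · apply Subtype.ext
    rw [om_smul_val]
    show (g' * g⁻¹) x.1 = x'.1
    rw [Equiv.Perm.mul_apply, ← hga, Equiv.Perm.inv_def, Equiv.symm_apply_apply, hga']
  · apply Subtype.ext
    rw [om_smul_val]
    show (g' * g⁻¹) y.1 = y'.1
    rw [Equiv.Perm.mul_apply, ← hgb, Equiv.Perm.inv_def, Equiv.symm_apply_apply, hgb']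
  · apply Subtype.ext
    rw [om_smul_val]
    show (g' * g⁻¹) z.1 = z'.1
    rw [Equiv.Perm.mul_apply, ← hgc, Equiv.Perm.inv_def, Equiv.symm_apply_apply, hgc']

theorem bp_notMem_baseSet (i : ℕ) (hi : i < 7) : bp i ∉ baseSet i := by
  rw [mem_baseSet]
  rintro ⟨i', hi', h⟩
  have := bp_injOn (by omega) hi h
  omega

/-- the stabilizer of the next base point is the next group of the chain -/
theorem stab_eq_subgroupOf (i : ℕ) (hi : i < 7) :
    MulAction.stabilizer (grp i) (⟨bp i, bp_notMem_baseSet i hi⟩ : Om i) =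
      (grp (i + 1)).subgroupOf (grp i) := by
  ext g
  rw [MulAction.mem_stabilizer_iff, Subgroup.mem_subgroupOf, mem_grp_iff (i + 1) (by omega)]
  constructor
  · intro h
    refine ⟨grp_le_M24 i g.2, fun j hj => ?_⟩
    rcases Nat.lt_succ_iff_lt_or_eq.1 hj with hlt | rfl
    · exact grp_fix i (by omega) _ g.2 j hlt
    · exact congrArg Subtype.val h
  · rintro ⟨-, h⟩
    apply Subtype.ext
    exact h i (by omega)

theorem grp_simple_step (i : ℕ) (hi : i ≤ 2) (h : IsSimpleGroup (grp (i + 1))) :
    IsSimpleGroup (grp i) := by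
  have hfin : Finite (grp i) := inferInstance
  have hf := om_faithful i (by omega)
  have hcard := card_Om i (by omega)
  apply isSimpleGroup_of_three_trans (Ω := Om i) (⟨bp i, bp_notMem_baseSet i (by omega)⟩ : Om i)
    (om_three_trans i hi)
  · rw [hcard]; omega
  · intro m
    rw [hcard]
    intro hm
    have h1 : m < 5 := by
      by_contra hcon
      have : 2 ^ 5 ≤ 2 ^ m := Nat.pow_le_pow_right (by norm_num) (by omega)
      omega
    interval_cases m <;> omega
  · rw [stab_eq_subgroupOf i (by omega)]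
    exact (Subgroup.subgroupOfEquivOfLe (grp_mono (Nat.le_succ i))).isSimpleGroup

theorem grp2_simple : IsSimpleGroup (grp 2) := grp_simple_step 2 le_rfl grp3_simple

theorem grp1_simple : IsSimpleGroup (grp 1) := grp_simple_step 1 (by norm_num) grp2_simple

theorem grp0_simple : IsSimpleGroup (grp 0) := grp_simple_step 0 (by norm_num) grp1_simple

theorem M24_simple : IsSimpleGroup M24 := by
  rw [M24_eq_grp]
  exact grp0_simple

theorem simple_of_map_eq (H : Subgroup M24) (K : Subgroup (Equiv.Perm GolayPt))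
    (h : H.map M24.subtype = K) (hK : IsSimpleGroup K) : IsSimpleGroup H :=
  ((Subgroup.equivMapOfInjective H _ M24.subtype_injective).trans
    (MulEquiv.subgroupCongr h)).isSimpleGroup

theorem simple_map_conj (H : Subgroup M24) (g : M24) (hH : IsSimpleGroup H) :
    IsSimpleGroup (H.map (MulAut.conj g).toMonoidHom) :=
  (Subgroup.equivMapOfInjective H _ (MulEquiv.injective _)).symm.isSimpleGroup

theorem stab_point_simple (p : GolayPt) : IsSimpleGroup (MulAction.stabilizer M24 p) := by
  obtain ⟨g, hg, hgp⟩ := exists_map_emb (k := 1) (by norm_num)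
    ⟨fun _ => p, fun _ _ _ => Subsingleton.elim _ _⟩
  have h0 : p = (⟨g, hg⟩ : M24) • bp 0 := (hgp 0).symm
  rw [h0, MulAction.stabilizer_smul_eq_stabilizer_map_conj]
  exact simple_map_conj _ _ (simple_of_map_eq _ _ map_stab_bp0 grp1_simple)

theorem stab_two_simple (p q : GolayPt) (hpq : p ≠ q) :
    IsSimpleGroup ↥(MulAction.stabilizer M24 p ⊓ MulAction.stabilizer M24 q) := by
  obtain ⟨g, hg, hgp⟩ := exists_map_emb (k := 2) (by norm_num)
    ⟨fun i => if i = 0 then p else q, by
      intro i j hij
      fin_cases i <;> fin_cases j <;> simp_all [eq_comm]⟩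
  have h0 : p = (⟨g, hg⟩ : M24) • bp 0 := (hgp 0).symm
  have h1 : q = (⟨g, hg⟩ : M24) • bp 1 := (hgp 1).symm
  rw [h0, h1, MulAction.stabilizer_smul_eq_stabilizer_map_conj,
    MulAction.stabilizer_smul_eq_stabilizer_map_conj, ← Subgroup.map_inf _ _ _ (MulEquiv.injective _)]
  exact simple_map_conj _ _ (simple_of_map_eq _ _ map_stab_bp01 grp2_simple)

end Cfsg.Agent.Helper29.M24
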