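import Mathlib

set_option autoImplicit false

/-! The stabilizer in `Perm Ω` of the partition of `Ω` into the fibres of `f : Ω → Fin b`. -/

namespace Cfsg.Agent.Helper29

variable {Ω : Type*} {b : ℕ}

/-- the partition stabilizer as a subgroup -/
def partitionStabilizer (f : Ω → Fin b) : Subgroup (Equiv.Perm Ω) where
  carrier := {g | ∀ x y : Ω, f x = f y ↔ f (g x) = f (g y)}
  mul_mem' := by
    intro g h hg hh x y
    rw [hh x y, hg (h x) (h y)]
    rfl
  one_mem' := by
    intro x y
    rfl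
  inv_mem' := by
    intro g hg x y
    have := hg (g⁻¹ x) (g⁻¹ y)
    have h1 : g (g⁻¹ x) = x := g.apply_symm_apply x
    have h2 : g (g⁻¹ y) = y := g.apply_symm_apply y
    rw [h1, h2] at this
    exact this.symm

theorem mem_partitionStabilizer (f : Ω → Fin b) (g : Equiv.Perm Ω) :
    g ∈ partitionStabilizer f ↔ ∀ x y : Ω, f x = f y ↔ f (g x) = f (g y) := Iff.rfl

theorem closure_eq_partitionStabilizer (f : Ω → Fin b) :
    Subgroup.closure {g : Equiv.Perm Ω | ∀ x y : Ω, f x = f y ↔ f (g x) = f (g y)} =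
      partitionStabilizer f :=
  Subgroup.closure_eq (partitionStabilizer f)

/-- a swap inside a fibre lies in the partition stabilizer -/
theorem swap_mem_partitionStabilizer [DecidableEq Ω] (f : Ω → Fin b) {x y : Ω} (h : f x = f y) :
    Equiv.swap x y ∈ partitionStabilizer f := by
  have key : ∀ u, f (Equiv.swap x y u) = f u := by
    intro u
    by_cases hux : u = x
    · rw [hux, Equiv.swap_apply_left, h]
    by_cases huy : u = y
    · rw [huy, Equiv.swap_apply_right, h]
    rw [Equiv.swap_apply_of_ne_of_ne hux huy]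
  intro u v
  rw [key u, key v]

/-- a labelling of `Ω` by `Fin b × Fin a` compatible with `f` -/
theorem exists_labelling [Fintype Ω] [DecidableEq Ω] (a : ℕ) (f : Ω → Fin b)
    (hf : ∀ i : Fin b, Nat.card {x : Ω // f x = i} = a) :
    ∃ E : Ω ≃ Fin b × Fin a, ∀ x, (E x).1 = f x := by
  have hcard : ∀ i : Fin b, Fintype.card {x : Ω // f x = i} = a := by
    intro i
    rw [← Nat.card_eq_fintype_card]; exact hf i
  let e : ∀ i : Fin b, {x : Ω // f x = i} ≃ Fin a := fun i => Fintype.equivFinOfCardEq (hcard i)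
  refine ⟨(Equiv.sigmaFiberEquiv f).symm.trans ((Equiv.sigmaCongrRight e).trans
    (Equiv.sigmaEquivProd (Fin b) (Fin a))), fun x => ?_⟩
  simp [Equiv.sigmaFiberEquiv]

/-- the permutation of `Ω` induced by a permutation of the labels of the fibres -/
def fibrePerm {a : ℕ} (E : Ω ≃ Fin b × Fin a) (π : Equiv.Perm (Fin b)) : Equiv.Perm Ω :=
  E.trans ((Equiv.prodCongr π (Equiv.refl (Fin a))).trans E.symm)

theorem fibrePerm_fst {a : ℕ} (E : Ω ≃ Fin b × Fin a) (π : Equiv.Perm (Fin b)) (x : Ω) :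
    (E (fibrePerm E π x)).1 = π (E x).1 := by
  simp [fibrePerm]

theorem fibrePerm_mem {a : ℕ} (f : Ω → Fin b) (E : Ω ≃ Fin b × Fin a) (hE : ∀ x, (E x).1 = f x)
    (π : Equiv.Perm (Fin b)) : fibrePerm E π ∈ partitionStabilizer f := by
  intro x y
  rw [← hE (fibrePerm E π x), ← hE (fibrePerm E π y), fibrePerm_fst, fibrePerm_fst, hE, hE]
  exact π.injective.eq_iff.symm

theorem apply_fibrePerm {a : ℕ} (f : Ω → Fin b) (E : Ω ≃ Fin b × Fin a) (hE : ∀ x, (E x).1 = f x)
    (π : Equiv.Perm (Fin b)) (x : Ω) : f (fibrePerm E π x) = π (f x) := by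
  rw [← hE, fibrePerm_fst, hE]

/-- two-transitivity of `Perm (Fin b)` -/
theorem exists_perm_two {b : ℕ} {i j i' j' : Fin b} (hij : i ≠ j) (hij' : i' ≠ j') :
    ∃ π : Equiv.Perm (Fin b), π i = i' ∧ π j = j' := by
  refine ⟨Equiv.swap (Equiv.swap i i' j) j' * Equiv.swap i i', ?_, ?_⟩
  · rw [Equiv.Perm.mul_apply, Equiv.swap_apply_left]
    apply Equiv.swap_apply_of_ne_of_ne
    · intro h
      have : Equiv.swap i i' i = Equiv.swap i i' j := by rw [Equiv.swap_apply_left]; exact h
      exact hij ((Equiv.swap i i').injective this)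
    · exact hij'
  · rw [Equiv.Perm.mul_apply, Equiv.swap_apply_left]

/-- any subgroup properly containing the partition stabilizer (for `b` blocks of size `a`)
is the full symmetric group -/
theorem eq_top_of_partitionStabilizer_lt' [Finite Ω] [DecidableEq Ω] {a : ℕ}
    (f : Ω → Fin b) (E : Ω ≃ Fin b × Fin a) (hE : ∀ x, (E x).1 = f x)
    (G : Subgroup (Equiv.Perm Ω)) (hG : partitionStabilizer f < G) : G = ⊤ := by
  have hWG : partitionStabilizer f ≤ G := hG.le
  -- a swap between two different fibres in G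
  obtain ⟨p, q, hpq, hswap⟩ : ∃ p q : Ω, f p ≠ f q ∧ Equiv.swap p q ∈ G := by
    obtain ⟨g, hgG, hgW⟩ := SetLike.exists_of_lt hG
    rw [mem_partitionStabilizer] at hgW
    push Not at hgW
    obtain ⟨x, y, hxy⟩ := hgW
    rcases hxy with ⟨h1, h2⟩ | ⟨h1, h2⟩
    · refine ⟨g x, g y, h2, ?_⟩
      rw [Equiv.swap_apply_apply]
      exact G.mul_mem (G.mul_mem hgG (hWG (swap_mem_partitionStabilizer f h1))) (G.inv_mem hgG)
    · refine ⟨x, y, h1, ?_⟩
      have h3 : Equiv.swap x y = g⁻¹ * Equiv.swap (g x) (g y) * g⁻¹⁻¹ := by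
        rw [← Equiv.swap_apply_apply]
        simp
      rw [h3]
      exact G.mul_mem (G.mul_mem (G.inv_mem hgG) (hWG (swap_mem_partitionStabilizer f h2)))
        (G.inv_mem (G.inv_mem hgG))
  -- moving the first point inside its fibre
  have step1 : ∀ p q p' : Ω, f p ≠ f q → Equiv.swap p q ∈ G → f p' = f p → Equiv.swap p' q ∈ G := by
    intro p q p' hpq hsw hp'
    have hmem : Equiv.swap p p' ∈ G := hWG (swap_mem_partitionStabilizer f hp'.symm)
    have hq1 : q ≠ p := fun h => hpq (h ▸ rfl)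
    have hq2 : q ≠ p' := fun h => hpq (by rw [h, hp'])
    have : Equiv.swap p' q = Equiv.swap p p' * Equiv.swap p q * (Equiv.swap p p')⁻¹ := by
      rw [← Equiv.swap_apply_apply, Equiv.swap_apply_left, Equiv.swap_apply_of_ne_of_ne hq1 hq2]
    rw [this]
    exact G.mul_mem (G.mul_mem hmem hsw) (G.inv_mem hmem)
  have hall : ∀ u v : Ω, Equiv.swap u v ∈ G := by
    intro u v
    by_cases huv : f u = f v
    · exact hWG (swap_mem_partitionStabilizer f huv)
    · obtain ⟨π, hπ1, hπ2⟩ := exists_perm_two hpq huv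
      set σ := fibrePerm E π with hσ
      have hσG : σ ∈ G := hWG (fibrePerm_mem f E hE π)
      have h1 : Equiv.swap (σ p) (σ q) ∈ G := by
        rw [Equiv.swap_apply_apply]
        exact G.mul_mem (G.mul_mem hσG hswap) (G.inv_mem hσG)
      have hfp : f (σ p) = f u := by rw [hσ, apply_fibrePerm f E hE, hπ1]
      have hfq : f (σ q) = f v := by rw [hσ, apply_fibrePerm f E hE, hπ2]
      have h2 : Equiv.swap u (σ q) ∈ G :=
        step1 (σ p) (σ q) u (by rw [hfp, hfq]; exact huv) h1 hfp.symm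
      have h3 : Equiv.swap v u ∈ G := by
        apply step1 (σ q) u v
        · rw [hfq]; exact fun h => huv h.symm
        · rw [Equiv.swap_comm]; exact h2
        · exact hfq.symm
      rw [Equiv.swap_comm]; exact h3
  rw [eq_top_iff, ← Equiv.Perm.closure_isSwap, Subgroup.closure_le]
  rintro σ ⟨u, v, -, rfl⟩
  exact hall u v

theorem eq_top_of_partitionStabilizer_lt [Fintype Ω] [DecidableEq Ω] (a : ℕ)
    (f : Ω → Fin b) (hf : ∀ i : Fin b, Nat.card {x : Ω // f x = i} = a)
    (G : Subgroup (Equiv.Perm Ω)) (hG : partitionStabilizer f < G) : G = ⊤ := by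
  obtain ⟨E, hE⟩ := exists_labelling a f hf
  exact eq_top_of_partitionStabilizer_lt' f E hE G hG

/-- the partition stabilizer is a proper subgroup when there are at least two blocks of size
at least two -/
theorem partitionStabilizer_ne_top' [DecidableEq Ω] {a : ℕ} (ha : 2 ≤ a) (hb : 2 ≤ b)
    (f : Ω → Fin b) (E : Ω ≃ Fin b × Fin a) (hE : ∀ x, (E x).1 = f x) :
    partitionStabilizer f ≠ ⊤ := by
  intro htop
  set x := E.symm (⟨0, by omega⟩, ⟨0, by omega⟩) with hx
  set y := E.symm (⟨0, by omega⟩, ⟨1, by omega⟩) with hy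
  set z := E.symm (⟨1, by omega⟩, ⟨0, by omega⟩) with hz
  have hfx : f x = ⟨0, by omega⟩ := by rw [← hE, hx]; simp
  have hfy : f y = ⟨0, by omega⟩ := by rw [← hE, hy]; simp
  have hfz : f z = ⟨1, by omega⟩ := by rw [← hE, hz]; simp
  have hmem : Equiv.swap x z ∈ partitionStabilizer f := htop ▸ Subgroup.mem_top _
  have hyx : y ≠ x := by
    rw [hx, hy]
    intro h
    have := E.symm.injective h
    simp at this
  have hyz : y ≠ z := by
    intro h
    have : f y = f z := by rw [h]
    rw [hfy, hfz] at this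
    simp at this
  have := (hmem x y).mp (by rw [hfx, hfy])
  rw [Equiv.swap_apply_left, Equiv.swap_apply_of_ne_of_ne hyx hyz, hfz, hfy] at this
  simp at this

theorem partitionStabilizer_ne_top [Fintype Ω] [DecidableEq Ω] (a : ℕ) (ha : 2 ≤ a) (hb : 2 ≤ b)
    (f : Ω → Fin b) (hf : ∀ i : Fin b, Nat.card {x : Ω // f x = i} = a) :
    partitionStabilizer f ≠ ⊤ := by
  obtain ⟨E, hE⟩ := exists_labelling a f hf
  exact partitionStabilizer_ne_top' ha hb f E hE

theorem isCoatom_partitionStabilizer' [Finite Ω] [DecidableEq Ω] {a : ℕ} (ha : 2 ≤ a) (hb : 2 ≤ b)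
    (f : Ω → Fin b) (E : Ω ≃ Fin b × Fin a) (hE : ∀ x, (E x).1 = f x) :
    IsCoatom (partitionStabilizer f) :=
  ⟨partitionStabilizer_ne_top' ha hb f E hE,
    fun G hG => eq_top_of_partitionStabilizer_lt' f E hE G hG⟩

end Cfsg.Agent.Helper29
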