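import Mathlib
import Cfsg.Agent.Lib.Helper29.StemSplit

set_option autoImplicit false

namespace Cfsg.Agent.Helper29.StemRank

open Cfsg.Agent.Helper29.StemSylow Cfsg.Agent.Helper29.StemSplit
open scoped commutatorElement

/-! ### Central extensions by groups of exponent two: a bound on the kernel -/

variable {Γ : Type*} [Group Γ] {G : Type*} [Group G]

/-- involutions whose product is an involution commute -/
theorem comm_of_sq {a b : G} (ha : a * a = 1) (hb : b * b = 1) (hab : (a * b) * (a * b) = 1) :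
    a * b = b * a := by
  have h1 : a⁻¹ = a := inv_eq_of_mul_eq_one_right ha
  have h2 : b⁻¹ = b := inv_eq_of_mul_eq_one_right hb
  have h3 : (a * b)⁻¹ = a * b := inv_eq_of_mul_eq_one_right hab
  rw [mul_inv_rev, h1, h2] at h3
  exact h3.symm

/-- the square of a product, when the commutator is central -/
theorem sq_mul_of_central (u v : Γ) (hz : ∀ g : Γ, g * ⁅v, u⁆ = ⁅v, u⁆ * g) :
    (u * v) * (u * v) = ⁅v, u⁆ * ((u * u) * (v * v)) := by
  have e : (u * v) * (u * v) = u * ⁅v, u⁆ * (u * (v * v)) := by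
    rw [commutatorElement_def]; group
  rw [e, hz u]; group

/-- if a subgroup of exponent two of the quotient contains three independent elements and all of
its non-identity elements are conjugate, its preimage in a central extension by a group of
exponent two is again commutative of exponent two -/
theorem lift_elementary (σ : Γ →* G) (hs : Function.Surjective σ)
    (hK : σ.ker ≤ Subgroup.center Γ) (hexp : ∀ k ∈ σ.ker, k * k = 1)
    (E : Subgroup G) (hE : ∀ e ∈ E, e * e = 1) (x0 : G) (hx0 : x0 ∈ E)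
    (hconj : ∀ e ∈ E, e ≠ 1 → ∃ g : G, g * x0 * g⁻¹ = e)
    (p q r : G) (hp : p ∈ E) (hq : q ∈ E) (hr : r ∈ E)
    (h1 : p ≠ 1) (h2 : q ≠ 1) (h3 : r ≠ 1) (h4 : p * q ≠ 1) (h5 : p * r ≠ 1)
    (h6 : q * r ≠ 1) (h7 : p * (q * r) ≠ 1) :
    ∀ u v : Γ, σ u ∈ E → σ v ∈ E → u * u = 1 ∧ u * v = v * u := by
  obtain ⟨u0, hu0⟩ := hs x0
  obtain ⟨c, hc⟩ : ∃ c, c = u0 * u0 := ⟨_, rfl⟩
  have hcK : c ∈ σ.ker := by
    rw [MonoidHom.mem_ker, hc, map_mul, hu0]; exact hE x0 hx0
  have hcc : c * c = 1 := hexp c hcK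
  have hccen := central_comm σ hK hcK
  have hEab : ∀ a ∈ E, ∀ b ∈ E, a * b = b * a := fun a ha b hb =>
    comm_of_sq (hE a ha) (hE b hb) (hE _ (E.mul_mem ha hb))
  -- squares of lifts of non-identity elements
  have hQ : ∀ u : Γ, σ u ∈ E → σ u ≠ 1 → u * u = c := by
    intro u hu hne
    obtain ⟨g, hg⟩ := hconj _ hu hne
    obtain ⟨g', rfl⟩ := hs g
    obtain ⟨κ, hκ, e⟩ := exists_ker_mul σ u (g' * u0 * g'⁻¹) (by
      rw [map_mul, map_mul, map_inv, hu0]; exact hg.symm)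
    have cκ := central_comm σ hK hκ
    rw [e]
    calc g' * u0 * g'⁻¹ * κ * (g' * u0 * g'⁻¹ * κ)
        = g' * u0 * g'⁻¹ * (κ * (g' * u0 * g'⁻¹)) * κ := by group
      _ = g' * u0 * g'⁻¹ * ((g' * u0 * g'⁻¹) * κ) * κ := by rw [← cκ (g' * u0 * g'⁻¹)]
      _ = g' * (u0 * u0) * g'⁻¹ * (κ * κ) := by group
      _ = g' * c * g'⁻¹ * 1 := by rw [hexp κ hκ, hc]
      _ = c := by rw [mul_one, hccen g']; group
  have hcommK : ∀ u v : Γ, σ u ∈ E → σ v ∈ E → ⁅v, u⁆ ∈ σ.ker := by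
    intro u v hu hv
    rw [MonoidHom.mem_ker, map_commutatorElement, commutatorElement_def, hEab _ hv _ hu]
    group
  -- commutators of lifts of independent elements
  have hB : ∀ u v : Γ, σ u ∈ E → σ v ∈ E → σ u ≠ 1 → σ v ≠ 1 → σ u * σ v ≠ 1 → ⁅v, u⁆ = c := by
    intro u v hu hv hu1 hv1 huv
    have hz := central_comm σ hK (hcommK u v hu hv)
    have e := sq_mul_of_central u v hz
    rw [hQ u hu hu1, hQ v hv hv1, hQ (u * v) (by rw [map_mul]; exact E.mul_mem hu hv)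
      (by rw [map_mul]; exact huv), hcc, mul_one] at e
    exact e.symm
  -- the common square is trivial
  obtain ⟨p', rfl⟩ := hs p
  obtain ⟨q', rfl⟩ := hs q
  obtain ⟨r', rfl⟩ := hs r
  have hc1 : c = 1 := by
    have e1 : ⁅q' * r', p'⁆ = c := hB p' (q' * r') hp (by rw [map_mul]; exact E.mul_mem hq hr) h1
      (by rw [map_mul]; exact h6) (by rw [map_mul]; exact h7)
    have e2 : ⁅q', p'⁆ = c := hB p' q' hp hq h1 h2 h4
    have e3 : ⁅r', p'⁆ = c := hB p' r' hp hr h1 h3 h5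
    have e4 := comm_mul_left_of_central q' r' p' (by
      intro g; rw [e3]; exact hccen g)
    rw [e1, e2, e3, hcc] at e4
    exact e4
  intro u v hu hv
  have hsq : ∀ w : Γ, σ w ∈ E → w * w = 1 := by
    intro w hw
    by_cases h : σ w = 1
    · exact hexp w h
    · rw [hQ w hw h, hc1]
  refine ⟨hsq u hu, ?_⟩
  by_cases hu1 : σ u = 1
  · exact (central_comm σ hK hu1 v).symm
  by_cases hv1 : σ v = 1
  · exact central_comm σ hK hv1 u
  by_cases huv : σ u * σ v = 1
  · have := hsq (u * v) (by rw [map_mul]; exact E.mul_mem hu hv)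
    exact comm_of_sq (hsq u hu) (hsq v hv) this
  · have := hB u v hu hv hu1 hv1 huv
    rw [hc1] at this
    exact (commutatorElement_eq_one_iff_mul_comm.1 this).symm


/-- the derived subgroup of a group generated by a set whose commutators lie in a subgroup
centralized by the set -/
theorem commutator_closure_le (M : Set Γ) (C : Subgroup Γ)
    (h1 : ∀ s ∈ M, ∀ t ∈ M, ⁅s, t⁆ ∈ C) (h2 : ∀ c ∈ C, ∀ s ∈ M, s * c = c * s) :
    ⁅Subgroup.closure M, Subgroup.closure M⁆ ≤ C := by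
  have hcen : ∀ c ∈ C, ∀ x ∈ Subgroup.closure M, x * c = c * x := by
    intro c hc x hx
    induction hx using Subgroup.closure_induction with
    | mem s hs => exact h2 c hc s hs
    | one => rw [one_mul, mul_one]
    | mul x y _ _ ihx ihy => rw [mul_assoc, ihy, ← mul_assoc, ihx, mul_assoc]
    | inv x _ ih => exact (Commute.inv_left (show Commute x c from ih)).eq
  have step1 : ∀ t ∈ M, ∀ x ∈ Subgroup.closure M, ⁅x, t⁆ ∈ C := by
    intro t ht x hx
    induction hx using Subgroup.closure_induction with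
    | mem s hs => exact h1 s hs t ht
    | one => rw [commutatorElement_one_left]; exact C.one_mem
    | mul x y hx _ ihx ihy =>
      have e : ⁅x * y, t⁆ = x * ⁅y, t⁆ * x⁻¹ * ⁅x, t⁆ := by
        rw [commutatorElement_def, commutatorElement_def, commutatorElement_def]; group
      rw [e, hcen _ ihy x hx, mul_assoc ⁅y, t⁆, mul_inv_cancel, mul_one]
      exact C.mul_mem ihy ihx
    | inv x hx ih =>
      have e : ⁅x⁻¹, t⁆ = x⁻¹ * ⁅x, t⁆⁻¹ * x := by
        rw [commutatorElement_def, commutatorElement_def]; group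
      rw [e, hcen _ (C.inv_mem ih) x⁻¹ (Subgroup.inv_mem _ hx), mul_assoc, inv_mul_cancel, mul_one]
      exact C.inv_mem ih
  have step2 : ∀ x ∈ Subgroup.closure M, ∀ y ∈ Subgroup.closure M, ⁅x, y⁆ ∈ C := by
    intro x hx y hy
    induction hy using Subgroup.closure_induction with
    | mem t ht => exact step1 t ht x hx
    | one => rw [commutatorElement_one_right]; exact C.one_mem
    | mul y z hy _ ihy ihz =>
      have e : ⁅x, y * z⁆ = ⁅x, y⁆ * (y * ⁅x, z⁆ * y⁻¹) := by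
        rw [commutatorElement_def, commutatorElement_def, commutatorElement_def]; group
      rw [e, hcen _ ihz y hy, mul_assoc ⁅x, z⁆, mul_inv_cancel, mul_one]
      exact C.mul_mem ihy ihz
    | inv y hy ih =>
      have e : ⁅x, y⁻¹⁆ = y⁻¹ * ⁅x, y⁆⁻¹ * y := by
        rw [commutatorElement_def, commutatorElement_def]; group
      rw [e, hcen _ (C.inv_mem ih) y⁻¹ (Subgroup.inv_mem _ hy), mul_assoc, inv_mul_cancel, mul_one]
      exact C.inv_mem ih
  exact Subgroup.commutator_le.2 step2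

/-- adjoining an involution that commutes with a generating set -/
theorem mem_closure_insert_invol (x : Γ) (T : Set Γ) (hx : x * x = 1)
    (hc : ∀ t ∈ T, x * t = t * x) (g : Γ) (hg : g ∈ Subgroup.closure (insert x T)) :
    ∃ e : Bool, ∃ h ∈ Subgroup.closure T, g = (cond e x 1) * h := by
  have hcen : ∀ h ∈ Subgroup.closure T, x * h = h * x := by
    intro h hh
    induction hh using Subgroup.closure_induction with
    | mem t ht => exact hc t ht
    | one => rw [one_mul, mul_one]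
    | mul a b _ _ iha ihb => rw [← mul_assoc, iha, mul_assoc, ihb, ← mul_assoc]
    | inv a _ ih => exact (Commute.inv_right (show Commute x a from ih)).eq
  have hxi : x⁻¹ = x := inv_eq_of_mul_eq_one_right hx
  induction hg using Subgroup.closure_induction with
  | mem s hs =>
    rcases hs with rfl | hs
    · exact ⟨true, 1, Subgroup.one_mem _, by simp⟩
    · exact ⟨false, s, Subgroup.subset_closure hs, by simp⟩
  | one => exact ⟨false, 1, Subgroup.one_mem _, by simp⟩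
  | mul a b _ _ iha ihb =>
    obtain ⟨e, h, hh, rfl⟩ := iha
    obtain ⟨e', h', hh', rfl⟩ := ihb
    cases e <;> cases e'
    · exact ⟨false, h * h', Subgroup.mul_mem _ hh hh', by simp⟩
    · refine ⟨true, h * h', Subgroup.mul_mem _ hh hh', ?_⟩
      simp only [cond_false, cond_true, one_mul]
      rw [← mul_assoc, ← hcen h hh, mul_assoc]
    · exact ⟨true, h * h', Subgroup.mul_mem _ hh hh', by simp [mul_assoc]⟩
    · refine ⟨false, h * h', Subgroup.mul_mem _ hh hh', ?_⟩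
      simp only [cond_false, cond_true, one_mul]
      calc x * h * (x * h') = x * (h * x) * h' := by group
        _ = x * (x * h) * h' := by rw [hcen h hh]
        _ = (x * x) * h * h' := by group
        _ = h * h' := by rw [hx, one_mul]
  | inv a _ ih =>
    obtain ⟨e, h, hh, rfl⟩ := ih
    cases e
    · exact ⟨false, h⁻¹, Subgroup.inv_mem _ hh, by simp⟩
    · refine ⟨true, h⁻¹, Subgroup.inv_mem _ hh, ?_⟩
      simp only [cond_true]
      rw [mul_inv_rev, hxi]
      exact (hcen h⁻¹ (Subgroup.inv_mem _ hh)).symm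

/-- the elements of a group generated by four commuting involutions -/
theorem mem_closure_four (x1 x2 x3 x4 : Γ) (s1 : x1 * x1 = 1) (s2 : x2 * x2 = 1)
    (s3 : x3 * x3 = 1) (s4 : x4 * x4 = 1) (c12 : x1 * x2 = x2 * x1) (c13 : x1 * x3 = x3 * x1)
    (c14 : x1 * x4 = x4 * x1) (c23 : x2 * x3 = x3 * x2) (c24 : x2 * x4 = x4 * x2)
    (c34 : x3 * x4 = x4 * x3) (g : Γ)
    (hg : g ∈ Subgroup.closure ({x1, x2, x3, x4} : Set Γ)) :
    ∃ e1 e2 e3 e4 : Bool,
      g = (cond e1 x1 1) * ((cond e2 x2 1) * ((cond e3 x3 1) * (cond e4 x4 1))) := by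
  obtain ⟨e1, h1, hh1, rfl⟩ := mem_closure_insert_invol x1 {x2, x3, x4} s1 (by
    intro t ht
    simp only [Set.mem_insert_iff, Set.mem_singleton_iff] at ht
    rcases ht with rfl | rfl | rfl
    · exact c12
    · exact c13
    · exact c14) g hg
  obtain ⟨e2, h2, hh2, rfl⟩ := mem_closure_insert_invol x2 {x3, x4} s2 (by
    intro t ht
    simp only [Set.mem_insert_iff, Set.mem_singleton_iff] at ht
    rcases ht with rfl | rfl
    · exact c23
    · exact c24) h1 hh1
  obtain ⟨e3, h3, hh3, rfl⟩ := mem_closure_insert_invol x3 {x4} s3 (by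
    intro t ht
    simp only [Set.mem_singleton_iff] at ht
    subst ht
    exact c34) h2 hh2
  have hh3' : h3 ∈ Subgroup.closure (insert x4 (∅ : Set Γ)) := by
    simpa using hh3
  obtain ⟨e4, h4, hh4, rfl⟩ := mem_closure_insert_invol x4 ∅ s4 (by
    intro t ht
    exact absurd ht (Set.notMem_empty t)) h3 hh3'
  rw [Subgroup.closure_empty, Subgroup.mem_bot] at hh4
  subst hh4
  exact ⟨e1, e2, e3, e4, by rw [mul_one]⟩


theorem map_cond_one (σ : Γ →* G) (e : Bool) (x : Γ) : σ (cond e x 1) = cond e (σ x) 1 := by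
  cases e <;> simp

/-- **The bound.**  A central extension `σ : Γ → G` with kernel of exponent two inside the derived
subgroup has kernel of order at most four, if `G` has a subgroup of odd index generated by two
elementary abelian subgroups `E₁ = ⟨a₁, a₂, a₃, a₄⟩`, `E₂ = ⟨a₁, a₂, b₃, b₄⟩`, each with all
non-identity elements conjugate to `a₁` in `G`, and with `[a_i, b_j] ∈ E₁ ∩ E₂`. -/
theorem card_ker_le_four [Finite Γ] (σ : Γ →* G) (hs : Function.Surjective σ)
    (hK : σ.ker ≤ Subgroup.center Γ) (hexp : ∀ k ∈ σ.ker, k * k = 1)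
    (hK' : σ.ker ≤ commutator Γ)
    (a1 a2 a3 a4 b3 b4 : G) (E1 E2 : Subgroup G)
    (hE1 : ∀ e ∈ E1, e * e = 1) (hE2 : ∀ e ∈ E2, e * e = 1)
    (ha1 : a1 ∈ E1) (ha2 : a2 ∈ E1) (ha3 : a3 ∈ E1) (ha4 : a4 ∈ E1)
    (ha1' : a1 ∈ E2) (ha2' : a2 ∈ E2) (hb3 : b3 ∈ E2) (hb4 : b4 ∈ E2)
    (hconj1 : ∀ e ∈ E1, e ≠ 1 → ∃ g : G, g * a1 * g⁻¹ = e)
    (hconj2 : ∀ e ∈ E2, e ≠ 1 → ∃ g : G, g * a1 * g⁻¹ = e)
    (hi1 : a1 ≠ 1) (hi2 : a2 ≠ 1) (hi3 : a3 ≠ 1) (hi12 : a1 * a2 ≠ 1) (hi13 : a1 * a3 ≠ 1)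
    (hi23 : a2 * a3 ≠ 1) (hi123 : a1 * (a2 * a3) ≠ 1)
    (hj3 : b3 ≠ 1) (hj13 : a1 * b3 ≠ 1) (hj23 : a2 * b3 ≠ 1) (hj123 : a1 * (a2 * b3) ≠ 1)
    (hc33 : ⁅a3, b3⁆ ∈ E1 ⊓ E2) (hc34 : ⁅a3, b4⁆ ∈ E1 ⊓ E2)
    (hc43 : ⁅a4, b3⁆ ∈ E1 ⊓ E2) (hc44 : ⁅a4, b4⁆ ∈ E1 ⊓ E2)
    (hodd : ¬ 2 ∣ (Subgroup.closure ({a1, a2, a3, a4, b3, b4} : Set G)).index)
    (T : Finset (Bool × Bool × Bool × Bool)) (hT : T.card ≤ 4)
    (hrel : ∀ e1 e2 e3 e4 : Bool,
      (cond e1 ⁅a3, b3⁆ 1) * ((cond e2 ⁅a3, b4⁆ 1) * ((cond e3 ⁅a4, b3⁆ 1) *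
        (cond e4 ⁅a4, b4⁆ 1))) = 1 → (e1, e2, e3, e4) ∈ T) :
    Nat.card σ.ker ≤ 4 := by
  have A1 := lift_elementary σ hs hK hexp E1 hE1 a1 ha1 hconj1 a1 a2 a3 ha1 ha2 ha3
    hi1 hi2 hi3 hi12 hi13 hi23 hi123
  have A2 := lift_elementary σ hs hK hexp E2 hE2 a1 ha1' hconj2 a1 a2 b3 ha1' ha2' hb3
    hi1 hi2 hj3 hi12 hj13 hj23 hj123
  obtain ⟨α3, hα3⟩ := hs a3
  obtain ⟨α4, hα4⟩ := hs a4
  obtain ⟨β3, hβ3⟩ := hs b3
  obtain ⟨β4, hβ4⟩ := hs b4
  obtain ⟨c33, d33⟩ : ∃ c, c = ⁅α3, β3⁆ := ⟨_, rfl⟩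
  obtain ⟨c34, d34⟩ : ∃ c, c = ⁅α3, β4⁆ := ⟨_, rfl⟩
  obtain ⟨c43, d43⟩ : ∃ c, c = ⁅α4, β3⁆ := ⟨_, rfl⟩
  obtain ⟨c44, d44⟩ : ∃ c, c = ⁅α4, β4⁆ := ⟨_, rfl⟩
  have hσ33 : σ c33 = ⁅a3, b3⁆ := by rw [d33, map_commutatorElement, hα3, hβ3]
  have hσ34 : σ c34 = ⁅a3, b4⁆ := by rw [d34, map_commutatorElement, hα3, hβ4]
  have hσ43 : σ c43 = ⁅a4, b3⁆ := by rw [d43, map_commutatorElement, hα4, hβ3]
  have hσ44 : σ c44 = ⁅a4, b4⁆ := by rw [d44, map_commutatorElement, hα4, hβ4]
  -- elements over `E₁ ∩ E₂` commute with everything over `E₁` or `E₂`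
  have hX : ∀ x : Γ, σ x ∈ E1 ⊓ E2 → ∀ s : Γ, (σ s ∈ E1 ∨ σ s ∈ E2) → s * x = x * s := by
    intro x hx s hs'
    rcases hs' with h | h
    · exact (A1 s x h hx.1).2
    · exact (A2 s x h hx.2).2
  obtain ⟨C, hC⟩ : ∃ C : Subgroup Γ, C = Subgroup.closure ({c33, c34, c43, c44} : Set Γ) :=
    ⟨_, rfl⟩
  obtain ⟨M, hM⟩ : ∃ M : Set Γ, M = σ ⁻¹' ({a1, a2, a3, a4, b3, b4} : Set G) ∪ (σ.ker : Set Γ) :=
    ⟨_, rfl⟩
  have hCX : ∀ c ∈ C, σ c ∈ E1 ⊓ E2 := by
    have hle : C ≤ (E1 ⊓ E2).comap σ := by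
      rw [hC, Subgroup.closure_le]
      intro c hc
      simp only [Set.mem_insert_iff, Set.mem_singleton_iff] at hc
      rcases hc with rfl | rfl | rfl | rfl
      · show σ c ∈ E1 ⊓ E2
        rw [hσ33]; exact hc33
      · show σ c ∈ E1 ⊓ E2
        rw [hσ34]; exact hc34
      · show σ c ∈ E1 ⊓ E2
        rw [hσ43]; exact hc43
      · show σ c ∈ E1 ⊓ E2
        rw [hσ44]; exact hc44
    exact fun c hc => hle hc
  -- classification of the generators
  have hcls : ∀ s ∈ M, σ s ∈ E1 ⊓ E2 ∨ (σ s = a3 ∨ σ s = a4) ∨ (σ s = b3 ∨ σ s = b4) := by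
    intro s hs'
    rw [hM] at hs'
    rcases hs' with h | h
    · simp only [Set.mem_preimage, Set.mem_insert_iff, Set.mem_singleton_iff] at h
      rcases h with h | h | h | h | h | h
      · left; rw [h]; exact ⟨ha1, ha1'⟩
      · left; rw [h]; exact ⟨ha2, ha2'⟩
      · right; left; left; exact h
      · right; left; right; exact h
      · right; right; left; exact h
      · right; right; right; exact h
    · left
      have : σ s = 1 := h
      rw [this]; exact Subgroup.one_mem _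
  have hM12 : ∀ s ∈ M, σ s ∈ E1 ∨ σ s ∈ E2 := by
    intro s hs'
    rcases hcls s hs' with h | h | h
    · exact Or.inl h.1
    · left; rcases h with h | h <;> rw [h]
      · exact ha3
      · exact ha4
    · right; rcases h with h | h <;> rw [h]
      · exact hb3
      · exact hb4
  have h2 : ∀ c ∈ C, ∀ s ∈ M, s * c = c * s :=
    fun c hc s hs' => hX c (hCX c hc) s (hM12 s hs')
  have hmix : ∀ s t : Γ, (σ s = a3 ∨ σ s = a4) → (σ t = b3 ∨ σ t = b4) → ⁅s, t⁆ ∈ C := by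
    intro s t hs' ht'
    have key : ∀ (α β : Γ), σ s = σ α → σ t = σ β → ⁅s, t⁆ = ⁅α, β⁆ := by
      intro α β e1 e2
      obtain ⟨κ, hκ, rfl⟩ := exists_ker_mul σ s α e1
      obtain ⟨μ, hμ, rfl⟩ := exists_ker_mul σ t β e2
      rw [comm_central_left (central_comm σ hK hκ), comm_central_right (central_comm σ hK hμ)]
    rcases hs' with h | h <;> rcases ht' with h' | h'
    · rw [key α3 β3 (by rw [h, hα3]) (by rw [h', hβ3]), ← d33, hC]
      exact Subgroup.subset_closure (by simp)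
    · rw [key α3 β4 (by rw [h, hα3]) (by rw [h', hβ4]), ← d34, hC]
      exact Subgroup.subset_closure (by simp)
    · rw [key α4 β3 (by rw [h, hα4]) (by rw [h', hβ3]), ← d43, hC]
      exact Subgroup.subset_closure (by simp)
    · rw [key α4 β4 (by rw [h, hα4]) (by rw [h', hβ4]), ← d44, hC]
      exact Subgroup.subset_closure (by simp)
  have h1 : ∀ s ∈ M, ∀ t ∈ M, ⁅s, t⁆ ∈ C := by
    intro s hs' t ht'
    have triv : s * t = t * s → ⁅s, t⁆ ∈ C := by
      intro h
      rw [commutatorElement_eq_one_iff_mul_comm.2 h]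
      exact C.one_mem
    rcases hcls s hs' with h | h | h
    · exact triv (hX s h t (hM12 t ht')).symm
    · rcases hcls t ht' with h' | h' | h'
      · exact triv (hX t h' s (hM12 s hs'))
      · apply triv
        refine (A1 s t ?_ ?_).2
        · rcases h with h | h <;> rw [h]
          · exact ha3
          · exact ha4
        · rcases h' with h' | h' <;> rw [h']
          · exact ha3
          · exact ha4
      · exact hmix s t h h'
    · rcases hcls t ht' with h' | h' | h'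
      · exact triv (hX t h' s (hM12 s hs'))
      · have := hmix t s h' h
        have e : ⁅s, t⁆ = ⁅t, s⁆⁻¹ := (commutatorElement_inv t s).symm
        rw [e]
        exact C.inv_mem this
      · apply triv
        refine (A2 s t ?_ ?_).2
        · rcases h with h | h <;> rw [h]
          · exact hb3
          · exact hb4
        · rcases h' with h' | h' <;> rw [h']
          · exact hb3
          · exact hb4
  have hder := commutator_closure_le M C h1 h2
  -- the transfer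
  obtain ⟨S, hS⟩ : ∃ S : Subgroup G, S = Subgroup.closure ({a1, a2, a3, a4, b3, b4} : Set G) :=
    ⟨_, rfl⟩
  rw [← hS] at hodd
  have hSM : S.comap σ ≤ Subgroup.closure M := by
    rw [hS, hM]
    exact comap_closure_le σ _ (fun s _ => hs s)
  have hidx : (S.comap σ).index = S.index := Subgroup.index_comap_of_surjective S hs
  have hkC : ∀ k ∈ σ.ker, k ∈ C := by
    intro k hk
    have hkS : k ∈ S.comap σ := by
      rw [Subgroup.mem_comap, (MonoidHom.mem_ker).1 hk]
      exact S.one_mem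
    have h3 := pow_index_mem_comm (S.comap σ) (hK hk) (hK' hk) (Subgroup.pow_mem _ hkS _)
    rw [hidx] at h3
    obtain ⟨m, hm⟩ : ∃ m, S.index = 2 * m + 1 := by
      rcases Nat.even_or_odd' S.index with ⟨m, h | h⟩
      · exact absurd ⟨m, h⟩ hodd
      · exact ⟨m, h⟩
    have hpow : k ^ S.index = k := by
      rw [hm, pow_succ, pow_mul, pow_two, hexp k hk, one_pow, one_mul]
    rw [hpow] at h3
    exact hder (Subgroup.commutator_mono hSM hSM h3)
  -- the four commutators are commuting involutions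
  have hcomm : ∀ x y : Γ, σ x ∈ E1 ⊓ E2 → σ y ∈ E1 ⊓ E2 → x * x = 1 ∧ x * y = y * x :=
    fun x y hx hy => A1 x y hx.1 hy.1
  have m33 : σ c33 ∈ E1 ⊓ E2 := by rw [hσ33]; exact hc33
  have m34 : σ c34 ∈ E1 ⊓ E2 := by rw [hσ34]; exact hc34
  have m43 : σ c43 ∈ E1 ⊓ E2 := by rw [hσ43]; exact hc43
  have m44 : σ c44 ∈ E1 ⊓ E2 := by rw [hσ44]; exact hc44
  obtain ⟨f, hf⟩ : ∃ f : Bool × Bool × Bool × Bool → Γ, f = fun e =>
      (cond e.1 c33 1) * ((cond e.2.1 c34 1) * ((cond e.2.2.1 c43 1) * (cond e.2.2.2 c44 1))) :=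
    ⟨_, rfl⟩
  have hsub : (σ.ker : Set Γ) ⊆ f '' (T : Set (Bool × Bool × Bool × Bool)) := by
    intro k hk
    have hkC' := hkC k hk
    rw [hC] at hkC'
    obtain ⟨e1, e2, e3, e4, rfl⟩ := mem_closure_four c33 c34 c43 c44 (hcomm c33 c33 m33 m33).1
      (hcomm c34 c34 m34 m34).1 (hcomm c43 c43 m43 m43).1 (hcomm c44 c44 m44 m44).1
      (hcomm c33 c34 m33 m34).2 (hcomm c33 c43 m33 m43).2 (hcomm c33 c44 m33 m44).2
      (hcomm c34 c43 m34 m43).2 (hcomm c34 c44 m34 m44).2 (hcomm c43 c44 m43 m44).2 _ hkC'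
    have h1' : σ ((cond e1 c33 1) * ((cond e2 c34 1) * ((cond e3 c43 1) * (cond e4 c44 1)))) = 1 :=
      hk
    rw [map_mul, map_mul, map_mul, map_cond_one, map_cond_one, map_cond_one, map_cond_one,
      hσ33, hσ34, hσ43, hσ44] at h1'
    exact ⟨(e1, e2, e3, e4), Finset.mem_coe.2 (hrel e1 e2 e3 e4 h1'), by rw [hf]⟩
  have hfin : (f '' (T : Set (Bool × Bool × Bool × Bool))).Finite := Set.toFinite _
  calc Nat.card σ.ker = (σ.ker : Set Γ).ncard := (Nat.card_coe_set_eq _)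
    _ ≤ (f '' (T : Set (Bool × Bool × Bool × Bool))).ncard := Set.ncard_le_ncard hsub hfin
    _ ≤ (T : Set (Bool × Bool × Bool × Bool)).ncard := Set.ncard_image_le (Set.toFinite _)
    _ = T.card := Set.ncard_coe_finset T
    _ ≤ 4 := hT

end Cfsg.Agent.Helper29.StemRank
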