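import Mathlib
import Cfsg.Agent.Lib.Helper29.StemRank
import Cfsg.Agent.Lib.Helper29.StemSplit2

/-!
# A local lemma for stem extensions: groups of shape `2^(2+4) : 6`

The preimage of a subgroup `R : ⟨θ, w⟩`, where `R = A B V` with `A`, `B` four-groups permuted
by `θ` of order three and swapped by the involution `w`, and `V = ⁅A, B⁆` central: if lifts of two
elements of `A` commute, then the commutator subgroup of the preimage meets the kernel trivially.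
-/

set_option autoImplicit false

namespace Cfsg.Agent.Helper29.StemTwo

open Cfsg.Agent.Helper29.StemSylow Cfsg.Agent.Helper29.StemSplit Cfsg.Agent.Helper29.StemRank
open scoped commutatorElement

variable {Γ : Type*} [Group Γ] {G : Type*} [Group G]

/-! ### Commutator calculus -/

theorem comm_mul_right_of_comm (v a b : Γ) (h : a * ⁅v, b⁆ = ⁅v, b⁆ * a) :
    ⁅v, a * b⁆ = ⁅v, a⁆ * ⁅v, b⁆ := by
  have e : ⁅v, a * b⁆ = ⁅v, a⁆ * (a * ⁅v, b⁆) * a⁻¹ := by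
    simp only [commutatorElement_def]; group
  rw [e, h]; group

theorem comm_mul_left_of_comm (a a' b : Γ) (h : a * ⁅a', b⁆ = ⁅a', b⁆ * a) :
    ⁅a * a', b⁆ = ⁅a', b⁆ * ⁅a, b⁆ := by
  have e : ⁅a * a', b⁆ = (a * ⁅a', b⁆) * a⁻¹ * ⁅a, b⁆ := by
    simp only [commutatorElement_def]; group
  rw [e, h]; group

theorem central_comm' {z : Γ} (hz : z ∈ Subgroup.center Γ) (g : Γ) : g * z = z * g :=
  (Subgroup.mem_center_iff.1 hz g)

theorem conj_central {z : Γ} (hz : z ∈ Subgroup.center Γ) (g : Γ) : g * z * g⁻¹ = z := by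
  rw [central_comm' hz g]; group

theorem comm_central_mul_left {z : Γ} (hz : z ∈ Subgroup.center Γ) (a b : Γ) :
    ⁅z * a, b⁆ = ⁅a, b⁆ := by
  rw [← central_comm' hz a]
  exact comm_central_left (central_comm' hz) a b

theorem conj_eq_comm_mul (t v : Γ) : t * v * t⁻¹ = ⁅t, v⁆ * v := by
  rw [commutatorElement_def]; group

/-- an element whose cube and whose commutator with `v` are central, where `v` has a central
square, commutes with `v` -/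
theorem comm_eq_one_of_cube (t v : Γ) (ht : t * t * t ∈ Subgroup.center Γ)
    (hv : v * v ∈ Subgroup.center Γ) (c : ⁅t, v⁆ ∈ Subgroup.center Γ) : ⁅t, v⁆ = 1 := by
  have cc := central_comm' c
  have h2 : ⁅t, v⁆ * ⁅t, v⁆ = 1 := by
    rw [← comm_mul_right_of_comm t v v (cc v), commutatorElement_def, central_comm' hv t]
    group
  have h3 : ⁅t, v⁆ * ⁅t, v⁆ * ⁅t, v⁆ = 1 := by
    have e1 : ⁅t * t, v⁆ = ⁅t, v⁆ * ⁅t, v⁆ := comm_mul_left_of_comm t t v (cc t)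
    have e2 : ⁅t * (t * t), v⁆ = ⁅t * t, v⁆ * ⁅t, v⁆ := by
      apply comm_mul_left_of_comm
      rw [e1, ← mul_assoc, cc t, mul_assoc, cc t, ← mul_assoc]
    rw [← e1, ← e2, ← mul_assoc, commutatorElement_def, ← central_comm' ht v]
    group
  calc ⁅t, v⁆ = ⁅t, v⁆ * ⁅t, v⁆ * ⁅t, v⁆ * (⁅t, v⁆ * ⁅t, v⁆)⁻¹ := by group
    _ = 1 := by rw [h3, h2]; group

/-! ### Triples of commuting involutions permuted by an element -/

/-- three commuting involutions with product one, cyclically permuted by `t` -/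
structure Triple (t x₁ x₂ x₃ : Γ) : Prop where
  c12 : t * x₁ * t⁻¹ = x₂
  c23 : t * x₂ * t⁻¹ = x₃
  c31 : t * x₃ * t⁻¹ = x₁
  s1 : x₁ * x₁ = 1
  k12 : x₁ * x₂ = x₂ * x₁
  p : x₁ * x₂ * x₃ = 1

namespace Triple

variable {t x₁ x₂ x₃ : Γ}

theorem s2 (T : Triple t x₁ x₂ x₃) : x₂ * x₂ = 1 := by
  rw [← T.c12]
  calc t * x₁ * t⁻¹ * (t * x₁ * t⁻¹) = t * (x₁ * x₁) * t⁻¹ := by group
    _ = 1 := by rw [T.s1]; group

theorem k23 (T : Triple t x₁ x₂ x₃) : x₂ * x₃ = x₃ * x₂ := by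
  rw [← T.c23]
  nth_rewrite 1 [← T.c12]
  nth_rewrite 3 [← T.c12]
  calc t * x₁ * t⁻¹ * (t * x₂ * t⁻¹) = t * (x₁ * x₂) * t⁻¹ := by group
    _ = t * (x₂ * x₁) * t⁻¹ := by rw [T.k12]
    _ = t * x₂ * t⁻¹ * (t * x₁ * t⁻¹) := by group

theorem rot (T : Triple t x₁ x₂ x₃) : Triple t x₂ x₃ x₁ where
  c12 := T.c23
  c23 := T.c31
  c31 := T.c12
  s1 := T.s2
  k12 := T.k23
  p := by
    have h : x₂ * x₃ = x₁⁻¹ := by
      have := T.p
      calc x₂ * x₃ = x₁⁻¹ * (x₁ * x₂ * x₃) := by group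
        _ = x₁⁻¹ := by rw [this, mul_one]
    rw [h, inv_mul_cancel]

theorem s3 (T : Triple t x₁ x₂ x₃) : x₃ * x₃ = 1 := T.rot.s2

theorem k31 (T : Triple t x₁ x₂ x₃) : x₃ * x₁ = x₁ * x₃ := T.rot.k23

theorem inv1 (T : Triple t x₁ x₂ x₃) : x₁⁻¹ = x₁ := inv_eq_of_mul_eq_one_right T.s1
theorem inv2 (T : Triple t x₁ x₂ x₃) : x₂⁻¹ = x₂ := inv_eq_of_mul_eq_one_right T.s2
theorem inv3 (T : Triple t x₁ x₂ x₃) : x₃⁻¹ = x₃ := inv_eq_of_mul_eq_one_right T.s3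

theorem x3_eq (T : Triple t x₁ x₂ x₃) : x₃ = x₁ * x₂ := by
  have h : x₃ = (x₁ * x₂)⁻¹ := by
    have := T.p
    calc x₃ = (x₁ * x₂)⁻¹ * (x₁ * x₂ * x₃) := by group
      _ = (x₁ * x₂)⁻¹ := by rw [this, mul_one]
  rw [h, mul_inv_rev, T.inv1, T.inv2, T.k12]

/-- an element centralizing the triple modulo the center, and commuting with `t` modulo the
center, centralizes the triple -/
theorem comm_eq_one (T : Triple t x₁ x₂ x₃) {v : Γ} (c1 : ⁅v, x₁⁆ ∈ Subgroup.center Γ)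
    (c2 : ⁅v, x₂⁆ ∈ Subgroup.center Γ) (c3 : ⁅v, x₃⁆ ∈ Subgroup.center Γ)
    (ctv : ⁅t, v⁆ ∈ Subgroup.center Γ) : ⁅v, x₁⁆ = 1 := by
  have e12 : ⁅v, x₂⁆ = ⁅v, x₁⁆ := by
    have h1 : t * ⁅v, x₁⁆ * t⁻¹ = ⁅v, x₂⁆ := by
      rw [conjugate_commutatorElement, T.c12, conj_eq_comm_mul, comm_central_mul_left ctv]
    rw [← h1, conj_central c1]
  have e23 : ⁅v, x₃⁆ = ⁅v, x₂⁆ := by
    have h1 : t * ⁅v, x₂⁆ * t⁻¹ = ⁅v, x₃⁆ := by
      rw [conjugate_commutatorElement, T.c23, conj_eq_comm_mul, comm_central_mul_left ctv]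
    rw [← h1, conj_central c2]
  have hsq : ⁅v, x₁⁆ * ⁅v, x₁⁆ = 1 := by
    rw [← comm_mul_right_of_comm v x₁ x₁ (central_comm' c1 x₁), T.s1, commutatorElement_one_right]
  have hcu : ⁅v, x₁⁆ * ⁅v, x₁⁆ * ⁅v, x₁⁆ = 1 := by
    have h1 : ⁅v, x₁ * x₂ * x₃⁆ = ⁅v, x₁ * x₂⁆ * ⁅v, x₃⁆ :=
      comm_mul_right_of_comm v (x₁ * x₂) x₃ (central_comm' c3 _)
    have h2 : ⁅v, x₁ * x₂⁆ = ⁅v, x₁⁆ * ⁅v, x₂⁆ :=
      comm_mul_right_of_comm v x₁ x₂ (central_comm' c2 _)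
    rw [T.p, commutatorElement_one_right, h2, e23, e12] at h1
    exact h1.symm
  calc ⁅v, x₁⁆ = ⁅v, x₁⁆ * ⁅v, x₁⁆ * ⁅v, x₁⁆ * (⁅v, x₁⁆ * ⁅v, x₁⁆)⁻¹ := by group
    _ = 1 := by rw [hcu, hsq]; group

end Triple

/-- the canonical triple of involutions made from three commuting conjugate elements whose
squares are central -/
theorem Triple.of_lift {t y₁ y₂ y₃ : Γ} (h12 : t * y₁ * t⁻¹ = y₂) (h23 : t * y₂ * t⁻¹ = y₃)
    (h31 : t * y₃ * t⁻¹ = y₁) (k : y₁ * y₂ = y₂ * y₁) (sq : y₁ * y₁ ∈ Subgroup.center Γ) :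
    Triple t (y₂ * y₃⁻¹) (y₃ * y₁⁻¹) (y₁ * y₂⁻¹) := by
  have k23 : y₂ * y₃ = y₃ * y₂ := by
    rw [← h23]
    nth_rewrite 1 [← h12]
    nth_rewrite 3 [← h12]
    calc t * y₁ * t⁻¹ * (t * y₂ * t⁻¹) = t * (y₁ * y₂) * t⁻¹ := by group
      _ = t * (y₂ * y₁) * t⁻¹ := by rw [k]
      _ = t * y₂ * t⁻¹ * (t * y₁ * t⁻¹) := by group
  have k31 : y₃ * y₁ = y₁ * y₃ := by
    rw [← h31]
    nth_rewrite 1 [← h23]
    nth_rewrite 3 [← h23]
    calc t * y₂ * t⁻¹ * (t * y₃ * t⁻¹) = t * (y₂ * y₃) * t⁻¹ := by group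
      _ = t * (y₃ * y₂) * t⁻¹ := by rw [k23]
      _ = t * y₃ * t⁻¹ * (t * y₂ * t⁻¹) := by group
  have s2 : y₂ * y₂ = y₁ * y₁ := by
    rw [← h12]
    calc t * y₁ * t⁻¹ * (t * y₁ * t⁻¹) = t * (y₁ * y₁) * t⁻¹ := by group
      _ = y₁ * y₁ := conj_central sq t
  have s3 : y₃ * y₃ = y₁ * y₁ := by
    rw [← h23]
    calc t * y₂ * t⁻¹ * (t * y₂ * t⁻¹) = t * (y₂ * y₂) * t⁻¹ := by group
      _ = y₁ * y₁ := by rw [s2]; exact conj_central sq t
  have c23 : Commute y₂ y₃ := k23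
  have c31 : Commute y₃ y₁ := k31
  have c12 : Commute y₁ y₂ := k
  refine ⟨?_, ?_, ?_, ?_, ?_, by group⟩
  · calc t * (y₂ * y₃⁻¹) * t⁻¹ = (t * y₂ * t⁻¹) * (t * y₃ * t⁻¹)⁻¹ := by group
      _ = y₃ * y₁⁻¹ := by rw [h23, h31]
  · calc t * (y₃ * y₁⁻¹) * t⁻¹ = (t * y₃ * t⁻¹) * (t * y₁ * t⁻¹)⁻¹ := by group
      _ = y₁ * y₂⁻¹ := by rw [h31, h12]
  · calc t * (y₁ * y₂⁻¹) * t⁻¹ = (t * y₁ * t⁻¹) * (t * y₂ * t⁻¹)⁻¹ := by group
      _ = y₂ * y₃⁻¹ := by rw [h12, h23]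
  · calc y₂ * y₃⁻¹ * (y₂ * y₃⁻¹) = y₂ * (y₃⁻¹ * y₂) * y₃⁻¹ := by group
      _ = y₂ * (y₂ * y₃⁻¹) * y₃⁻¹ := by rw [(c23.inv_right).eq]
      _ = (y₂ * y₂) * (y₃ * y₃)⁻¹ := by group
      _ = 1 := by rw [s2, s3, mul_inv_cancel]
  · calc y₂ * y₃⁻¹ * (y₃ * y₁⁻¹) = y₂ * y₁⁻¹ := by group
      _ = y₁⁻¹ * y₂ := (c12.symm.inv_right).eq
      _ = y₃ * (y₃⁻¹ * y₁⁻¹) * y₂ := by group
      _ = y₃ * (y₁⁻¹ * y₃⁻¹) * y₂ := by rw [(c31.inv_left.inv_right).eq]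
      _ = y₃ * y₁⁻¹ * (y₃⁻¹ * y₂) := by group
      _ = y₃ * y₁⁻¹ * (y₂ * y₃⁻¹) := by rw [(c23.inv_right).eq]

/-! ### Generation lemmas -/

/-- adjoining an involution that normalizes the group generated by a set -/
theorem mem_closure_insert_invol' (x : Γ) (T : Set Γ) (hx : x * x = 1)
    (hn : ∀ s ∈ T, x * s * x⁻¹ ∈ Subgroup.closure T) (g : Γ)
    (hg : g ∈ Subgroup.closure (insert x T)) :
    ∃ e : Bool, ∃ h ∈ Subgroup.closure T, g = (cond e x 1) * h := by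
  have hxi : x⁻¹ = x := inv_eq_of_mul_eq_one_right hx
  have hcl : ∀ h ∈ Subgroup.closure T, x * h * x ∈ Subgroup.closure T := by
    intro h hh
    have := conj_mem_closure T x hn h hh
    rw [hxi] at this
    exact this
  induction hg using Subgroup.closure_induction with
  | mem s hs =>
    rcases hs with rfl | hs
    · exact ⟨true, 1, Subgroup.one_mem _, by simp⟩
    · exact ⟨false, s, Subgroup.subset_closure hs, by simp⟩
  | one => exact ⟨false, 1, Subgroup.one_mem _, by simp⟩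
  | mul a b _ _ iha ihb =>
    obtain ⟨e, h, hh, rfl⟩ := iha
    obtain ⟨e', h', hh', rfl⟩ := ihb
    cases e <;> cases e'
    · exact ⟨false, h * h', Subgroup.mul_mem _ hh hh', by simp⟩
    · refine ⟨true, (x * h * x) * h', Subgroup.mul_mem _ (hcl h hh) hh', ?_⟩
      simp only [cond_false, cond_true, one_mul]
      calc h * (x * h') = (x * x) * h * x * h' := by rw [hx]; group
        _ = x * (x * h * x * h') := by group
    · exact ⟨true, h * h', Subgroup.mul_mem _ hh hh', by simp [mul_assoc]⟩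
    · refine ⟨false, (x * h * x) * h', Subgroup.mul_mem _ (hcl h hh) hh', ?_⟩
      simp only [cond_false, cond_true, one_mul]
      group
  | inv a _ ih =>
    obtain ⟨e, h, hh, rfl⟩ := ih
    cases e
    · exact ⟨false, h⁻¹, Subgroup.inv_mem _ hh, by simp⟩
    · refine ⟨true, x * h⁻¹ * x, hcl _ (Subgroup.inv_mem _ hh), ?_⟩
      simp only [cond_true]
      rw [mul_inv_rev, hxi]
      calc h⁻¹ * x = (x * x) * h⁻¹ * x := by rw [hx]; group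
        _ = x * (x * h⁻¹ * x) := by group

/-- the derived subgroup of a group generated by a set normalizing a subgroup containing the
commutators of the generators -/
theorem commutator_closure_le_of_normal (M : Set Γ) (N : Subgroup Γ)
    (hn : ∀ s ∈ M, ∀ n ∈ N, s * n * s⁻¹ ∈ N ∧ s⁻¹ * n * s ∈ N)
    (hc : ∀ s ∈ M, ∀ t ∈ M, ⁅s, t⁆ ∈ N) :
    ⁅Subgroup.closure M, Subgroup.closure M⁆ ≤ N := by
  have hnorm : ∀ x ∈ Subgroup.closure M, ∀ n ∈ N, x * n * x⁻¹ ∈ N ∧ x⁻¹ * n * x ∈ N := by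
    intro x hx
    induction hx using Subgroup.closure_induction with
    | mem s hs => exact hn s hs
    | one =>
      intro n hn'
      simp only [one_mul, inv_one, mul_one]
      exact ⟨hn', hn'⟩
    | mul x y _ _ ihx ihy =>
      intro n hn'
      constructor
      · have := (ihx _ (ihy n hn').1).1
        have e : x * y * n * (x * y)⁻¹ = x * (y * n * y⁻¹) * x⁻¹ := by group
        rw [e]; exact this
      · have := (ihy _ (ihx n hn').2).2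
        have e : (x * y)⁻¹ * n * (x * y) = y⁻¹ * (x⁻¹ * n * x) * y := by group
        rw [e]; exact this
    | inv x _ ih =>
      intro n hn'
      rw [inv_inv]
      exact ⟨(ih n hn').2, (ih n hn').1⟩
  have step1 : ∀ t ∈ M, ∀ x ∈ Subgroup.closure M, ⁅x, t⁆ ∈ N := by
    intro t ht x hx
    induction hx using Subgroup.closure_induction with
    | mem s hs => exact hc s hs t ht
    | one => rw [commutatorElement_one_left]; exact N.one_mem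
    | mul x y hx _ ihx ihy =>
      have e : ⁅x * y, t⁆ = x * ⁅y, t⁆ * x⁻¹ * ⁅x, t⁆ := by
        simp only [commutatorElement_def]; group
      rw [e]
      exact N.mul_mem (hnorm x hx _ ihy).1 ihx
    | inv x hx ih =>
      have e : ⁅x⁻¹, t⁆ = x⁻¹ * ⁅x, t⁆⁻¹ * x := by
        simp only [commutatorElement_def]; group
      rw [e]
      exact (hnorm x hx _ (N.inv_mem ih)).2
  have step2 : ∀ x ∈ Subgroup.closure M, ∀ y ∈ Subgroup.closure M, ⁅x, y⁆ ∈ N := by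
    intro x hx y hy
    induction hy using Subgroup.closure_induction with
    | mem t ht => exact step1 t ht x hx
    | one => rw [commutatorElement_one_right]; exact N.one_mem
    | mul y z hy _ ihy ihz =>
      have e : ⁅x, y * z⁆ = ⁅x, y⁆ * (y * ⁅x, z⁆ * y⁻¹) := by
        simp only [commutatorElement_def]; group
      rw [e]
      exact N.mul_mem ihy (hnorm y hy _ ihz).1
    | inv y hy ih =>
      have e : ⁅x, y⁻¹⁆ = y⁻¹ * ⁅x, y⁆⁻¹ * y := by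
        simp only [commutatorElement_def]; group
      rw [e]
      exact (hnorm y hy _ (N.inv_mem ih)).2
  exact Subgroup.commutator_le.2 step2

/-! ### The configuration upstairs -/

theorem comm_commutator {v a b : Γ} (ha : v * a = a * v) (hb : v * b = b * v) :
    v * ⁅a, b⁆ = ⁅a, b⁆ * v := by
  have ha' : Commute v a := ha
  have hb' : Commute v b := hb
  rw [commutatorElement_def]
  exact (((ha'.mul_right hb').mul_right ha'.inv_right).mul_right hb'.inv_right).eq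

/-- the configuration: two triples `x`, `z` permuted by `t` and swapped by `ω`, whose
commutators are central modulo the center -/
structure Ctx (t ω x₁ x₂ x₃ z₁ z₂ z₃ : Γ) : Prop where
  tx : Triple t x₁ x₂ x₃
  tz : Triple t z₁ z₂ z₃
  ht : t * t * t ∈ Subgroup.center Γ
  w1 : ω * x₁ * ω⁻¹ = z₁
  w2 : ω * x₂ * ω⁻¹ = z₂
  v1 : ω * z₁ * ω⁻¹ = x₁
  v2 : ω * z₂ * ω⁻¹ = x₂
  tw : t * ω = ω * t
  cen : ∀ x ∈ ({x₁, x₂, x₃} : Set Γ), ∀ g ∈ ({x₁, x₂, x₃, z₁, z₂, z₃} : Set Γ),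
    ⁅⁅x, z₁⁆, g⁆ ∈ Subgroup.center Γ
  cent : ∀ x ∈ ({x₁, x₂, x₃} : Set Γ), ⁅t, ⁅x, z₁⁆⁆ ∈ Subgroup.center Γ

namespace Ctx

variable {t ω x₁ x₂ x₃ z₁ z₂ z₃ : Γ}

/-- the basic commutators commute with the six elements -/
theorem comm_base (C : Ctx t ω x₁ x₂ x₃ z₁ z₂ z₃) {x : Γ} (hx : x ∈ ({x₁, x₂, x₃} : Set Γ))
    {g : Γ} (hg : g ∈ ({x₁, x₂, x₃, z₁, z₂, z₃} : Set Γ)) : ⁅x, z₁⁆ * g = g * ⁅x, z₁⁆ := by
  have c := C.cen x hx
  have ct := C.cent x hx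
  apply commutatorElement_eq_one_iff_mul_comm.1
  simp only [Set.mem_insert_iff, Set.mem_singleton_iff] at hg
  rcases hg with rfl | rfl | rfl | rfl | rfl | rfl
  · exact C.tx.comm_eq_one (c _ (by simp)) (c _ (by simp)) (c _ (by simp)) ct
  · exact C.tx.rot.comm_eq_one (c _ (by simp)) (c _ (by simp)) (c _ (by simp)) ct
  · exact C.tx.rot.rot.comm_eq_one (c _ (by simp)) (c _ (by simp)) (c _ (by simp)) ct
  · exact C.tz.comm_eq_one (c _ (by simp)) (c _ (by simp)) (c _ (by simp)) ct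
  · exact C.tz.rot.comm_eq_one (c _ (by simp)) (c _ (by simp)) (c _ (by simp)) ct
  · exact C.tz.rot.rot.comm_eq_one (c _ (by simp)) (c _ (by simp)) (c _ (by simp)) ct

theorem xsq (C : Ctx t ω x₁ x₂ x₃ z₁ z₂ z₃) {x : Γ} (hx : x ∈ ({x₁, x₂, x₃} : Set Γ)) :
    x * x = 1 := by
  simp only [Set.mem_insert_iff, Set.mem_singleton_iff] at hx
  rcases hx with rfl | rfl | rfl
  · exact C.tx.s1
  · exact C.tx.s2
  · exact C.tx.s3

theorem mem6 (C : Ctx t ω x₁ x₂ x₃ z₁ z₂ z₃) {x : Γ} (hx : x ∈ ({x₁, x₂, x₃} : Set Γ)) :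
    x ∈ ({x₁, x₂, x₃, z₁, z₂, z₃} : Set Γ) := by
  simp only [Set.mem_insert_iff, Set.mem_singleton_iff] at hx ⊢
  rcases hx with rfl | rfl | rfl <;> simp

/-- the basic commutators are involutions -/
theorem base_sq (C : Ctx t ω x₁ x₂ x₃ z₁ z₂ z₃) {x : Γ} (hx : x ∈ ({x₁, x₂, x₃} : Set Γ)) :
    ⁅x, z₁⁆ * ⁅x, z₁⁆ = 1 := by
  have h := comm_mul_left_of_comm x x z₁ (C.comm_base hx (C.mem6 hx)).symm
  rw [C.xsq hx, commutatorElement_one_left] at h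
  exact h.symm

/-- the basic commutators are fixed by `t` -/
theorem t_fix (C : Ctx t ω x₁ x₂ x₃ z₁ z₂ z₃) {x : Γ} (hx : x ∈ ({x₁, x₂, x₃} : Set Γ)) :
    t * ⁅x, z₁⁆ * t⁻¹ = ⁅x, z₁⁆ := by
  have h := comm_eq_one_of_cube t ⁅x, z₁⁆ C.ht (by rw [C.base_sq hx]; exact Subgroup.one_mem _)
    (C.cent x hx)
  rw [conj_eq_comm_mul, h, one_mul]

theorem c22 (C : Ctx t ω x₁ x₂ x₃ z₁ z₂ z₃) : ⁅x₂, z₂⁆ = ⁅x₁, z₁⁆ := by
  rw [← C.t_fix (x := x₁) (by simp), conjugate_commutatorElement, C.tx.c12, C.tz.c12]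

theorem c33 (C : Ctx t ω x₁ x₂ x₃ z₁ z₂ z₃) : ⁅x₃, z₃⁆ = ⁅x₁, z₁⁆ := by
  have h : t * ⁅x₂, z₂⁆ * t⁻¹ = ⁅x₃, z₃⁆ := by
    rw [conjugate_commutatorElement, C.tx.c23, C.tz.c23]
  rw [← h, C.c22, C.t_fix (x := x₁) (by simp)]

theorem c32 (C : Ctx t ω x₁ x₂ x₃ z₁ z₂ z₃) : ⁅x₃, z₂⁆ = ⁅x₂, z₁⁆ := by
  rw [← C.t_fix (x := x₂) (by simp), conjugate_commutatorElement, C.tx.c23, C.tz.c12]

theorem c13 (C : Ctx t ω x₁ x₂ x₃ z₁ z₂ z₃) : ⁅x₁, z₃⁆ = ⁅x₂, z₁⁆ := by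
  have h : t * ⁅x₃, z₂⁆ * t⁻¹ = ⁅x₁, z₃⁆ := by
    rw [conjugate_commutatorElement, C.tx.c31, C.tz.c23]
  rw [← h, C.c32, C.t_fix (x := x₂) (by simp)]

theorem c12 (C : Ctx t ω x₁ x₂ x₃ z₁ z₂ z₃) : ⁅x₁, z₂⁆ = ⁅x₃, z₁⁆ := by
  rw [← C.t_fix (x := x₃) (by simp), conjugate_commutatorElement, C.tx.c31, C.tz.c12]

theorem c23 (C : Ctx t ω x₁ x₂ x₃ z₁ z₂ z₃) : ⁅x₂, z₃⁆ = ⁅x₃, z₁⁆ := by
  have h : t * ⁅x₁, z₂⁆ * t⁻¹ = ⁅x₂, z₃⁆ := by
    rw [conjugate_commutatorElement, C.tx.c12, C.tz.c23]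
  rw [← h, C.c12, C.t_fix (x := x₃) (by simp)]

/-- the third basic commutator is the product of the two others -/
theorem c31_eq (C : Ctx t ω x₁ x₂ x₃ z₁ z₂ z₃) : ⁅x₃, z₁⁆ = ⁅x₁, z₁⁆ * ⁅x₂, z₁⁆ := by
  have h1 : ⁅x₁ * x₂, z₁⁆ = ⁅x₂, z₁⁆ * ⁅x₁, z₁⁆ :=
    comm_mul_left_of_comm x₁ x₂ z₁ (C.comm_base (x := x₂) (by simp) (g := x₁) (by simp)).symm
  rw [← C.tx.x3_eq] at h1
  rw [h1]
  exact comm_commutator (C.comm_base (x := x₂) (by simp) (g := x₁) (by simp))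
    (C.comm_base (x := x₂) (by simp) (g := z₁) (by simp))

end Ctx

namespace Ctx

variable {t ω x₁ x₂ x₃ z₁ z₂ z₃ : Γ}

/-- the generators of the complement -/
def gens (x₁ x₂ z₁ z₂ : Γ) : Set Γ := {x₁, x₂, z₁, z₂, ⁅x₁, z₁⁆, ⁅x₂, z₁⁆}

/-- the complement -/
def F (x₁ x₂ z₁ z₂ : Γ) : Subgroup Γ := Subgroup.closure (gens x₁ x₂ z₁ z₂)

theorem c0_comm (C : Ctx t ω x₁ x₂ x₃ z₁ z₂ z₃) {g : Γ}
    (hg : g ∈ ({x₁, x₂, x₃, z₁, z₂, z₃} : Set Γ)) : ⁅x₁, z₁⁆ * g = g * ⁅x₁, z₁⁆ :=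
  C.comm_base (x := x₁) (by simp) hg

theorem c1_comm (C : Ctx t ω x₁ x₂ x₃ z₁ z₂ z₃) {g : Γ}
    (hg : g ∈ ({x₁, x₂, x₃, z₁, z₂, z₃} : Set Γ)) : ⁅x₂, z₁⁆ * g = g * ⁅x₂, z₁⁆ :=
  C.comm_base (x := x₂) (by simp) hg

theorem c01_comm (C : Ctx t ω x₁ x₂ x₃ z₁ z₂ z₃) :
    ⁅x₁, z₁⁆ * ⁅x₂, z₁⁆ = ⁅x₂, z₁⁆ * ⁅x₁, z₁⁆ :=
  comm_commutator (C.c0_comm (by simp)) (C.c0_comm (by simp))

/-- the normal form of the elements of the complement -/
theorem normal_form (C : Ctx t ω x₁ x₂ x₃ z₁ z₂ z₃) (g : Γ) (hg : g ∈ F x₁ x₂ z₁ z₂) :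
    ∃ e1 e2 e3 e4 e5 e6 : Bool, g = (cond e1 x₁ 1) * ((cond e2 x₂ 1) * ((cond e3 z₁ 1) *
      ((cond e4 z₂ 1) * ((cond e5 ⁅x₁, z₁⁆ 1) * (cond e6 ⁅x₂, z₁⁆ 1))))) := by
  have m0 : ∀ T : Set Γ, ⁅x₁, z₁⁆ ∈ T → ⁅x₁, z₁⁆ ∈ Subgroup.closure T :=
    fun T h => Subgroup.subset_closure h
  obtain ⟨e1, h1, hh1, rfl⟩ := mem_closure_insert_invol' x₁ {x₂, z₁, z₂, ⁅x₁, z₁⁆, ⁅x₂, z₁⁆}
    C.tx.s1 (by
      intro s hs
      simp only [Set.mem_insert_iff, Set.mem_singleton_iff] at hs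
      rcases hs with rfl | rfl | rfl | rfl | rfl
      · rw [C.tx.k12]
        simp only [mul_inv_cancel_right]
        exact Subgroup.subset_closure (by simp)
      · rw [conj_eq_comm_mul]
        exact Subgroup.mul_mem _ (Subgroup.subset_closure (by simp))
          (Subgroup.subset_closure (by simp))
      · rw [conj_eq_comm_mul, C.c12, C.c31_eq]
        exact Subgroup.mul_mem _ (Subgroup.mul_mem _ (Subgroup.subset_closure (by simp))
          (Subgroup.subset_closure (by simp))) (Subgroup.subset_closure (by simp))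
      · rw [← C.c0_comm (g := x₁) (by simp)]
        simp only [mul_inv_cancel_right]
        exact Subgroup.subset_closure (by simp)
      · rw [← C.c1_comm (g := x₁) (by simp)]
        simp only [mul_inv_cancel_right]
        exact Subgroup.subset_closure (by simp)) g hg
  obtain ⟨e2, h2, hh2, rfl⟩ := mem_closure_insert_invol' x₂ {z₁, z₂, ⁅x₁, z₁⁆, ⁅x₂, z₁⁆}
    C.tx.s2 (by
      intro s hs
      simp only [Set.mem_insert_iff, Set.mem_singleton_iff] at hs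
      rcases hs with rfl | rfl | rfl | rfl
      · rw [conj_eq_comm_mul]
        exact Subgroup.mul_mem _ (Subgroup.subset_closure (by simp))
          (Subgroup.subset_closure (by simp))
      · rw [conj_eq_comm_mul, C.c22]
        exact Subgroup.mul_mem _ (Subgroup.subset_closure (by simp))
          (Subgroup.subset_closure (by simp))
      · rw [← C.c0_comm (g := x₂) (by simp)]
        simp only [mul_inv_cancel_right]
        exact Subgroup.subset_closure (by simp)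
      · rw [← C.c1_comm (g := x₂) (by simp)]
        simp only [mul_inv_cancel_right]
        exact Subgroup.subset_closure (by simp)) h1 hh1
  obtain ⟨e3, h3, hh3, rfl⟩ := mem_closure_insert_invol z₁ {z₂, ⁅x₁, z₁⁆, ⁅x₂, z₁⁆} C.tz.s1 (by
    intro s hs
    simp only [Set.mem_insert_iff, Set.mem_singleton_iff] at hs
    rcases hs with rfl | rfl | rfl
    · exact C.tz.k12
    · exact (C.c0_comm (g := z₁) (by simp)).symm
    · exact (C.c1_comm (g := z₁) (by simp)).symm) h2 hh2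
  obtain ⟨e4, h4, hh4, rfl⟩ := mem_closure_insert_invol z₂ {⁅x₁, z₁⁆, ⁅x₂, z₁⁆} C.tz.s2 (by
    intro s hs
    simp only [Set.mem_insert_iff, Set.mem_singleton_iff] at hs
    rcases hs with rfl | rfl
    · exact (C.c0_comm (g := z₂) (by simp)).symm
    · exact (C.c1_comm (g := z₂) (by simp)).symm) h3 hh3
  obtain ⟨e5, h5, hh5, rfl⟩ := mem_closure_insert_invol ⁅x₁, z₁⁆ {⁅x₂, z₁⁆}
    (C.base_sq (x := x₁) (by simp)) (by
    intro s hs
    simp only [Set.mem_singleton_iff] at hs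
    subst hs
    exact C.c01_comm) h4 hh4
  have hh5' : h5 ∈ Subgroup.closure (insert ⁅x₂, z₁⁆ (∅ : Set Γ)) := by
    simpa using hh5
  obtain ⟨e6, h6, hh6, rfl⟩ := mem_closure_insert_invol ⁅x₂, z₁⁆ ∅
    (C.base_sq (x := x₂) (by simp)) (by
    intro s hs
    exact absurd hs (Set.notMem_empty s)) h5 hh5'
  rw [Subgroup.closure_empty, Subgroup.mem_bot] at hh6
  subst hh6
  exact ⟨e1, e2, e3, e4, e5, e6, by rw [mul_one]⟩

end Ctx

theorem conj_inv_of_conj {g a b : Γ} (h : g * a * g⁻¹ = b) : g⁻¹ * b * g⁻¹⁻¹ = a := by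
  rw [← h]; group

namespace Ctx

variable {t ω x₁ x₂ x₃ z₁ z₂ z₃ : Γ}

theorem x1_mem : x₁ ∈ F x₁ x₂ z₁ z₂ := Subgroup.subset_closure (by simp [gens])
theorem x2_mem : x₂ ∈ F x₁ x₂ z₁ z₂ := Subgroup.subset_closure (by simp [gens])
theorem z1_mem : z₁ ∈ F x₁ x₂ z₁ z₂ := Subgroup.subset_closure (by simp [gens])
theorem z2_mem : z₂ ∈ F x₁ x₂ z₁ z₂ := Subgroup.subset_closure (by simp [gens])
theorem c0_mem : ⁅x₁, z₁⁆ ∈ F x₁ x₂ z₁ z₂ := Subgroup.subset_closure (by simp [gens])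
theorem c1_mem : ⁅x₂, z₁⁆ ∈ F x₁ x₂ z₁ z₂ := Subgroup.subset_closure (by simp [gens])

theorem comm_mem {H : Subgroup Γ} {a b : Γ} (ha : a ∈ H) (hb : b ∈ H) : ⁅a, b⁆ ∈ H := by
  rw [commutatorElement_def]
  exact H.mul_mem (H.mul_mem (H.mul_mem ha hb) (H.inv_mem ha)) (H.inv_mem hb)

/-- `t` normalizes the complement -/
theorem t_norm (C : Ctx t ω x₁ x₂ x₃ z₁ z₂ z₃) (n : Γ) (hn : n ∈ F x₁ x₂ z₁ z₂) :
    t * n * t⁻¹ ∈ F x₁ x₂ z₁ z₂ ∧ t⁻¹ * n * t ∈ F x₁ x₂ z₁ z₂ := by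
  constructor
  · apply conj_mem_closure (gens x₁ x₂ z₁ z₂) t _ n hn
    intro s hs
    simp only [gens, Set.mem_insert_iff, Set.mem_singleton_iff] at hs
    rcases hs with rfl | rfl | rfl | rfl | rfl | rfl
    · rw [C.tx.c12]; exact x2_mem
    · rw [C.tx.c23, C.tx.x3_eq]; exact Subgroup.mul_mem _ x1_mem x2_mem
    · rw [C.tz.c12]; exact z2_mem
    · rw [C.tz.c23, C.tz.x3_eq]; exact Subgroup.mul_mem _ z1_mem z2_mem
    · rw [C.t_fix (x := x₁) (by simp)]; exact c0_mem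
    · rw [C.t_fix (x := x₂) (by simp)]; exact c1_mem
  · have e : t⁻¹ * n * t = t⁻¹ * n * t⁻¹⁻¹ := by rw [inv_inv]
    rw [e]
    apply conj_mem_closure (gens x₁ x₂ z₁ z₂) t⁻¹ _ n hn
    intro s hs
    simp only [gens, Set.mem_insert_iff, Set.mem_singleton_iff] at hs
    rcases hs with rfl | rfl | rfl | rfl | rfl | rfl
    · rw [conj_inv_of_conj C.tx.c31, C.tx.x3_eq]; exact Subgroup.mul_mem _ x1_mem x2_mem
    · rw [conj_inv_of_conj C.tx.c12]; exact x1_mem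
    · rw [conj_inv_of_conj C.tz.c31, C.tz.x3_eq]; exact Subgroup.mul_mem _ z1_mem z2_mem
    · rw [conj_inv_of_conj C.tz.c12]; exact z1_mem
    · rw [conj_inv_of_conj (C.t_fix (x := x₁) (by simp))]; exact c0_mem
    · rw [conj_inv_of_conj (C.t_fix (x := x₂) (by simp))]; exact c1_mem

end Ctx

namespace Ctx

variable {t ω x₁ x₂ x₃ z₁ z₂ z₃ : Γ}

/-- `ω` normalizes the complement -/
theorem w_norm (C : Ctx t ω x₁ x₂ x₃ z₁ z₂ z₃) (n : Γ) (hn : n ∈ F x₁ x₂ z₁ z₂) :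
    ω * n * ω⁻¹ ∈ F x₁ x₂ z₁ z₂ ∧ ω⁻¹ * n * ω ∈ F x₁ x₂ z₁ z₂ := by
  constructor
  · apply conj_mem_closure (gens x₁ x₂ z₁ z₂) ω _ n hn
    intro s hs
    simp only [gens, Set.mem_insert_iff, Set.mem_singleton_iff] at hs
    rcases hs with rfl | rfl | rfl | rfl | rfl | rfl
    · rw [C.w1]; exact z1_mem
    · rw [C.w2]; exact z2_mem
    · rw [C.v1]; exact x1_mem
    · rw [C.v2]; exact x2_mem
    · rw [conjugate_commutatorElement, C.w1, C.v1]; exact comm_mem z1_mem x1_mem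
    · rw [conjugate_commutatorElement, C.w2, C.v1]; exact comm_mem z2_mem x1_mem
  · have e : ω⁻¹ * n * ω = ω⁻¹ * n * ω⁻¹⁻¹ := by rw [inv_inv]
    rw [e]
    apply conj_mem_closure (gens x₁ x₂ z₁ z₂) ω⁻¹ _ n hn
    intro s hs
    simp only [gens, Set.mem_insert_iff, Set.mem_singleton_iff] at hs
    rcases hs with rfl | rfl | rfl | rfl | rfl | rfl
    · rw [conj_inv_of_conj C.v1]; exact z1_mem
    · rw [conj_inv_of_conj C.v2]; exact z2_mem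
    · rw [conj_inv_of_conj C.w1]; exact x1_mem
    · rw [conj_inv_of_conj C.w2]; exact x2_mem
    · rw [conjugate_commutatorElement, conj_inv_of_conj C.v1, conj_inv_of_conj C.w1]
      exact comm_mem z1_mem x1_mem
    · rw [conjugate_commutatorElement, conj_inv_of_conj C.v2, conj_inv_of_conj C.w1]
      exact comm_mem z2_mem x1_mem

/-- the generating set of the preimage -/
def big (t ω x₁ : Γ) : Set Γ := {x₁, t, ω} ∪ (Subgroup.center Γ : Set Γ)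

/-- the derived subgroup of the preimage lies in the complement -/
theorem commutator_le (C : Ctx t ω x₁ x₂ x₃ z₁ z₂ z₃) :
    ⁅Subgroup.closure (big t ω x₁), Subgroup.closure (big t ω x₁)⁆ ≤ F x₁ x₂ z₁ z₂ := by
  apply commutator_closure_le_of_normal
  · intro s hs n hn
    rcases hs with hs | hs
    · simp only [Set.mem_insert_iff, Set.mem_singleton_iff] at hs
      rcases hs with rfl | rfl | rfl
      · exact ⟨Subgroup.mul_mem _ (Subgroup.mul_mem _ x1_mem hn) (Subgroup.inv_mem _ x1_mem),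
          Subgroup.mul_mem _ (Subgroup.mul_mem _ (Subgroup.inv_mem _ x1_mem) hn) x1_mem⟩
      · exact C.t_norm n hn
      · exact C.w_norm n hn
    · have hs' : s ∈ Subgroup.center Γ := hs
      have h1 : s * n * s⁻¹ = n := by rw [← central_comm' hs' n]; group
      have h2 : s⁻¹ * n * s = n := by rw [mul_assoc, central_comm' hs' n]; group
      rw [h1, h2]
      exact ⟨hn, hn⟩
  · have hone : ∀ a b : Γ, a * b = b * a → ⁅a, b⁆ ∈ F x₁ x₂ z₁ z₂ := by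
      intro a b h
      rw [commutatorElement_eq_one_iff_mul_comm.2 h]
      exact Subgroup.one_mem _
    intro a ha b hb
    rcases hb with hb | hb
    · rcases ha with ha | ha
      · simp only [Set.mem_insert_iff, Set.mem_singleton_iff] at ha hb
        rcases ha with rfl | rfl | rfl <;> rcases hb with rfl | rfl | rfl
        · exact hone _ _ rfl
        · have e : ⁅a, b⁆ = a * (b * a * b⁻¹)⁻¹ := by rw [commutatorElement_def]; group
          rw [e, C.tx.c12]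
          exact Subgroup.mul_mem _ x1_mem (Subgroup.inv_mem _ x2_mem)
        · have e : ⁅a, b⁆ = a * (b * a * b⁻¹)⁻¹ := by rw [commutatorElement_def]; group
          rw [e, C.w1]
          exact Subgroup.mul_mem _ x1_mem (Subgroup.inv_mem _ z1_mem)
        · have e : ⁅a, b⁆ = (a * b * a⁻¹) * b⁻¹ := by rw [commutatorElement_def]
          rw [e, C.tx.c12]
          exact Subgroup.mul_mem _ x2_mem (Subgroup.inv_mem _ x1_mem)
        · exact hone _ _ rfl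
        · exact hone _ _ C.tw
        · have e : ⁅a, b⁆ = (a * b * a⁻¹) * b⁻¹ := by rw [commutatorElement_def]
          rw [e, C.w1]
          exact Subgroup.mul_mem _ z1_mem (Subgroup.inv_mem _ x1_mem)
        · exact hone _ _ C.tw.symm
        · exact hone _ _ rfl
      · exact hone _ _ (central_comm' ha b).symm
    · exact hone _ _ (central_comm' hb a)

end Ctx

theorem Triple.conj {t x₁ x₂ x₃ : Γ} (T : Triple t x₁ x₂ x₃) (ω : Γ) (h : t * ω = ω * t) :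
    Triple t (ω * x₁ * ω⁻¹) (ω * x₂ * ω⁻¹) (ω * x₃ * ω⁻¹) := by
  have key : ∀ a b : Γ, t * a * t⁻¹ = b → t * (ω * a * ω⁻¹) * t⁻¹ = ω * b * ω⁻¹ := by
    intro a b hab
    calc t * (ω * a * ω⁻¹) * t⁻¹ = (t * ω) * a * (t * ω)⁻¹ := by group
      _ = (ω * t) * a * (ω * t)⁻¹ := by rw [h]
      _ = ω * (t * a * t⁻¹) * ω⁻¹ := by group
      _ = ω * b * ω⁻¹ := by rw [hab]
  refine ⟨key _ _ T.c12, key _ _ T.c23, key _ _ T.c31, ?_, ?_, ?_⟩
  · calc ω * x₁ * ω⁻¹ * (ω * x₁ * ω⁻¹) = ω * (x₁ * x₁) * ω⁻¹ := by group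
      _ = 1 := by rw [T.s1]; group
  · calc ω * x₁ * ω⁻¹ * (ω * x₂ * ω⁻¹) = ω * (x₁ * x₂) * ω⁻¹ := by group
      _ = ω * (x₂ * x₁) * ω⁻¹ := by rw [T.k12]
      _ = ω * x₂ * ω⁻¹ * (ω * x₁ * ω⁻¹) := by group
  · calc ω * x₁ * ω⁻¹ * (ω * x₂ * ω⁻¹) * (ω * x₃ * ω⁻¹) = ω * (x₁ * x₂ * x₃) * ω⁻¹ := by group
      _ = 1 := by rw [T.p]; group

/-- **The local lemma.** -/
theorem local_H (σ : Γ →* G) (hK : σ.ker ≤ Subgroup.center Γ)
    (θ w a₁ a₂ a₃ b₁ b₂ b₃ : G)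
    (hθ3 : θ * θ * θ = 1) (hw2 : w * w = 1) (hθw : θ * w = w * θ)
    (ha₂ : θ * a₁ * θ⁻¹ = a₂) (ha₃ : θ * a₂ * θ⁻¹ = a₃)
    (hb₁ : w * a₁ * w⁻¹ = b₁) (hb₂ : w * a₂ * w⁻¹ = b₂) (hb₃ : w * a₃ * w⁻¹ = b₃)
    (ha11 : a₁ * a₁ = 1) (ha23 : a₂ * a₃⁻¹ = a₁)
    (hcen : ∀ a ∈ ({a₁, a₂, a₃} : Set G), ∀ g ∈ ({a₁, a₂, a₃, b₁, b₂, b₃, θ} : Set G),
      ⁅a, b₁⁆ * g = g * ⁅a, b₁⁆)
    (hinj : ∀ e1 e2 e3 e4 e5 e6 : Bool, (cond e1 a₁ 1) * ((cond e2 a₂ 1) * ((cond e3 b₁ 1) *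
      ((cond e4 b₂ 1) * ((cond e5 ⁅a₁, b₁⁆ 1) * (cond e6 ⁅a₂, b₁⁆ 1))))) = 1 →
        e1 = false ∧ e2 = false ∧ e3 = false ∧ e4 = false ∧ e5 = false ∧ e6 = false)
    (hlθ : ∃ t, σ t = θ) (hlw : ∃ ω, σ ω = w)
    (hc : ∃ x y : Γ, σ x = a₁ ∧ σ y = a₂ ∧ x * y = y * x) :
    ∀ k ∈ ⁅(Subgroup.closure {a₁, θ, w}).comap σ, (Subgroup.closure {a₁, θ, w}).comap σ⁆,
      k ∈ σ.ker → k = 1 := by
  obtain ⟨t, ht⟩ := hlθ
  obtain ⟨ω, hω⟩ := hlw
  obtain ⟨y₁, y', hy₁, hy', hyy⟩ := hc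
  have kc : ∀ {κ : Γ}, σ κ = 1 → κ ∈ Subgroup.center Γ := fun h => hK ((MonoidHom.mem_ker).2 h)
  -- `t ^ 3` and `ω ^ 2` are central, `t` and `ω` commute
  have ht3 : t * t * t ∈ Subgroup.center Γ := kc (by rw [map_mul, map_mul, ht, hθ3])
  have hω2 : ω * ω ∈ Subgroup.center Γ := kc (by rw [map_mul, hω, hw2])
  have htω : t * ω = ω * t := by
    apply commutatorElement_eq_one_iff_mul_comm.1
    apply comm_eq_one_of_cube t ω ht3 hω2
    apply kc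
    rw [map_commutatorElement, ht, hω]
    exact commutatorElement_eq_one_iff_mul_comm.2 hθw
  -- the three conjugates of the lift
  obtain ⟨y₂, hy₂⟩ : ∃ y₂, y₂ = t * y₁ * t⁻¹ := ⟨_, rfl⟩
  obtain ⟨y₃, hy₃⟩ : ∃ y₃, y₃ = t * y₂ * t⁻¹ := ⟨_, rfl⟩
  have h31 : t * y₃ * t⁻¹ = y₁ := by
    rw [hy₃, hy₂]
    calc t * (t * (t * y₁ * t⁻¹) * t⁻¹) * t⁻¹ = (t * t * t) * y₁ * (t * t * t)⁻¹ := by group
      _ = y₁ := by rw [← central_comm' ht3 y₁]; group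
  have hσy₂ : σ y₂ = a₂ := by rw [hy₂, map_mul, map_mul, map_inv, ht, hy₁, ha₂]
  have hσy₃ : σ y₃ = a₃ := by rw [hy₃, map_mul, map_mul, map_inv, ht, hσy₂, ha₃]
  have k12 : y₁ * y₂ = y₂ * y₁ := by
    obtain ⟨κ, hκ, e⟩ := exists_ker_mul σ y₂ y' (by rw [hσy₂, hy'])
    have cκ := central_comm σ hK hκ
    rw [e]
    calc y₁ * (y' * κ) = (y₁ * y') * κ := by group
      _ = (y' * y₁) * κ := by rw [hyy]
      _ = y' * (y₁ * κ) := by group
      _ = y' * (κ * y₁) := by rw [cκ y₁]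
      _ = y' * κ * y₁ := by group
  have sq : y₁ * y₁ ∈ Subgroup.center Γ := kc (by rw [map_mul, hy₁, ha11])
  have Tx := Triple.of_lift hy₂.symm hy₃.symm h31 k12 sq
  obtain ⟨x₁, hx₁⟩ : ∃ x₁, x₁ = y₂ * y₃⁻¹ := ⟨_, rfl⟩
  obtain ⟨x₂, hx₂⟩ : ∃ x₂, x₂ = y₃ * y₁⁻¹ := ⟨_, rfl⟩
  obtain ⟨x₃, hx₃⟩ : ∃ x₃, x₃ = y₁ * y₂⁻¹ := ⟨_, rfl⟩
  rw [← hx₁, ← hx₂, ← hx₃] at Tx
  have hσx₁ : σ x₁ = a₁ := by rw [hx₁, map_mul, map_inv, hσy₂, hσy₃, ha23]
  have hσx₂ : σ x₂ = a₂ := by rw [← Tx.c12, map_mul, map_mul, map_inv, ht, hσx₁, ha₂]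
  have hσx₃ : σ x₃ = a₃ := by rw [← Tx.c23, map_mul, map_mul, map_inv, ht, hσx₂, ha₃]
  have Tz := Tx.conj ω htω
  obtain ⟨z₁, hz₁⟩ : ∃ z₁, z₁ = ω * x₁ * ω⁻¹ := ⟨_, rfl⟩
  obtain ⟨z₂, hz₂⟩ : ∃ z₂, z₂ = ω * x₂ * ω⁻¹ := ⟨_, rfl⟩
  obtain ⟨z₃, hz₃⟩ : ∃ z₃, z₃ = ω * x₃ * ω⁻¹ := ⟨_, rfl⟩
  rw [← hz₁, ← hz₂, ← hz₃] at Tz
  have hσz₁ : σ z₁ = b₁ := by rw [hz₁, map_mul, map_mul, map_inv, hω, hσx₁, hb₁]
  have hσz₂ : σ z₂ = b₂ := by rw [hz₂, map_mul, map_mul, map_inv, hω, hσx₂, hb₂]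
  have hσz₃ : σ z₃ = b₃ := by rw [hz₃, map_mul, map_mul, map_inv, hω, hσx₃, hb₃]
  have hv : ∀ x : Γ, ω * (ω * x * ω⁻¹) * ω⁻¹ = x := by
    intro x
    calc ω * (ω * x * ω⁻¹) * ω⁻¹ = (ω * ω) * x * (ω * ω)⁻¹ := by group
      _ = x := by rw [← central_comm' hω2 x]; group
  have hxa : ∀ x ∈ ({x₁, x₂, x₃} : Set Γ), σ x ∈ ({a₁, a₂, a₃} : Set G) := by
    intro x hx
    simp only [Set.mem_insert_iff, Set.mem_singleton_iff] at hx ⊢
    rcases hx with rfl | rfl | rfl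
    · left; exact hσx₁
    · right; left; exact hσx₂
    · right; right; exact hσx₃
  have hga : ∀ g ∈ ({x₁, x₂, x₃, z₁, z₂, z₃} : Set Γ),
      σ g ∈ ({a₁, a₂, a₃, b₁, b₂, b₃, θ} : Set G) := by
    intro g hg
    simp only [Set.mem_insert_iff, Set.mem_singleton_iff] at hg ⊢
    rcases hg with rfl | rfl | rfl | rfl | rfl | rfl
    · rw [hσx₁]; simp
    · rw [hσx₂]; simp
    · rw [hσx₃]; simp
    · rw [hσz₁]; simp
    · rw [hσz₂]; simp
    · rw [hσz₃]; simp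
  have C : Ctx t ω x₁ x₂ x₃ z₁ z₂ z₃ := by
    refine ⟨Tx, Tz, ht3, hz₁.symm, hz₂.symm, ?_, ?_, htω, ?_, ?_⟩
    · rw [hz₁]; exact hv x₁
    · rw [hz₂]; exact hv x₂
    · intro x hx g hg
      apply kc
      rw [map_commutatorElement, map_commutatorElement, hσz₁]
      exact commutatorElement_eq_one_iff_mul_comm.2 (hcen _ (hxa x hx) _ (hga g hg))
    · intro x hx
      apply kc
      rw [map_commutatorElement, map_commutatorElement, hσz₁, ht]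
      exact commutatorElement_eq_one_iff_mul_comm.2 (hcen _ (hxa x hx) θ (by simp)).symm
  -- the preimage is generated by the lifts and the center
  have hle : (Subgroup.closure ({a₁, θ, w} : Set G)).comap σ ≤
      Subgroup.closure (Ctx.big t ω x₁) := by
    refine le_trans (comap_closure_le σ _ ?_) ?_
    · intro s hs
      simp only [Set.mem_insert_iff, Set.mem_singleton_iff] at hs
      rcases hs with rfl | rfl | rfl
      · exact ⟨x₁, hσx₁⟩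
      · exact ⟨t, ht⟩
      · exact ⟨ω, hω⟩
    · rw [Subgroup.closure_le]
      intro s hs
      have hcen' : ∀ κ ∈ σ.ker, κ ∈ Subgroup.closure (Ctx.big t ω x₁) := fun κ hκ =>
        Subgroup.subset_closure (Or.inr (hK hκ))
      have hmem : ∀ u ∈ ({x₁, t, ω} : Set Γ), σ s = σ u →
          s ∈ Subgroup.closure (Ctx.big t ω x₁) := by
        intro u hu h
        obtain ⟨κ, hκ, rfl⟩ := exists_ker_mul σ s u h
        exact Subgroup.mul_mem _ (Subgroup.subset_closure (Or.inl hu)) (hcen' κ hκ)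
      rcases hs with hs | hs
      · have hs' : σ s ∈ ({a₁, θ, w} : Set G) := hs
        simp only [Set.mem_insert_iff, Set.mem_singleton_iff] at hs'
        rcases hs' with h | h | h
        · exact hmem x₁ (by simp) (by rw [h, hσx₁])
        · exact hmem t (by simp) (by rw [h, ht])
        · exact hmem ω (by simp) (by rw [h, hω])
      · exact hcen' s hs
  intro k hk hkK
  have hkF : k ∈ Ctx.F x₁ x₂ z₁ z₂ := C.commutator_le (Subgroup.commutator_mono hle hle hk)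
  obtain ⟨e1, e2, e3, e4, e5, e6, rfl⟩ := C.normal_form k hkF
  have h1 := (MonoidHom.mem_ker).1 hkK
  simp only [map_mul, map_cond_one, map_commutatorElement, hσx₁, hσx₂, hσz₁, hσz₂] at h1
  obtain ⟨r1, r2, r3, r4, r5, r6⟩ := hinj e1 e2 e3 e4 e5 e6 h1
  subst r1 r2 r3 r4 r5 r6
  simp

end Cfsg.Agent.Helper29.StemTwo
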