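import Mathlib
import Cfsg.Agent.Lib.Helper29.StemTwo

/-!
# Local lemmas for stem extensions at odd primes
-/

set_option autoImplicit false

namespace Cfsg.Agent.Helper29.StemOdd

open Cfsg.Agent.Helper29.StemSylow Cfsg.Agent.Helper29.StemSplit Cfsg.Agent.Helper29.StemRank
  Cfsg.Agent.Helper29.StemTwo
open scoped commutatorElement

variable {Γ : Type*} [Group Γ] {G : Type*} [Group G]

/-- powers in the first argument of a commutator commuting with that argument -/
theorem comm_pow_left_of_comm (a b : Γ) (h : a * ⁅a, b⁆ = ⁅a, b⁆ * a) (m : ℕ) :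
    ⁅a ^ m, b⁆ = ⁅a, b⁆ ^ m := by
  induction m with
  | zero => simp
  | succ k ih =>
    have hk : a * ⁅a ^ k, b⁆ = ⁅a ^ k, b⁆ * a := by
      rw [ih]
      exact ((show Commute a ⁅a, b⁆ from h).pow_right k).eq
    rw [pow_succ' a k, comm_mul_left_of_comm a (a ^ k) b hk, ih, ← pow_succ]

theorem comm_inv_left_of_comm (a b : Γ) (h : a * ⁅a, b⁆ = ⁅a, b⁆ * a) : ⁅a⁻¹, b⁆ = ⁅a, b⁆⁻¹ := by
  have e : ⁅a⁻¹, b⁆ = a⁻¹ * ⁅a, b⁆⁻¹ * a := by
    simp only [commutatorElement_def]; group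
  rw [e]
  have h' : Commute a ⁅a, b⁆ := h
  rw [(h'.inv_left.inv_right).eq]; group

theorem eq_one_of_sq_of_odd_pow {c : Γ} (h2 : c * c = 1) {m : ℕ} (hm : Odd m) (hc : c ^ m = 1) :
    c = 1 := by
  obtain ⟨k, rfl⟩ := hm
  rw [pow_succ, pow_mul, pow_two, h2, one_pow, one_mul] at hc
  exact hc

/-- a subgroup whose image is generated by two commuting elements, one of odd order, the first
centralized and the second inverted by some element, is abelian upstairs -/
theorem comm_eq_bot_of_odd (σ : Γ →* G) (hK : σ.ker ≤ Subgroup.center Γ) (P : Subgroup Γ)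
    (x y n : Γ) (m : ℕ) (hm : Odd m) (hxm : σ x ^ m = 1) (hxy : σ x * σ y = σ y * σ x)
    (hnx : σ n * σ x * (σ n)⁻¹ = σ x) (hny : σ n * σ y * (σ n)⁻¹ = (σ y)⁻¹)
    (hh : ∀ u ∈ P, ∃ i j : ℤ, σ u = σ x ^ i * σ y ^ j) : ⁅P, P⁆ = ⊥ := by
  have hcK : ⁅x, y⁆ ∈ σ.ker := by
    rw [MonoidHom.mem_ker, map_commutatorElement, commutatorElement_def, hxy]
    group
  have cc := central_comm σ hK hcK
  obtain ⟨κ₁, hκ₁, e1⟩ := exists_ker_mul σ (n * x * n⁻¹) x (by
    rw [map_mul, map_mul, map_inv]; exact hnx)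
  obtain ⟨κ₂, hκ₂, e2⟩ := exists_ker_mul σ (n * y * n⁻¹) y⁻¹ (by
    rw [map_mul, map_mul, map_inv, map_inv]; exact hny)
  have k1 := central_comm σ hK hκ₁
  have k2 := central_comm σ hK hκ₂
  have h1 : n * ⁅x, y⁆ * n⁻¹ = ⁅x, y⁆ := by
    rw [cc n]; group
  have h2 : n * ⁅x, y⁆ * n⁻¹ = ⁅x, y⁆⁻¹ := by
    rw [conjugate_commutatorElement, e1, e2, comm_central_left k1, comm_central_right k2]
    exact comm_inv_right_of_central x y cc
  have hc2 : ⁅x, y⁆ * ⁅x, y⁆ = 1 := by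
    have : ⁅x, y⁆ = ⁅x, y⁆⁻¹ := h1.symm.trans h2
    calc ⁅x, y⁆ * ⁅x, y⁆ = ⁅x, y⁆ * ⁅x, y⁆⁻¹ := by rw [← this]
      _ = 1 := mul_inv_cancel _
  have hxmK : x ^ m ∈ σ.ker := by rw [MonoidHom.mem_ker, map_pow]; exact hxm
  have hcm : ⁅x, y⁆ ^ m = 1 := by
    rw [← comm_pow_left_of_comm x y (cc x), commutatorElement_def,
      ← central_comm σ hK hxmK y]
    group
  have hc1 : ⁅x, y⁆ = 1 := eq_one_of_sq_of_odd_pow hc2 hm hcm
  have hcomm : x * y = y * x := commutatorElement_eq_one_iff_mul_comm.1 hc1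
  rw [Subgroup.commutator_eq_bot_iff_le_centralizer]
  intro u hu
  rw [Subgroup.mem_centralizer_iff]
  intro v hv
  obtain ⟨i, j, hij⟩ := hh u hu
  obtain ⟨i', j', hij'⟩ := hh v hv
  rw [← map_zpow, ← map_zpow, ← map_mul] at hij hij'
  obtain ⟨κ, hκ, rfl⟩ := exists_ker_mul σ u (x ^ i * y ^ j) hij
  obtain ⟨μ, hμ, rfl⟩ := exists_ker_mul σ v (x ^ i' * y ^ j') hij'
  have hS : ∀ s ∈ ({x, y, κ, μ} : Set Γ), ∀ t ∈ ({x, y, κ, μ} : Set Γ), s * t = t * s := by
    have c1 := central_comm σ hK hκ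
    have c2 := central_comm σ hK hμ
    intro s hs t ht
    simp only [Set.mem_insert_iff, Set.mem_singleton_iff] at hs ht
    rcases hs with rfl | rfl | rfl | rfl <;> rcases ht with rfl | rfl | rfl | rfl <;>
      first
      | rfl
      | exact hcomm
      | exact hcomm.symm
      | exact c1 _
      | exact (c1 _).symm
      | exact c2 _
      | exact (c2 _).symm
  have hmem : ∀ (a b k : Γ) (i j : ℤ), a ∈ ({x, y, κ, μ} : Set Γ) → b ∈ ({x, y, κ, μ} : Set Γ) →
      k ∈ ({x, y, κ, μ} : Set Γ) → a ^ i * b ^ j * k ∈ Subgroup.closure ({x, y, κ, μ} : Set Γ) := by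
    intro a b k i j ha hb hk
    exact Subgroup.mul_mem _ (Subgroup.mul_mem _
      (Subgroup.zpow_mem _ (Subgroup.subset_closure ha) i)
      (Subgroup.zpow_mem _ (Subgroup.subset_closure hb) j)) (Subgroup.subset_closure hk)
  exact comm_of_closure hS _ (hmem x y μ i' j' (by simp) (by simp) (by simp)) _
    (hmem x y κ i j (by simp) (by simp) (by simp))

/-- the order of the group generated by two commuting elements of prime order -/
theorem sq_dvd_card_pair [Finite G] (p : ℕ) [Fact p.Prime] (x y : G) (h : Commute x y)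
    (hxp : x ^ p = 1) (hyp : y ^ p = 1) (hx : x ≠ 1) (hynot : y ∉ Subgroup.zpowers x) :
    IsPGroup p (pairSubgroup x y h) ∧ p ^ 2 ∣ Nat.card (pairSubgroup x y h) := by
  have hp : p.Prime := Fact.out
  have hP : IsPGroup p (pairSubgroup x y h) := by
    intro g
    refine ⟨1, ?_⟩
    obtain ⟨i, j, hg⟩ := g.2
    apply Subtype.ext
    rw [pow_one, Subgroup.coe_pow, hg, (h.zpow_zpow i j).mul_pow, ← zpow_natCast, ← zpow_natCast,
      ← zpow_mul, ← zpow_mul, mul_comm i, mul_comm j, zpow_mul, zpow_mul, zpow_natCast,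
      zpow_natCast, hxp, hyp, one_zpow, one_zpow, mul_one]
    rfl
  refine ⟨hP, ?_⟩
  obtain ⟨k, hk⟩ := (IsPGroup.iff_card).1 hP
  have hxo : orderOf x = p := orderOf_eq_prime hxp hx
  have hle : Subgroup.zpowers x ≤ pairSubgroup x y h := by
    rw [Subgroup.zpowers_le]
    exact ⟨1, 0, by simp⟩
  have hymem : y ∈ pairSubgroup x y h := ⟨0, 1, by simp⟩
  have hk2 : 2 ≤ k := by
    by_contra hlt
    have hk1 : k ≤ 1 := by omega
    have hc : Nat.card (pairSubgroup x y h) ≤ Nat.card (Subgroup.zpowers x) := by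
      rw [hk, Nat.card_zpowers, hxo]
      calc p ^ k ≤ p ^ 1 := Nat.pow_le_pow_right hp.pos hk1
        _ = p := pow_one p
    have := Subgroup.eq_of_le_of_card_ge hle hc
    apply hynot
    rw [this]
    exact hymem
  rw [hk]
  exact Nat.pow_dvd_pow p hk2

/-- the index of an elementary abelian subgroup of order `p ^ 2` -/
theorem not_dvd_index_pair' [Finite G] (p : ℕ) [Fact p.Prime] (x y : G) (h : Commute x y)
    (hxp : x ^ p = 1) (hyp : y ^ p = 1) (hx : x ≠ 1) (hynot : y ∉ Subgroup.zpowers x)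
    (hG : ¬ p ^ 3 ∣ Nat.card G) : ¬ p ∣ (pairSubgroup x y h).index := by
  obtain ⟨-, h2⟩ := sq_dvd_card_pair p x y h hxp hyp hx hynot
  intro hd
  apply hG
  rw [← Subgroup.card_mul_index (pairSubgroup x y h), pow_succ]
  exact Nat.mul_dvd_mul h2 hd

/-- downstairs: in a group where `⁅a, b⁆` commutes with `a` and `b`, inverting both arguments
does not change the commutator -/
theorem comm_inv_inv {a b : G} (ha : a * ⁅a, b⁆ = ⁅a, b⁆ * a) (hb : b * ⁅a, b⁆ = ⁅a, b⁆ * b) :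
    ⁅a⁻¹, b⁻¹⁆ = ⁅a, b⁆ := by
  have e : ⁅a⁻¹, b⁻¹⁆ = a⁻¹ * (b⁻¹ * ⁅a, b⁆ * b) * a := by
    simp only [commutatorElement_def]; group
  have hb' : Commute b ⁅a, b⁆ := hb
  have ha' : Commute a ⁅a, b⁆ := ha
  rw [e, hb'.inv_left.eq, mul_assoc ⁅a, b⁆, inv_mul_cancel, mul_one, ha'.inv_left.eq, mul_assoc,
    inv_mul_cancel, mul_one]

/-- a commutator central modulo the center, of elements one of which has a central cube and
which is inverted together with the commutator being fixed by some element, is trivial -/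
theorem comm_eq_one_of_inverted (x c n : Γ) (hx3 : x ^ 3 ∈ Subgroup.center Γ)
    (hκ : ⁅x, c⁆ ∈ Subgroup.center Γ) {μ₁ μ₃ : Γ} (hμ₁ : μ₁ ∈ Subgroup.center Γ)
    (hμ₃ : μ₃ ∈ Subgroup.center Γ) (hnx : n * x * n⁻¹ = x⁻¹ * μ₁) (hnc : n * c * n⁻¹ = c * μ₃) :
    ⁅x, c⁆ = 1 := by
  have cκ := central_comm' hκ
  have h1 : n * ⁅x, c⁆ * n⁻¹ = ⁅x, c⁆ := conj_central hκ n
  have h2 : n * ⁅x, c⁆ * n⁻¹ = ⁅x, c⁆⁻¹ := by
    rw [conjugate_commutatorElement, hnx, hnc, comm_central_left (central_comm' hμ₁),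
      comm_central_right (central_comm' hμ₃)]
    exact comm_inv_left_of_comm x c (cκ x)
  have hc2 : ⁅x, c⁆ * ⁅x, c⁆ = 1 := by
    have : ⁅x, c⁆ = ⁅x, c⁆⁻¹ := h1.symm.trans h2
    calc ⁅x, c⁆ * ⁅x, c⁆ = ⁅x, c⁆ * ⁅x, c⁆⁻¹ := by rw [← this]
      _ = 1 := mul_inv_cancel _
  have hc3 : ⁅x, c⁆ ^ 3 = 1 := by
    rw [← comm_pow_left_of_comm x c (cκ x), commutatorElement_def, ← central_comm' hx3 c]
    group
  exact eq_one_of_sq_of_odd_pow hc2 (by decide) hc3

/-- **Extraspecial groups of order 27.** If `a`, `b` of order three generate a group in which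
`⁅a, b⁆ ≠ 1` is central, and some element inverts both `a` and `b`, then the commutator subgroup
of the preimage meets the kernel trivially. -/
theorem comm_inf_ker_of_heis (σ : Γ →* G) (hK : σ.ker ≤ Subgroup.center Γ) (x y n : Γ)
    (hx3 : σ x ^ 3 = 1) (hy3 : σ y ^ 3 = 1)
    (hcx : σ x * ⁅σ x, σ y⁆ = ⁅σ x, σ y⁆ * σ x) (hcy : σ y * ⁅σ x, σ y⁆ = ⁅σ x, σ y⁆ * σ y)
    (hnx : σ n * σ x * (σ n)⁻¹ = (σ x)⁻¹) (hny : σ n * σ y * (σ n)⁻¹ = (σ y)⁻¹)
    (hc1 : ⁅σ x, σ y⁆ ≠ 1) (P : Subgroup G) (hP : P ≤ Subgroup.closure {σ x, σ y}) :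
    ∀ k ∈ ⁅P.comap σ, P.comap σ⁆, k ∈ σ.ker → k = 1 := by
  have kc : ∀ {κ : Γ}, σ κ = 1 → κ ∈ Subgroup.center Γ := fun h => hK ((MonoidHom.mem_ker).2 h)
  obtain ⟨c, hc⟩ : ∃ c, c = ⁅x, y⁆ := ⟨_, rfl⟩
  have hσc : σ c = ⁅σ x, σ y⁆ := by rw [hc, map_commutatorElement]
  -- conjugation by `n`
  obtain ⟨μ₁, hμ₁, e1⟩ := exists_ker_mul σ (n * x * n⁻¹) x⁻¹ (by
    rw [map_mul, map_mul, map_inv, map_inv]; exact hnx)
  obtain ⟨μ₂, hμ₂, e2⟩ := exists_ker_mul σ (n * y * n⁻¹) y⁻¹ (by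
    rw [map_mul, map_mul, map_inv, map_inv]; exact hny)
  obtain ⟨μ₃, hμ₃, e3⟩ := exists_ker_mul σ (n * c * n⁻¹) c (by
    rw [map_mul, map_mul, map_inv, hσc, conjugate_commutatorElement, hnx, hny]
    exact comm_inv_inv hcx hcy)
  have hx3' : x ^ 3 ∈ Subgroup.center Γ := kc (by rw [map_pow, hx3])
  have hy3' : y ^ 3 ∈ Subgroup.center Γ := kc (by rw [map_pow, hy3])
  have hxc : ⁅x, c⁆ = 1 := by
    apply comm_eq_one_of_inverted x c n hx3' _ (hK hμ₁) (hK hμ₃) e1 e3
    apply kc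
    rw [map_commutatorElement, hσc]
    exact commutatorElement_eq_one_iff_mul_comm.2 hcx
  have hyc : ⁅y, c⁆ = 1 := by
    apply comm_eq_one_of_inverted y c n hy3' _ (hK hμ₂) (hK hμ₃) e2 e3
    apply kc
    rw [map_commutatorElement, hσc]
    exact commutatorElement_eq_one_iff_mul_comm.2 hcy
  have hxc' : x * c = c * x := commutatorElement_eq_one_iff_mul_comm.1 hxc
  have hyc' : y * c = c * y := commutatorElement_eq_one_iff_mul_comm.1 hyc
  -- `c ^ 3 = 1`
  have hc3 : c ^ 3 = 1 := by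
    rw [hc, ← comm_pow_left_of_comm x y (by rw [← hc]; exact hxc'), commutatorElement_def,
      ← central_comm' hx3' y]
    group
  -- the derived subgroup of the preimage lies in `⟨c⟩`
  obtain ⟨M, hM⟩ : ∃ M : Set Γ, M = {x, y} ∪ (Subgroup.center Γ : Set Γ) := ⟨_, rfl⟩
  have hle : P.comap σ ≤ Subgroup.closure M := by
    refine le_trans (Subgroup.comap_mono hP) (le_trans (comap_closure_le σ _ ?_) ?_)
    · intro s hs
      simp only [Set.mem_insert_iff, Set.mem_singleton_iff] at hs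
      rcases hs with rfl | rfl
      · exact ⟨x, rfl⟩
      · exact ⟨y, rfl⟩
    · rw [Subgroup.closure_le]
      intro s hs
      have hcen' : ∀ κ ∈ σ.ker, κ ∈ Subgroup.closure M := fun κ hκ =>
        Subgroup.subset_closure (by rw [hM]; exact Or.inr (hK hκ))
      rcases hs with hs | hs
      · have hs' : σ s ∈ ({σ x, σ y} : Set G) := hs
        simp only [Set.mem_insert_iff, Set.mem_singleton_iff] at hs'
        rcases hs' with h | h
        · obtain ⟨κ, hκ, rfl⟩ := exists_ker_mul σ s x h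
          exact Subgroup.mul_mem _ (Subgroup.subset_closure (by rw [hM]; simp)) (hcen' κ hκ)
        · obtain ⟨κ, hκ, rfl⟩ := exists_ker_mul σ s y h
          exact Subgroup.mul_mem _ (Subgroup.subset_closure (by rw [hM]; simp)) (hcen' κ hκ)
      · exact hcen' s hs
  have hcomm : ⁅Subgroup.closure M, Subgroup.closure M⁆ ≤ Subgroup.zpowers c := by
    apply commutator_closure_le
    · have hone : ∀ a b : Γ, a * b = b * a → ⁅a, b⁆ ∈ Subgroup.zpowers c := by
        intro a b h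
        rw [commutatorElement_eq_one_iff_mul_comm.2 h]
        exact Subgroup.one_mem _
      intro s hs t ht
      rw [hM] at hs ht
      rcases ht with ht | ht
      · rcases hs with hs | hs
        · simp only [Set.mem_insert_iff, Set.mem_singleton_iff] at hs ht
          rcases hs with rfl | rfl <;> rcases ht with rfl | rfl
          · exact hone _ _ rfl
          · rw [← hc]; exact Subgroup.mem_zpowers c
          · rw [← commutatorElement_inv, ← hc]
            exact Subgroup.inv_mem _ (Subgroup.mem_zpowers c)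
          · exact hone _ _ rfl
        · exact hone _ _ (central_comm' hs t).symm
      · exact hone _ _ (central_comm' ht s)
    · intro c' hc' s hs
      obtain ⟨i, rfl⟩ := Subgroup.mem_zpowers_iff.1 hc'
      rw [hM] at hs
      rcases hs with hs | hs
      · simp only [Set.mem_insert_iff, Set.mem_singleton_iff] at hs
        rcases hs with rfl | rfl
        · exact ((show Commute s c from hxc').zpow_right i).eq
        · exact ((show Commute s c from hyc').zpow_right i).eq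
      · exact (central_comm' hs _).symm
  intro k hk hkK
  obtain ⟨i, rfl⟩ := Subgroup.mem_zpowers_iff.1 (hcomm (Subgroup.commutator_mono hle hle hk))
  have hi : i = 3 * (i / 3) + i % 3 := (Int.mul_ediv_add_emod i 3).symm
  have h0 : 0 ≤ i % 3 := Int.emod_nonneg i (by norm_num)
  have h3 : i % 3 < 3 := Int.emod_lt_of_pos i (by norm_num)
  have hc3z : c ^ (3 : ℤ) = 1 := by rw [zpow_ofNat]; exact hc3
  have e : c ^ i = c ^ (i % 3) := by
    rw [hi, zpow_add, zpow_mul, hc3z, one_zpow, one_mul]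
    congr 1
    omega
  rw [e] at hkK ⊢
  obtain ⟨r, hr⟩ : ∃ r : ℤ, r = i % 3 := ⟨_, rfl⟩
  rw [← hr] at hkK h0 h3 ⊢
  have hσ1 : σ c ≠ 1 := by rw [hσc]; exact hc1
  have hσ3 : σ c ^ 3 = 1 := by rw [← map_pow, hc3, map_one]
  interval_cases r
  · simp
  · exfalso
    apply hσ1
    have := (MonoidHom.mem_ker).1 hkK
    simpa using this
  · exfalso
    apply hσ1
    have h2 : σ c ^ 2 = 1 := by
      have := (MonoidHom.mem_ker).1 hkK
      rw [map_zpow] at this
      exact_mod_cast this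
    calc σ c = σ c ^ 3 * (σ c ^ 2)⁻¹ := by group
      _ = 1 := by rw [hσ3, h2]; group

end Cfsg.Agent.Helper29.StemOdd
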