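import Mathlib

set_option autoImplicit false

/-! A group of order 7920 acting faithfully and 2-transitively on 11 points is simple. -/

namespace Cfsg.Agent.Helper29

open MulAction Subgroup

variable {G Ω : Type*} [Group G] [MulAction G Ω]

/-- an element of prime order `p` acting faithfully on `p` points generates a transitive group -/
theorem zpowers_transitive [Finite G] [Finite Ω] [FaithfulSMul G Ω] {p : ℕ} (hp : p.Prime)
    (hΩ : Nat.card Ω = p) (x : G) (hx : orderOf x = p) (a : Ω) (ha : x • a ≠ a) :
    ∀ b : Ω, ∃ k : ℕ, x ^ k • a = b := by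
  classical
  have hcard : Nat.card (zpowers x) = p := by rw [Nat.card_zpowers, hx]
  have horb : Nat.card (orbit (zpowers x) a) ∣ p := by
    rw [← hcard]
    have := Nat.card_congr (orbitProdStabilizerEquivGroup (zpowers x) a)
    rw [Nat.card_prod] at this
    exact Dvd.intro _ this
  have hne1 : Nat.card (orbit (zpowers x) a) ≠ 1 := by
    intro h1
    rw [Nat.card_eq_one_iff_unique] at h1
    obtain ⟨hs, -⟩ := h1
    have h2 : (⟨a, mem_orbit_self a⟩ : orbit (zpowers x) a) =
        ⟨x • a, ⟨⟨x, mem_zpowers x⟩, rfl⟩⟩ := Subsingleton.elim _ _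
    exact ha (congrArg Subtype.val h2).symm
  have horb' : Nat.card (orbit (zpowers x) a) = p := by
    rcases (Nat.dvd_prime hp).1 horb with h | h
    · exact absurd h hne1
    · exact h
  have huniv : orbit (zpowers x) a = Set.univ := by
    have hfin : (Set.univ : Set Ω).Finite := Set.finite_univ
    apply Set.eq_of_subset_of_ncard_le (Set.subset_univ _) _ hfin
    rw [Set.ncard_univ, hΩ, ← horb', Nat.card_coe_set_eq]
  intro b
  have hb : b ∈ orbit (zpowers x) a := by rw [huniv]; exact Set.mem_univ b
  obtain ⟨⟨g, hg⟩, rfl⟩ := hb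
  have hg' : g ∈ Submonoid.powers x := mem_powers_iff_mem_zpowers.2 hg
  obtain ⟨n, hn⟩ := (Submonoid.mem_powers_iff _ _).1 hg'
  exact ⟨n, by rw [hn]; rfl⟩

/-- a subgroup of prime order `p` acting faithfully on `p` points is self-centralizing -/
theorem centralizer_zpowers_eq [Finite G] [Finite Ω] [FaithfulSMul G Ω] {p : ℕ} (hp : p.Prime)
    (hΩ : Nat.card Ω = p) (x : G) (hx : orderOf x = p) :
    centralizer (zpowers x : Set G) = zpowers x := by
  apply le_antisymm
  · intro c hc
    have hx1 : x ≠ 1 := by
      rintro rfl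
      rw [orderOf_one] at hx
      exact hp.one_lt.ne hx
    have hex : ∃ a : Ω, x • a ≠ a := by
      by_contra hcon
      push Not at hcon
      apply hx1
      apply FaithfulSMul.eq_of_smul_eq_smul (α := Ω)
      intro a
      rw [hcon a, one_smul]
    obtain ⟨a, ha⟩ := hex
    have htr := zpowers_transitive hp hΩ x hx a ha
    obtain ⟨k, hk⟩ := htr (c • a)
    have hcomm : ∀ n : ℕ, c * x ^ n = x ^ n * c := by
      intro n
      have := hc (x ^ n) (pow_mem (mem_zpowers x) n)
      exact this.symm
    have hd : (x ^ k)⁻¹ * c = 1 := by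
      apply FaithfulSMul.eq_of_smul_eq_smul (α := Ω)
      intro b
      obtain ⟨n, rfl⟩ := htr b
      rw [one_smul]
      calc ((x ^ k)⁻¹ * c) • x ^ n • a = (x ^ k)⁻¹ • (c * x ^ n) • a := by
            rw [mul_smul, mul_smul]
        _ = (x ^ k)⁻¹ • (x ^ n * c) • a := by rw [hcomm n]
        _ = (x ^ k)⁻¹ • x ^ n • x ^ k • a := by rw [mul_smul, hk]
        _ = (x ^ k)⁻¹ • (x ^ k * x ^ n) • a := by rw [← mul_smul (x ^ n), pow_mul_comm]
        _ = x ^ n • a := by rw [mul_smul, inv_smul_smul]
    rw [inv_mul_eq_one] at hd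
    rw [← hd]
    exact pow_mem (mem_zpowers x) k
  · intro c hc y hy
    obtain ⟨k, rfl⟩ := (mem_zpowers_iff).1 hc
    obtain ⟨l, rfl⟩ := (mem_zpowers_iff).1 hy
    exact (Commute.zpow_zpow_self x l k).eq

theorem arith_k (k idx : ℕ) (h1 : k * idx = 720) (h2 : k ∣ 10) (h3 : idx ≡ 1 [MOD 11]) :
    k = 5 ∧ idx = 144 := by
  have hk : k ∈ Nat.divisors 10 := Nat.mem_divisors.2 ⟨h2, by norm_num⟩
  have hd : Nat.divisors 10 = {1, 2, 5, 10} := by decide
  rw [hd] at hk
  simp only [Finset.mem_insert, Finset.mem_singleton] at hk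
  unfold Nat.ModEq at h3
  rcases hk with rfl | rfl | rfl | rfl
  · exfalso; omega
  · exfalso; omega
  · constructor <;> omega
  · exfalso; omega

/-- a group of order 7920 acting faithfully and 2-transitively on 11 points is simple -/
theorem isSimpleGroup_of_card_7920 [Finite G] [Finite Ω] [FaithfulSMul G Ω]
    (hG : Nat.card G = 7920) (hΩ : Nat.card Ω = 11)
    (h2 : IsMultiplyPretransitive G Ω 2) : IsSimpleGroup G := by
  classical
  have hp11 : Nat.Prime 11 := by norm_num
  have : Fact (Nat.Prime 11) := ⟨hp11⟩
  have hnt : Nontrivial G := Finite.one_lt_card_iff_nontrivial.1 (by rw [hG]; norm_num)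
  have hprim : IsPreprimitive G Ω := isPreprimitive_of_is_two_pretransitive h2
  refine ⟨fun N hN => ?_⟩
  by_cases hbot : N = ⊥
  · exact Or.inl hbot
  right
  have hfix : fixedPoints N Ω ≠ Set.univ := by
    intro h
    apply hbot
    rw [Subgroup.eq_bot_iff_forall]
    intro n hn
    apply FaithfulSMul.eq_of_smul_eq_smul (α := Ω)
    intro x
    rw [one_smul]
    have : x ∈ fixedPoints N Ω := by rw [h]; exact Set.mem_univ x
    exact this ⟨n, hn⟩
  have htrans : IsPretransitive N Ω := IsQuasiPreprimitive.isPretransitive_of_normal hfix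
  have hne : Nonempty Ω := (Nat.card_pos_iff.1 (by rw [hΩ]; norm_num)).1
  obtain ⟨a⟩ := hne
  have h11 : 11 ∣ Nat.card N := by
    have := Nat.card_congr (orbitProdStabilizerEquivGroup N a)
    rw [Nat.card_prod, orbit_eq_univ, Nat.card_coe_set_eq, Set.ncard_univ, hΩ] at this
    exact Dvd.intro _ this
  obtain ⟨x, hx⟩ := exists_prime_orderOf_dvd_card' 11 h11
  set y : G := (x : G) with hy
  have hyo : orderOf y = 11 := by rw [hy, Subgroup.orderOf_coe, hx]
  have hyN : zpowers y ≤ N := (zpowers_le).2 x.2
  have hpg : IsPGroup 11 (zpowers y) :=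
    IsPGroup.of_card (n := 1) (by rw [Nat.card_zpowers, hyo, pow_one])
  obtain ⟨P, hP⟩ := hpg.exists_le_sylow
  have hPcard : Nat.card P = 11 := by
    obtain ⟨n, hn⟩ := P.2.exists_card_eq
    have hdvd : Nat.card P ∣ 7920 := hG ▸ Subgroup.card_subgroup_dvd_card _
    have hle : 11 ≤ Nat.card P := by
      calc 11 = Nat.card (zpowers y) := by rw [Nat.card_zpowers, hyo]
        _ ≤ Nat.card P := Subgroup.card_le_of_le hP
    rw [hn] at hdvd hle ⊢
    have hn2 : n < 2 := by
      by_contra hcon
      have h1 : 11 ^ 2 ∣ 11 ^ n := pow_dvd_pow _ (not_lt.1 hcon)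
      have h2 := h1.trans hdvd
      norm_num at h2
    interval_cases n
    · norm_num at hle
    · norm_num
  have hPeq : (P : Subgroup G) = zpowers y := by
    symm
    apply Subgroup.eq_of_le_of_card_ge hP
    rw [hPcard, Nat.card_zpowers, hyo]
  have hPN : (P : Subgroup G) ≤ N := hPeq ▸ hyN
  have hcent : centralizer ((P : Subgroup G) : Set G) = P := by
    rw [hPeq]; exact centralizer_zpowers_eq hp11 hΩ y hyo
  have hcyc : IsCyclic (P : Subgroup G) := isCyclic_of_prime_card hPcard
  have key := card_dvd_of_injective _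
    (QuotientGroup.kerLift_injective (P : Subgroup G).normalizerMonoidHom)
  rw [normalizerMonoidHom_ker, ← index, ← relIndex, hcent, IsCyclic.card_mulAut, hPcard,
    Nat.totient_prime hp11] at key
  have hPidx : (P : Subgroup G).index = 720 := by
    have := (P : Subgroup G).card_mul_index
    rw [hPcard, hG] at this
    omega
  have hrel := relIndex_mul_index (le_normalizer (H := (P : Subgroup G)))
  rw [hPidx] at hrel
  have hmod := card_sylow_modEq_one 11 G
  rw [P.card_eq_index_normalizer] at hmod
  obtain ⟨hk5, hidx⟩ := arith_k _ _ hrel key hmod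
  have hnormcard : Nat.card (normalizer ((P : Subgroup G) : Set G)) = 55 := by
    have := (normalizer ((P : Subgroup G) : Set G)).card_mul_index
    rw [hidx, hG] at this
    omega
  have hfrat := Sylow.normalizer_sup_eq_top' P hPN
  set M := N ⊓ normalizer ((P : Subgroup G) : Set G) with hM
  have hPM : (P : Subgroup G) ≤ M := le_inf hPN le_normalizer
  have hMle : M ≤ normalizer ((P : Subgroup G) : Set G) := inf_le_right
  have hd1 : 11 ∣ Nat.card M := hPcard ▸ Subgroup.card_dvd_of_le hPM
  have hd2 : Nat.card M ∣ 55 := hnormcard ▸ Subgroup.card_dvd_of_le hMle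
  have hcases : Nat.card M = 11 ∨ Nat.card M = 55 := by
    have hm : Nat.card M ∈ Nat.divisors 55 := Nat.mem_divisors.2 ⟨hd2, by norm_num⟩
    have hd : Nat.divisors 55 = {1, 5, 11, 55} := by decide
    rw [hd] at hm
    simp only [Finset.mem_insert, Finset.mem_singleton] at hm
    rcases hm with h | h | h | h
    · rw [h] at hd1; norm_num at hd1
    · rw [h] at hd1; norm_num at hd1
    · exact Or.inl h
    · exact Or.inr h
  rcases hcases with hc | hc
  · -- the normalizer of `P` in `N` is `P`: Burnside
    exfalso
    have hMP : M = P := by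
      symm
      apply Subgroup.eq_of_le_of_card_ge hPM
      rw [hPcard, hc]
    set P' : Sylow 11 N := P.subtype hPN with hP'
    have hP'coe : (P' : Subgroup N) = (P : Subgroup G).subgroupOf N := Sylow.coe_subtype _ _
    have hnc : normalizer ((P' : Subgroup N) : Set N) ≤ centralizer ((P' : Subgroup N) : Set N) := by
      intro n hn
      have hnG : (n : G) ∈ normalizer ((P : Subgroup G) : Set G) := by
        rw [mem_normalizer_iff]
        intro h
        by_cases hhN : h ∈ N
        · have := (mem_normalizer_iff.1 hn) ⟨h, hhN⟩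
          rw [hP'coe, mem_subgroupOf, mem_subgroupOf] at this
          exact this
        · constructor
          · intro hh; exact absurd (hPN hh) hhN
          · intro hh
            exfalso
            apply hhN
            have h1 := hPN hh
            have h2 := N.mul_mem (N.mul_mem (N.inv_mem n.2) h1) n.2
            have h3 : (n : G)⁻¹ * ((n : G) * h * (n : G)⁻¹) * (n : G) = h := by group
            rwa [h3] at h2
      have hnM : (n : G) ∈ M := Subgroup.mem_inf.2 ⟨n.2, hnG⟩
      rw [hMP] at hnM
      intro g hg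
      rw [SetLike.mem_coe, hP'coe, mem_subgroupOf] at hg
      apply Subtype.ext
      show (g : G) * (n : G) = (n : G) * (g : G)
      rw [hPeq] at hnM hg
      obtain ⟨i, hi⟩ := mem_zpowers_iff.1 hnM
      obtain ⟨j, hj⟩ := mem_zpowers_iff.1 hg
      rw [← hi, ← hj]
      exact (Commute.zpow_zpow_self y j i).eq
    have hcompl := MonoidHom.ker_transferSylow_isComplement' P' hnc
    have hnd := MonoidHom.not_dvd_card_ker_transferSylow P' hnc
    set K := (MonoidHom.transferSylow P' hnc).ker with hK
    have hKn : K.Normal := MonoidHom.normal_ker _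
    have hcm := hcompl.card_mul_card
    -- `N` is primitive on the points
    have hprimN : IsPreprimitive N Ω := IsPreprimitive.of_prime_card (by rw [hΩ]; exact hp11)
    have hKfix : fixedPoints K Ω = Set.univ := by
      by_contra hcon
      have hKt : IsPretransitive K Ω := IsQuasiPreprimitive.isPretransitive_of_normal hcon
      apply hnd
      have := Nat.card_congr (orbitProdStabilizerEquivGroup K a)
      rw [Nat.card_prod, orbit_eq_univ, Nat.card_coe_set_eq, Set.ncard_univ, hΩ] at this
      exact Dvd.intro _ this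
    have hKbot : K = ⊥ := by
      rw [Subgroup.eq_bot_iff_forall]
      intro k hk
      apply Subtype.ext
      apply FaithfulSMul.eq_of_smul_eq_smul (α := Ω)
      intro b
      have hb : b ∈ fixedPoints K Ω := by rw [hKfix]; exact Set.mem_univ b
      have := hb ⟨k, hk⟩
      rw [Subgroup.coe_one, one_smul]
      exact this
    rw [hKbot, Subgroup.card_bot, one_mul] at hcm
    have hP'card : Nat.card (P' : Subgroup N) = 11 := by
      rw [hP'coe]
      have := Subgroup.card_subtype N ((P : Subgroup G).subgroupOf N)
      rw [subgroupOf_map_subtype, inf_of_le_left hPN, hPcard] at this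
      exact this.symm
    have hNcard : Nat.card N = 11 := by rw [← hcm, hP'card]
    have hNP : N = P := by
      symm
      apply Subgroup.eq_of_le_of_card_ge hPN
      rw [hNcard, hPcard]
    have hPnorm : (P : Subgroup G).Normal := hNP ▸ hN
    have htop : normalizer ((P : Subgroup G) : Set G) = ⊤ := normalizer_eq_top (P : Subgroup G)
    rw [htop, Subgroup.card_top, hG] at hnormcard
    norm_num at hnormcard
  · -- the normalizer of `P` lies in `N`
    have hMn : M = normalizer ((P : Subgroup G) : Set G) := by
      apply Subgroup.eq_of_le_of_card_ge hMle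
      rw [hnormcard, hc]
    have hle : normalizer ((P : Subgroup G) : Set G) ≤ N := hMn ▸ inf_le_left
    rw [← hfrat]
    exact (sup_of_le_right hle).symm

end Cfsg.Agent.Helper29
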