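import Mathlib
import Cfsg.Agent.Lib.Helper29.M24Dodecad2
import Cfsg.Agent.Lib.Helper29.SimpleCrit
import Cfsg.Agent.Lib.Helper29.Simple7920

set_option autoImplicit false
open Cfsg

namespace Cfsg.Agent.Helper29.M24

open Cfsg.Agent.Helper27 Cfsg.Agent.Helper29
open Cfsg.Agent.S0358 (idx)
open scoped Pointwise

/-! ### Simplicity of the stabilizer of a dodecad, and of a dodecad and a point on it -/

/-- extend an embedding by a new first value -/
theorem emb_cons {k : ℕ} (s : Finset GolayPt) (x' : Fin k ↪ GolayPt) (hx' : ∀ i, x' i ∈ s)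
    (p : GolayPt) (hp : p ∈ s) (hpx : ∀ i, x' i ≠ p) :
    ∃ x : Fin (k + 1) ↪ GolayPt, x 0 = p ∧ (∀ i : Fin k, x i.succ = x' i) ∧ ∀ i, x i ∈ s := by
  refine ⟨⟨Fin.cons p x', ?_⟩, rfl, fun i => rfl, ?_⟩
  · rw [Fin.cons_injective_iff]
    refine ⟨?_, x'.injective⟩
    rintro ⟨i, hi⟩
    exact hpx i hi
  · intro i
    refine Fin.cases ?_ (fun j => ?_) i
    · exact hp
    · exact hx' j

/-- a 5-tuple of distinct points of a large enough set with three prescribed first values -/
theorem exists_emb3 (s : Finset GolayPt) (hs : 5 ≤ s.card) (a b c : GolayPt) (ha : a ∈ s)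
    (hb : b ∈ s) (hc : c ∈ s) (hab : a ≠ b) (hac : a ≠ c) (hbc : b ≠ c) :
    ∃ x : Fin 5 ↪ GolayPt, x 0 = a ∧ x 1 = b ∧ x 2 = c ∧ ∀ i, x i ∈ s := by
  have hcard : 2 ≤ (((s.erase a).erase b).erase c).card := by
    rw [Finset.card_erase_of_mem, Finset.card_erase_of_mem, Finset.card_erase_of_mem ha]
    · omega
    · exact Finset.mem_erase.2 ⟨hab.symm, hb⟩
    · exact Finset.mem_erase.2 ⟨hbc.symm, Finset.mem_erase.2 ⟨hac.symm, hc⟩⟩
  obtain ⟨x2, hx2⟩ := exists_emb_subset _ 2 hcard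
  have hx2' : ∀ i, x2 i ∈ s ∧ x2 i ≠ a ∧ x2 i ≠ b ∧ x2 i ≠ c := by
    intro i
    have := hx2 i
    rw [Finset.mem_erase, Finset.mem_erase, Finset.mem_erase] at this
    exact ⟨this.2.2.2, this.2.2.1, this.2.1, this.1⟩
  obtain ⟨x3, h30, h3s, h3m⟩ := emb_cons s x2 (fun i => (hx2' i).1) c hc (fun i => (hx2' i).2.2.2)
  obtain ⟨x4, h40, h4s, h4m⟩ := emb_cons s x3 h3m b hb (by
    intro i
    refine Fin.cases ?_ (fun j => ?_) i
    · rw [h30]; exact hbc.symm
    · rw [h3s j]; exact (hx2' j).2.2.1)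
  obtain ⟨x5, h50, h5s, h5m⟩ := emb_cons s x4 h4m a ha (by
    intro i
    refine Fin.cases ?_ (fun j => ?_) i
    · rw [h40]; exact hab.symm
    · rw [h4s j]
      refine Fin.cases ?_ (fun l => ?_) j
      · rw [h30]; exact hac.symm
      · rw [h3s l]; exact (hx2' l).2.1)
  refine ⟨x5, h50, ?_, ?_, h5m⟩
  · have := h5s 0
    rw [h40] at this
    exact this
  · have := h5s 1
    rw [show (1 : Fin 4) = (0 : Fin 3).succ from rfl, h4s 0, h30] at this
    exact this

/-- the stabilizer of a dodecad is 3-transitive on it -/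
theorem stab_three_trans (d : Finset GolayPt) (hd : d ∈ dodecads) (a b c a' b' c' : GolayPt)
    (ha : a ∈ d) (hb : b ∈ d) (hc : c ∈ d) (ha' : a' ∈ d) (hb' : b' ∈ d) (hc' : c' ∈ d)
    (hab : a ≠ b) (hac : a ≠ c) (hbc : b ≠ c) (hab' : a' ≠ b') (hac' : a' ≠ c') (hbc' : b' ≠ c') :
    ∃ g : MulAction.stabilizer M24 d, ((g : M24) : Equiv.Perm GolayPt) a = a' ∧
      ((g : M24) : Equiv.Perm GolayPt) b = b' ∧ ((g : M24) : Equiv.Perm GolayPt) c = c' := by
  have h5 : 5 ≤ d.card := by rw [hd.2]; norm_num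
  obtain ⟨x, hx0, hx1, hx2, hxs⟩ := exists_emb3 d h5 a b c ha hb hc hab hac hbc
  obtain ⟨y, hy0, hy1, hy2, hys⟩ := exists_emb3 d h5 a' b' c' ha' hb' hc' hab' hac' hbc'
  obtain ⟨g, hg, -⟩ := sharply_five d hd x y hxs hys
  refine ⟨g, ?_, ?_, ?_⟩
  · rw [← hx0, ← hy0]; exact hg 0
  · rw [← hx1, ← hy1]; exact hg 1
  · rw [← hx2, ← hy2]; exact hg 2

/-- an element of the group fixing a dodecad pointwise is trivial -/
theorem eq_one_of_fix_dodecad (d : Finset GolayPt) (hd : d ∈ dodecads) (σ : Equiv.Perm GolayPt)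
    (hσ : σ ∈ M24) (hfix : ∀ x ∈ d, σ x = x) : σ = 1 := by
  obtain ⟨x, hx⟩ := exists_emb_subset d 5 (by rw [hd.2]; norm_num)
  apply dodecad_rigid d hd x hx σ hσ
  · apply Finset.eq_of_subset_of_card_le
    · intro p hp
      obtain ⟨q, hq, rfl⟩ := Finset.mem_smul_finset.1 hp
      rw [Equiv.Perm.smul_def, hfix q hq]; exact hq
    · rw [Finset.card_smul_finset]
  · intro i
    exact hfix _ (hx i)

/-- the action of the stabilizer of a dodecad and a point on the other points of the dodecad -/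
@[instance_reducible]
def elevenAction (d : Finset GolayPt) (p : GolayPt) :
    MulAction ↥(MulAction.stabilizer M24 d ⊓ MulAction.stabilizer M24 p)
      {x : GolayPt // x ∈ d ∧ x ≠ p} where
  smul g x := ⟨((g : M24) : Equiv.Perm GolayPt) x.1,
    smul_mem_of_stab d ⟨(g : M24), g.2.1⟩ x.1 x.2.1, by
      intro h
      have hp : ((g : M24) : Equiv.Perm GolayPt) p = p := g.2.2
      exact x.2.2 (((g : M24) : Equiv.Perm GolayPt).injective (h.trans hp.symm))⟩
  one_smul _ := Subtype.ext rfl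
  mul_smul _ _ _ := Subtype.ext rfl

theorem stab_dodecad_point_simple (d : Finset GolayPt) (hd : d ∈ dodecads) (p : GolayPt)
    (hp : p ∈ d) :
    IsSimpleGroup ↥(MulAction.stabilizer M24 d ⊓ MulAction.stabilizer M24 p) := by
  classical
  let _ := elevenAction d p
  have hsm : ∀ (g : ↥(MulAction.stabilizer M24 d ⊓ MulAction.stabilizer M24 p))
      (x : {x : GolayPt // x ∈ d ∧ x ≠ p}),
      (g • x).1 = ((g : M24) : Equiv.Perm GolayPt) x.1 := fun _ _ => rfl
  have hfaith : FaithfulSMul ↥(MulAction.stabilizer M24 d ⊓ MulAction.stabilizer M24 p)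
      {x : GolayPt // x ∈ d ∧ x ≠ p} := by
    refine ⟨fun {g g'} h => ?_⟩
    apply Subtype.ext
    apply Subtype.ext
    have key : (((g : M24) : Equiv.Perm GolayPt))⁻¹ * ((g' : M24) : Equiv.Perm GolayPt) = 1 := by
      apply eq_one_of_fix_dodecad d hd _
        (Subgroup.mul_mem _ (Subgroup.inv_mem _ (g : M24).2) (g' : M24).2)
      intro x hx
      rw [Equiv.Perm.mul_apply, Equiv.Perm.inv_def, Equiv.symm_apply_eq]
      by_cases hxp : x = p
      · rw [hxp]
        have h1 : ((g : M24) : Equiv.Perm GolayPt) p = p := g.2.2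
        have h2 : ((g' : M24) : Equiv.Perm GolayPt) p = p := g'.2.2
        rw [h1, h2]
      · have := h ⟨x, hx, hxp⟩
        have h3 := congrArg Subtype.val this
        rw [hsm, hsm] at h3
        exact h3.symm
    rw [inv_mul_eq_one] at key
    exact key
  have hcard : Nat.card {x : GolayPt // x ∈ d ∧ x ≠ p} = 11 := by
    rw [Nat.card_eq_fintype_card, Fintype.card_subtype]
    have : (Finset.univ.filter fun x : GolayPt => x ∈ d ∧ x ≠ p) = d.erase p := by
      ext x
      simp [Finset.mem_erase, and_comm]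
    rw [this, Finset.card_erase_of_mem hp, hd.2]
  apply isSimpleGroup_of_card_7920 (Ω := {x : GolayPt // x ∈ d ∧ x ≠ p})
    (card_stab_dodecad_point d hd p hp) hcard
  rw [MulAction.is_two_pretransitive_iff]
  intro a b a' b' hab hab'
  obtain ⟨g, hg1, hg2, hg3⟩ := stab_three_trans d hd p a.1 b.1 p a'.1 b'.1 hp a.2.1 b.2.1 hp
    a'.2.1 b'.2.1 (Ne.symm a.2.2) (Ne.symm b.2.2) (fun h => hab (Subtype.ext h))
    (Ne.symm a'.2.2) (Ne.symm b'.2.2) (fun h => hab' (Subtype.ext h))
  refine ⟨⟨(g : M24), g.2, hg1⟩, ?_, ?_⟩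
  · apply Subtype.ext
    rw [hsm]
    exact hg2
  · apply Subtype.ext
    rw [hsm]
    exact hg3

/-- the action of the stabilizer of a dodecad on its points -/
@[instance_reducible]
def twelveAction (d : Finset GolayPt) :
    MulAction ↥(MulAction.stabilizer M24 d) {x : GolayPt // x ∈ d} where
  smul g x := ⟨((g : M24) : Equiv.Perm GolayPt) x.1, smul_mem_of_stab d g x.1 x.2⟩
  one_smul _ := Subtype.ext rfl
  mul_smul _ _ _ := Subtype.ext rfl

theorem stab_dodecad_simple (d : Finset GolayPt) (hd : d ∈ dodecads) :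
    IsSimpleGroup ↥(MulAction.stabilizer M24 d) := by
  classical
  let _ := twelveAction d
  have hsm : ∀ (g : ↥(MulAction.stabilizer M24 d)) (x : {x : GolayPt // x ∈ d}),
      (g • x).1 = ((g : M24) : Equiv.Perm GolayPt) x.1 := fun _ _ => rfl
  have hfaith : FaithfulSMul ↥(MulAction.stabilizer M24 d) {x : GolayPt // x ∈ d} := by
    refine ⟨fun {g g'} h => ?_⟩
    apply Subtype.ext
    apply Subtype.ext
    have key : (((g : M24) : Equiv.Perm GolayPt))⁻¹ * ((g' : M24) : Equiv.Perm GolayPt) = 1 := by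
      apply eq_one_of_fix_dodecad d hd _
        (Subgroup.mul_mem _ (Subgroup.inv_mem _ (g : M24).2) (g' : M24).2)
      intro x hx
      rw [Equiv.Perm.mul_apply, Equiv.Perm.inv_def, Equiv.symm_apply_eq]
      have := h ⟨x, hx⟩
      have h3 := congrArg Subtype.val this
      rw [hsm, hsm] at h3
      exact h3.symm
    rw [inv_mul_eq_one] at key
    exact key
  have hcard : Nat.card {x : GolayPt // x ∈ d} = 12 := by
    rw [Nat.card_eq_fintype_card, Fintype.card_coe, hd.2]
  obtain ⟨p, hp⟩ : ∃ p, p ∈ d := by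
    apply Finset.card_pos.1
    rw [hd.2]; norm_num
  apply isSimpleGroup_of_three_trans (Ω := {x : GolayPt // x ∈ d}) (⟨p, hp⟩ : {x : GolayPt // x ∈ d})
  · intro x y z x' y' z' hxy hxz hyz hxy' hxz' hyz'
    obtain ⟨g, hg1, hg2, hg3⟩ := stab_three_trans d hd x.1 y.1 z.1 x'.1 y'.1 z'.1 x.2 y.2 z.2
      x'.2 y'.2 z'.2 (fun h => hxy (Subtype.ext h)) (fun h => hxz (Subtype.ext h))
      (fun h => hyz (Subtype.ext h)) (fun h => hxy' (Subtype.ext h))
      (fun h => hxz' (Subtype.ext h)) (fun h => hyz' (Subtype.ext h))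
    exact ⟨g, Subtype.ext hg1, Subtype.ext hg2, Subtype.ext hg3⟩
  · rw [hcard]; norm_num
  · intro m
    rw [hcard]
    intro hm
    have h1 : m < 4 := by
      by_contra hcon
      have : 2 ^ 4 ≤ 2 ^ m := Nat.pow_le_pow_right (by norm_num) (by omega)
      omega
    interval_cases m <;> omega
  · have hst : MulAction.stabilizer ↥(MulAction.stabilizer M24 d)
        (⟨p, hp⟩ : {x : GolayPt // x ∈ d}) =
        (MulAction.stabilizer M24 d ⊓ MulAction.stabilizer M24 p).subgroupOf
          (MulAction.stabilizer M24 d) := by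
      ext g
      rw [MulAction.mem_stabilizer_iff, Subgroup.mem_subgroupOf, Subgroup.mem_inf]
      constructor
      · intro h
        exact ⟨g.2, congrArg Subtype.val h⟩
      · rintro ⟨-, h⟩
        exact Subtype.ext h
    rw [hst]
    have := stab_dodecad_point_simple d hd p hp
    exact (Subgroup.subgroupOfEquivOfLe inf_le_left).isSimpleGroup

end Cfsg.Agent.Helper29.M24
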