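import Mathlib

set_option autoImplicit false

/-! The automorphisms of a graph, as a subgroup of the permutations of its vertices. -/

namespace Cfsg.Agent.Helper29.HSModel

/-- the permutations preserving adjacency -/
def autSub {V : Type*} (Γ : SimpleGraph V) : Subgroup (Equiv.Perm V) where
  carrier := {g | ∀ x y, Γ.Adj (g x) (g y) ↔ Γ.Adj x y}
  mul_mem' := by
    intro a b ha hb x y
    rw [Equiv.Perm.mul_apply, Equiv.Perm.mul_apply, ha, hb]
  one_mem' := by
    intro x y
    rfl
  inv_mem' := by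
    intro a ha x y
    have h := ha (a⁻¹ x) (a⁻¹ y)
    have e1 : a (a⁻¹ x) = x := by simp
    have e2 : a (a⁻¹ y) = y := by simp
    rw [e1, e2] at h
    exact h.symm

theorem mem_autSub {V : Type*} (Γ : SimpleGraph V) (g : Equiv.Perm V) :
    g ∈ autSub Γ ↔ ∀ x y, Γ.Adj (g x) (g y) ↔ Γ.Adj x y := Iff.rfl

end Cfsg.Agent.Helper29.HSModel
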