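import Mathlib

set_option autoImplicit false

/-! A checker for coincidence-free deduction logs: the multiplication table of a finite group on
the nodes of a spanning tree of its Cayley graph is derived from a list of relators, one entry at a
time, each entry either from the inverse entry or from a relator all of whose other entries are
already known.  The conclusion bounds the subgroup generated by any elements of any group
satisfying the relators. -/

namespace Cfsg.Agent.Helper29.DedCheck

/-- the data: `n` nodes, `k` columns, an involution `inv` on columns, the columns of the table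
packed with `b` bits per entry, the parent and the defining column of each node -/
structure Tab where
  n : ℕ
  k : ℕ
  b : ℕ
  inv : ℕ → ℕ
  cols : List ℕ
  par : ℕ → ℕ
  pcol : ℕ → ℕ

namespace Tab

variable (D : Tab)

/-- the entry of column `c` at node `i` -/
def tget (c i : ℕ) : ℕ := Nat.land (Nat.shiftRight (D.cols.getD c 0) (D.b * i)) (2 ^ D.b - 1)

/-- is the entry of column `c` at node `i` known -/
def kn (K : ℕ) (c i : ℕ) : Bool := Nat.testBit K (c * D.n + i)

/-- walk along a word from its right end using known entries only -/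
def walk (K : ℕ) : List ℕ → ℕ → Option ℕ
  | [], i => some i
  | y :: t, i =>
    match walk K t i with
    | none => none
    | some j => if D.kn K y j then some (D.tget y j) else none

/-- walk along a word from its right end in the full table -/
def walkT : List ℕ → ℕ → ℕ
  | [], i => i
  | y :: t, i => D.tget y (walkT t i)

/-- check of one step `(c, i, j)`: `j = 0` uses the inverse entry, `j = r + 1` the relator `r` -/
def stepOK (rels : List (List ℕ)) (K : ℕ) (s : ℕ × ℕ × ℕ) : Bool :=
  let c := s.1
  let i := s.2.1
  let j := s.2.2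
  let v := D.tget c i
  decide (c < D.k) && decide (i < D.n) && decide (v < D.n) &&
  (match j with
   | 0 => D.kn K (D.inv c) v && Nat.beq (D.tget (D.inv c) v) i && decide (D.inv c < D.k)
   | r + 1 =>
     match rels.getD r [] with
     | [] => false
     | y :: t => Nat.beq y c && (match D.walk K t v with
        | none => false
        | some u => Nat.beq u i))

/-- run the log -/
def runLog (rels : List (List ℕ)) : ℕ → List (ℕ × ℕ × ℕ) → Option ℕ
  | K, [] => some K
  | K, s :: l =>
    if D.stepOK rels K s then runLog rels (Nat.lor K (Nat.shiftLeft 1 (s.1 * D.n + s.2.1))) l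
    else none

/-- the entries known by definition: the tree edges -/
def treeMask : ℕ → ℕ
  | 0 => 0
  | j + 1 => if j = 0 then 0 else
      Nat.lor (treeMask j) (Nat.shiftLeft 1 (D.pcol j * D.n + D.par j))

/-- the tree is consistent with the table -/
def treeOK : Bool :=
  (List.range D.n).all fun j => j == 0 ||
    (decide (D.par j < j) && decide (D.pcol j < D.k) && Nat.beq (D.tget (D.pcol j) (D.par j)) j)

/-- the whole check -/
def check (rels : List (List ℕ)) (log : List (ℕ × ℕ × ℕ)) : Bool :=
  D.treeOK && decide (0 < D.n) &&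
  (match D.runLog rels (D.treeMask D.n) log with
   | none => false
   | some K => Nat.beq K (2 ^ (D.k * D.n) - 1))

section Sound

variable {M : Type*} [Monoid M]

/-- the element of a node: the product of the columns along the tree -/
def node (e : ℕ → M) : ℕ → M
  | i => if h : 0 < i ∧ D.par i < i then e (D.pcol i) * node e (D.par i) else 1
termination_by i => i
decreasing_by exact h.2

theorem node_zero (e : ℕ → M) : D.node e 0 = 1 := by
  rw [node, dif_neg (by omega)]

theorem node_of_lt (e : ℕ → M) {i : ℕ} (h0 : 0 < i) (h : D.par i < i) :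
    D.node e i = e (D.pcol i) * D.node e (D.par i) := by
  rw [node, dif_pos ⟨h0, h⟩]

theorem map_node {M' : Type*} [Monoid M'] (f : M →* M') (e : ℕ → M) (i : ℕ) :
    f (D.node e i) = D.node (fun c => f (e c)) i := by
  induction i using Nat.strong_induction_on with
  | _ i ih =>
    by_cases h : 0 < i ∧ D.par i < i
    · rw [D.node_of_lt e h.1 h.2, D.node_of_lt _ h.1 h.2, map_mul, ih _ h.2]
    · rw [node, dif_neg h, node, dif_neg h, map_one]

end Sound

section Group

variable {Γ : Type*} [Group Γ] (e : ℕ → Γ)

/-- all known entries hold -/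
def Good (K : ℕ) : Prop :=
  ∀ c i, c < D.k → i < D.n → D.kn K c i = true →
    D.tget c i < D.n ∧ e c * D.node e i = D.node e (D.tget c i)

theorem walk_sound {K : ℕ} (hK : D.Good e K)
    (w : List ℕ) (hw : ∀ y ∈ w, y < D.k) (i : ℕ) (hi : i < D.n) (u : ℕ)
    (h : D.walk K w i = some u) : u < D.n ∧ (w.map e).prod * D.node e i = D.node e u := by
  induction w generalizing u with
  | nil =>
    simp only [walk, Option.some.injEq] at h
    subst h
    simp [hi]
  | cons y t ih =>
    simp only [walk] at h
    cases hj : D.walk K t i with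
    | none => rw [hj] at h; exact absurd h (by simp)
    | some j =>
      rw [hj] at h
      simp only at h
      by_cases hk : D.kn K y j = true
      · rw [if_pos hk] at h
        simp only [Option.some.injEq] at h
        subst h
        obtain ⟨hj1, hj2⟩ := ih (fun z hz => hw z (List.mem_cons_of_mem _ hz)) j hj
        obtain ⟨h1, h2⟩ := hK y j (hw y List.mem_cons_self) hj1 hk
        refine ⟨h1, ?_⟩
        rw [List.map_cons, List.prod_cons, mul_assoc, hj2, h2]
      · rw [if_neg hk] at h
        exact absurd h (by simp)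

theorem kn_lor (K c i c' i' : ℕ) (hi : i < D.n) (hi' : i' < D.n) :
    D.kn (Nat.lor K (Nat.shiftLeft 1 (c * D.n + i))) c' i' =
      (D.kn K c' i' || decide (c = c' ∧ i = i')) := by
  unfold kn
  have e1 : Nat.lor K (Nat.shiftLeft 1 (c * D.n + i)) = K ||| (1 <<< (c * D.n + i)) := rfl
  rw [e1, Nat.testBit_lor, Nat.one_shiftLeft, Nat.testBit_two_pow]
  congr 1
  by_cases h : c = c' ∧ i = i'
  · obtain ⟨rfl, rfl⟩ := h
    simp
  · rw [decide_eq_false h, decide_eq_false]
    intro h2
    apply h
    rcases Nat.lt_trichotomy c c' with hc | hc | hc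
    · exfalso
      have : (c + 1) * D.n ≤ c' * D.n := Nat.mul_le_mul_right _ hc
      rw [Nat.add_mul, one_mul] at this
      omega
    · subst hc
      exact ⟨rfl, by omega⟩
    · exfalso
      have : (c' + 1) * D.n ≤ c * D.n := Nat.mul_le_mul_right _ hc
      rw [Nat.add_mul, one_mul] at this
      omega

theorem step_sound (rels : List (List ℕ)) (hinv : ∀ c < D.k, e (D.inv c) = (e c)⁻¹)
    (hrel : ∀ r ∈ rels, (r.map e).prod = 1) (hrk : ∀ r ∈ rels, ∀ y ∈ r, y < D.k)
    {K : ℕ} (hK : D.Good e K) (s : ℕ × ℕ × ℕ)
    (h : D.stepOK rels K s = true) :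
    D.Good e (Nat.lor K (Nat.shiftLeft 1 (s.1 * D.n + s.2.1))) := by
  obtain ⟨c, i, j⟩ := s
  simp only [stepOK, Bool.and_eq_true, decide_eq_true_eq] at h
  obtain ⟨⟨⟨hc, hi⟩, hv⟩, hj⟩ := h
  have key : e c * D.node e i = D.node e (D.tget c i) := by
    cases j with
    | zero =>
      simp only [Bool.and_eq_true, decide_eq_true_eq] at hj
      obtain ⟨⟨h1, h2⟩, h3⟩ := hj
      obtain ⟨_, h4⟩ := hK _ _ h3 hv h1
      rw [Nat.eq_of_beq_eq_true h2, hinv c hc] at h4
      rw [← h4]
      group
    | succ r =>
      simp only at hj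
      cases hr : rels.getD r [] with
      | nil => rw [hr] at hj; exact absurd hj (by simp)
      | cons y t =>
        rw [hr] at hj
        simp only [Bool.and_eq_true] at hj
        obtain ⟨h1, h2⟩ := hj
        have hy : y = c := Nat.eq_of_beq_eq_true h1
        subst hy
        have hmem : (y :: t) ∈ rels := by
          have : rels.getD r [] ∈ rels ∨ rels.getD r [] = [] := by
            by_cases hlt : r < rels.length
            · left
              rw [List.getD_eq_getElem _ _ hlt]
              exact List.getElem_mem hlt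
            · right
              rw [List.getD_eq_default _ _ (by omega)]
          rcases this with h3 | h3
          · rw [hr] at h3; exact h3
          · rw [hr] at h3; exact absurd h3 (by simp)
        cases hw : D.walk K t (D.tget y i) with
        | none => rw [hw] at h2; exact absurd h2 (by simp)
        | some u =>
          rw [hw] at h2
          simp only at h2
          have hu : u = i := Nat.eq_of_beq_eq_true h2
          subst hu
          obtain ⟨_, h4⟩ := D.walk_sound e hK t
            (fun z hz => hrk _ hmem z (List.mem_cons_of_mem _ hz)) _ hv _ hw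
          have h5 := hrel _ hmem
          rw [List.map_cons, List.prod_cons] at h5
          rw [← h4, ← mul_assoc, h5, one_mul]
  intro c' i' hc' hi' hkn
  rw [D.kn_lor K c i c' i' hi hi', Bool.or_eq_true, decide_eq_true_eq] at hkn
  rcases hkn with hkn | ⟨rfl, rfl⟩
  · exact hK c' i' hc' hi' hkn
  · exact ⟨hv, key⟩

theorem runLog_sound (rels : List (List ℕ)) (hinv : ∀ c < D.k, e (D.inv c) = (e c)⁻¹)
    (hrel : ∀ r ∈ rels, (r.map e).prod = 1) (hrk : ∀ r ∈ rels, ∀ y ∈ r, y < D.k)
    (log : List (ℕ × ℕ × ℕ)) : ∀ (K K' : ℕ), D.Good e K → D.runLog rels K log = some K' →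
      D.Good e K' := by
  induction log with
  | nil =>
    intro K K' hK h
    simp only [runLog, Option.some.injEq] at h
    subst h
    exact hK
  | cons s l ih =>
    intro K K' hK h
    simp only [runLog] at h
    by_cases hs : D.stepOK rels K s = true
    · rw [if_pos hs] at h
      exact ih _ _ (D.step_sound e rels hinv hrel hrk hK s hs) h
    · rw [if_neg hs] at h
      exact absurd h (by simp)

theorem kn_treeMask (htree : D.treeOK = true) (m : ℕ) (hm : m ≤ D.n) (c i : ℕ) (hi : i < D.n)
    (h : D.kn (D.treeMask m) c i = true) :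
    ∃ j, 0 < j ∧ j < m ∧ D.pcol j = c ∧ D.par j = i := by
  induction m with
  | zero =>
    simp [treeMask, kn] at h
  | succ j ih =>
    by_cases hj0 : j = 0
    · subst hj0
      simp [treeMask, kn] at h
    · have e1 : D.treeMask (j + 1) =
          Nat.lor (D.treeMask j) (Nat.shiftLeft 1 (D.pcol j * D.n + D.par j)) := by
        rw [treeMask, if_neg hj0]
      have hjn : j < D.n := by omega
      have hpar : D.par j < j := by
        unfold treeOK at htree
        rw [List.all_eq_true] at htree
        have := htree j (List.mem_range.2 hjn)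
        simp only [Bool.or_eq_true, beq_iff_eq, Bool.and_eq_true, decide_eq_true_eq] at this
        rcases this with h0 | h0
        · exact absurd h0 hj0
        · exact h0.1.1
      rw [e1, D.kn_lor _ _ _ c i (by omega) hi, Bool.or_eq_true, decide_eq_true_eq] at h
      rcases h with h | ⟨rfl, rfl⟩
      · obtain ⟨j', h1, h2, h3⟩ := ih (by omega) h
        exact ⟨j', h1, by omega, h3⟩
      · exact ⟨j, by omega, by omega, rfl, rfl⟩

theorem good_treeMask (htree : D.treeOK = true) : D.Good e (D.treeMask D.n) := by
  intro c i _ hi hkn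
  obtain ⟨j, hj0, hjn, rfl, rfl⟩ := D.kn_treeMask htree D.n le_rfl c i hi hkn
  unfold treeOK at htree
  rw [List.all_eq_true] at htree
  have := htree j (List.mem_range.2 hjn)
  simp only [Bool.or_eq_true, beq_iff_eq, Bool.and_eq_true, decide_eq_true_eq] at this
  rcases this with h0 | h0
  · omega
  · obtain ⟨⟨h1, _⟩, h3⟩ := h0
    have h4 : D.tget (D.pcol j) (D.par j) = j := Nat.eq_of_beq_eq_true h3
    rw [h4]
    exact ⟨hjn, (D.node_of_lt e hj0 h1).symm⟩

theorem kn_full (c i : ℕ) (hc : c < D.k) (hi : i < D.n) :
    D.kn (2 ^ (D.k * D.n) - 1) c i = true := by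
  unfold kn
  rw [Nat.testBit_two_pow_sub_one]
  rw [decide_eq_true_eq]
  calc c * D.n + i < c * D.n + D.n := by omega
    _ = (c + 1) * D.n := by ring
    _ ≤ D.k * D.n := Nat.mul_le_mul_right _ hc

/-- **Soundness.**  If the check succeeds, the whole table holds for any elements of any group
satisfying the relators. -/
theorem table_of_check (rels : List (List ℕ)) (log : List (ℕ × ℕ × ℕ))
    (hchk : D.check rels log = true)
    (hinv : ∀ c < D.k, e (D.inv c) = (e c)⁻¹)
    (hrel : ∀ r ∈ rels, (r.map e).prod = 1) (hrk : ∀ r ∈ rels, ∀ y ∈ r, y < D.k) :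
    ∀ c < D.k, ∀ i < D.n, D.tget c i < D.n ∧ e c * D.node e i = D.node e (D.tget c i) := by
  unfold check at hchk
  rw [Bool.and_eq_true, Bool.and_eq_true] at hchk
  obtain ⟨⟨htree, _⟩, h3⟩ := hchk
  cases hr : D.runLog rels (D.treeMask D.n) log with
  | none => rw [hr] at h3; exact absurd h3 (by simp)
  | some K =>
    rw [hr] at h3
    simp only at h3
    have hK : K = 2 ^ (D.k * D.n) - 1 := Nat.eq_of_beq_eq_true h3
    subst hK
    have hg := D.runLog_sound e rels hinv hrel hrk log _ _ (D.good_treeMask e htree) hr
    intro c hc i hi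
    exact hg c i hc hi (D.kn_full c i hc hi)

/-- every element of the subgroup generated by the columns is the element of a node -/
theorem closure_sub (hn : 0 < D.n) (hinvk : ∀ c < D.k, D.inv c < D.k)
    (hinv : ∀ c < D.k, e (D.inv c) = (e c)⁻¹)
    (htab : ∀ c < D.k, ∀ i < D.n, D.tget c i < D.n ∧
      e c * D.node e i = D.node e (D.tget c i))
    (g : Γ) (hg : g ∈ Subgroup.closure {g : Γ | ∃ c < D.k, g = e c}) :
    ∃ i < D.n, g = D.node e i := by
  let P : Γ → Prop := fun g => ∀ i < D.n, ∃ j < D.n, g * D.node e i = D.node e j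
  have hP1 : P 1 := fun i hi => ⟨i, hi, one_mul _⟩
  have hPmul : ∀ g h, P g → P h → P (g * h) := by
    intro g h hg hh i hi
    obtain ⟨j, hj, e1⟩ := hh i hi
    obtain ⟨l, hl, e2⟩ := hg j hj
    exact ⟨l, hl, by rw [mul_assoc, e1, e2]⟩
  let K : Subgroup Γ :=
    { carrier := {g | P g ∧ P g⁻¹}
      one_mem' := ⟨hP1, by rw [inv_one]; exact hP1⟩
      mul_mem' := fun {a b} ha hb => ⟨hPmul a b ha.1 hb.1, by
        rw [mul_inv_rev]; exact hPmul _ _ hb.2 ha.2⟩
      inv_mem' := fun {a} ha => ⟨ha.2, by rw [inv_inv]; exact ha.1⟩ }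
  have hK : Subgroup.closure {g : Γ | ∃ c < D.k, g = e c} ≤ K := by
    rw [Subgroup.closure_le]
    rintro g ⟨c, hc, rfl⟩
    refine ⟨fun i hi => ⟨_, (htab c hc i hi).1, (htab c hc i hi).2⟩, ?_⟩
    rw [← hinv c hc]
    exact fun i hi => ⟨_, (htab _ (hinvk c hc) i hi).1, (htab _ (hinvk c hc) i hi).2⟩
  obtain ⟨j, hj, e1⟩ := (hK hg).1 0 hn
  refine ⟨j, hj, ?_⟩
  rw [← e1, D.node_zero, mul_one]

end Group

section Model

variable {G : Type*} [Group G] (x : ℕ → G)

/-- in a model of the table the product of a word moves the nodes as the table says -/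
theorem prod_mul_node (htab : ∀ c < D.k, ∀ i < D.n, D.tget c i < D.n ∧
      x c * D.node x i = D.node x (D.tget c i))
    (w : List ℕ) (hw : ∀ y ∈ w, y < D.k) (i : ℕ) (hi : i < D.n) :
    D.walkT w i < D.n ∧ (w.map x).prod * D.node x i = D.node x (D.walkT w i) := by
  induction w with
  | nil => simp [walkT, hi]
  | cons y t ih =>
    obtain ⟨h1, h2⟩ := ih (fun z hz => hw z (List.mem_cons_of_mem _ hz))
    obtain ⟨h3, h4⟩ := htab y (hw y List.mem_cons_self) _ h1
    refine ⟨h3, ?_⟩
    rw [List.map_cons, List.prod_cons, mul_assoc, h2, h4]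
    rfl

/-- a word whose walk from the base node returns there is trivial in a model -/
theorem prod_eq_one_of_walk (htab : ∀ c < D.k, ∀ i < D.n, D.tget c i < D.n ∧
      x c * D.node x i = D.node x (D.tget c i)) (hn : 0 < D.n)
    (w : List ℕ) (hw : ∀ y ∈ w, y < D.k) (h : D.walkT w 0 = 0) : (w.map x).prod = 1 := by
  have := (D.prod_mul_node x htab w hw 0 hn).2
  rw [h, D.node_zero, mul_one] at this
  exact this

end Model

end Tab

end Cfsg.Agent.Helper29.DedCheck
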