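import Mathlib

set_option autoImplicit false

/-! Monomial permutations of `Fin n × ZMod m` and invariants pinning down the diagonal ones:
definitions. -/

namespace Cfsg.Agent.Helper29.MonoInv

/-- the points -/
abbrev Pt (n m : ℕ) : Type := Fin n × ZMod m

/-- the shift of the labels -/
def shift (n m : ℕ) : Equiv.Perm (Pt n m) :=
  Equiv.prodCongr (Equiv.refl _) (Equiv.addRight (1 : ZMod m))

/-- the data: a map to a set with an action, and a labelled relation -/
structure Dat (m : ℕ) (α : Type*) where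
  ι : ℕ → α
  R : ℕ → ℕ → ZMod m → Prop

/-- the invariants of a pair -/
def Inv {n m : ℕ} {α : Type*} {G : Type*} [Group G] [MulAction G α] (D : Dat m α)
    (p : Equiv.Perm (Pt n m)) (g : G) : Prop :=
  (∀ u, p (shift n m u) = shift n m (p u)) ∧
  (∀ u, D.ι (p u).1.val = g • D.ι u.1.val) ∧
  (∀ (x y : Fin n) (J l : ZMod m), D.R x.val y.val J →
    D.R (p (x, l)).1.val (p (y, l + J)).1.val ((p (y, l + J)).2 - (p (x, l)).2))

/-- the monomial permutation given by tables -/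
def mkPerm (n m : ℕ) [NeZero n] (P f Pi : ℕ → ℕ)
    (h : ∀ y < n, P y < n ∧ Pi y < n ∧ Pi (P y) = y ∧ P (Pi y) = y) : Equiv.Perm (Pt n m) where
  toFun u := (⟨P u.1 % n, Nat.mod_lt _ (NeZero.pos n)⟩, u.2 + (f u.1 : ZMod m))
  invFun u := (⟨Pi u.1 % n, Nat.mod_lt _ (NeZero.pos n)⟩, u.2 - (f (Pi u.1) : ZMod m))
  left_inv := by
    intro u
    obtain ⟨h1, h2, h3, h4⟩ := h u.1 u.1.2
    apply Prod.ext
    · apply Fin.ext
      show Pi (P u.1 % n) % n = u.1
      rw [Nat.mod_eq_of_lt h1, h3, Nat.mod_eq_of_lt u.1.2]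
    · show u.2 + (f u.1 : ZMod m) - (f (Pi (P u.1 % n)) : ZMod m) = u.2
      rw [Nat.mod_eq_of_lt h1, h3]
      ring
  right_inv := by
    intro u
    obtain ⟨h1, h2, h3, h4⟩ := h u.1 u.1.2
    apply Prod.ext
    · apply Fin.ext
      show P (Pi u.1 % n) % n = u.1
      rw [Nat.mod_eq_of_lt h2, h4, Nat.mod_eq_of_lt u.1.2]
    · show u.2 - (f (Pi u.1) : ZMod m) + (f (Pi u.1 % n) : ZMod m) = u.2
      rw [Nat.mod_eq_of_lt h2]
      ring

end Cfsg.Agent.Helper29.MonoInv
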