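import Mathlib
import Cfsg.Agent.Lib.Helper29.M24CentB
import Cfsg.Agent.Lib.Helper29.M24Dodecad2
import Cfsg.Agent.Lib.Helper29.M24Hexad

set_option autoImplicit false
open Cfsg

namespace Cfsg.Agent.Helper29.Dod3

open Cfsg.Agent.Helper27 Cfsg.Agent.Helper29 Cfsg.Agent.Helper29.M24
open Cfsg.Agent.Helper29.CentB (relPt relPt_spec hrelPt app_lt_of_repr fix_of_app)
open Cfsg.Agent.S0358 (idx)
open scoped Pointwise

def hgens9 : List (ℕ × ℕ) := [
  (232783362388564428185213343297439776, 218786239333510172129047350481713),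
  (715461294005770680473893921775552544, 60644199863665726460467),
  (424698032726113400716592269113985056, 2929634958561076309936648467),
  (303972014349329906305369256209090592, 50644987880056902783281),
  (944293816565412651426207388111472672, 248492131836116615698),
  (313063593285160742836699179059316768, 811536215374834449912113)]

set_option maxRecDepth 100000 in
def treeTab9 : List (List ℕ) := [
  [0, 0, 0, 0, 0, 0, 0, 1048605, 0, 0, 1056791, 524299, 0, 0, 565259, 1048599, 0, 1064983, 0, 1065001, 532491, 548875, 1597461, 1572895, 0, 0, 0, 0, 0, 0, 0, 0, 0, 0, 0, 0, 0, 0, 0, 0, 0, 0, 0, 0, 0, 0, 0, 0, 0, 0, 0, 0, 0, 0, 0, 0, 0, 0, 0, 0, 0, 0, 0, 0]]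

/-! ### Multiple transitivity of the stabilizer of a dodecad -/

/-- the stabilizer of a dodecad is `k`-transitive on it for `k ≤ 5` -/
theorem exists_map_dodecad_emb {k : ℕ} (hk : k ≤ 5) (d : Finset GolayPt) (hd : d ∈ dodecads)
    (x y : Fin k ↪ GolayPt) (hx : ∀ i, x i ∈ d) (hy : ∀ i, y i ∈ d) :
    ∃ g : MulAction.stabilizer M24 d, ∀ i, ((g : M24) : Equiv.Perm GolayPt) (x i) = y i := by
  let x' : Fin k ↪ {p : GolayPt // p ∈ d} := ⟨fun i => ⟨x i, hx i⟩, by
    intro i j hij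
    exact x.injective (congrArg Subtype.val hij)⟩
  let y' : Fin k ↪ {p : GolayPt // p ∈ d} := ⟨fun i => ⟨y i, hy i⟩, by
    intro i j hij
    exact y.injective (congrArg Subtype.val hij)⟩
  have hcard : 5 ≤ Nat.card {p : GolayPt // p ∈ d} := by
    rw [Nat.card_eq_fintype_card, Fintype.card_coe, hd.2]; norm_num
  obtain ⟨x5', hx5'⟩ := Fin.Embedding.restrictSurjective_of_le_natCard hk hcard x'
  obtain ⟨y5', hy5'⟩ := Fin.Embedding.restrictSurjective_of_le_natCard hk hcard y'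
  let x5 : Fin 5 ↪ GolayPt := x5'.trans (Function.Embedding.subtype _)
  let y5 : Fin 5 ↪ GolayPt := y5'.trans (Function.Embedding.subtype _)
  obtain ⟨g, hg, -⟩ := sharply_five d hd x5 y5 (fun i => (x5' i).2) (fun i => (y5' i).2)
  refine ⟨g, fun i => ?_⟩
  have h1 := hg (Fin.castLE hk i)
  have h2 : x5' (Fin.castLE hk i) = x' i :=
    congrArg (fun f : Fin k ↪ {p : GolayPt // p ∈ d} => f i) hx5'
  have h3 : y5' (Fin.castLE hk i) = y' i :=
    congrArg (fun f : Fin k ↪ {p : GolayPt // p ∈ d} => f i) hy5'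
  have h4 : x5 (Fin.castLE hk i) = x i := by
    show ((x5' (Fin.castLE hk i)) : GolayPt) = x i
    rw [h2]
    rfl
  have h5 : y5 (Fin.castLE hk i) = y i := by
    show ((y5' (Fin.castLE hk i)) : GolayPt) = y i
    rw [h3]
    rfl
  rw [← h4, ← h5]
  exact h1

/-- two distinct points as an embedding -/
def emb2 (a b : GolayPt) (h : a ≠ b) : Fin 2 ↪ GolayPt := ⟨![a, b], by
  intro i j hij
  fin_cases i <;> fin_cases j <;> simp_all⟩

/-- three distinct points as an embedding -/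
def emb3 (a b c : GolayPt) (hab : a ≠ b) (hac : a ≠ c) (hbc : b ≠ c) : Fin 3 ↪ GolayPt :=
  ⟨![a, b, c], by
    intro i j hij
    fin_cases i <;> fin_cases j <;> simp_all⟩

/-- the stabilizer of a dodecad, of a dodecad and a point, ..., inside the permutation group -/
def K0 (d : Finset GolayPt) : Subgroup (Equiv.Perm GolayPt) :=
  M24 ⊓ MulAction.stabilizer (Equiv.Perm GolayPt) d

def K1 (d : Finset GolayPt) (p : GolayPt) : Subgroup (Equiv.Perm GolayPt) :=
  K0 d ⊓ MulAction.stabilizer (Equiv.Perm GolayPt) p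

def K2 (d : Finset GolayPt) (p q : GolayPt) : Subgroup (Equiv.Perm GolayPt) :=
  K1 d p ⊓ MulAction.stabilizer (Equiv.Perm GolayPt) q

def K3 (d : Finset GolayPt) (p q r : GolayPt) : Subgroup (Equiv.Perm GolayPt) :=
  K2 d p q ⊓ MulAction.stabilizer (Equiv.Perm GolayPt) r

theorem mem_K0 (d : Finset GolayPt) (g : Equiv.Perm GolayPt) :
    g ∈ K0 d ↔ g ∈ M24 ∧ g • d = d := by
  unfold K0
  rw [Subgroup.mem_inf]
  exact and_congr Iff.rfl MulAction.mem_stabilizer_iff

theorem mem_K1 (d : Finset GolayPt) (p : GolayPt) (g : Equiv.Perm GolayPt) :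
    g ∈ K1 d p ↔ g ∈ K0 d ∧ g p = p := by
  unfold K1
  rw [Subgroup.mem_inf]
  exact and_congr Iff.rfl MulAction.mem_stabilizer_iff

theorem mem_K2 (d : Finset GolayPt) (p q : GolayPt) (g : Equiv.Perm GolayPt) :
    g ∈ K2 d p q ↔ g ∈ K1 d p ∧ g q = q := by
  unfold K2
  rw [Subgroup.mem_inf]
  exact and_congr Iff.rfl MulAction.mem_stabilizer_iff

theorem mem_K3 (d : Finset GolayPt) (p q r : GolayPt) (g : Equiv.Perm GolayPt) :
    g ∈ K3 d p q r ↔ g ∈ K2 d p q ∧ g r = r := by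
  unfold K3
  rw [Subgroup.mem_inf]
  exact and_congr Iff.rfl MulAction.mem_stabilizer_iff

theorem stab_to_K0 (d : Finset GolayPt) (g : MulAction.stabilizer M24 d) :
    ((g : M24) : Equiv.Perm GolayPt) ∈ K0 d :=
  (mem_K0 d _).2 ⟨(g : M24).2, MulAction.mem_stabilizer_iff.1 g.2⟩

theorem K0_maps (d : Finset GolayPt) (g : Equiv.Perm GolayPt) (hg : g ∈ K0 d) (a : GolayPt)
    (ha : a ∈ d) : g a ∈ d := by
  have h := ((mem_K0 d g).1 hg).2
  have : g • a ∈ g • d := Finset.smul_mem_smul_finset ha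
  rwa [h] at this

theorem card_K0 (d : Finset GolayPt) (hd : d ∈ dodecads) : Nat.card (K0 d) = 95040 := by
  rw [← (card_orbit_stab d hd).2]
  symm
  apply card_of_map_eq
  ext g
  rw [Subgroup.mem_map, mem_K0]
  constructor
  · rintro ⟨h, hh, rfl⟩
    exact ⟨h.2, MulAction.mem_stabilizer_iff.1 hh⟩
  · rintro ⟨h1, h2⟩
    exact ⟨⟨g, h1⟩, MulAction.mem_stabilizer_iff.2 h2, rfl⟩

theorem card_K3 (d : Finset GolayPt) (hd : d ∈ dodecads) (p q r : GolayPt) (hp : p ∈ d)
    (hq : q ∈ d) (hr : r ∈ d) (hpq : p ≠ q) (hpr : p ≠ r) (hqr : q ≠ r) :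
    Nat.card (K3 d p q r) = 72 := by
  have s1 := card_chain_step (K0 d) p d (fun g hg => K0_maps d g hg p hp) (by
    intro a ha
    obtain ⟨g, hg⟩ := stab_transitive d hd p a hp ha
    exact ⟨_, stab_to_K0 d g, hg⟩)
  have s2 := card_chain_step (K1 d p) q (d.erase p) (by
    intro g hg
    obtain ⟨h0, hfix⟩ := (mem_K1 d p g).1 hg
    rw [Finset.mem_erase]
    refine ⟨?_, K0_maps d g h0 q hq⟩
    intro h
    rw [← hfix] at h
    exact hpq (g.injective h).symm) (by
    intro a ha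
    obtain ⟨hap, had⟩ := Finset.mem_erase.1 ha
    obtain ⟨g, hg⟩ := exists_map_dodecad_emb (by norm_num : 2 ≤ 5) d hd (emb2 p q hpq)
      (emb2 p a (Ne.symm hap)) (by
        intro i; fin_cases i
        · exact hp
        · exact hq) (by
        intro i; fin_cases i
        · exact hp
        · exact had)
    exact ⟨_, (mem_K1 d p _).2 ⟨stab_to_K0 d g, hg 0⟩, hg 1⟩)
  have s3 := card_chain_step (K2 d p q) r ((d.erase p).erase q) (by
    intro g hg
    obtain ⟨h1, hfq⟩ := (mem_K2 d p q g).1 hg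
    obtain ⟨h0, hfp⟩ := (mem_K1 d p g).1 h1
    rw [Finset.mem_erase, Finset.mem_erase]
    refine ⟨?_, ?_, K0_maps d g h0 r hr⟩
    · intro h
      rw [← hfq] at h
      exact hqr (g.injective h).symm
    · intro h
      rw [← hfp] at h
      exact hpr (g.injective h).symm) (by
    intro a ha
    obtain ⟨haq, ha'⟩ := Finset.mem_erase.1 ha
    obtain ⟨hap, had⟩ := Finset.mem_erase.1 ha'
    obtain ⟨g, hg⟩ := exists_map_dodecad_emb (by norm_num : 3 ≤ 5) d hd (emb3 p q r hpq hpr hqr)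
      (emb3 p q a hpq (Ne.symm hap) (Ne.symm haq)) (by
        intro i; fin_cases i
        · exact hp
        · exact hq
        · exact hr) (by
        intro i; fin_cases i
        · exact hp
        · exact hq
        · exact had)
    exact ⟨_, (mem_K2 d p q _).2 ⟨(mem_K1 d p _).2 ⟨stab_to_K0 d g, hg 0⟩, hg 1⟩, hg 2⟩)
  have e1 : K0 d ⊓ MulAction.stabilizer (Equiv.Perm GolayPt) p = K1 d p := rfl
  have e2 : K1 d p ⊓ MulAction.stabilizer (Equiv.Perm GolayPt) q = K2 d p q := rfl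
  have e3 : K2 d p q ⊓ MulAction.stabilizer (Equiv.Perm GolayPt) r = K3 d p q r := rfl
  rw [e1] at s1
  rw [e2] at s2
  rw [e3] at s3
  have c1 : d.card = 12 := hd.2
  have c2 : (d.erase p).card = 11 := by rw [Finset.card_erase_of_mem hp, c1]
  have c3 : ((d.erase p).erase q).card = 10 := by
    rw [Finset.card_erase_of_mem (Finset.mem_erase.2 ⟨Ne.symm hpq, hq⟩), c2]
  rw [card_K0 d hd, c1] at s1
  rw [c2] at s2
  rw [c3] at s3
  omega

/-! ### Transitivity on the complementary dodecad -/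

theorem hcfg9 (P : ℕ) (w : List ℕ) (hr : Repr P w)
    (h : (relO P 340831 340831 && Nat.beq (app P 0) 0 && Nat.beq (app P 1) 1 &&
      Nat.beq (app P 2) 2) = true) : evalW w ∈ K3 (maskSet 340831) (dec 0) (dec 1) (dec 2) := by
  simp only [Bool.and_eq_true] at h
  obtain ⟨⟨⟨h0, h1⟩, h2⟩, h3⟩ := h
  rw [mem_K3, mem_K2, mem_K1, mem_K0]
  exact ⟨⟨⟨⟨evalW_mem_M24 w hr.1, relO_spec P w hr _ _ h0⟩, fix_of_app P w hr 0 (by norm_num) h1⟩,
    fix_of_app P w hr 1 (by norm_num) h2⟩, fix_of_app P w hr 2 (by norm_num) h3⟩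

set_option maxRecDepth 100000 in
theorem tree9_ok : gtreeOK (fun P => relO P 340831 340831 && Nat.beq (app P 0) 0 &&
    Nat.beq (app P 1) 1 && Nat.beq (app P 2) 2) relPt (fun x => (16436384 : ℕ).testBit x)
    (fun _ => 5) (fun i => i) hgens9 treeTab9 24 = true := by decide +kernel

theorem labs9_ok : ∀ i < 24, labOf treeTab9 i = 0 := by decide +kernel

theorem compl9 : ∀ x < 24, (340831 : ℕ).testBit x = false → (16436384 : ℕ).testBit x = true := by
  decide

theorem trans9_base (a b : GolayPt) (ha : a ∉ maskSet 340831) (hb : b ∉ maskSet 340831) :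
    ∃ g ∈ K3 (maskSet 340831) (dec 0) (dec 1) (dec 2), g a = b := by
  rw [mem_maskSet] at ha hb
  have ha' := compl9 _ (M24.idx_lt a) (by simpa using ha)
  have hb' := compl9 _ (M24.idx_lt b) (by simpa using hb)
  obtain ⟨g, hg, e⟩ := gtree_trans (K3 (maskSet 340831) (dec 0) (dec 1) (dec 2)) _ dec relPt
    (fun x => (16436384 : ℕ).testBit x) (fun i => i) 24 hcfg9
    (hrelPt (fun x => (16436384 : ℕ).testBit x)) (fun _ => 5) hgens9 treeTab9 tree9_ok
    (idx a) (idx b) (M24.idx_lt a) (M24.idx_lt b) ha' hb'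
    (by rw [labs9_ok _ (M24.idx_lt a), labs9_ok _ (M24.idx_lt b)])
  refine ⟨g, hg, ?_⟩
  have : g • dec (idx a) = dec (idx b) := e
  rwa [dec_idx, dec_idx] at this

theorem dod0_eq : dod0 = maskSet 340831 := by
  have : cw 1 = 340831 := by decide +kernel
  unfold dod0
  rw [this]

/-- a dodecad with three of its points is the image of the standard one -/
theorem exists_map3 (d : Finset GolayPt) (hd : d ∈ dodecads) (p q r : GolayPt) (hp : p ∈ d)
    (hq : q ∈ d) (hr : r ∈ d) (hpq : p ≠ q) (hpr : p ≠ r) (hqr : q ≠ r) :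
    ∃ g0 : Equiv.Perm GolayPt, g0 ∈ M24 ∧ g0 • maskSet 340831 = d ∧ g0 (dec 0) = p ∧
      g0 (dec 1) = q ∧ g0 (dec 2) = r := by
  obtain ⟨g1, hg1⟩ := dodecad_transitive dod0 d dod0_mem hd
  have hg1' : (g1 : Equiv.Perm GolayPt) • maskSet 340831 = d := by
    rw [← dod0_eq]
    exact hg1
  have hback : ∀ a ∈ d, (g1 : Equiv.Perm GolayPt)⁻¹ a ∈ maskSet 340831 := by
    intro a ha
    rw [← hg1'] at ha
    obtain ⟨b, hb, rfl⟩ := Finset.mem_smul_finset.1 ha
    rw [Equiv.Perm.smul_def, perm_inv_apply]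
    exact hb
  have hinj : ∀ a b : GolayPt, a ≠ b → (g1 : Equiv.Perm GolayPt)⁻¹ a ≠ (g1 : Equiv.Perm GolayPt)⁻¹ b :=
    fun a b hab h => hab ((g1 : Equiv.Perm GolayPt)⁻¹.injective h)
  have hd0 : maskSet 340831 ∈ dodecads := by
    rw [← dod0_eq]
    exact dod0_mem
  obtain ⟨h, hh⟩ := exists_map_dodecad_emb (by norm_num : 3 ≤ 5) _ hd0
    (emb3 (dec 0) (dec 1) (dec 2) (by decide) (by decide) (by decide))
    (emb3 _ _ _ (hinj p q hpq) (hinj p r hpr) (hinj q r hqr)) (by
      intro i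
      fin_cases i
      · show dec 0 ∈ maskSet 340831
        rw [mem_maskSet]; decide
      · show dec 1 ∈ maskSet 340831
        rw [mem_maskSet]; decide
      · show dec 2 ∈ maskSet 340831
        rw [mem_maskSet]; decide) (by
      intro i
      fin_cases i
      · exact hback p hp
      · exact hback q hq
      · exact hback r hr)
  have hh0 := (mem_K0 _ _).1 (stab_to_K0 _ h)
  refine ⟨(g1 : Equiv.Perm GolayPt) * ((h : M24) : Equiv.Perm GolayPt),
    Subgroup.mul_mem _ g1.2 hh0.1, ?_, ?_, ?_, ?_⟩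
  · rw [mul_smul, hh0.2, hg1']
  · have := hh 0
    rw [Equiv.Perm.mul_apply]
    show (g1 : Equiv.Perm GolayPt) (((h : M24) : Equiv.Perm GolayPt) (dec 0)) = p
    have e : ((h : M24) : Equiv.Perm GolayPt) (dec 0) = (g1 : Equiv.Perm GolayPt)⁻¹ p := this
    rw [e, perm_apply_inv]
  · have := hh 1
    rw [Equiv.Perm.mul_apply]
    have e : ((h : M24) : Equiv.Perm GolayPt) (dec 1) = (g1 : Equiv.Perm GolayPt)⁻¹ q := this
    rw [e, perm_apply_inv]
  · have := hh 2
    rw [Equiv.Perm.mul_apply]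
    have e : ((h : M24) : Equiv.Perm GolayPt) (dec 2) = (g1 : Equiv.Perm GolayPt)⁻¹ r := this
    rw [e, perm_apply_inv]

/-- the stabilizer of a dodecad and three of its points is transitive on the complement -/
theorem trans9 (d : Finset GolayPt) (hd : d ∈ dodecads) (p q r : GolayPt) (hp : p ∈ d)
    (hq : q ∈ d) (hr : r ∈ d) (hpq : p ≠ q) (hpr : p ≠ r) (hqr : q ≠ r) (x y : GolayPt)
    (hx : x ∉ d) (hy : y ∉ d) : ∃ g ∈ K3 d p q r, g x = y := by
  obtain ⟨g0, hg0, hg0d, e0, e1, e2⟩ := exists_map3 d hd p q r hp hq hr hpq hpr hqr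
  have hout : ∀ a ∉ d, g0⁻¹ a ∉ maskSet 340831 := by
    intro a ha h
    apply ha
    rw [← hg0d]
    have := Finset.smul_mem_smul_finset (a := g0) h
    rwa [Equiv.Perm.smul_def, perm_apply_inv] at this
  obtain ⟨k, hk, ek⟩ := trans9_base _ _ (hout x hx) (hout y hy)
  rw [mem_K3, mem_K2, mem_K1, mem_K0] at hk
  obtain ⟨⟨⟨⟨hkM, hkd⟩, hk0⟩, hk1⟩, hk2⟩ := hk
  have hgM : g0 * k * g0⁻¹ ∈ M24 :=
    Subgroup.mul_mem _ (Subgroup.mul_mem _ hg0 hkM) (Subgroup.inv_mem _ hg0)
  refine ⟨g0 * k * g0⁻¹, ?_, ?_⟩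
  · rw [mem_K3, mem_K2, mem_K1, mem_K0]
    refine ⟨⟨⟨⟨hgM, ?_⟩, ?_⟩, ?_⟩, ?_⟩
    · rw [mul_smul, mul_smul, ← hg0d, inv_smul_smul, hkd]
    · simp only [Equiv.Perm.mul_apply]
      rw [← e0, perm_inv_apply, hk0]
    · simp only [Equiv.Perm.mul_apply]
      rw [← e1, perm_inv_apply, hk1]
    · simp only [Equiv.Perm.mul_apply]
      rw [← e2, perm_inv_apply, hk2]
  · simp only [Equiv.Perm.mul_apply]
    rw [ek, perm_apply_inv]

end Cfsg.Agent.Helper29.Dod3
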