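import Mathlib
import Cfsg.Agent.Lib.Helper29.M24OctStab

set_option autoImplicit false
open Cfsg

/-! The stabilizer of a hyperoval in `grp 3 ≅ L₃(4)` is isomorphic to `A₆`: it is the
stabilizer of two points in the complement `A₈` of an octad stabilizer of `M₂₄`. -/

namespace Cfsg.Agent.Helper29.AltSixM21

open Cfsg.Agent.Helper27 Cfsg.Agent.Helper29 Cfsg.Agent.Helper29.M24
open Cfsg.Agent.S0358 (idx)
open scoped Pointwise

/-- the stabilizer of two points in an alternating group of degree eight -/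
theorem stab_two_iso {K : Type*} [Group K] {α : Type*} [Fintype α] [DecidableEq α]
    (e : K ≃* alternatingGroup α) (a b : α) (hab : a ≠ b) (hα : Fintype.card α = 8)
    (H : Subgroup K)
    (hH : ∀ c, c ∈ H ↔ ((e c : alternatingGroup α) : Equiv.Perm α) a = a ∧
      ((e c : alternatingGroup α) : Equiv.Perm α) b = b) :
    Nonempty (H ≃* alternatingGroup (Fin 6)) := by
  classical
  obtain ⟨s, hs⟩ : ∃ s : Finset α, s = (Finset.univ.erase a).erase b := ⟨_, rfl⟩
  have hcard : Fintype.card {x // x ∈ s} = 6 := by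
    rw [Fintype.card_coe, hs, Finset.card_erase_of_mem, Finset.card_erase_of_mem (Finset.mem_univ a),
      Finset.card_univ, hα]
    exact Finset.mem_erase.2 ⟨hab.symm, Finset.mem_univ b⟩
  have hmem : ∀ x : α, x ∈ s ↔ x ≠ a ∧ x ≠ b := by
    intro x
    rw [hs, Finset.mem_erase, Finset.mem_erase]
    exact ⟨fun h => ⟨h.2.1, h.1⟩, fun h => ⟨h.2, h.1, Finset.mem_univ x⟩⟩
  have hmap : H.map e.toMonoidHom = (alternatingGroup.ofSubtype s).range := by
    ext k
    rw [Subgroup.mem_map, alternatingGroup.mem_range_ofSubtype_iff]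
    constructor
    · rintro ⟨c, hc, rfl⟩
      obtain ⟨h1, h2⟩ := (hH c).1 hc
      intro x hx
      rw [Equiv.Perm.mem_support] at hx
      rw [hmem]
      constructor
      · rintro rfl; exact hx h1
      · rintro rfl; exact hx h2
    · intro hk
      refine ⟨e.symm k, (hH _).2 ?_, by simp⟩
      rw [MulEquiv.apply_symm_apply]
      constructor
      · by_contra h
        have := hk (Equiv.Perm.mem_support.2 h)
        exact ((hmem a).1 this).1 rfl
      · by_contra h
        have := hk (Equiv.Perm.mem_support.2 h)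
        exact ((hmem b).1 this).2 rfl
  have e1 : H ≃* H.map e.toMonoidHom := e.subgroupMap H
  have e2 : H.map e.toMonoidHom ≃* (alternatingGroup.ofSubtype s).range :=
    MulEquiv.subgroupCongr hmap
  have e3 : alternatingGroup {x // x ∈ s} ≃* (alternatingGroup.ofSubtype s).range :=
    MonoidHom.ofInjective alternatingGroup.ofSubtype_injective
  exact ⟨((e1.trans e2).trans e3.symm).trans
    (Equiv.altCongrHom (Fintype.equivFinOfCardEq hcard))⟩

/-- the octad through the hyperoval `{e₁, e₂, e₃, (1,1,1), (1,ω,ω²), (1,ω²,ω)}` and two of the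
three fixed points -/
def hoMask : ℕ := 5279

theorem hoMask_eq : cw 345 = hoMask := by decide +kernel

def ho : Finset GolayPt := maskSet hoMask

theorem ho_mem : ho ∈ octads := by
  unfold ho
  rw [← hoMask_eq]
  exact maskSet_cw_mem_octads 345 (by decide +kernel)

theorem bp0_notMem : bp 0 ∉ ho := by
  unfold ho bp
  rw [mem_maskSet, idx_dec_bpt 0 (by norm_num)]
  decide +kernel

theorem bp1_mem : bp 1 ∈ ho := by
  unfold ho bp
  rw [mem_maskSet, idx_dec_bpt 1 (by norm_num)]
  decide +kernel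

theorem bp2_mem : bp 2 ∈ ho := by
  unfold ho bp
  rw [mem_maskSet, idx_dec_bpt 2 (by norm_num)]
  decide +kernel

/-- the stabilizer of the hyperoval -/
def A6sub : Subgroup (Equiv.Perm GolayPt) :=
  octC ho (bp 0) ⊓ MulAction.stabilizer (Equiv.Perm GolayPt) (bp 1) ⊓
    MulAction.stabilizer (Equiv.Perm GolayPt) (bp 2)

theorem mem_A6sub (σ : Equiv.Perm GolayPt) :
    σ ∈ A6sub ↔ σ ∈ octC ho (bp 0) ∧ σ (bp 1) = bp 1 ∧ σ (bp 2) = bp 2 := by
  unfold A6sub
  rw [Subgroup.mem_inf, Subgroup.mem_inf, MulAction.mem_stabilizer_iff,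
    MulAction.mem_stabilizer_iff, and_assoc]
  rfl

theorem A6sub_le_octC : A6sub ≤ octC ho (bp 0) := fun σ hσ => ((mem_A6sub σ).1 hσ).1

theorem A6sub_le_grp3 : A6sub ≤ grp 3 := by
  intro σ hσ
  obtain ⟨h1, h2, h3⟩ := (mem_A6sub σ).1 hσ
  obtain ⟨h4, h5⟩ := (mem_octC _ _ σ).1 h1
  rw [mem_grp_iff 3 (by norm_num)]
  refine ⟨((mem_octK _ σ).1 h4).1, fun i' hi' => ?_⟩
  have : i' = 0 ∨ i' = 1 ∨ i' = 2 := by omega
  rcases this with rfl | rfl | rfl
  · exact h5
  · exact h2
  · exact h3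

theorem A6sub_iso : Nonempty (A6sub ≃* alternatingGroup (Fin 6)) := by
  have hc8 : Fintype.card {x // x ∈ ho} = 8 := by rw [Fintype.card_coe, ho_mem.2]
  obtain ⟨e, he⟩ : ∃ e : octC ho (bp 0) ≃* alternatingGroup {x // x ∈ ho},
      ∀ c, ((e c : alternatingGroup {x // x ∈ ho}) : Equiv.Perm {x // x ∈ ho}) =
        octResC ho (bp 0) c :=
    ⟨(MonoidHom.ofInjective (octResC_injective ho ho_mem (bp 0) bp0_notMem)).trans
      (MulEquiv.subgroupCongr (octResC_range ho ho_mem (bp 0) bp0_notMem)), fun c => rfl⟩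
  have hne : (⟨bp 1, bp1_mem⟩ : {x // x ∈ ho}) ≠ ⟨bp 2, bp2_mem⟩ := by
    intro h
    have := bp_injOn (i := 1) (j := 2) (by norm_num) (by norm_num) (congrArg Subtype.val h)
    omega
  obtain ⟨f⟩ := stab_two_iso e ⟨bp 1, bp1_mem⟩ ⟨bp 2, bp2_mem⟩ hne hc8
    (A6sub.subgroupOf (octC ho (bp 0))) (by
      intro c
      rw [Subgroup.mem_subgroupOf, mem_A6sub, he]
      constructor
      · rintro ⟨-, h2, h3⟩
        exact ⟨Subtype.ext h2, Subtype.ext h3⟩
      · rintro ⟨h2, h3⟩
        exact ⟨c.2, congrArg Subtype.val h2, congrArg Subtype.val h3⟩)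
  exact ⟨(Subgroup.subgroupOfEquivOfLe A6sub_le_octC).symm.trans f⟩

end Cfsg.Agent.Helper29.AltSixM21
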