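import Mathlib

set_option autoImplicit false

/-! Permutations of a hundred points given by packed tables (seven bits per entry): tools. -/

namespace Cfsg.Agent.Helper29.HSP

open scoped commutatorElement

/-- entry `y` of a table packed with `b` bits per entry -/
def tg (T b y : ℕ) : ℕ := Nat.land (Nat.shiftRight T (b * y)) (2 ^ b - 1)

/-- evaluate the first argument before continuing -/
def force {β : Type} (x : ℕ) (k : ℕ → β) : β :=
  Nat.rec (motive := fun _ => β) (k 0) (fun y _ => k (Nat.succ y)) x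

theorem force_eq {β : Type} (x : ℕ) (k : ℕ → β) : force x k = k x := by
  cases x <;> rfl

/-- bounded universal quantifier as a boolean -/
def allBelow (n : ℕ) (p : ℕ → Bool) : Bool :=
  Nat.rec (motive := fun _ => Bool) true (fun k ih => p k && ih) n

theorem allBelow_iff (n : ℕ) (p : ℕ → Bool) : allBelow n p = true ↔ ∀ k < n, p k = true := by
  induction n with
  | zero => exact ⟨fun _ k hk => absurd hk (Nat.not_lt_zero k), fun _ => rfl⟩
  | succ n ih =>
    have e : allBelow (n + 1) p = (p n && allBelow n p) := rfl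
    rw [e, Bool.and_eq_true, ih]
    constructor
    · rintro ⟨h1, h2⟩ k hk
      rcases Nat.lt_succ_iff_lt_or_eq.1 hk with h | h
      · exact h2 k h
      · rw [h]; exact h1
    · intro h
      exact ⟨h n (Nat.lt_succ_self n), fun k hk => h k (Nat.lt_succ_of_lt hk)⟩

/-- the permutations -/
abbrev Pm : Type := Equiv.Perm (Fin 100)

/-- a code and the code of the inverse -/
def validC (c ci : ℕ) : Bool :=
  allBelow 100 fun y => decide (tg c 7 y < 100) && decide (tg ci 7 y < 100) &&
    Nat.beq (tg ci 7 (tg c 7 y)) y && Nat.beq (tg c 7 (tg ci 7 y)) y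

theorem validC_spec {c ci : ℕ} (h : validC c ci = true) (y : ℕ) (hy : y < 100) :
    tg c 7 y < 100 ∧ tg ci 7 y < 100 ∧ tg ci 7 (tg c 7 y) = y ∧ tg c 7 (tg ci 7 y) = y := by
  unfold validC at h
  rw [allBelow_iff] at h
  have h1 := h y hy
  simp only [Bool.and_eq_true, decide_eq_true_eq] at h1
  exact ⟨h1.1.1.1, h1.1.1.2, Nat.eq_of_beq_eq_true h1.1.2, Nat.eq_of_beq_eq_true h1.2⟩

/-- the permutation with code `c` and inverse code `ci` (the identity if the codes are bad) -/
def cP (c ci : ℕ) : Pm :=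
  if h : validC c ci = true then
    { toFun := fun u => ⟨tg c 7 u.val % 100, Nat.mod_lt _ (by norm_num)⟩
      invFun := fun u => ⟨tg ci 7 u.val % 100, Nat.mod_lt _ (by norm_num)⟩
      left_inv := by
        intro u
        obtain ⟨h1, _, h3, _⟩ := validC_spec h u.val u.2
        apply Fin.ext
        show tg ci 7 (tg c 7 u.val % 100) % 100 = u.val
        rw [Nat.mod_eq_of_lt h1, h3, Nat.mod_eq_of_lt u.2]
      right_inv := by
        intro u
        obtain ⟨_, h2, _, h4⟩ := validC_spec h u.val u.2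
        apply Fin.ext
        show tg c 7 (tg ci 7 u.val % 100) % 100 = u.val
        rw [Nat.mod_eq_of_lt h2, h4, Nat.mod_eq_of_lt u.2] }
  else 1

/-- the permutation acts as the code says -/
def Acts (g : Pm) (c : ℕ) : Prop := ∀ u : Fin 100, (g u).val = tg c 7 u.val

theorem acts_cP {c ci : ℕ} (h : validC c ci = true) : Acts (cP c ci) c := by
  intro u
  unfold cP
  rw [dif_pos h]
  show tg c 7 u.val % 100 = tg c 7 u.val
  exact Nat.mod_eq_of_lt (validC_spec h u.val u.2).1

theorem acts_cP_inv {c ci : ℕ} (h : validC c ci = true) : Acts (cP c ci)⁻¹ ci := by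
  intro u
  unfold cP
  rw [dif_pos h]
  show tg ci 7 u.val % 100 = tg ci 7 u.val
  exact Nat.mod_eq_of_lt (validC_spec h u.val u.2).2.1

theorem acts_mul {g h : Pm} {a b c : ℕ} (hg : Acts g a) (hh : Acts h b)
    (hc : ∀ y < 100, tg c 7 y = tg a 7 (tg b 7 y)) : Acts (g * h) c := by
  intro u
  show (g (h u)).val = tg c 7 u.val
  rw [hg, hh, hc u.val u.2]

theorem eq_of_acts {g h : Pm} {c : ℕ} (hg : Acts g c) (hh : Acts h c) : g = h := by
  apply Equiv.ext
  intro u
  apply Fin.ext
  rw [hg, hh]

theorem ne_of_acts {g h : Pm} {a b : ℕ} (hg : Acts g a) (hh : Acts h b) (y : ℕ) (hy : y < 100)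
    (hne : tg a 7 y ≠ tg b 7 y) : g ≠ h := by
  intro e
  apply hne
  have h1 := hg ⟨y, hy⟩
  have h2 := hh ⟨y, hy⟩
  rw [e] at h1
  exact h1.symm.trans h2

/-- the identity code -/
def idC : ℕ := (List.range 100).foldr (fun y acc => Nat.lor (Nat.shiftLeft acc 7) y) 0

theorem idC_spec : ∀ y < 100, tg idC 7 y = y := by decide +kernel

theorem acts_one : Acts 1 idC := by
  intro u
  show u.val = tg idC 7 u.val
  rw [idC_spec u.val u.2]

theorem eq_one_of_acts {g : Pm} (hg : Acts g idC) : g = 1 := eq_of_acts hg acts_one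

/-- the action of a commutator -/
theorem acts_comm {a b : Pm} {A B Ai Bi C : ℕ} (ha : Acts a A) (hb : Acts b B)
    (hai : Acts a⁻¹ Ai) (hbi : Acts b⁻¹ Bi)
    (h : ∀ y < 100, tg C 7 y = tg A 7 (tg B 7 (tg Ai 7 (tg Bi 7 y)))) : Acts ⁅a, b⁆ C := by
  intro u
  show (a (b (a⁻¹ (b⁻¹ u)))).val = tg C 7 u.val
  rw [ha, hb, hai, hbi, h u.val u.2]

/-! ### Words over an alphabet of codes -/

/-- pointwise evaluation of a word over the alphabet `CL` -/
def appL (CL : List ℕ) : List ℕ → ℕ → ℕ
  | [], y => y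
  | l :: t, y => tg (CL.getD l 0) 7 (appL CL t y)

theorem appL_append (CL : List ℕ) (w v : List ℕ) (y : ℕ) :
    appL CL (w ++ v) y = appL CL w (appL CL v y) := by
  induction w with
  | nil => rfl
  | cons l t ih => simp only [List.cons_append, appL, ih]

theorem prod_apply (CL : List ℕ) (ge : ℕ → Pm)
    (hge : ∀ l < CL.length, Acts (ge l) (CL.getD l 0)) (w : List ℕ)
    (hw : ∀ l ∈ w, l < CL.length) (u : Fin 100) :
    ((w.map ge).prod u).val = appL CL w u.val := by
  induction w with
  | nil => rfl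
  | cons l t ih =>
    rw [List.map_cons, List.prod_cons]
    show (ge l ((t.map ge).prod u)).val = _
    rw [hge l (hw l List.mem_cons_self), ih (fun l' hl' => hw l' (List.mem_cons_of_mem _ hl'))]
    rfl

/-- the code `c` represents the word `w` -/
def reprL (CL : List ℕ) (c : ℕ) (w : List ℕ) : Bool :=
  (w.all fun l => decide (l < CL.length)) && allBelow 100 fun y => Nat.beq (tg c 7 y) (appL CL w y)

theorem letters_of_reprL {CL : List ℕ} {c : ℕ} {w : List ℕ} (h : reprL CL c w = true) :
    ∀ l ∈ w, l < CL.length := by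
  unfold reprL at h
  rw [Bool.and_eq_true, List.all_eq_true] at h
  intro l hl
  exact of_decide_eq_true (h.1 l hl)

theorem acts_of_reprL (CL : List ℕ) (ge : ℕ → Pm)
    (hge : ∀ l < CL.length, Acts (ge l) (CL.getD l 0)) {c : ℕ} {w : List ℕ}
    (h : reprL CL c w = true) : Acts ((w.map ge).prod) c := by
  intro u
  rw [prod_apply CL ge hge w (letters_of_reprL h) u]
  unfold reprL at h
  rw [Bool.and_eq_true, allBelow_iff] at h
  exact (Nat.eq_of_beq_eq_true (h.2 u.val u.2)).symm

/-- counting with a boolean predicate -/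
def cnt (p : ℕ → Bool) : ℕ → ℕ
  | 0 => 0
  | n + 1 => cnt p n + (p n).toNat

theorem card_filter_eq_cnt (p : ℕ → Bool) (n : ℕ) :
    (Finset.univ.filter (fun u : Fin n => p u.val = true)).card = cnt p n := by
  rw [Finset.card_filter, Fin.sum_univ_eq_sum_range (fun i => if p i = true then 1 else 0) n]
  induction n with
  | zero => rfl
  | succ n ih =>
    rw [Finset.sum_range_succ, ih, cnt]
    cases p n <;> rfl

end Cfsg.Agent.Helper29.HSP
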