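import Mathlib

/-!
# Permutations of `Fin n` (`n ≤ 512`) packed into natural numbers, nine bits per point
-/

set_option autoImplicit false

namespace Cfsg.Agent.Helper29.PP9

/-- The `i`-th entry. -/
def ent (P i : ℕ) : ℕ := (P >>> (9 * i)) &&& 511

theorem ent_lt (P i : ℕ) : ent P i < 512 := by
  unfold ent
  have : (P >>> (9 * i)) &&& 511 ≤ 511 := Nat.and_le_right
  omega

theorem testBit_127 (j : ℕ) : Nat.testBit 511 j = decide (j < 9) := by
  have : (511 : ℕ) = 2 ^ 9 - 1 := by norm_num
  rw [this, Nat.testBit_two_pow_sub_one]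

theorem testBit_ent (P i j : ℕ) : (ent P i).testBit j = (P.testBit (9 * i + j) && decide (j < 9)) := by
  unfold ent
  rw [Nat.testBit_and, Nat.testBit_shiftRight, testBit_127]

theorem ent_or (A B i : ℕ) : ent (A ||| B) i = ent A i ||| ent B i := by
  apply Nat.eq_of_testBit_eq
  intro j
  rw [Nat.testBit_or, testBit_ent, testBit_ent, testBit_ent, Nat.testBit_or]
  cases A.testBit (9 * i + j) <;> cases B.testBit (9 * i + j) <;> cases decide (j < 9) <;> rfl

theorem testBit_small {v : ℕ} (hv : v < 512) {j : ℕ} (hj : 9 ≤ j) : v.testBit j = false := by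
  apply Nat.testBit_lt_two_pow
  calc v < 2 ^ 9 := by norm_num; omega
    _ ≤ 2 ^ j := Nat.pow_le_pow_right (by norm_num) hj

theorem ent_shift {v : ℕ} (hv : v < 512) (k i : ℕ) :
    ent (v <<< (9 * k)) i = if i = k then v else 0 := by
  apply Nat.eq_of_testBit_eq
  intro j
  rw [testBit_ent, Nat.testBit_shiftLeft]
  by_cases hik : i = k
  · subst hik
    rw [if_pos rfl]
    by_cases hj : j < 9
    · simp [hj]
    · simp [hj, testBit_small hv (by omega : 9 ≤ j)]
  · rw [if_neg hik, Nat.zero_testBit]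
    by_cases hj : j < 9
    · by_cases hlt : i < k
      · have : ¬ (9 * i + j ≥ 9 * k) := by omega
        simp [this]
      · have h7 : 9 ≤ 9 * i + j - 9 * k := by omega
        simp [testBit_small hv h7]
    · simp [hj]

/-- The number with entries `f 0, …, f (k - 1)`. -/
def build (f : ℕ → ℕ) (k : ℕ) : ℕ := Nat.rec 0 (fun j acc => acc ||| (f j <<< (9 * j))) k

theorem build_zero (f : ℕ → ℕ) : build f 0 = 0 := rfl

theorem build_succ (f : ℕ → ℕ) (k : ℕ) : build f (k + 1) = build f k ||| (f k <<< (9 * k)) := rfl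

theorem ent_build {f : ℕ → ℕ} (hf : ∀ j, f j < 512) (k i : ℕ) :
    ent (build f k) i = if i < k then f i else 0 := by
  induction k with
  | zero => simp [build_zero, ent]
  | succ k ih =>
    rw [build_succ, ent_or, ih, ent_shift (hf k)]
    by_cases h1 : i < k
    · have h2 : i ≠ k := by omega
      have h3 : i < k + 1 := by omega
      simp [h1, h2, h3]
    · by_cases h2 : i = k
      · subst h2
        simp
      · have h3 : ¬ i < k + 1 := by omega
        simp [h1, h2, h3]

theorem build_lt {f : ℕ → ℕ} (hf : ∀ j, f j < 512) (k : ℕ) : build f k < 2 ^ (9 * k) := by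
  induction k with
  | zero => simp [build_zero]
  | succ k ih =>
    rw [build_succ]
    apply Nat.or_lt_two_pow
    · calc build f k < 2 ^ (9 * k) := ih
        _ ≤ 2 ^ (9 * (k + 1)) := Nat.pow_le_pow_right (by norm_num) (by omega)
    · rw [Nat.shiftLeft_eq]
      have h : 2 ^ (9 * (k + 1)) = 2 ^ 9 * 2 ^ (9 * k) := by rw [← pow_add]; congr 1; ring
      rw [h]
      have h2 : f k < 2 ^ 9 := by have := hf k; norm_num; omega
      exact Nat.mul_lt_mul_of_lt_of_le h2 le_rfl (by positivity)

/-- Composition of packed maps on `n` points. -/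
def pmul (n P Q : ℕ) : ℕ := build (fun j => ent P (ent Q j % n)) n

/-- The packed identity. -/
def pid (n : ℕ) : ℕ := build (fun j => j % 512) n

theorem ent_pmul (n P Q i : ℕ) (hi : i < n) : ent (pmul n P Q) i = ent P (ent Q i % n) := by
  unfold pmul
  rw [ent_build (fun j => ent_lt _ _), if_pos hi]

theorem ent_pid (n i : ℕ) (hn : n ≤ 512) (hi : i < n) : ent (pid n) i = i := by
  unfold pid
  rw [ent_build (fun j => Nat.mod_lt _ (by norm_num)), if_pos hi]
  exact Nat.mod_eq_of_lt (by omega)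

/-- Decoding. -/
def dec (n P : ℕ) : Function.End (Fin n) := fun i => ⟨ent P i.val % n, Nat.mod_lt _ i.pos⟩

theorem dec_pmul (n P Q : ℕ) : dec n (pmul n P Q) = dec n P * dec n Q := by
  funext i
  apply Fin.ext
  show ent (pmul n P Q) i.val % n = ent P (ent Q i.val % n) % n
  rw [ent_pmul n P Q i.val i.isLt]

theorem dec_pid (n : ℕ) (hn : n ≤ 512) : dec n (pid n) = 1 := by
  funext i
  apply Fin.ext
  show ent (pid n) i.val % n = i.val
  rw [ent_pid n i.val hn i.isLt, Nat.mod_eq_of_lt i.isLt]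

/-- Canonical codes. -/
def Canon (n P : ℕ) : Prop := P < 2 ^ (9 * n) ∧ ∀ i < n, ent P i < n

theorem canon_pmul (n P Q : ℕ) (hP : ∀ i < n, ent P i < n) (hn : 0 < n) : Canon n (pmul n P Q) := by
  refine ⟨build_lt (fun j => ent_lt _ _) n, ?_⟩
  intro i hi
  rw [ent_pmul n P Q i hi]
  exact hP _ (Nat.mod_lt _ hn)

theorem canon_pid (n : ℕ) (hn : n ≤ 512) : Canon n (pid n) := by
  refine ⟨build_lt (fun j => Nat.mod_lt _ (by norm_num)) n, ?_⟩
  intro i hi
  rw [ent_pid n i hn hi]
  exact hi

theorem dec_inj {n P Q : ℕ} (hP : Canon n P) (hQ : Canon n Q) (h : dec n P = dec n Q) : P = Q := by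
  have hent : ∀ i < n, ent P i = ent Q i := by
    intro i hi
    have := congrArg Fin.val (congrFun h ⟨i, hi⟩)
    have e : ent P i % n = ent Q i % n := this
    rw [Nat.mod_eq_of_lt (hP.2 i hi), Nat.mod_eq_of_lt (hQ.2 i hi)] at e
    exact e
  apply Nat.eq_of_testBit_eq
  intro m
  by_cases hm : m < 9 * n
  · have h1 : m = 9 * (m / 9) + m % 9 := by omega
    have h2 : m % 9 < 9 := Nat.mod_lt _ (by norm_num)
    have h3 : m / 9 < n := by omega
    have e1 := testBit_ent P (m / 9) (m % 9)
    have e2 := testBit_ent Q (m / 9) (m % 9)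
    rw [← h1] at e1 e2
    simp only [h2, decide_true, Bool.and_true] at e1 e2
    rw [← e1, ← e2, hent _ h3]
  · have hle : 2 ^ (9 * n) ≤ 2 ^ m := Nat.pow_le_pow_right (by norm_num) (by omega)
    rw [Nat.testBit_lt_two_pow (lt_of_lt_of_le hP.1 hle),
      Nat.testBit_lt_two_pow (lt_of_lt_of_le hQ.1 hle)]

end Cfsg.Agent.Helper29.PP9
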