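import Mathlib
import Cfsg.Agent.Lib.Helper29.PermPack9
import Cfsg.Agent.Lib.Helper29.HSPerm
import Cfsg.Agent.Lib.Helper29.M24Rigid
import Cfsg.Agent.Lib.Helper29.GolayCount
import Cfsg.Agent.Lib.Helper27.LeechHS

set_option autoImplicit false
open Cfsg

/-! Vectors of the rank-24 lattice packed into natural numbers (24 fields of nine bits, offset
256), and the action of words in the coordinate permutations, the sign changes on code words
and the non-monomial map, evaluated on the packed form. -/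

namespace Cfsg.Agent.Helper29.LV

open Cfsg.Agent.Helper27 Cfsg.Agent.Helper29
open Cfsg.Agent.Helper29.HSP (force force_eq allBelow allBelow_iff)
open Cfsg.Agent.Helper29.PP9 (ent build ent_build ent_lt)
open Cfsg.Agent.S0358 (idx)
open Cfsg.Agent.S0398 (permP epsP permP_mem epsP_mem)

/-- coordinate `i` of the packed vector `V` -/
def crd (V i : ℕ) : ℤ := (ent V i : ℤ) - 256

/-- the vector with code `V` -/
def toFun (V : ℕ) : GolayPt → ℤ := fun p => crd V (idx p)

/-- all coordinates are at most 64 in absolute value -/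
def okV (V : ℕ) : Bool := allBelow 24 fun i => decide (192 ≤ ent V i) && decide (ent V i ≤ 320)

theorem okV_spec {V : ℕ} (h : okV V = true) (i : ℕ) (hi : i < 24) :
    192 ≤ ent V i ∧ ent V i ≤ 320 := by
  unfold okV at h
  rw [allBelow_iff] at h
  have h1 := h i hi
  simp only [Bool.and_eq_true, decide_eq_true_eq] at h1
  exact h1

theorem okV_zero : okV 0 = false := by decide +kernel

/-- pack 24 fields -/
def packN (f : ℕ → ℕ) : ℕ := build (fun j => f j % 512) 24

theorem ent_packN (f : ℕ → ℕ) (i : ℕ) (hi : i < 24) : ent (packN f) i = f i % 512 := by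
  unfold packN
  rw [ent_build (fun j => Nat.mod_lt _ (by norm_num)) 24 i, if_pos hi]

/-! ### The three kinds of maps on packed vectors -/

def permV (c V : ℕ) : ℕ := packN fun j => ent V (M24.app c j)

def sgnV (m V : ℕ) : ℕ := packN fun j => if m.testBit j then 512 - ent V j else ent V j

def tmTab : List ℕ := [0, 1, 2, 23, 4, 13, 16, 22, 3, 5, 14, 17, 6, 7, 19, 21, 9, 10, 15, 20,
  8, 11, 12, 18]

def tcls (i : ℕ) : ℕ := tetTab.getD i 0 % 6

def tm (i r : ℕ) : ℕ := tmTab.getD (4 * tcls i + r) 0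

def tsumV (V i : ℕ) : ℕ := ent V (tm i 0) + ent V (tm i 1) + ent V (tm i 2) + ent V (tm i 3)

def xiV (V : ℕ) : ℕ :=
  packN fun j => if tcls j = 0 then tsumV V j / 2 - ent V j else ent V j + 512 - tsumV V j / 2

theorem toFun_permV (l : ℕ) (hl : l < 13) (V : ℕ) :
    toFun (permV (M24.gcode l) V) = fun p => toFun V (M24.gP l p) := by
  funext p
  unfold toFun crd permV
  rw [ent_packN _ _ (M24.idx_lt p), Nat.mod_eq_of_lt (ent_lt _ _), M24.idx_gP l hl p]

theorem mem_support_ofMask (m : ℕ) (p : GolayPt) :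
    p ∈ support₂ (ofMask m) ↔ m.testBit (idx p) = true := by
  unfold support₂ ofMask
  rw [Finset.mem_filter]
  constructor
  · rintro ⟨-, h⟩
    by_contra hb
    apply h
    rw [if_neg hb]
  · intro h
    refine ⟨Finset.mem_univ _, ?_⟩
    rw [if_pos h]
    decide

theorem toFun_sgnV (m V : ℕ) (h : okV V = true) :
    toFun (sgnV m V) = signChange (support₂ (ofMask m)) (toFun V) := by
  funext p
  obtain ⟨h1, h2⟩ := okV_spec h (idx p) (M24.idx_lt p)
  unfold signChange
  unfold toFun crd sgnV
  rw [ent_packN _ _ (M24.idx_lt p)]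
  by_cases hb : m.testBit (idx p) = true
  · rw [if_pos hb, if_pos ((mem_support_ofMask m p).2 hb)]
    have e : (512 - ent V (idx p)) % 512 = 512 - ent V (idx p) := Nat.mod_eq_of_lt (by omega)
    rw [e]
    omega
  · rw [if_neg hb, if_neg (fun hm => hb ((mem_support_ofMask m p).1 hm)),
      Nat.mod_eq_of_lt (ent_lt _ _)]

set_option maxRecDepth 100000 in
theorem tet_filter : ∀ k : Fin 6, Finset.univ.filter (fun i : GolayPt => tetIdx i = k) =
    {M24.dec (tmTab.getD (4 * k.val) 0), M24.dec (tmTab.getD (4 * k.val + 1) 0),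
      M24.dec (tmTab.getD (4 * k.val + 2) 0), M24.dec (tmTab.getD (4 * k.val + 3) 0)} := by
  decide +kernel

set_option maxRecDepth 100000 in
theorem tet_ne : ∀ k : Fin 6,
    M24.dec (tmTab.getD (4 * k.val) 0) ∉ ({M24.dec (tmTab.getD (4 * k.val + 1) 0),
      M24.dec (tmTab.getD (4 * k.val + 2) 0), M24.dec (tmTab.getD (4 * k.val + 3) 0)} :
        Finset GolayPt) ∧
    M24.dec (tmTab.getD (4 * k.val + 1) 0) ∉ ({M24.dec (tmTab.getD (4 * k.val + 2) 0),
      M24.dec (tmTab.getD (4 * k.val + 3) 0)} : Finset GolayPt) ∧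
    M24.dec (tmTab.getD (4 * k.val + 2) 0) ∉
      ({M24.dec (tmTab.getD (4 * k.val + 3) 0)} : Finset GolayPt) := by
  decide +kernel

theorem tsum_eq (x : GolayPt → ℤ) (k : Fin 6) :
    Cfsg.Agent.Helper27.tsum x k = x (M24.dec (tmTab.getD (4 * k.val) 0)) + x (M24.dec (tmTab.getD (4 * k.val + 1) 0))
      + x (M24.dec (tmTab.getD (4 * k.val + 2) 0)) + x (M24.dec (tmTab.getD (4 * k.val + 3) 0)) := by
  unfold Cfsg.Agent.Helper27.tsum
  rw [← Finset.sum_filter, tet_filter k]
  obtain ⟨h1, h2, h3⟩ := tet_ne k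
  rw [Finset.sum_insert h1, Finset.sum_insert h2, Finset.sum_insert h3, Finset.sum_singleton]
  ring

theorem tm_lt : ∀ i < 24, ∀ r < 4, tm i r < 24 := by decide +kernel

theorem toFun_dec (V j : ℕ) (hj : j < 24) : toFun V (M24.dec j) = crd V j := by
  unfold toFun
  rw [M24.idx_dec ⟨j, hj⟩]

theorem tsum_toFun (V : ℕ) (p : GolayPt) :
    Cfsg.Agent.Helper27.tsum (toFun V) (tetIdx p) = crd V (tm (idx p) 0) + crd V (tm (idx p) 1) + crd V (tm (idx p) 2)
      + crd V (tm (idx p) 3) := by
  have hp := M24.idx_lt p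
  rw [tsum_eq]
  have e : (tetIdx p).val = tcls (idx p) := rfl
  have t0 := toFun_dec V (tm (idx p) 0) (tm_lt _ hp 0 (by norm_num))
  have t1 := toFun_dec V (tm (idx p) 1) (tm_lt _ hp 1 (by norm_num))
  have t2 := toFun_dec V (tm (idx p) 2) (tm_lt _ hp 2 (by norm_num))
  have t3 := toFun_dec V (tm (idx p) 3) (tm_lt _ hp 3 (by norm_num))
  unfold tm at t0 t1 t2 t3
  rw [e]
  rw [add_zero] at t0
  rw [t0, t1, t2, t3]
  rfl

theorem toFun_xiV (V : ℕ) (h : okV V = true) : toFun (xiV V) = xi (toFun V) := by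
  funext p
  have hp := M24.idx_lt p
  obtain ⟨h1, h2⟩ := okV_spec h (idx p) hp
  obtain ⟨a1, a2⟩ := okV_spec h (tm (idx p) 0) (tm_lt _ hp 0 (by norm_num))
  obtain ⟨b1, b2⟩ := okV_spec h (tm (idx p) 1) (tm_lt _ hp 1 (by norm_num))
  obtain ⟨c1, c2⟩ := okV_spec h (tm (idx p) 2) (tm_lt _ hp 2 (by norm_num))
  obtain ⟨d1, d2⟩ := okV_spec h (tm (idx p) 3) (tm_lt _ hp 3 (by norm_num))
  have hx : xi (toFun V) p = sgnK (tetIdx p) * (toFun V p - Cfsg.Agent.Helper27.tsum (toFun V) (tetIdx p) / 2) := rfl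
  rw [hx, tsum_toFun]
  have hs : sgnK (tetIdx p) = if tcls (idx p) = 0 then -1 else 1 := by
    unfold sgnK
    have e : (tetIdx p = 0) ↔ tcls (idx p) = 0 := by
      rw [Fin.ext_iff]
      rfl
    by_cases h0 : tcls (idx p) = 0
    · rw [if_pos h0, if_pos (e.2 h0)]
    · rw [if_neg h0, if_neg (fun hh => h0 (e.1 hh))]
  rw [hs]
  show crd (xiV V) (idx p) = _
  unfold crd xiV
  rw [ent_packN _ _ hp]
  unfold tsumV
  show _ = _ * ((↑(ent V (idx p)) - 256 : ℤ) - _)
  by_cases h0 : tcls (idx p) = 0
  · rw [if_pos h0, if_pos h0]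
    have e : ((ent V (tm (idx p) 0) + ent V (tm (idx p) 1) + ent V (tm (idx p) 2)
        + ent V (tm (idx p) 3)) / 2 - ent V (idx p)) % 512 =
        (ent V (tm (idx p) 0) + ent V (tm (idx p) 1) + ent V (tm (idx p) 2)
        + ent V (tm (idx p) 3)) / 2 - ent V (idx p) := Nat.mod_eq_of_lt (by omega)
    rw [e]
    omega
  · rw [if_neg h0, if_neg h0]
    have e : (ent V (idx p) + 512 - (ent V (tm (idx p) 0) + ent V (tm (idx p) 1)
        + ent V (tm (idx p) 2) + ent V (tm (idx p) 3)) / 2) % 512 =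
        ent V (idx p) + 512 - (ent V (tm (idx p) 0) + ent V (tm (idx p) 1)
        + ent V (tm (idx p) 2) + ent V (tm (idx p) 3)) / 2 := Nat.mod_eq_of_lt (by omega)
    rw [e]
    omega

/-! ### Letters and words -/

/-- the packed action of the letter `l`: `0..12` the coordinate permutations, `13` the
non-monomial map, `14 + n` the sign change on the `n`-th code word -/
def opV (l V : ℕ) : ℕ :=
  if l < 13 then permV (M24.gcode l) V else if l = 13 then xiV V else sgnV (cw (l - 14)) V

def stepV (l V : ℕ) : ℕ := if okV V = true then opV l V else 0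

def appV : List ℕ → ℕ → ℕ
  | [], V => V
  | l :: t, V => force (appV t V) (stepV l)

/-- the action of the letter `l` on vectors -/
def actF (l : ℕ) (x : GolayPt → ℤ) : GolayPt → ℤ :=
  if l < 13 then (fun i => x (M24.gP l i)) else if l = 13 then xi x
  else signChange (support₂ (ofMask (cw (l - 14)))) x

def actFW : List ℕ → (GolayPt → ℤ) → (GolayPt → ℤ)
  | [], x => x
  | l :: t, x => actF l (actFW t x)

theorem opV_spec (l V : ℕ) (h : okV V = true) : toFun (opV l V) = actF l (toFun V) := by
  unfold opV actF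
  by_cases h1 : l < 13
  · rw [if_pos h1, if_pos h1]
    exact toFun_permV l h1 V
  · rw [if_neg h1, if_neg h1]
    by_cases h2 : l = 13
    · rw [if_pos h2, if_pos h2]
      exact toFun_xiV V h
    · rw [if_neg h2, if_neg h2]
      exact toFun_sgnV _ V h

theorem appV_cons (l : ℕ) (t : List ℕ) (V : ℕ) : appV (l :: t) V = stepV l (appV t V) := by
  show force (appV t V) (stepV l) = _
  rw [force_eq]

theorem appV_append (w v : List ℕ) (V : ℕ) : appV (w ++ v) V = appV w (appV v V) := by
  induction w with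
  | nil => rfl
  | cons l t ih => rw [List.cons_append, appV_cons, appV_cons, ih]

theorem appV_spec : ∀ (w : List ℕ) (V W : ℕ), appV w V = W → okV W = true →
    toFun W = actFW w (toFun V) := by
  intro w
  induction w with
  | nil =>
    intro V W h _
    rw [← h]
    rfl
  | cons l t ih =>
    intro V W h hW
    rw [appV_cons] at h
    unfold stepV at h
    by_cases hk : okV (appV t V) = true
    · rw [if_pos hk] at h
      rw [← h, opV_spec l _ hk, ih V _ rfl hk]
      rfl
    · rw [if_neg hk] at h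
      rw [← h, okV_zero] at hW
      exact Bool.noConfusion hW

/-! ### The corresponding lattice automorphisms -/

theorem gP_mem (l : ℕ) (hl : l < 13) : M24.gP l ∈ M24 :=
  M24.grp_le_M24 0 (Subgroup.subset_closure ⟨l, hl, Nat.zero_le _, rfl⟩)

/-- the lattice automorphism of the letter `l` -/
def letG (l : ℕ) : ↥Co0 :=
  if h : l < 13 then permG (M24.gP l) (gP_mem l h)
  else if l = 13 then ⟨xiP, xiP_mem⟩ else epsG (ofMask (cw (l - 14))) (cw_mem _)

def wordG (w : List ℕ) : ↥Co0 := (w.map letG).prod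

theorem wordG_nil : wordG [] = 1 := rfl

theorem wordG_cons (l : ℕ) (t : List ℕ) : wordG (l :: t) = letG l * wordG t := by
  simp [wordG]

theorem wordG_append (u v : List ℕ) : wordG (u ++ v) = wordG u * wordG v := by
  simp [wordG]

theorem letG_smul (l : ℕ) (v : leechLattice) :
    ((letG l • v : leechLattice) : GolayPt → ℤ) = actF l v.1 := by
  unfold letG actF
  by_cases h1 : l < 13
  · rw [dif_pos h1, if_pos h1]
    rfl
  · rw [dif_neg h1, if_neg h1]
    by_cases h2 : l = 13
    · rw [if_pos h2, if_pos h2]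
      rfl
    · rw [if_neg h2, if_neg h2]
      rfl

theorem wordG_smul (w : List ℕ) (v : leechLattice) :
    ((wordG w • v : leechLattice) : GolayPt → ℤ) = actFW w v.1 := by
  induction w with
  | nil => rw [wordG_nil, one_smul]; rfl
  | cons l t ih =>
    rw [wordG_cons, mul_smul, letG_smul, ih]
    rfl

/-- evaluating a word on a lattice vector through the packed form -/
theorem wordG_smul_code (w : List ℕ) (v : leechLattice) (V W : ℕ)
    (hv : (v : GolayPt → ℤ) = toFun V) (h : appV w V = W) (hW : okV W = true) :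
    ((wordG w • v : leechLattice) : GolayPt → ℤ) = toFun W := by
  rw [wordG_smul, hv, appV_spec w V W h hW]

/-! ### Codes are determined by the vector -/

theorem eq_of_toFun_eq {V W : ℕ} (hV : V < 2 ^ 216) (hW : W < 2 ^ 216)
    (h : toFun V = toFun W) : V = W := by
  have he : ∀ i < 24, ent V i = ent W i := by
    intro i hi
    have h1 := congrFun h (M24.dec i)
    rw [toFun_dec V i hi, toFun_dec W i hi] at h1
    unfold crd at h1
    omega
  apply Nat.eq_of_testBit_eq
  intro b
  by_cases hb : b < 216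
  · have e : b = 9 * (b / 9) + b % 9 := by omega
    have h1 := PP9.testBit_ent V (b / 9) (b % 9)
    have h2 := PP9.testBit_ent W (b / 9) (b % 9)
    rw [← e] at h1 h2
    have h3 : decide (b % 9 < 9) = true := by
      rw [decide_eq_true_eq]; omega
    rw [h3, Bool.and_true] at h1 h2
    rw [← h1, ← h2, he (b / 9) (by omega)]
  · have h1 : 2 ^ 216 ≤ 2 ^ b := Nat.pow_le_pow_right (by norm_num) (by omega)
    rw [Nat.testBit_lt_two_pow (lt_of_lt_of_le hV h1),
      Nat.testBit_lt_two_pow (lt_of_lt_of_le hW h1)]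

end Cfsg.Agent.Helper29.LV
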