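import Mathlib
import Cfsg.Agent.Lib.Helper29.HSPerm

set_option autoImplicit false

/-! Permutations of `Fin n` (for `n ≤ 512`) given by packed tables (nine bits per entry): tools.
A generalisation of `HSPerm`. -/

namespace Cfsg.Agent.Helper29.PN

open Cfsg.Agent.Helper29.HSP (tg force force_eq allBelow allBelow_iff cnt card_filter_eq_cnt)
open scoped commutatorElement

variable (n : ℕ)

/-- a code and the code of the inverse -/
def validC (c ci : ℕ) : Bool :=
  allBelow n fun y => decide (tg c 9 y < n) && decide (tg ci 9 y < n) &&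
    Nat.beq (tg ci 9 (tg c 9 y)) y && Nat.beq (tg c 9 (tg ci 9 y)) y

theorem validC_spec {c ci : ℕ} (h : validC n c ci = true) (y : ℕ) (hy : y < n) :
    tg c 9 y < n ∧ tg ci 9 y < n ∧ tg ci 9 (tg c 9 y) = y ∧ tg c 9 (tg ci 9 y) = y := by
  unfold validC at h
  rw [allBelow_iff] at h
  have h1 := h y hy
  simp only [Bool.and_eq_true, decide_eq_true_eq] at h1
  exact ⟨h1.1.1.1, h1.1.1.2, Nat.eq_of_beq_eq_true h1.1.2, Nat.eq_of_beq_eq_true h1.2⟩

/-- the permutation with code `c` and inverse code `ci` (the identity if the codes are bad) -/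
def cP [NeZero n] (c ci : ℕ) : Equiv.Perm (Fin n) :=
  if h : validC n c ci = true then
    { toFun := fun u => ⟨tg c 9 u.val % n, Nat.mod_lt _ (Nat.pos_of_neZero n)⟩
      invFun := fun u => ⟨tg ci 9 u.val % n, Nat.mod_lt _ (Nat.pos_of_neZero n)⟩
      left_inv := by
        intro u
        obtain ⟨h1, _, h3, _⟩ := validC_spec n h u.val u.2
        apply Fin.ext
        show tg ci 9 (tg c 9 u.val % n) % n = u.val
        rw [Nat.mod_eq_of_lt h1, h3, Nat.mod_eq_of_lt u.2]
      right_inv := by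
        intro u
        obtain ⟨_, h2, _, h4⟩ := validC_spec n h u.val u.2
        apply Fin.ext
        show tg c 9 (tg ci 9 u.val % n) % n = u.val
        rw [Nat.mod_eq_of_lt h2, h4, Nat.mod_eq_of_lt u.2] }
  else 1

/-- the permutation acts as the code says -/
def Acts (g : Equiv.Perm (Fin n)) (c : ℕ) : Prop := ∀ u : Fin n, (g u).val = tg c 9 u.val

variable {n}

theorem acts_cP [NeZero n] {c ci : ℕ} (h : validC n c ci = true) : Acts n (cP n c ci) c := by
  intro u
  unfold cP
  rw [dif_pos h]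
  show tg c 9 u.val % n = tg c 9 u.val
  exact Nat.mod_eq_of_lt (validC_spec n h u.val u.2).1

theorem acts_cP_inv [NeZero n] {c ci : ℕ} (h : validC n c ci = true) :
    Acts n (cP n c ci)⁻¹ ci := by
  intro u
  unfold cP
  rw [dif_pos h]
  show tg ci 9 u.val % n = tg ci 9 u.val
  exact Nat.mod_eq_of_lt (validC_spec n h u.val u.2).2.1

theorem acts_mul {g h : Equiv.Perm (Fin n)} {a b c : ℕ} (hg : Acts n g a) (hh : Acts n h b)
    (hc : ∀ y < n, tg c 9 y = tg a 9 (tg b 9 y)) : Acts n (g * h) c := by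
  intro u
  show (g (h u)).val = tg c 9 u.val
  rw [hg, hh, hc u.val u.2]

theorem eq_of_acts {g h : Equiv.Perm (Fin n)} {c : ℕ} (hg : Acts n g c) (hh : Acts n h c) :
    g = h := by
  apply Equiv.ext
  intro u
  apply Fin.ext
  rw [hg, hh]

theorem ne_of_acts {g h : Equiv.Perm (Fin n)} {a b : ℕ} (hg : Acts n g a) (hh : Acts n h b)
    (y : ℕ) (hy : y < n) (hne : tg a 9 y ≠ tg b 9 y) : g ≠ h := by
  intro e
  apply hne
  have h1 := hg ⟨y, hy⟩
  have h2 := hh ⟨y, hy⟩
  rw [e] at h1
  exact h1.symm.trans h2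

/-- a code of the identity -/
theorem acts_one {c : ℕ} (h : ∀ y < n, tg c 9 y = y) : Acts n 1 c := by
  intro u
  show u.val = tg c 9 u.val
  rw [h u.val u.2]

theorem eq_one_of_acts {g : Equiv.Perm (Fin n)} {c : ℕ} (hg : Acts n g c)
    (h : ∀ y < n, tg c 9 y = y) : g = 1 := eq_of_acts hg (acts_one h)

/-- the action of a commutator -/
theorem acts_comm {a b : Equiv.Perm (Fin n)} {A B Ai Bi C : ℕ} (ha : Acts n a A)
    (hb : Acts n b B) (hai : Acts n a⁻¹ Ai) (hbi : Acts n b⁻¹ Bi)
    (h : ∀ y < n, tg C 9 y = tg A 9 (tg B 9 (tg Ai 9 (tg Bi 9 y)))) : Acts n ⁅a, b⁆ C := by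
  intro u
  show (a (b (a⁻¹ (b⁻¹ u)))).val = tg C 9 u.val
  rw [ha, hb, hai, hbi, h u.val u.2]

/-! ### Words over an alphabet of codes -/

/-- pointwise evaluation of a word over the alphabet `CL` -/
def appL (CL : List ℕ) : List ℕ → ℕ → ℕ
  | [], y => y
  | l :: t, y => tg (CL.getD l 0) 9 (appL CL t y)

theorem appL_append (CL : List ℕ) (w v : List ℕ) (y : ℕ) :
    appL CL (w ++ v) y = appL CL w (appL CL v y) := by
  induction w with
  | nil => rfl
  | cons l t ih => simp only [List.cons_append, appL, ih]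

theorem prod_apply (CL : List ℕ) (ge : ℕ → Equiv.Perm (Fin n))
    (hge : ∀ l < CL.length, Acts n (ge l) (CL.getD l 0)) (w : List ℕ)
    (hw : ∀ l ∈ w, l < CL.length) (u : Fin n) :
    ((w.map ge).prod u).val = appL CL w u.val := by
  induction w with
  | nil => rfl
  | cons l t ih =>
    rw [List.map_cons, List.prod_cons]
    show (ge l ((t.map ge).prod u)).val = _
    rw [hge l (hw l List.mem_cons_self), ih (fun l' hl' => hw l' (List.mem_cons_of_mem _ hl'))]
    rfl

variable (n) in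
/-- the code `c` represents the word `w` -/
def reprL (CL : List ℕ) (c : ℕ) (w : List ℕ) : Bool :=
  (w.all fun l => decide (l < CL.length)) && allBelow n fun y => Nat.beq (tg c 9 y) (appL CL w y)

theorem letters_of_reprL {CL : List ℕ} {c : ℕ} {w : List ℕ} (h : reprL n CL c w = true) :
    ∀ l ∈ w, l < CL.length := by
  unfold reprL at h
  rw [Bool.and_eq_true, List.all_eq_true] at h
  intro l hl
  exact of_decide_eq_true (h.1 l hl)

theorem acts_of_reprL (CL : List ℕ) (ge : ℕ → Equiv.Perm (Fin n))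
    (hge : ∀ l < CL.length, Acts n (ge l) (CL.getD l 0)) {c : ℕ} {w : List ℕ}
    (h : reprL n CL c w = true) : Acts n ((w.map ge).prod) c := by
  intro u
  rw [prod_apply CL ge hge w (letters_of_reprL h) u]
  unfold reprL at h
  rw [Bool.and_eq_true, allBelow_iff] at h
  exact (Nat.eq_of_beq_eq_true (h.2 u.val u.2)).symm

/-! ### One step of a stabilizer chain -/

theorem card_step_le (H : Subgroup (Equiv.Perm (Fin n))) (p : Fin n) (O : Finset (Fin n))
    (h2 : ∀ q ∈ O, ∃ g ∈ H, g p = q) :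
    O.card * Nat.card ↥(H ⊓ MulAction.stabilizer (Equiv.Perm (Fin n)) p) ≤ Nat.card H := by
  have hsub : (O : Set (Fin n)) ⊆ MulAction.orbit H p := by
    intro q hq
    obtain ⟨g, hg, e⟩ := h2 q (Finset.mem_coe.1 hq)
    exact ⟨⟨g, hg⟩, e⟩
  have hprod : Nat.card (MulAction.orbit H p) * Nat.card (MulAction.stabilizer H p) =
      Nat.card H := by
    rw [← Nat.card_prod, Nat.card_congr (MulAction.orbitProdStabilizerEquivGroup H p)]
  have hmap : (MulAction.stabilizer H p).map H.subtype =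
      H ⊓ MulAction.stabilizer (Equiv.Perm (Fin n)) p := by
    ext g
    rw [Subgroup.mem_map, Subgroup.mem_inf]
    constructor
    · rintro ⟨h, hh, rfl⟩
      exact ⟨h.2, hh⟩
    · rintro ⟨hg1, hg2⟩
      exact ⟨⟨g, hg1⟩, hg2, rfl⟩
  have hO : O.card ≤ Nat.card (MulAction.orbit H p) := by
    rw [Nat.card_coe_set_eq, ← Set.ncard_coe_finset]
    exact Set.ncard_le_ncard hsub (Set.toFinite _)
  rw [← hmap, Subgroup.card_subtype, ← hprod]
  exact Nat.mul_le_mul_right _ hO

/-- the chain of pointwise stabilizers of the points `bp 0, bp 1, ...` in `G` -/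
def Hst (G : Subgroup (Equiv.Perm (Fin n))) (bp : ℕ → Fin n) : ℕ → Subgroup (Equiv.Perm (Fin n))
  | 0 => G
  | k + 1 => Hst G bp k ⊓ MulAction.stabilizer (Equiv.Perm (Fin n)) (bp k)

theorem mem_Hst (G : Subgroup (Equiv.Perm (Fin n))) (bp : ℕ → Fin n) (k : ℕ)
    (g : Equiv.Perm (Fin n)) : g ∈ Hst G bp k ↔ g ∈ G ∧ ∀ j < k, g (bp j) = bp j := by
  induction k with
  | zero => simp [Hst]
  | succ k ih =>
    rw [Hst, Subgroup.mem_inf, ih, MulAction.mem_stabilizer_iff]
    constructor
    · rintro ⟨⟨h1, h2⟩, h3⟩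
      refine ⟨h1, fun j hj => ?_⟩
      rcases Nat.lt_succ_iff_lt_or_eq.1 hj with h | h
      · exact h2 j h
      · rw [h]; exact h3
    · rintro ⟨h1, h2⟩
      exact ⟨⟨h1, fun j hj => h2 j (Nat.lt_succ_of_lt hj)⟩, h2 k (Nat.lt_succ_self k)⟩

end Cfsg.Agent.Helper29.PN
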