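import Mathlib
import Cfsg.Agent.Lib.Helper29.LVec
import Cfsg.Agent.Lib.Helper29.PermN
import Cfsg.Agent.Lib.Helper29.McLData
import Cfsg.Agent.Lib.Helper27.McLSimple

set_option autoImplicit false
set_option maxRecDepth 8000
open Cfsg

/-! The McLaughlin group on its 275 points: the joint stabiliser of the two standard vectors acts
faithfully on the 275 vectors of the configuration, and explicit lattice automorphisms give
explicit permutations. -/

namespace Cfsg.Agent.Helper29.McLM

open Cfsg.Agent.Helper27 Cfsg.Agent.Helper29 Cfsg.Agent.Helper29.LV Cfsg.Agent.Helper29.McLD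
open Cfsg.Agent.Helper29.HSP (tg force force_eq allBelow allBelow_iff cnt card_filter_eq_cnt)
open Cfsg.Agent.Helper29.PN
open Cfsg.Agent.S0358 (idx)
open MulAction

def pt (j : ℕ) : ℕ := PT.getD j 0
def mgen (k : ℕ) : List ℕ := MG.getD k []
def twf (j : ℕ) : List ℕ := TWF.getD j []
def pc (k : ℕ) : ℕ := PC.getD k 0

/-! ### The standard vectors -/

set_option maxRecDepth 100000 in
theorem U5_eq : (U5 : GolayPt → ℤ) = toFun U5c := by
  funext p
  show u5 p = _
  rw [u5_apply]
  revert p
  decide +kernel

set_option maxRecDepth 100000 in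
theorem V44_eq : (V44 : GolayPt → ℤ) = toFun V44c := by
  funext p
  show vec44 none (some 0) 1 p = _
  unfold vec44
  revert p
  decide +kernel

set_option maxRecDepth 100000 in
theorem V41_eq : (V41 : GolayPt → ℤ) = toFun (pt j0) := by
  funext p
  show vec44 none (some 1) 1 p = _
  unfold vec44
  revert p
  decide +kernel

/-! ### The computations -/

set_option maxRecDepth 100000 in
theorem base_chk : okV U5c = true ∧ okV V44c = true := by decide +kernel

set_option maxRecDepth 100000 in
theorem mgen_chk : ∀ k < 2, appV (mgen k) U5c = U5c ∧ appV (mgen k) V44c = V44c := by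
  decide +kernel

set_option maxRecDepth 100000 in
theorem twf_chk : ∀ j < 275, appV (twf j) U5c = U5c ∧ appV (twf j) V44c = V44c ∧
    appV (twf j) (pt j0) = pt j ∧ okV (pt j) = true := by
  decide +kernel

set_option maxRecDepth 100000 in
theorem pt_lt : ∀ j < 275, pt j < 2 ^ 216 := by decide +kernel

set_option maxRecDepth 100000 in
theorem pt_mono : ∀ j < 274, pt j < pt (j + 1) := by decide +kernel

set_option maxRecDepth 100000 in
theorem img_chk : ∀ k < 2, ∀ j < 275, appV (mgen k) (pt j) = pt (tg (pc k) 9 j) := by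
  decide +kernel

set_option maxRecDepth 100000 in
theorem pc_chk : ∀ k < 2, validC 275 (pc k) (pc (k + 2)) = true := by
  decide +kernel

/-! ### The group -/

/-- the joint stabiliser of the two standard vectors -/
def H : Subgroup ↥Co0 := stabilizer ↥Co0 U5 ⊓ stabilizer ↥Co0 V44

theorem mem_H (g : ↥Co0) : g ∈ H ↔ g • U5 = U5 ∧ g • V44 = V44 := by
  unfold H
  rw [Subgroup.mem_inf, mem_stabilizer_iff, mem_stabilizer_iff]

theorem wordG_mem_H (w : List ℕ) (h1 : appV w U5c = U5c) (h2 : appV w V44c = V44c) :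
    wordG w ∈ H := by
  rw [mem_H]
  constructor
  · apply Subtype.ext
    rw [wordG_smul_code w U5 U5c U5c U5_eq h1 base_chk.1, U5_eq]
  · apply Subtype.ext
    rw [wordG_smul_code w V44 V44c V44c V44_eq h2 base_chk.2, V44_eq]

/-! ### The points -/

def X (j : ℕ) : leechLattice := wordG (twf j) • V41

theorem X_eq (j : ℕ) (hj : j < 275) : (X j : GolayPt → ℤ) = toFun (pt j) := by
  obtain ⟨_, _, h3, h4⟩ := twf_chk j hj
  exact wordG_smul_code (twf j) V41 (pt j0) (pt j) V41_eq h3 h4

theorem pt_strict (a b : ℕ) (hab : a < b) (hb : b < 275) : pt a < pt b := by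
  induction b with
  | zero => omega
  | succ b ih =>
    rcases Nat.lt_succ_iff_lt_or_eq.1 hab with h | h
    · exact lt_trans (ih h (by omega)) (pt_mono b (by omega))
    · rw [h]; exact pt_mono b (by omega)

theorem X_inj (j j' : ℕ) (hj : j < 275) (hj' : j' < 275) (h : X j = X j') : j = j' := by
  have h1 : toFun (pt j) = toFun (pt j') := by rw [← X_eq j hj, ← X_eq j' hj', h]
  have h2 := eq_of_toFun_eq (pt_lt j hj) (pt_lt j' hj') h1
  by_contra hne
  rcases Nat.lt_or_gt_of_ne hne with hlt | hlt
  · exact absurd h2 (Nat.ne_of_lt (pt_strict j j' hlt hj'))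
  · exact absurd h2.symm (Nat.ne_of_lt (pt_strict j' j hlt hj))

/-- the 275 vectors of the configuration -/
def S : Set leechLattice := mclSet U5 V44

theorem mem_S (x : leechLattice) : x ∈ S ↔ sqNorm (x : GolayPt → ℤ) = 32 ∧
    sqNorm ((U5 - x : leechLattice) : GolayPt → ℤ) = 32 ∧
    dotInt (V44 : GolayPt → ℤ) (x : GolayPt → ℤ) = 16 := Iff.rfl

theorem H_smul_mem (h : ↥Co0) (hh : h ∈ H) (x : leechLattice) (hx : x ∈ S) : h • x ∈ S := by
  obtain ⟨h1, h2⟩ := (mem_H h).1 hh
  rw [mem_S] at hx ⊢
  obtain ⟨a, b, c⟩ := hx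
  refine ⟨?_, ?_, ?_⟩
  · rw [smul_norm]; exact a
  · have e : U5 - h • x = h • (U5 - x) := by rw [smul_sub', h1]
    rw [e, smul_norm]; exact b
  · have e := smul_dot h V44 x
    rw [h2] at e
    rw [e]; exact c

theorem V41_mem : V41 ∈ S := by
  have h := (mem_mclSet_iff (g := (1 : ↥Co0)) (one_smul _ U5) (one_smul _ V44) V41).2
  apply h
  have e : ((1 : ↥Co0) • V41 : leechLattice) = V41 := one_smul _ _
  rw [e]
  exact v41_mem_M275

theorem X_mem (j : ℕ) (hj : j < 275) : X j ∈ S := by
  obtain ⟨h1, h2, _, _⟩ := twf_chk j hj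
  exact H_smul_mem _ (wordG_mem_H _ h1 h2) V41 V41_mem

theorem S_ncard : S.ncard = 275 := by
  apply ncard_mclSet U5_norm V44_norm
  show sqNorm ((U5 : GolayPt → ℤ) - (V44 : GolayPt → ℤ)) = 32
  exact (dot_of_sub_norm U5_norm V44_norm).mpr dotInt_u5_v44

instance : Finite ↥S := by
  apply Set.finite_coe_iff.mpr
  apply Set.finite_of_ncard_ne_zero
  rw [S_ncard]; norm_num

theorem S_card : Nat.card ↥S = 275 := by
  rw [Nat.card_coe_set_eq, S_ncard]

/-- the enumeration of the 275 vectors -/
def Xf (j : Fin 275) : ↥S := ⟨X j.val, X_mem j.val j.2⟩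

theorem Xf_bij : Function.Bijective Xf := by
  apply Function.Injective.bijective_of_nat_card_le
  · intro j j' h
    apply Fin.ext
    exact X_inj j.val j'.val j.2 j'.2 (congrArg Subtype.val h)
  · rw [S_card, Nat.card_eq_fintype_card, Fintype.card_fin]

theorem exists_X (x : leechLattice) (hx : x ∈ S) : ∃ j < 275, X j = x := by
  obtain ⟨j, hj⟩ := Xf_bij.2 ⟨x, hx⟩
  exact ⟨j.val, j.2, congrArg Subtype.val hj⟩

/-! ### The action is faithful -/

theorem vec44_mem_S (j : GolayPt) (h1 : j ≠ none) (h2 : j ≠ some 0) :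
    (⟨vec44 none j 1, vec44_mem _ _ _ (Or.inl rfl)⟩ : leechLattice) ∈ S := by
  have h := (mem_mclSet_iff (g := (1 : ↥Co0)) (one_smul _ U5) (one_smul _ V44)
    (⟨vec44 none j 1, vec44_mem _ _ _ (Or.inl rfl)⟩ : leechLattice)).2
  apply h
  rw [one_smul]
  show vec44 none j 1 ∈ M275
  rw [M275_eq, Finset.mem_union, Finset.mem_union]
  left; left
  unfold MA
  rw [Finset.mem_image]
  exact ⟨j, by simp [h1, h2], rfl⟩

theorem eq_one_of_fix (g : ↥Co0) (hg : g ∈ H) (hfix : ∀ x ∈ S, g • x = x) : g = 1 := by
  obtain ⟨hg1, hg2⟩ := (mem_H g).1 hg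
  have key : ∀ v : leechLattice, g • v = v := by
    intro v
    have hdot : ∀ s : leechLattice, g • s = s →
        dotInt (s : GolayPt → ℤ) (((g • v : leechLattice) : GolayPt → ℤ) - (v : GolayPt → ℤ)) = 0 := by
      intro s hs
      rw [dotInt_sub_right']
      have e := smul_dot g s v
      rw [hs] at e
      rw [e, sub_self]
    set w : GolayPt → ℤ := ((g • v : leechLattice) : GolayPt → ℤ) - (v : GolayPt → ℤ) with hw
    have hA : ∀ j : GolayPt, j ≠ none → j ≠ some 0 → 4 * w none + 4 * w j = 0 := by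
      intro j h1 h2
      have e := hdot _ (hfix _ (vec44_mem_S j h1 h2))
      have e2 : dotInt (vec44 none j 1) w = 4 * w none + 4 * 1 * w j := dotInt_vec44_left _ _ _ _
      rw [mul_one] at e2
      rw [← e2]
      exact e
    have hV : 4 * w none + 4 * w (some 0) = 0 := by
      have e := hdot V44 hg2
      rw [← dotInt_v44]
      exact e
    have hU : ∑ i, w i + 4 * w none = 0 := by
      have e := hdot U5 hg1
      rw [← dotInt_u5]
      exact e
    have hj : ∀ j : GolayPt, j ≠ none → w j = - w none := by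
      intro j h1
      by_cases h2 : j = some 0
      · subst h2; linarith
      · linarith [hA j h1 h2]
    have hsum : ∑ i, w i = w none + ∑ x : ZMod 23, w (some x) := Fintype.sum_option _
    have hs2 : ∑ x : ZMod 23, w (some x) = -23 * w none := by
      rw [Finset.sum_congr rfl (fun x _ => hj (some x) (by simp))]
      rw [Finset.sum_const, Finset.card_univ, ZMod.card]
      simp
    have h0 : w none = 0 := by linarith
    have hall : ∀ j, w j = 0 := by
      intro j
      by_cases h : j = none
      · subst h; exact h0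
      · rw [hj j h, h0]; simp
    apply Subtype.ext
    funext j
    have e := hall j
    rw [hw, Pi.sub_apply] at e
    linarith
  apply Subtype.ext
  apply Equiv.ext
  intro v
  exact key v

end Cfsg.Agent.Helper29.McLM
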