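import Mathlib
import Cfsg.Agent.Lib.Helper29.McLModelA

set_option autoImplicit false
set_option maxRecDepth 8000
open Cfsg

/-! The McLaughlin group on its 275 points: the permutation representation, the explicit group
`G275` generated by two permutations, and the isomorphism with the two-vector stabiliser. -/

namespace Cfsg.Agent.Helper29.McLM

open Cfsg.Agent.Helper27 Cfsg.Agent.Helper29 Cfsg.Agent.Helper29.LV Cfsg.Agent.Helper29.McLD
open Cfsg.Agent.Helper29.HSP (tg force force_eq allBelow allBelow_iff cnt card_filter_eq_cnt)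
open Cfsg.Agent.Helper29.PN
open Cfsg.Agent.S0358 (idx)
open MulAction

instance neZero275 : NeZero 275 := ⟨by norm_num⟩

/-- the action of the stabiliser on the 275 vectors -/
def Sm : SubMulAction ↥H leechLattice where
  carrier := S
  smul_mem' := fun h x hx => H_smul_mem h.1 h.2 x hx

def Xm (j : Fin 275) : ↥Sm := ⟨X j.val, X_mem j.val j.2⟩

theorem Xm_bij : Function.Bijective Xm := by
  constructor
  · intro j j' h
    apply Fin.ext
    exact X_inj j.val j'.val j.2 j'.2 (congrArg Subtype.val h)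
  · intro x
    obtain ⟨j, hj, e⟩ := exists_X x.1 x.2
    exact ⟨⟨j, hj⟩, Subtype.ext e⟩

noncomputable def eS : Fin 275 ≃ ↥Sm := Equiv.ofBijective Xm Xm_bij

/-- the permutation representation on the 275 points -/
noncomputable def rho : ↥H →* Equiv.Perm (Fin 275) :=
  (eS.symm.permCongrHom).toMonoidHom.comp (MulAction.toPermHom ↥H ↥Sm)

theorem rho_spec (h : ↥H) (j : Fin 275) : X (rho h j).val = h.1 • X j.val := by
  have e1 : eS (rho h j) = h • eS j := by
    simp [rho, Equiv.permCongrHom, Equiv.permCongr_apply]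
  exact congrArg Subtype.val e1

theorem rho_injective : Function.Injective rho := by
  rw [injective_iff_map_eq_one]
  intro h hh
  have hfix : ∀ x ∈ S, h.1 • x = x := by
    intro x hx
    obtain ⟨j, hj, rfl⟩ := exists_X x hx
    have e := rho_spec h ⟨j, hj⟩
    rw [hh] at e
    exact e.symm
  exact Subtype.ext (eq_one_of_fix h.1 h.2 hfix)

/-! ### The generators -/

def mgenH (k : ℕ) (hk : k < 2) : ↥H :=
  ⟨wordG (mgen k), wordG_mem_H _ (mgen_chk k hk).1 (mgen_chk k hk).2⟩

/-- the two generating permutations -/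
def gp (k : ℕ) : Equiv.Perm (Fin 275) := cP 275 (pc k) (pc (k + 2))

theorem acts_gp (k : ℕ) (hk : k < 2) : Acts 275 (gp k) (pc k) := acts_cP (pc_chk k hk)

theorem acts_gp_inv (k : ℕ) (hk : k < 2) : Acts 275 (gp k)⁻¹ (pc (k + 2)) :=
  acts_cP_inv (pc_chk k hk)

theorem rho_mgen (k : ℕ) (hk : k < 2) : rho (mgenH k hk) = gp k := by
  apply Equiv.ext
  intro j
  apply Fin.ext
  apply X_inj _ _ (Fin.is_lt _) (Fin.is_lt _)
  rw [rho_spec]
  apply Subtype.ext
  have hv := acts_gp k hk j
  have h1 : tg (pc k) 9 j.val < 275 := by rw [← hv]; exact (gp k j).2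
  rw [hv, X_eq _ h1]
  exact wordG_smul_code (mgen k) (X j.val) (pt j.val) _ (X_eq j.val j.2)
    (img_chk k hk j.val j.2) (twf_chk _ h1).2.2.2

/-- the explicit group -/
def G275 : Subgroup (Equiv.Perm (Fin 275)) := Subgroup.closure {g | ∃ k < 2, gp k = g}

theorem gp_mem (k : ℕ) (hk : k < 2) : gp k ∈ G275 := Subgroup.subset_closure ⟨k, hk, rfl⟩

theorem G275_le : G275 ≤ rho.range := by
  unfold G275
  rw [Subgroup.closure_le]
  rintro g ⟨k, hk, rfl⟩
  exact ⟨mgenH k hk, rho_mgen k hk⟩

/-! ### Words -/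

/-- the letters: the two generators and their inverses -/
def ge (l : ℕ) : Equiv.Perm (Fin 275) := if l < 2 then gp l else (gp (l - 2))⁻¹

theorem PC_length : PC.length = 4 := by decide

theorem acts_ge : ∀ l < PC.length, Acts 275 (ge l) (PC.getD l 0) := by
  intro l hl
  rw [PC_length] at hl
  unfold ge
  by_cases h : l < 2
  · rw [if_pos h]
    exact acts_gp l h
  · rw [if_neg h]
    have e : PC.getD l 0 = pc (l - 2 + 2) := by
      unfold pc
      congr 1
      omega
    rw [e]
    exact acts_gp_inv (l - 2) (by omega)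

theorem ge_mem (l : ℕ) (hl : l < 4) : ge l ∈ G275 := by
  unfold ge
  by_cases h : l < 2
  · rw [if_pos h]; exact gp_mem l h
  · rw [if_neg h]; exact G275.inv_mem (gp_mem _ (by omega))

/-- the permutation of a word -/
def evalW (w : List ℕ) : Equiv.Perm (Fin 275) := (w.map ge).prod

theorem evalW_mem (w : List ℕ) (hw : ∀ l ∈ w, l < 4) : evalW w ∈ G275 := by
  apply Subgroup.list_prod_mem
  intro x hx
  obtain ⟨l, hl, rfl⟩ := List.mem_map.1 hx
  exact ge_mem l (hw l hl)

theorem evalW_apply (w : List ℕ) (hw : ∀ l ∈ w, l < 4) (u : Fin 275) :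
    (evalW w u).val = appL PC w u.val :=
  prod_apply PC ge acts_ge w (by rw [PC_length]; exact hw) u

theorem evalW_append (w v : List ℕ) : evalW (w ++ v) = evalW w * evalW v := by
  unfold evalW
  rw [List.map_append, List.prod_append]

theorem acts_evalW {c : ℕ} {w : List ℕ} (h : reprL 275 PC c w = true) : Acts 275 (evalW w) c :=
  acts_of_reprL PC ge acts_ge h

/-! ### The order -/

def bv (k : ℕ) : ℕ := basePts.getD k 0

def bpt (k : ℕ) : Fin 275 := ⟨bv k % 275, Nat.mod_lt _ (by norm_num)⟩

theorem bv_lt : ∀ k < 5, bv k < 275 := by decide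

theorem bpt_val (k : ℕ) (hk : k < 5) : (bpt k).val = bv k := Nat.mod_eq_of_lt (bv_lt k hk)

def TW (k q : ℕ) : List ℕ := (transWords.getD k []).getD q []

def OM (k : ℕ) : ℕ := orbMasks.getD k 0

set_option maxRecDepth 1000000 in
theorem tw_chk : ∀ k < 5, ∀ q < 275, Nat.testBit (OM k) q = true →
    (∀ l ∈ TW k q, l < 4) ∧ appL PC (TW k q) (bv k) = q ∧
      ∀ j < k, appL PC (TW k q) (bv j) = bv j := by decide +kernel

set_option maxRecDepth 100000 in
theorem om_chk : ∀ k < 5, cnt (fun q => Nat.testBit (OM k) q) 275 = sizes.getD k 0 := by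
  decide +kernel

/-- the orbit of the base point `k` -/
def Orb (k : ℕ) : Finset (Fin 275) :=
  Finset.univ.filter (fun q : Fin 275 => Nat.testBit (OM k) q.val = true)

theorem card_Orb (k : ℕ) (hk : k < 5) : (Orb k).card = sizes.getD k 0 := by
  unfold Orb
  rw [card_filter_eq_cnt (fun q => Nat.testBit (OM k) q) 275]
  exact om_chk k hk

theorem step (k : ℕ) (hk : k < 5) :
    sizes.getD k 0 * Nat.card ↥(Hst G275 bpt (k + 1)) ≤ Nat.card ↥(Hst G275 bpt k) := by
  rw [← card_Orb k hk]
  apply card_step_le (Hst G275 bpt k) (bpt k) (Orb k)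
  intro q hq
  have hq' : Nat.testBit (OM k) q.val = true := (Finset.mem_filter.1 hq).2
  obtain ⟨h1, h2, h3⟩ := tw_chk k hk q.val q.2 hq'
  refine ⟨evalW (TW k q.val), ?_, ?_⟩
  · rw [mem_Hst]
    refine ⟨evalW_mem _ h1, fun j hj => ?_⟩
    apply Fin.ext
    rw [evalW_apply _ h1, bpt_val j (by omega)]
    exact h3 j hj
  · apply Fin.ext
    rw [evalW_apply _ h1, bpt_val k hk]
    exact h2

theorem card_ge : 898128000 ≤ Nat.card ↥G275 := by
  have h0 := step 0 (by norm_num)
  have h1 := step 1 (by norm_num)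
  have h2 := step 2 (by norm_num)
  have h3 := step 3 (by norm_num)
  have h4 := step 4 (by norm_num)
  have h6 : 1 ≤ Nat.card ↥(Hst G275 bpt 5) := Nat.card_pos
  have e : Hst G275 bpt 0 = G275 := rfl
  rw [e] at h0
  simp only [sizes, List.getD_cons_zero, List.getD_cons_succ, Nat.reduceAdd, zero_add]
    at h0 h1 h2 h3 h4
  omega

/-! ### The isomorphism -/

theorem H_card : Nat.card ↥H = 898128000 := by
  have hw : sqNorm ((U5 - V44 : leechLattice) : GolayPt → ℤ) = 32 :=
    (dot_of_sub_norm U5_norm V44_norm).mpr dotInt_u5_v44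
  have hvw : dotInt (V44 : GolayPt → ℤ) ((U5 - V44 : leechLattice) : GolayPt → ℤ) = -8 := by
    show dotInt v44 (u5 - v44) = -8
    rw [dotInt_sub_right', dotInt_comm', dotInt_u5_v44, dotInt_self', v44_norm]
    norm_num
  have h := mcl_card (v := V44) (w := U5 - V44) V44_norm hw hvw
  have e : stabilizer ↥Co0 V44 ⊓ stabilizer ↥Co0 (U5 - V44) = H := by
    ext g
    unfold H
    simp only [Subgroup.mem_inf, mem_stabilizer_iff]
    constructor
    · rintro ⟨h1, h2⟩
      refine ⟨?_, h1⟩
      have e : U5 = V44 + (U5 - V44) := by abel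
      rw [e, smul_add', h1, h2]
    · rintro ⟨h1, h2⟩
      exact ⟨h2, by rw [smul_sub', h1, h2]⟩
  rw [← e]
  exact h

instance : Finite ↥H := Nat.finite_of_card_ne_zero (by rw [H_card]; norm_num)

theorem range_card : Nat.card ↥rho.range = 898128000 := by
  rw [← H_card]
  exact Nat.card_congr (MonoidHom.ofInjective rho_injective).toEquiv.symm

theorem G275_eq : G275 = rho.range := by
  have : Finite ↥rho.range := Nat.finite_of_card_ne_zero (by rw [range_card]; norm_num)
  apply Subgroup.eq_of_le_of_card_ge G275_le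
  rw [range_card]
  exact card_ge

theorem card_G275 : Nat.card ↥G275 = 898128000 := by rw [G275_eq, range_card]

instance finite_G275 : Finite ↥G275 := Nat.finite_of_card_ne_zero (by rw [card_G275]; norm_num)

theorem iso_H : Nonempty (↥G275 ≃* ↥H) := by
  rw [G275_eq]
  exact ⟨(MonoidHom.ofInjective rho_injective).symm⟩

/-! ### The group of the definitions -/

set_option maxRecDepth 100000 in
theorem leechV_eq : Spor.leechV = -U5 := by
  apply Subtype.ext
  funext p
  show Spor.vecV p = -(u5 p)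
  rw [u5_apply]
  unfold Spor.vecV
  revert p
  decide +kernel

set_option maxRecDepth 100000 in
theorem leechU_eq : Spor.leechU = V44 := by
  apply Subtype.ext
  funext p
  show Spor.vecU p = vec44 none (some 0) 1 p
  unfold Spor.vecU vec44
  revert p
  decide +kernel

theorem mem_McL_iff (g : ↥Co0) : (g : Equiv.Perm leechLattice) ∈ Spor.McL ↔ g ∈ H := by
  rw [mem_H]
  unfold Spor.McL Spor.Co3
  rw [Subgroup.mem_inf, Subgroup.mem_inf, mem_stabilizer_iff, mem_stabilizer_iff]
  constructor
  · rintro ⟨⟨_, h1⟩, h2⟩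
    have h1' : g • Spor.leechV = Spor.leechV := h1
    have h2' : g • Spor.leechU = Spor.leechU := h2
    rw [leechV_eq, smul_neg', neg_inj] at h1'
    rw [leechU_eq] at h2'
    exact ⟨h1', h2'⟩
  · rintro ⟨h1, h2⟩
    refine ⟨⟨g.2, ?_⟩, ?_⟩
    · show g • Spor.leechV = Spor.leechV
      rw [leechV_eq, smul_neg', h1]
    · show g • Spor.leechU = Spor.leechU
      rw [leechU_eq, h2]

/-- the group of the definitions is the joint stabiliser -/
noncomputable def equivH : ↥Spor.McL ≃* ↥H where
  toFun g := ⟨⟨g.1, by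
      have := g.2
      unfold Spor.McL Spor.Co3 at this
      exact this.1.1⟩, by
      rw [← mem_McL_iff]; exact g.2⟩
  invFun g := ⟨g.1.1, (mem_McL_iff g.1).mpr g.2⟩
  left_inv g := rfl
  right_inv g := rfl
  map_mul' g h := rfl

theorem iso_McL : Nonempty (↥G275 ≃* ↥Spor.McL) := by
  obtain ⟨e⟩ := iso_H
  exact ⟨e.trans equivH.symm⟩

end Cfsg.Agent.Helper29.McLM
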