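import Mathlib
import Cfsg.Agent.Lib.Helper29.PermN

set_option autoImplicit false

/-! Permutations of `Fin n` (for `n ≤ 4096`) given by packed tables (twelve bits per entry): tools,
and elements given by straight-line programs. -/

namespace Cfsg.Agent.Helper29.PW

open Cfsg.Agent.Helper29.HSP (tg force force_eq allBelow allBelow_iff cnt card_filter_eq_cnt)
open scoped commutatorElement

variable (n : ℕ)

/-- a code and the code of the inverse -/
def validC (c ci : ℕ) : Bool :=
  allBelow n fun y => decide (tg c 12 y < n) && decide (tg ci 12 y < n) &&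
    Nat.beq (tg ci 12 (tg c 12 y)) y && Nat.beq (tg c 12 (tg ci 12 y)) y

theorem validC_spec {c ci : ℕ} (h : validC n c ci = true) (y : ℕ) (hy : y < n) :
    tg c 12 y < n ∧ tg ci 12 y < n ∧ tg ci 12 (tg c 12 y) = y ∧ tg c 12 (tg ci 12 y) = y := by
  unfold validC at h
  rw [allBelow_iff] at h
  have h1 := h y hy
  simp only [Bool.and_eq_true, decide_eq_true_eq] at h1
  exact ⟨h1.1.1.1, h1.1.1.2, Nat.eq_of_beq_eq_true h1.1.2, Nat.eq_of_beq_eq_true h1.2⟩

/-- the permutation with code `c` and inverse code `ci` (the identity if the codes are bad) -/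
def cP [NeZero n] (c ci : ℕ) : Equiv.Perm (Fin n) :=
  if h : validC n c ci = true then
    { toFun := fun u => ⟨tg c 12 u.val % n, Nat.mod_lt _ (Nat.pos_of_neZero n)⟩
      invFun := fun u => ⟨tg ci 12 u.val % n, Nat.mod_lt _ (Nat.pos_of_neZero n)⟩
      left_inv := by
        intro u
        obtain ⟨h1, _, h3, _⟩ := validC_spec n h u.val u.2
        apply Fin.ext
        show tg ci 12 (tg c 12 u.val % n) % n = u.val
        rw [Nat.mod_eq_of_lt h1, h3, Nat.mod_eq_of_lt u.2]
      right_inv := by
        intro u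
        obtain ⟨_, h2, _, h4⟩ := validC_spec n h u.val u.2
        apply Fin.ext
        show tg c 12 (tg ci 12 u.val % n) % n = u.val
        rw [Nat.mod_eq_of_lt h2, h4, Nat.mod_eq_of_lt u.2] }
  else 1

/-- the permutation acts as the code says -/
def Acts (g : Equiv.Perm (Fin n)) (c : ℕ) : Prop := ∀ u : Fin n, (g u).val = tg c 12 u.val

variable {n}

theorem acts_cP [NeZero n] {c ci : ℕ} (h : validC n c ci = true) : Acts n (cP n c ci) c := by
  intro u
  unfold cP
  rw [dif_pos h]
  show tg c 12 u.val % n = tg c 12 u.val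
  exact Nat.mod_eq_of_lt (validC_spec n h u.val u.2).1

theorem acts_cP_inv [NeZero n] {c ci : ℕ} (h : validC n c ci = true) :
    Acts n (cP n c ci)⁻¹ ci := by
  intro u
  unfold cP
  rw [dif_pos h]
  show tg ci 12 u.val % n = tg ci 12 u.val
  exact Nat.mod_eq_of_lt (validC_spec n h u.val u.2).2.1

theorem acts_mul {g h : Equiv.Perm (Fin n)} {a b c : ℕ} (hg : Acts n g a) (hh : Acts n h b)
    (hc : ∀ y < n, tg c 12 y = tg a 12 (tg b 12 y)) : Acts n (g * h) c := by
  intro u
  show (g (h u)).val = tg c 12 u.val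
  rw [hg, hh, hc u.val u.2]

theorem eq_of_acts {g h : Equiv.Perm (Fin n)} {c : ℕ} (hg : Acts n g c) (hh : Acts n h c) :
    g = h := by
  apply Equiv.ext
  intro u
  apply Fin.ext
  rw [hg, hh]

theorem ne_of_acts {g h : Equiv.Perm (Fin n)} {a b : ℕ} (hg : Acts n g a) (hh : Acts n h b)
    (y : ℕ) (hy : y < n) (hne : tg a 12 y ≠ tg b 12 y) : g ≠ h := by
  intro e
  apply hne
  have h1 := hg ⟨y, hy⟩
  have h2 := hh ⟨y, hy⟩
  rw [e] at h1
  exact h1.symm.trans h2

/-- a code of the identity -/
theorem acts_one {c : ℕ} (h : ∀ y < n, tg c 12 y = y) : Acts n 1 c := by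
  intro u
  show u.val = tg c 12 u.val
  rw [h u.val u.2]

theorem eq_one_of_acts {g : Equiv.Perm (Fin n)} {c : ℕ} (hg : Acts n g c)
    (h : ∀ y < n, tg c 12 y = y) : g = 1 := eq_of_acts hg (acts_one h)

/-- the action of a commutator -/
theorem acts_comm {a b : Equiv.Perm (Fin n)} {A B Ai Bi C : ℕ} (ha : Acts n a A)
    (hb : Acts n b B) (hai : Acts n a⁻¹ Ai) (hbi : Acts n b⁻¹ Bi)
    (h : ∀ y < n, tg C 12 y = tg A 12 (tg B 12 (tg Ai 12 (tg Bi 12 y)))) : Acts n ⁅a, b⁆ C := by
  intro u
  show (a (b (a⁻¹ (b⁻¹ u)))).val = tg C 12 u.val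
  rw [ha, hb, hai, hbi, h u.val u.2]

/-! ### Words over an alphabet of codes -/

/-- pointwise evaluation of a word over the alphabet `CL` -/
def appL (CL : List ℕ) : List ℕ → ℕ → ℕ
  | [], y => y
  | l :: t, y => tg (CL.getD l 0) 12 (appL CL t y)

theorem appL_append (CL : List ℕ) (w v : List ℕ) (y : ℕ) :
    appL CL (w ++ v) y = appL CL w (appL CL v y) := by
  induction w with
  | nil => rfl
  | cons l t ih => simp only [List.cons_append, appL, ih]

theorem prod_apply (CL : List ℕ) (ge : ℕ → Equiv.Perm (Fin n))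
    (hge : ∀ l < CL.length, Acts n (ge l) (CL.getD l 0)) (w : List ℕ)
    (hw : ∀ l ∈ w, l < CL.length) (u : Fin n) :
    ((w.map ge).prod u).val = appL CL w u.val := by
  induction w with
  | nil => rfl
  | cons l t ih =>
    rw [List.map_cons, List.prod_cons]
    show (ge l ((t.map ge).prod u)).val = _
    rw [hge l (hw l List.mem_cons_self), ih (fun l' hl' => hw l' (List.mem_cons_of_mem _ hl'))]
    rfl

variable (n) in
/-- the code `c` represents the word `w` -/
def reprL (CL : List ℕ) (c : ℕ) (w : List ℕ) : Bool :=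
  (w.all fun l => decide (l < CL.length)) && allBelow n fun y => Nat.beq (tg c 12 y) (appL CL w y)

theorem letters_of_reprL {CL : List ℕ} {c : ℕ} {w : List ℕ} (h : reprL n CL c w = true) :
    ∀ l ∈ w, l < CL.length := by
  unfold reprL at h
  rw [Bool.and_eq_true, List.all_eq_true] at h
  intro l hl
  exact of_decide_eq_true (h.1 l hl)

theorem acts_of_reprL (CL : List ℕ) (ge : ℕ → Equiv.Perm (Fin n))
    (hge : ∀ l < CL.length, Acts n (ge l) (CL.getD l 0)) {c : ℕ} {w : List ℕ}
    (h : reprL n CL c w = true) : Acts n ((w.map ge).prod) c := by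
  intro u
  rw [prod_apply CL ge hge w (letters_of_reprL h) u]
  unfold reprL at h
  rw [Bool.and_eq_true, allBelow_iff] at h
  exact (Nat.eq_of_beq_eq_true (h.2 u.val u.2)).symm

/-- the same with the hypothesis on the letters of the word only -/
theorem prod_apply_of (CL : List ℕ) (ge : ℕ → Equiv.Perm (Fin n)) (w : List ℕ)
    (hw : ∀ l ∈ w, Acts n (ge l) (CL.getD l 0)) (u : Fin n) :
    ((w.map ge).prod u).val = appL CL w u.val := by
  induction w with
  | nil => rfl
  | cons l t ih =>
    rw [List.map_cons, List.prod_cons]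
    show (ge l ((t.map ge).prod u)).val = _
    rw [hw l List.mem_cons_self, ih (fun l' hl' => hw l' (List.mem_cons_of_mem _ hl'))]
    rfl

/-! ### Packed words -/

/-- a word packed with `b` bits per letter: the letters plus one, the first letter lowest, ended
by a zero -/
def unpackW (b : ℕ) : ℕ → ℕ → List ℕ
  | 0, _ => []
  | f + 1, w => cond (Nat.beq (Nat.land w (2 ^ b - 1)) 0) []
      ((Nat.land w (2 ^ b - 1) - 1) :: unpackW b f (Nat.shiftRight w b))

/-! ### Elements given by a straight-line program -/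

section SLP

/-- the elements of the program after `j` steps: the letter `k0 + j` is defined as the product of
the word `WL j` in the earlier letters -/
def elF {n : ℕ} (WL : List (List ℕ)) (ge0 : ℕ → Equiv.Perm (Fin n)) (k0 : ℕ) :
    ℕ → ℕ → Equiv.Perm (Fin n)
  | 0 => ge0
  | j + 1 => fun l => if l = k0 + j then ((WL.getD j []).map (elF WL ge0 k0 j)).prod
      else elF WL ge0 k0 j l

theorem elF_stable {n : ℕ} (WL : List (List ℕ)) (ge0 : ℕ → Equiv.Perm (Fin n)) (k0 : ℕ)
    (j k l : ℕ) (hl : l < k0 + j) : elF WL ge0 k0 (j + k) l = elF WL ge0 k0 j l := by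
  induction k with
  | zero => rfl
  | succ k ih =>
    rw [← Nat.add_assoc]
    show (if l = k0 + (j + k) then _ else elF WL ge0 k0 (j + k) l) = _
    rw [if_neg (by omega), ih]

/-- the check of the step `j` of the program -/
def slpOK (n : ℕ) (CL : List ℕ) (WL : List (List ℕ)) (k0 j : ℕ) : Bool :=
  ((WL.getD j []).all fun l => Nat.blt l (k0 + j)) &&
    allBelow n fun y => Nat.beq (tg (CL.getD (k0 + j) 0) 12 y) (appL CL (WL.getD j []) y)

theorem elF_spec {n : ℕ} {CL : List ℕ} {WL : List (List ℕ)} {ge0 : ℕ → Equiv.Perm (Fin n)}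
    {k0 : ℕ} (G : Subgroup (Equiv.Perm (Fin n)))
    (h0 : ∀ l < k0, Acts n (ge0 l) (CL.getD l 0) ∧ ge0 l ∈ G) (m : ℕ)
    (hchk : ∀ j < m, slpOK n CL WL k0 j = true) :
    ∀ j ≤ m, ∀ l < k0 + j, Acts n (elF WL ge0 k0 j l) (CL.getD l 0) ∧ elF WL ge0 k0 j l ∈ G := by
  intro j
  induction j with
  | zero =>
    intro _ l hl
    exact h0 l (by omega)
  | succ j ih =>
    intro hj l hl
    have ih' := ih (by omega)
    show Acts n (if l = k0 + j then _ else elF WL ge0 k0 j l) _ ∧
      (if l = k0 + j then _ else elF WL ge0 k0 j l) ∈ G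
    by_cases h : l = k0 + j
    · rw [if_pos h]
      have hc := hchk j (by omega)
      unfold slpOK at hc
      rw [Bool.and_eq_true, List.all_eq_true, allBelow_iff] at hc
      have hlt : ∀ l' ∈ WL.getD j [], l' < k0 + j := fun l' hl' => Eq.mp Nat.blt_eq (hc.1 l' hl')
      constructor
      · intro u
        rw [prod_apply_of CL (elF WL ge0 k0 j) (WL.getD j [])
          (fun l' hl' => (ih' l' (hlt l' hl')).1) u, h]
        exact (Nat.eq_of_beq_eq_true (hc.2 u.val u.2)).symm
      · apply Subgroup.list_prod_mem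
        intro x hx
        obtain ⟨l', hl', rfl⟩ := List.mem_map.1 hx
        exact (ih' l' (hlt l' hl')).2
    · rw [if_neg h]
      exact ih' l (by omega)

end SLP

end Cfsg.Agent.Helper29.PW
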