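import Mathlib
import Cfsg.Agent.Lib.Helper29.McLModelB
import Cfsg.Agent.Lib.Helper29.PermW
import Cfsg.Agent.Lib.Helper29.Co2Data

set_option autoImplicit false
set_option maxRecDepth 8000
open Cfsg

/-! The second Conway group on 2300 points: definitions of the checks. -/

namespace Cfsg.Agent.Helper29.Co2M

open Cfsg.Agent.Helper27 Cfsg.Agent.Helper29 Cfsg.Agent.Helper29.LV
open Cfsg.Agent.Helper29.Co2D (PTP MG TWFP SWW Y0c CPOS PC)
open Cfsg.Agent.Helper29.McLD (V44c)
open Cfsg.Agent.Helper29.McLM (V44_eq base_chk)
open Cfsg.Agent.Helper29.HSP (tg force force_eq allBelow allBelow_iff cnt card_filter_eq_cnt)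
open Cfsg.Agent.Helper29.PP9 (ent build ent_build ent_lt build_lt)
open Cfsg.Agent.Helper29.PW
open Cfsg.Agent.S0358 (idx)
open MulAction

/-- bounded universal quantifier on an interval, as a boolean -/
def allR (lo n : ℕ) (p : ℕ → Bool) : Bool := allBelow n fun k => p (lo + k)

theorem allR_iff (lo n : ℕ) (p : ℕ → Bool) :
    allR lo n p = true ↔ ∀ k, lo ≤ k → k < lo + n → p k = true := by
  unfold allR
  rw [allBelow_iff]
  constructor
  · intro h k h1 h2
    have := h (k - lo) (by omega)
    rwa [Nat.add_sub_cancel' h1] at this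
  · intro h k hk
    exact h (lo + k) (by omega) (by omega)

/-- ten chunks of 230 -/
theorem tenths (p : ℕ → Bool) (h : ∀ q < 10, allR (230 * q) 230 p = true) :
    ∀ j < 2300, p j = true := by
  intro j hj
  exact (allR_iff _ _ _).1 (h (j / 230) (by omega)) j (by omega) (by omega)

def pt (j : ℕ) : ℕ := tg PTP 216 j
def mgen (k : ℕ) : List ℕ := MG.getD k []
def twf (j : ℕ) : List ℕ := unpackW 13 24 (tg TWFP 312 j)
def pc (k : ℕ) : ℕ := PC.getD k 0

/-- the code of the difference of the standard vector and the vector with code `V` -/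
def compV (V : ℕ) : ℕ := packN fun i => ent V44c i + 256 - ent V i

/-- the check of the word of the point `j` -/
def twfOK (j : ℕ) : Bool :=
  force (pt j) fun a =>
    Nat.beq (appV (twf j) V44c) V44c && Nat.beq (appV (twf j) Y0c) a && okV a && okV (compV a)

/-- the position of the complement of the point `j` among the points -/
def cposOK (j : ℕ) : Bool :=
  force (compV (pt j)) fun c => force (tg CPOS 12 j) fun k =>
    Nat.ble k 2300 && (Nat.beq k 0 || Nat.blt (pt (k - 1)) c) &&
      (Nat.beq k 2300 || Nat.blt c (pt k))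

/-- the image of a point under a generator, up to complement -/
def imgOK (k j : ℕ) : Bool :=
  force (appV (mgen k) (pt j)) fun a => force (pt (tg (pc k) 12 j)) fun b =>
    Nat.beq a b || Nat.beq a (compV b)

end Cfsg.Agent.Helper29.Co2M
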