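import Mathlib
import Cfsg.Agent.Lib.Helper29.Co2ModelDefs

set_option autoImplicit false
set_option maxRecDepth 8000
open Cfsg

/-! The second Conway group on 2300 points: kernel checks of the images of the points. -/

namespace Cfsg.Agent.Helper29.Co2M

open Cfsg.Agent.Helper27 Cfsg.Agent.Helper29 Cfsg.Agent.Helper29.LV
open Cfsg.Agent.Helper29.Co2D (PTP MG TWFP SWW Y0c CPOS PC)
open Cfsg.Agent.Helper29.McLD (V44c)
open Cfsg.Agent.Helper29.McLM (V44_eq base_chk)
open Cfsg.Agent.Helper29.HSP (tg force force_eq allBelow allBelow_iff cnt card_filter_eq_cnt)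
open Cfsg.Agent.Helper29.PP9 (ent build ent_build ent_lt build_lt)
open Cfsg.Agent.Helper29.PW
open Cfsg.Agent.S0358 (idx)
open MulAction

set_option maxRecDepth 100000 in
theorem img_c1_2 : allR 460 230 (imgOK 1) = true := by decide +kernel

set_option maxRecDepth 100000 in
theorem img_c1_3 : allR 690 230 (imgOK 1) = true := by decide +kernel

set_option maxRecDepth 100000 in
theorem img_c1_4 : allR 920 230 (imgOK 1) = true := by decide +kernel

set_option maxRecDepth 100000 in
theorem img_c1_5 : allR 1150 230 (imgOK 1) = true := by decide +kernel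


end Cfsg.Agent.Helper29.Co2M
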