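import Mathlib
import Cfsg.Agent.Lib.Helper29.Co2ModelChkI0
import Cfsg.Agent.Lib.Helper29.Co2ModelChkI1
import Cfsg.Agent.Lib.Helper29.Co2ModelChkI2
import Cfsg.Agent.Lib.Helper29.Co2ModelChkI3
import Cfsg.Agent.Lib.Helper29.Co2ModelChkI4

/-! Kernel checks for the second Conway group on 2300 points: collected. -/
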