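import Mathlib
import Cfsg.Agent.Lib.Helper29.Co2ModelChkT0
import Cfsg.Agent.Lib.Helper29.Co2ModelChkT1
import Cfsg.Agent.Lib.Helper29.Co2ModelChkT2
import Cfsg.Agent.Lib.Helper29.Co2ModelChkT3
import Cfsg.Agent.Lib.Helper29.Co2ModelChkT4

/-! Kernel checks for the second Conway group on 2300 points: collected. -/
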