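import Mathlib
import Cfsg.Agent.Lib.Helper29.Co2ModelChkT
import Cfsg.Agent.Lib.Helper29.Co2ModelChkI
import Cfsg.Agent.Lib.Helper27.Co2Simple
import Cfsg.Agent.Lib.Helper27.CoOrders

set_option autoImplicit false
set_option maxRecDepth 8000
open Cfsg

/-! The second Conway group on 2300 points: the stabiliser of the standard minimal vector acts
on the 2300 pairs of minimal vectors with sum that vector, and explicit lattice automorphisms
give explicit permutations. -/

namespace Cfsg.Agent.Helper29.Co2M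

open Cfsg.Agent.Helper27 Cfsg.Agent.Helper29 Cfsg.Agent.Helper29.LV
open Cfsg.Agent.Helper29.Co2D (PTP MG TWFP SWW Y0c CPOS PC)
open Cfsg.Agent.Helper29.McLD (V44c)
open Cfsg.Agent.Helper29.McLM (V44_eq base_chk)
open Cfsg.Agent.Helper29.HSP (tg force force_eq allBelow allBelow_iff cnt card_filter_eq_cnt)
open Cfsg.Agent.Helper29.PP9 (ent build ent_build ent_lt build_lt)
open Cfsg.Agent.Helper29.PW
open Cfsg.Agent.S0358 (idx)
open MulAction

set_option maxRecDepth 100000 in
theorem v44c_ent : ∀ i < 24, 256 ≤ ent V44c i ∧ ent V44c i ≤ 260 := by decide +kernel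

theorem toFun_compV (V : ℕ) (h : okV V = true) :
    LV.toFun (compV V) = LV.toFun V44c - LV.toFun V := by
  funext p
  obtain ⟨h1, h2⟩ := okV_spec h (idx p) (M24.idx_lt p)
  obtain ⟨h3, h4⟩ := v44c_ent (idx p) (M24.idx_lt p)
  show LV.toFun (compV V) p = LV.toFun V44c p - LV.toFun V p
  unfold LV.toFun crd compV
  rw [ent_packN _ _ (M24.idx_lt p)]
  have e : (ent V44c (idx p) + 256 - ent V (idx p)) % 512 =
      ent V44c (idx p) + 256 - ent V (idx p) := Nat.mod_eq_of_lt (by omega)
  rw [e]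
  omega

theorem compV_lt (V : ℕ) : compV V < 2 ^ 216 := by
  have h := build_lt (f := fun j => (ent V44c j + 256 - ent V j) % 512)
    (fun _ => Nat.mod_lt _ (by norm_num)) 24
  have e : 9 * 24 = 216 := by norm_num
  rw [e] at h
  unfold compV packN
  exact h

/-! ### The computations -/

set_option maxRecDepth 100000 in
theorem V41_eq : (V41 : GolayPt → ℤ) = toFun Y0c := by
  funext p
  show vec44 none (some 1) 1 p = _
  unfold vec44
  revert p
  decide +kernel

set_option maxRecDepth 100000 in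
theorem y0_chk : okV Y0c = true := by decide +kernel

set_option maxRecDepth 100000 in
theorem mgen_chk : ∀ k < 2, appV (mgen k) V44c = V44c := by decide +kernel

theorem twf_chk0 : ∀ j < 2300, twfOK j = true := by
  apply tenths
  intro q hq
  interval_cases q
  · exact twf_c0
  · exact twf_c1
  · exact twf_c2
  · exact twf_c3
  · exact twf_c4
  · exact twf_c5
  · exact twf_c6
  · exact twf_c7
  · exact twf_c8
  · exact twf_c9

theorem twf_chk : ∀ j < 2300, appV (twf j) V44c = V44c ∧ appV (twf j) Y0c = pt j ∧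
    okV (pt j) = true ∧ okV (compV (pt j)) = true := by
  intro j hj
  have h := twf_chk0 j hj
  unfold twfOK at h
  rw [force_eq, Bool.and_eq_true, Bool.and_eq_true, Bool.and_eq_true] at h
  exact ⟨Nat.eq_of_beq_eq_true h.1.1.1, Nat.eq_of_beq_eq_true h.1.1.2, h.1.2, h.2⟩

set_option maxRecDepth 100000 in
theorem sww_chk : appV SWW V44c = V44c ∧ appV SWW Y0c = compV Y0c ∧ okV (compV Y0c) = true := by
  decide +kernel

set_option maxRecDepth 100000 in
theorem pt_lt0 : (allBelow 2300 fun j => Nat.blt (pt j) (2 ^ 216)) = true := by decide +kernel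

theorem pt_lt : ∀ j < 2300, pt j < 2 ^ 216 := fun j hj =>
  Eq.mp Nat.blt_eq ((allBelow_iff _ _).1 pt_lt0 j hj)

set_option maxRecDepth 100000 in
theorem pt_mono0 : (allBelow 2299 fun j => Nat.blt (pt j) (pt (j + 1))) = true := by
  decide +kernel

theorem pt_mono : ∀ j < 2299, pt j < pt (j + 1) := fun j hj =>
  Eq.mp Nat.blt_eq ((allBelow_iff _ _).1 pt_mono0 j hj)

set_option maxRecDepth 100000 in
theorem cpos_chk0 : allBelow 2300 cposOK = true := by decide +kernel

theorem img_chk0 : ∀ k < 2, ∀ j < 2300, imgOK k j = true := by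
  intro k hk
  apply tenths
  intro q hq
  interval_cases k
  · interval_cases q
    · exact img_c0_0
    · exact img_c0_1
    · exact img_c0_2
    · exact img_c0_3
    · exact img_c0_4
    · exact img_c0_5
    · exact img_c0_6
    · exact img_c0_7
    · exact img_c0_8
    · exact img_c0_9
  · interval_cases q
    · exact img_c1_0
    · exact img_c1_1
    · exact img_c1_2
    · exact img_c1_3
    · exact img_c1_4
    · exact img_c1_5
    · exact img_c1_6
    · exact img_c1_7
    · exact img_c1_8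
    · exact img_c1_9

set_option maxRecDepth 100000 in
theorem pc_chk : ∀ k < 2, validC 2300 (pc k) (pc (k + 2)) = true := by
  decide +kernel

/-! ### The group -/

/-- the stabiliser of the standard minimal vector -/
def H2 : Subgroup ↥Co0 := stabilizer ↥Co0 V44

theorem mem_H2 (g : ↥Co0) : g ∈ H2 ↔ g • V44 = V44 := mem_stabilizer_iff

theorem wordG_mem_H2 (w : List ℕ) (h1 : appV w V44c = V44c) : wordG w ∈ H2 := by
  rw [mem_H2]
  apply Subtype.ext
  rw [wordG_smul_code w V44 V44c V44c V44_eq h1 base_chk.2, V44_eq]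

theorem H2_card : Nat.card ↥H2 = 42305421312000 := card_stab32 V44 V44_norm

instance finite_H2 : Finite ↥H2 := Nat.finite_of_card_ne_zero (by rw [H2_card]; norm_num)

/-! ### The points -/

def Y (j : ℕ) : leechLattice := wordG (twf j) • V41

def Yc (j : ℕ) : leechLattice := V44 - Y j

theorem Y_eq (j : ℕ) (hj : j < 2300) : (Y j : GolayPt → ℤ) = toFun (pt j) := by
  obtain ⟨_, h2, h3, _⟩ := twf_chk j hj
  exact wordG_smul_code (twf j) V41 Y0c (pt j) V41_eq h2 h3

theorem Yc_eq (j : ℕ) (hj : j < 2300) : (Yc j : GolayPt → ℤ) = toFun (compV (pt j)) := by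
  rw [toFun_compV _ (twf_chk j hj).2.2.1, ← V44_eq, ← Y_eq j hj]
  rfl

theorem pt_strict (a b : ℕ) (hab : a < b) (hb : b < 2300) : pt a < pt b := by
  induction b with
  | zero => omega
  | succ b ih =>
    rcases Nat.lt_succ_iff_lt_or_eq.1 hab with h | h
    · exact lt_trans (ih h (by omega)) (pt_mono b (by omega))
    · rw [h]; exact pt_mono b (by omega)

theorem pt_le (a b : ℕ) (hab : a ≤ b) (hb : b < 2300) : pt a ≤ pt b := by
  rcases Nat.lt_or_eq_of_le hab with h | h
  · exact le_of_lt (pt_strict a b h hb)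
  · rw [h]

theorem Y_inj (j j' : ℕ) (hj : j < 2300) (hj' : j' < 2300) (h : Y j = Y j') : j = j' := by
  have h1 : toFun (pt j) = toFun (pt j') := by rw [← Y_eq j hj, ← Y_eq j' hj', h]
  have h2 := eq_of_toFun_eq (pt_lt j hj) (pt_lt j' hj') h1
  by_contra hne
  rcases Nat.lt_or_gt_of_ne hne with hlt | hlt
  · exact absurd h2 (Nat.ne_of_lt (pt_strict j j' hlt hj'))
  · exact absurd h2.symm (Nat.ne_of_lt (pt_strict j' j hlt hj))

theorem Y_ne_Yc (j j' : ℕ) (hj : j < 2300) (hj' : j' < 2300) : Y j ≠ Yc j' := by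
  intro h
  have h1 : toFun (pt j) = toFun (compV (pt j')) := by rw [← Y_eq j hj, ← Yc_eq j' hj', h]
  have h2 := eq_of_toFun_eq (pt_lt j hj) (compV_lt _) h1
  have hc := (allBelow_iff _ _).1 cpos_chk0 j' hj'
  unfold cposOK at hc
  rw [force_eq, force_eq, Bool.and_eq_true, Bool.and_eq_true, Bool.or_eq_true,
    Bool.or_eq_true] at hc
  obtain ⟨⟨hk, hlo⟩, hhi⟩ := hc
  have hk' : tg CPOS 12 j' ≤ 2300 := Nat.le_of_ble_eq_true hk
  rcases Nat.lt_or_ge j (tg CPOS 12 j') with hlt | hge
  · rcases hlo with h0 | hlo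
    · have := Nat.eq_of_beq_eq_true h0
      omega
    · have h3 : pt (tg CPOS 12 j' - 1) < compV (pt j') := Eq.mp Nat.blt_eq hlo
      have h4 := pt_le j (tg CPOS 12 j' - 1) (by omega) (by omega)
      omega
  · rcases hhi with h0 | hhi
    · have := Nat.eq_of_beq_eq_true h0
      omega
    · have h3 : compV (pt j') < pt (tg CPOS 12 j') := Eq.mp Nat.blt_eq hhi
      have h4 := pt_le (tg CPOS 12 j') j hge hj
      omega

theorem Yc_inj (j j' : ℕ) (hj : j < 2300) (hj' : j' < 2300) (h : Yc j = Yc j') : j = j' := by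
  apply Y_inj j j' hj hj'
  unfold Yc at h
  exact sub_right_injective h

/-! ### The 4600 vectors -/

/-- the 4600 vectors -/
def T46 : Set leechLattice := {v | ∃ j < 2300, v = Y j ∨ v = Yc j}

def f46 (k : Fin 4600) : leechLattice := if k.val < 2300 then Y k.val else Yc (k.val - 2300)

theorem f46_inj : Function.Injective f46 := by
  intro a b h
  unfold f46 at h
  apply Fin.ext
  have ha := a.2
  have hb := b.2
  by_cases h1 : a.val < 2300
  · by_cases h2 : b.val < 2300
    · rw [if_pos h1, if_pos h2] at h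
      exact Y_inj _ _ h1 h2 h
    · rw [if_pos h1, if_neg h2] at h
      exact absurd h (Y_ne_Yc _ _ h1 (by omega))
  · by_cases h2 : b.val < 2300
    · rw [if_neg h1, if_pos h2] at h
      exact absurd h.symm (Y_ne_Yc _ _ h2 (by omega))
    · rw [if_neg h1, if_neg h2] at h
      have := Yc_inj _ _ (by omega) (by omega) h
      omega

theorem range_f46 : Set.range f46 = T46 := by
  ext v
  constructor
  · rintro ⟨k, rfl⟩
    unfold f46
    by_cases h1 : k.val < 2300
    · rw [if_pos h1]
      exact ⟨k.val, h1, Or.inl rfl⟩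
    · rw [if_neg h1]
      exact ⟨k.val - 2300, by have := k.2; omega, Or.inr rfl⟩
  · rintro ⟨j, hj, rfl | rfl⟩
    · refine ⟨⟨j, by omega⟩, ?_⟩
      unfold f46
      rw [if_pos hj]
    · refine ⟨⟨j + 2300, by omega⟩, ?_⟩
      unfold f46
      have e : ¬ ((⟨j + 2300, by omega⟩ : Fin 4600).val < 2300) := by
        show ¬ (j + 2300 < 2300)
        omega
      rw [if_neg e]
      have e2 : (⟨j + 2300, by omega⟩ : Fin 4600).val - 2300 = j := by simp
      rw [e2]

theorem T46_ncard : T46.ncard = 4600 := by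
  rw [← range_f46, ← Set.image_univ, Set.ncard_image_of_injective _ f46_inj, Set.ncard_univ]
  simp

/-- the minimal vectors with inner product 16 with the standard vector -/
def S16 : Set leechLattice := {x : leechLattice | sqNorm (x : GolayPt → ℤ) = 32 ∧
  dotInt (V44 : GolayPt → ℤ) (x : GolayPt → ℤ) = 16}

theorem S16_ncard : S16.ncard = 4600 := by
  unfold S16
  rw [ncard_dot, ← cntDot_neg, cntDot_neg_sixteen (mem_F32.mpr ⟨V44.2, V44_norm⟩)]

theorem smul_V44 (h : ↥H2) : h.1 • V44 = V44 := (mem_H2 h.1).1 h.2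

theorem smul_mem_S16 (h : ↥Co0) (hh : h ∈ H2) (x : leechLattice) (hx : x ∈ S16) :
    h • x ∈ S16 := by
  have h1 := (mem_H2 h).1 hh
  obtain ⟨a, c⟩ := hx
  refine ⟨by rw [smul_norm]; exact a, ?_⟩
  have e := smul_dot h V44 x
  rw [h1] at e
  rw [e]
  exact c

theorem V41_mem : V41 ∈ S16 := by
  have h := (McLM.mem_S V41).1 McLM.V41_mem
  exact ⟨h.1, h.2.2⟩

theorem sww_smul : wordG SWW • V41 = V44 - V41 := by
  apply Subtype.ext
  rw [wordG_smul_code SWW V41 Y0c (compV Y0c) V41_eq sww_chk.2.1 sww_chk.2.2,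
    toFun_compV _ y0_chk, ← V44_eq, ← V41_eq]
  rfl

theorem T46_sub : T46 ⊆ S16 := by
  rintro v ⟨j, hj, rfl | rfl⟩
  · exact smul_mem_S16 _ (wordG_mem_H2 _ (twf_chk j hj).1) V41 V41_mem
  · have e : Yc j = (wordG (twf j) * wordG SWW) • V41 := by
      rw [mul_smul, sww_smul, smul_sub', (mem_H2 _).1 (wordG_mem_H2 _ (twf_chk j hj).1)]
      rfl
    rw [e]
    exact smul_mem_S16 _ (H2.mul_mem (wordG_mem_H2 _ (twf_chk j hj).1)
      (wordG_mem_H2 _ sww_chk.1)) V41 V41_mem

theorem T46_eq : T46 = S16 := by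
  have hf : S16.Finite := by
    apply Set.finite_of_ncard_ne_zero
    rw [S16_ncard]
    norm_num
  exact Set.eq_of_subset_of_ncard_le T46_sub (by rw [S16_ncard, T46_ncard]) hf

theorem smul_mem_T46 (h : ↥H2) (v : leechLattice) (hv : v ∈ T46) : h.1 • v ∈ T46 := by
  rw [T46_eq] at hv ⊢
  exact smul_mem_S16 h.1 h.2 v hv

end Cfsg.Agent.Helper29.Co2M
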