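import Mathlib
import Cfsg.Agent.Lib.Helper29.Co2ModelDefs
import Cfsg.Agent.Lib.Helper29.Co2DataB

set_option autoImplicit false
set_option maxRecDepth 8000
open Cfsg

/-! The second Conway group on 2300 points: kernel checks of the straight-line program and of the
transversals of the stabiliser chain. -/

namespace Cfsg.Agent.Helper29.Co2M

open Cfsg.Agent.Helper29.Co2D (ECL EWL basePts sizes orbMasks transWords)
open Cfsg.Agent.Helper29.HSP (tg force force_eq allBelow allBelow_iff cnt card_filter_eq_cnt)
open Cfsg.Agent.Helper29.PW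

theorem pc_eq : ∀ l < 4, ECL.getD l 0 = Co2D.PC.getD l 0 := by decide

set_option maxRecDepth 100000 in
theorem slp_chk_a : (allBelow 19 fun j => slpOK 2300 ECL EWL 4 j) = true := by decide +kernel

set_option maxRecDepth 100000 in
theorem slp_chk_b : (allBelow 19 fun j => slpOK 2300 ECL EWL 4 (19 + j)) = true := by
  decide +kernel

theorem slp_chk : ∀ j < 38, slpOK 2300 ECL EWL 4 j = true := by
  intro j hj
  rcases Nat.lt_or_ge j 19 with h | h
  · exact (allBelow_iff _ _).1 slp_chk_a j h
  · have := (allBelow_iff _ _).1 slp_chk_b (j - 19) (by omega)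
    rwa [Nat.add_sub_cancel' h] at this

/-- the base points -/
def bv (k : ℕ) : ℕ := basePts.getD k 0

/-- the transversal words -/
def TW (k q : ℕ) : List ℕ := unpackW 6 20 (tg (transWords.getD k 0) 128 q)

/-- the orbits -/
def OM (k : ℕ) : ℕ := orbMasks.getD k 0

/-- the check of a transversal word -/
def twOK (k q : ℕ) : Bool :=
  !(Nat.testBit (OM k) q) || (((TW k q).all fun l => Nat.blt l 42) &&
    Nat.beq (appL ECL (TW k q) (bv k)) q &&
      allBelow k fun j => Nat.beq (appL ECL (TW k q) (bv j)) (bv j))

set_option maxRecDepth 100000 in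
theorem tw_chk : allBelow 6 (fun k => allBelow 2300 fun q => twOK k q) = true := by
  decide +kernel

set_option maxRecDepth 100000 in
theorem om_chk : ∀ k < 6, cnt (fun q => Nat.testBit (OM k) q) 2300 = sizes.getD k 0 := by
  decide +kernel

end Cfsg.Agent.Helper29.Co2M
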