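import Mathlib
import Cfsg.Agent.Lib.Helper29.Co2ModelA
import Cfsg.Agent.Lib.Helper29.Co2ModelChkS

set_option autoImplicit false
set_option maxRecDepth 8000
open Cfsg

/-! The second Conway group on 2300 points: the permutation representation on the pairs, the
explicit group `G23` generated by two permutations, and the isomorphism with the stabiliser. -/

namespace Cfsg.Agent.Helper29.Co2M

open Cfsg.Agent.Helper27 Cfsg.Agent.Helper29 Cfsg.Agent.Helper29.LV
open Cfsg.Agent.Helper29.Co2D (PTP MG TWFP SWW Y0c CPOS ECL EWL basePts sizes orbMasks transWords)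
open Cfsg.Agent.Helper29.McLD (V44c)
open Cfsg.Agent.Helper29.McLM (V44_eq base_chk)
open Cfsg.Agent.Helper29.HSP (tg force force_eq allBelow allBelow_iff cnt card_filter_eq_cnt)
open Cfsg.Agent.Helper29.PW
open Cfsg.Agent.Helper29.PN (Hst mem_Hst card_step_le)
open Cfsg.Agent.S0358 (idx)
open MulAction
open scoped Pointwise

instance neZero2300 : NeZero 2300 := ⟨by norm_num⟩

/-! ### The pairs -/

/-- the pair of the point `j` -/
def Pr (j : ℕ) : Set leechLattice := {Y j, Yc j}

theorem smul_Pr_eq (h : ↥H2) (j j' : ℕ) (hh : h.1 • Y j = Y j' ∨ h.1 • Y j = Yc j') :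
    h • Pr j = Pr j' := by
  have e0 : h • Pr j = {h.1 • Y j, V44 - h.1 • Y j} := by
    unfold Pr
    rw [Set.smul_set_insert, Set.smul_set_singleton]
    have e1 : h • Y j = h.1 • Y j := rfl
    have e2 : h • Yc j = V44 - h.1 • Y j := by
      show h.1 • (V44 - Y j) = _
      rw [smul_sub', smul_V44]
    rw [e1, e2]
  rw [e0]
  rcases hh with hh | hh
  · rw [hh]
    rfl
  · rw [hh]
    unfold Pr
    have : V44 - Yc j' = Y j' := by
      unfold Yc
      abel
    rw [this, Set.pair_comm]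

theorem exists_smul_Pr (h : ↥H2) (j : ℕ) (hj : j < 2300) : ∃ j' < 2300, h • Pr j = Pr j' := by
  obtain ⟨j', hj', hh⟩ := smul_mem_T46 h (Y j) ⟨j, hj, Or.inl rfl⟩
  exact ⟨j', hj', smul_Pr_eq h j j' hh⟩

theorem Pr_inj (j j' : ℕ) (hj : j < 2300) (hj' : j' < 2300) (h : Pr j = Pr j') : j = j' := by
  have hm : Y j ∈ Pr j' := by
    rw [← h]
    exact Set.mem_insert _ _
  rcases hm with hm | hm
  · exact Y_inj j j' hj hj' hm
  · exact absurd hm (Y_ne_Yc j j' hj hj')

/-- the action of the stabiliser on the 2300 pairs -/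
def Sm : SubMulAction ↥H2 (Set leechLattice) where
  carrier := {s | ∃ j < 2300, s = Pr j}
  smul_mem' := by
    rintro h s ⟨j, hj, rfl⟩
    obtain ⟨j', hj', e⟩ := exists_smul_Pr h j hj
    exact ⟨j', hj', e⟩

def Xm (j : Fin 2300) : ↥Sm := ⟨Pr j.val, j.val, j.2, rfl⟩

theorem Xm_bij : Function.Bijective Xm := by
  constructor
  · intro j j' h
    apply Fin.ext
    exact Pr_inj j.val j'.val j.2 j'.2 (congrArg Subtype.val h)
  · rintro ⟨s, j, hj, rfl⟩
    exact ⟨⟨j, hj⟩, rfl⟩

noncomputable def eS : Fin 2300 ≃ ↥Sm := Equiv.ofBijective Xm Xm_bij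

/-- the permutation representation on the 2300 points -/
noncomputable def rho : ↥H2 →* Equiv.Perm (Fin 2300) :=
  (eS.symm.permCongrHom).toMonoidHom.comp (MulAction.toPermHom ↥H2 ↥Sm)

theorem rho_spec (h : ↥H2) (j : Fin 2300) : Pr (rho h j).val = h • Pr j.val := by
  have e1 : eS (rho h j) = h • eS j := by
    simp [rho, Equiv.permCongrHom, Equiv.permCongr_apply]
  exact congrArg Subtype.val e1

/-! ### The generators -/

def mgenH (k : ℕ) (hk : k < 2) : ↥H2 := ⟨wordG (mgen k), wordG_mem_H2 _ (mgen_chk k hk)⟩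

/-- the two generating permutations -/
def gp (k : ℕ) : Equiv.Perm (Fin 2300) := cP 2300 (pc k) (pc (k + 2))

theorem acts_gp (k : ℕ) (hk : k < 2) : Acts 2300 (gp k) (pc k) := acts_cP (pc_chk k hk)

theorem acts_gp_inv (k : ℕ) (hk : k < 2) : Acts 2300 (gp k)⁻¹ (pc (k + 2)) :=
  acts_cP_inv (pc_chk k hk)

theorem img_chk (k : ℕ) (hk : k < 2) (j : ℕ) (hj : j < 2300) :
    appV (mgen k) (pt j) = pt (tg (pc k) 12 j) ∨
      appV (mgen k) (pt j) = compV (pt (tg (pc k) 12 j)) := by
  have h := img_chk0 k hk j hj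
  unfold imgOK at h
  rw [force_eq, force_eq, Bool.or_eq_true] at h
  rcases h with h | h
  · exact Or.inl (Nat.eq_of_beq_eq_true h)
  · exact Or.inr (Nat.eq_of_beq_eq_true h)

theorem rho_mgen (k : ℕ) (hk : k < 2) : rho (mgenH k hk) = gp k := by
  apply Equiv.ext
  intro j
  apply Fin.ext
  apply Pr_inj _ _ (Fin.is_lt _) (Fin.is_lt _)
  rw [rho_spec]
  have hv := acts_gp k hk j
  have h1 : tg (pc k) 12 j.val < 2300 := by rw [← hv]; exact (gp k j).2
  rw [hv]
  apply smul_Pr_eq
  show wordG (mgen k) • Y j.val = Y _ ∨ wordG (mgen k) • Y j.val = Yc _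
  rcases img_chk k hk j.val j.2 with h | h
  · left
    apply Subtype.ext
    rw [Y_eq _ h1]
    exact wordG_smul_code (mgen k) (Y j.val) (pt j.val) _ (Y_eq j.val j.2) h (twf_chk _ h1).2.2.1
  · right
    apply Subtype.ext
    rw [Yc_eq _ h1]
    exact wordG_smul_code (mgen k) (Y j.val) (pt j.val) _ (Y_eq j.val j.2) h
      (twf_chk _ h1).2.2.2

/-- the explicit group -/
def G23 : Subgroup (Equiv.Perm (Fin 2300)) := Subgroup.closure {g | ∃ k < 2, gp k = g}

theorem gp_mem (k : ℕ) (hk : k < 2) : gp k ∈ G23 := Subgroup.subset_closure ⟨k, hk, rfl⟩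

theorem G23_le : G23 ≤ rho.range := by
  unfold G23
  rw [Subgroup.closure_le]
  rintro g ⟨k, hk, rfl⟩
  exact ⟨mgenH k hk, rho_mgen k hk⟩

/-! ### The action is faithful -/

theorem gp0_ne_one : gp 0 ≠ 1 := by
  intro h
  have h1 := acts_gp 0 (by norm_num) 0
  rw [h] at h1
  revert h1
  decide +kernel

theorem rho_injective : Function.Injective rho := by
  have hs : IsSimpleGroup ↥H2 := co2_simple V44_norm
  rw [← MonoidHom.ker_eq_bot_iff]
  rcases (MonoidHom.normal_ker rho).eq_bot_or_eq_top with h | h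
  · exact h
  · exfalso
    have : mgenH 0 (by norm_num) ∈ rho.ker := by rw [h]; exact Subgroup.mem_top _
    rw [MonoidHom.mem_ker, rho_mgen] at this
    exact gp0_ne_one this

/-! ### Letters and words -/

/-- the first four letters: the two generators and their inverses -/
def ge (l : ℕ) : Equiv.Perm (Fin 2300) := if l < 2 then gp l else (gp (l - 2))⁻¹

theorem ECL_length : ECL.length = 42 := by decide

theorem ge_spec : ∀ l < 4, Acts 2300 (ge l) (ECL.getD l 0) ∧ ge l ∈ G23 := by
  intro l hl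
  unfold ge
  by_cases h : l < 2
  · rw [if_pos h, pc_eq l hl]
    exact ⟨acts_gp l h, gp_mem l h⟩
  · rw [if_neg h]
    have e : ECL.getD l 0 = pc (l - 2 + 2) := by
      rw [pc_eq l hl]
      unfold pc
      congr 1
      omega
    rw [e]
    exact ⟨acts_gp_inv (l - 2) (by omega), G23.inv_mem (gp_mem _ (by omega))⟩

/-- the letters: the two generators, their inverses, and the elements of the program -/
def el (l : ℕ) : Equiv.Perm (Fin 2300) := elF EWL ge 4 38 l

theorem el_spec (l : ℕ) (hl : l < 42) : Acts 2300 (el l) (ECL.getD l 0) ∧ el l ∈ G23 :=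
  elF_spec G23 ge_spec 38 slp_chk 38 (le_refl _) l (by omega)

theorem el_lt_four (l : ℕ) (hl : l < 4) : el l = ge l := by
  have h := elF_stable EWL ge 4 0 38 l (by omega)
  rw [Nat.zero_add] at h
  exact h

/-- the permutation of a word -/
def evalW (w : List ℕ) : Equiv.Perm (Fin 2300) := (w.map el).prod

theorem evalW_mem (w : List ℕ) (hw : ∀ l ∈ w, l < 42) : evalW w ∈ G23 := by
  apply Subgroup.list_prod_mem
  intro x hx
  obtain ⟨l, hl, rfl⟩ := List.mem_map.1 hx
  exact (el_spec l (hw l hl)).2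

theorem evalW_apply (w : List ℕ) (hw : ∀ l ∈ w, l < 42) (u : Fin 2300) :
    (evalW w u).val = appL ECL w u.val :=
  prod_apply_of ECL el w (fun l hl => (el_spec l (hw l hl)).1) u

theorem evalW_append (w v : List ℕ) : evalW (w ++ v) = evalW w * evalW v := by
  unfold evalW
  rw [List.map_append, List.prod_append]

theorem acts_evalW {c : ℕ} {w : List ℕ} (h : reprL 2300 ECL c w = true) :
    Acts 2300 (evalW w) c := by
  have hl := letters_of_reprL h
  rw [ECL_length] at hl
  intro u
  rw [evalW_apply w hl u]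
  unfold reprL at h
  rw [Bool.and_eq_true, allBelow_iff] at h
  exact (Nat.eq_of_beq_eq_true (h.2 u.val u.2)).symm

theorem letters42 {c : ℕ} {w : List ℕ} (h : reprL 2300 ECL c w = true) : ∀ l ∈ w, l < 42 := by
  have := letters_of_reprL h
  rwa [ECL_length] at this

/-! ### The order -/

theorem bv_lt : ∀ k < 6, bv k < 2300 := by decide

def bpt (k : ℕ) : Fin 2300 := ⟨bv k % 2300, Nat.mod_lt _ (by norm_num)⟩

theorem bpt_val (k : ℕ) (hk : k < 6) : (bpt k).val = bv k := Nat.mod_eq_of_lt (bv_lt k hk)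

/-- the orbit of the base point `k` -/
def Orb (k : ℕ) : Finset (Fin 2300) :=
  Finset.univ.filter (fun q : Fin 2300 => Nat.testBit (OM k) q.val = true)

theorem card_Orb (k : ℕ) (hk : k < 6) : (Orb k).card = sizes.getD k 0 := by
  unfold Orb
  rw [card_filter_eq_cnt (fun q => Nat.testBit (OM k) q) 2300]
  exact om_chk k hk

theorem tw_spec (k : ℕ) (hk : k < 6) (q : ℕ) (hq : q < 2300)
    (hm : Nat.testBit (OM k) q = true) :
    (∀ l ∈ TW k q, l < 42) ∧ appL ECL (TW k q) (bv k) = q ∧
      ∀ j < k, appL ECL (TW k q) (bv j) = bv j := by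
  have h := (allBelow_iff _ _).1 ((allBelow_iff _ _).1 tw_chk k hk) q hq
  unfold twOK at h
  rw [hm, Bool.not_true, Bool.false_or, Bool.and_eq_true, Bool.and_eq_true,
    List.all_eq_true, allBelow_iff] at h
  refine ⟨fun l hl => Eq.mp Nat.blt_eq (h.1.1 l hl), Nat.eq_of_beq_eq_true h.1.2, ?_⟩
  intro j hj
  exact Nat.eq_of_beq_eq_true (h.2 j hj)

theorem step (k : ℕ) (hk : k < 6) :
    sizes.getD k 0 * Nat.card ↥(Hst G23 bpt (k + 1)) ≤ Nat.card ↥(Hst G23 bpt k) := by
  rw [← card_Orb k hk]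
  apply card_step_le (Hst G23 bpt k) (bpt k) (Orb k)
  intro q hq
  have hq' : Nat.testBit (OM k) q.val = true := (Finset.mem_filter.1 hq).2
  obtain ⟨h1, h2, h3⟩ := tw_spec k hk q.val q.2 hq'
  refine ⟨evalW (TW k q.val), ?_, ?_⟩
  · rw [mem_Hst]
    refine ⟨evalW_mem _ h1, fun j hj => ?_⟩
    apply Fin.ext
    rw [evalW_apply _ h1, bpt_val j (by omega)]
    exact h3 j hj
  · apply Fin.ext
    rw [evalW_apply _ h1, bpt_val k hk]
    exact h2

theorem card_ge : 42305421312000 ≤ Nat.card ↥G23 := by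
  have h0 := step 0 (by norm_num)
  have h1 := step 1 (by norm_num)
  have h2 := step 2 (by norm_num)
  have h3 := step 3 (by norm_num)
  have h4 := step 4 (by norm_num)
  have h5 := step 5 (by norm_num)
  have h7 : 1 ≤ Nat.card ↥(Hst G23 bpt 6) := Nat.card_pos
  have e : Hst G23 bpt 0 = G23 := rfl
  rw [e] at h0
  simp only [sizes, List.getD_cons_zero, List.getD_cons_succ, Nat.reduceAdd, zero_add]
    at h0 h1 h2 h3 h4 h5
  omega

/-! ### The isomorphism -/

theorem range_card : Nat.card ↥rho.range = 42305421312000 := by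
  rw [← H2_card]
  exact Nat.card_congr (MonoidHom.ofInjective rho_injective).toEquiv.symm

theorem G23_eq : G23 = rho.range := by
  have : Finite ↥rho.range := Nat.finite_of_card_ne_zero (by rw [range_card]; norm_num)
  apply Subgroup.eq_of_le_of_card_ge G23_le
  rw [range_card]
  exact card_ge

theorem card_G23 : Nat.card ↥G23 = 42305421312000 := by rw [G23_eq, range_card]

instance finite_G23 : Finite ↥G23 := Nat.finite_of_card_ne_zero (by rw [card_G23]; norm_num)

theorem iso_H2 : Nonempty (↥G23 ≃* ↥H2) := by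
  rw [G23_eq]
  exact ⟨(MonoidHom.ofInjective rho_injective).symm⟩

/-- the pointwise stabiliser of the base is trivial -/
theorem card_Hst6 : Nat.card ↥(Hst G23 bpt 6) = 1 := by
  have h0 := step 0 (by norm_num)
  have h1 := step 1 (by norm_num)
  have h2 := step 2 (by norm_num)
  have h3 := step 3 (by norm_num)
  have h4 := step 4 (by norm_num)
  have h5 := step 5 (by norm_num)
  have h7 : 1 ≤ Nat.card ↥(Hst G23 bpt 6) := Nat.card_pos
  have e : Hst G23 bpt 0 = G23 := rfl
  rw [e, card_G23] at h0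
  simp only [sizes, List.getD_cons_zero, List.getD_cons_succ, Nat.reduceAdd, zero_add]
    at h0 h1 h2 h3 h4 h5
  by_contra hne
  have h8 : 2 ≤ Nat.card ↥(Hst G23 bpt 6) := by omega
  nlinarith

/-- two elements of the group which agree on the base are equal -/
theorem eq_of_base {g h : Equiv.Perm (Fin 2300)} (hg : g ∈ G23) (hh : h ∈ G23)
    (hb : ∀ k < 6, g (bpt k) = h (bpt k)) : g = h := by
  have hm : g⁻¹ * h ∈ Hst G23 bpt 6 := by
    rw [mem_Hst]
    refine ⟨G23.mul_mem (G23.inv_mem hg) hh, fun k hk => ?_⟩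
    rw [Equiv.Perm.mul_apply, ← hb k hk]
    simp
  have hone : ∀ x : ↥(Hst G23 bpt 6), x = 1 := by
    have : Subsingleton ↥(Hst G23 bpt 6) := (Nat.card_eq_one_iff_unique.1 card_Hst6).1
    intro x
    exact Subsingleton.elim _ _
  have := congrArg Subtype.val (hone ⟨g⁻¹ * h, hm⟩)
  have e : g⁻¹ * h = 1 := this
  calc g = g * (g⁻¹ * h) := by rw [e, mul_one]
    _ = h := by group

/-! ### The group of the definitions -/

theorem mem_Co2_iff (g : ↥Co0) : (g : Equiv.Perm leechLattice) ∈ Spor.Co2 ↔ g ∈ H2 := by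
  rw [mem_H2]
  unfold Spor.Co2
  rw [Subgroup.mem_inf, mem_stabilizer_iff]
  constructor
  · rintro ⟨_, h1⟩
    have h1' : g • Spor.leechU = Spor.leechU := h1
    rw [McLM.leechU_eq] at h1'
    exact h1'
  · intro h1
    refine ⟨g.2, ?_⟩
    show g • Spor.leechU = Spor.leechU
    rw [McLM.leechU_eq, h1]

/-- the group of the definitions is the stabiliser -/
noncomputable def equivH2 : ↥Spor.Co2 ≃* ↥H2 where
  toFun g := ⟨⟨g.1, by
      have := g.2
      unfold Spor.Co2 at this
      exact this.1⟩, by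
      rw [← mem_Co2_iff]; exact g.2⟩
  invFun g := ⟨g.1.1, (mem_Co2_iff g.1).mpr g.2⟩
  left_inv g := rfl
  right_inv g := rfl
  map_mul' g h := rfl

theorem iso_Co2 : Nonempty (↥G23 ≃* ↥Spor.Co2) := by
  obtain ⟨e⟩ := iso_H2
  exact ⟨e.trans equivH2.symm⟩

end Cfsg.Agent.Helper29.Co2M
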