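import Mathlib
import Cfsg.Agent.Lib.Helper29.Co2ModelB
import Cfsg.Agent.Lib.Helper29.Co2TwoD
import Cfsg.Agent.Lib.Helper29.DedCheck

set_option autoImplicit false
open Cfsg

/-! The Sylow 2-subgroup of the explicit second Conway group on 2300 points: the tables and the
check functions. -/

namespace Cfsg.Agent.Helper29.Co2T

open Cfsg.Agent.Helper29.HSP (tg force force_eq allBelow allBelow_iff)
open Cfsg.Agent.Helper29.PW Cfsg.Agent.Helper29.Co2M
open Cfsg.Agent.Helper29.Co2D (ECL)
open Cfsg.Agent.Helper29.Co2XD Cfsg.Agent.Helper29.DedCheck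

/-- the table of the complement: four involutions generating a group of order 256 -/
def D : Tab where
  n := 256
  k := 4
  b := 8
  inv := fun c => c
  cols := tcols
  par := fun i => tg parP 8 i
  pcol := fun i => tg pcolP 4 i

def XC (c : ℕ) : ℕ := XCL.getD c 0
def XW (c : ℕ) : List ℕ := XWL.getD c []
def AC (i : ℕ) : ℕ := ACL.getD i 0
def AW (i : ℕ) : List ℕ := AWL.getD i []
def OT (m : ℕ) : ℕ := tg OTP 12 m
def OI (p : ℕ) : ℕ := tg OIP 12 p
def KY (i k : ℕ) : ℕ := tg KYP 12 (6 * i + k)
def NW (c i : ℕ) : List ℕ := NRMW.getD (10 * c + i) []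
def FX (m : ℕ) : ℕ := tg FXP 4 m
def BM (k : ℕ) : ℕ := BML.getD k 0

/-- the words of the generators represent their codes -/
def xwOK (c : ℕ) : Bool := reprL 2300 ECL (XC c) (XW c)

def awOK (i : ℕ) : Bool := reprL 2300 ECL (AC i) (AW i)

/-- a code is an involution on the base -/
def sqOK (x : ℕ) : Bool := allBelow 6 fun k => Nat.beq (tg x 12 (tg x 12 (bv k))) (bv k)

/-- two codes commute on the base -/
def comOK (x y : ℕ) : Bool :=
  allBelow 6 fun k => Nat.beq (tg x 12 (tg y 12 (bv k))) (tg y 12 (tg x 12 (bv k)))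

/-- the generators of the complement fix the first point of the orbit -/
def xfixOK (c : ℕ) : Bool := Nat.beq (tg (XC c) 12 P0) P0

/-- the check of a node: the images of the base -/
def nodeOK (i : ℕ) : Bool :=
  Nat.beq i 0 || (force (D.par i) fun p => force (D.pcol i) fun c => Nat.blt p i && Nat.blt c 4 &&
    allBelow 6 fun k => Nat.beq (KY i k) (tg (XC c) 12 (KY p k)))

/-- the check of a table entry -/
def tabOK (c i : ℕ) : Bool :=
  force (D.tget c i) fun j => Nat.blt j 256 &&
    allBelow 6 fun k => Nat.beq (KY j k) (tg (XC c) 12 (KY i k))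

/-- the nodes are distinct -/
def distOK (i : ℕ) : Bool :=
  allBelow i fun j => !(allBelow 6 fun k => Nat.beq (KY i k) (KY j k))

/-- the complement normalises the elementary abelian group -/
def nrmOK (c i : ℕ) : Bool :=
  ((NW c i).all fun l => Nat.blt l 10) &&
    allBelow 6 fun k => Nat.beq (tg (XC c) 12 (tg (AC i) 12 (tg (XC c) 12 (bv k))))
      (appL ACL (NW c i) (bv k))

/-- the central involution commutes with the complement -/
def ycomOK (c : ℕ) : Bool :=
  allBelow 6 fun k => Nat.beq (appL ACL YW (tg (XC c) 12 (bv k)))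
    (tg (XC c) 12 (appL ACL YW (bv k)))

/-- the central involution commutes with the elementary abelian group -/
def yacomOK (i : ℕ) : Bool :=
  allBelow 6 fun k => Nat.beq (appL ACL YW (tg (AC i) 12 (bv k)))
    (tg (AC i) 12 (appL ACL YW (bv k)))

/-- the points of the orbit are reached one generator at a time -/
def prevOK (m : ℕ) : Bool :=
  Nat.beq m 0 || force (Nat.log2 m) fun i => Nat.blt i 10 && Nat.ble (2 ^ i) m &&
    Nat.beq (tg (AC i) 12 (OT (m - 2 ^ i))) (OT m)

/-- the check that a point lies in the orbit -/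
def inO (q : ℕ) : Bool :=
  force (OI q) fun k => Nat.blt 0 k && Nat.blt k 1025 && Nat.beq (OT (k - 1)) q

theorem inO_spec {q : ℕ} (h : inO q = true) : ∃ m < 1024, OT m = q := by
  unfold inO at h
  rw [force_eq, Bool.and_eq_true, Bool.and_eq_true] at h
  have h1 : 0 < OI q := Eq.mp Nat.blt_eq h.1.1
  have h2 : OI q < 1025 := Eq.mp Nat.blt_eq h.1.2
  exact ⟨OI q - 1, by omega, Nat.eq_of_beq_eq_true h.2⟩

/-- a code maps the orbit into itself -/
def invOK (x : ℕ) : Bool := allBelow 1024 fun m => inO (tg x 12 (OT m))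

/-- the table of the orbit is injective, with points below 2300 -/
def oiOK (m : ℕ) : Bool := Nat.beq (OI (OT m)) (m + 1) && Nat.blt (OT m) 2300

/-- the base lies in the orbit -/
def baseOK (k : ℕ) : Bool := Nat.blt (BM k) 1024 && Nat.beq (OT (BM k)) (bv k)

/-- the points of the orbit, except two, are moved by the complement -/
def fxOK (m : ℕ) : Bool :=
  Nat.beq m 0 || Nat.beq m MY || force (FX m) fun c => Nat.blt c 4 &&
    !(Nat.beq (tg (XC c) 12 (OT m)) (OT m))

end Cfsg.Agent.Helper29.Co2T
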