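import Mathlib
import Cfsg.Agent.Lib.Helper29.Co2TwoDefs
import Cfsg.Agent.Lib.Helper29.Co2OutD

set_option autoImplicit false

/-! The central involutions of the second Conway group on 2300 points: representatives of the
orbits of the element of order 23 on the class, given by paths in a tree of conjugations, and
the check functions. -/

namespace Cfsg.Agent.Helper29.Co2X

open Cfsg.Agent.Helper29.HSP (tg force force_eq allBelow allBelow_iff)
open Cfsg.Agent.Helper29.PW Cfsg.Agent.Helper29.Co2M
open Cfsg.Agent.Helper29.Co2D (ECL)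
open Cfsg.Agent.Helper29.Co2XD Cfsg.Agent.Helper29.Co2T

/-- the number of representatives -/
def NR : ℕ := 2475
/-- the codes of the powers of the element of order twenty-three -/
def XP (k : ℕ) : ℕ := XPL.getD k 0
/-- the code of the involution -/
def YC : ℕ := ECL.getD 1 0
/-- the path of the representative `r`: the conjugating elements, the last one first -/
def path (r : ℕ) : List ℕ := unpackW 10 4 (tg PTH 40 r)
/-- the hint for the representative `r` and the exponent `j` -/
def hint (j r : ℕ) : ℕ := tg (HJ.getD j 0) 18 r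

/-- the action of `x ^ (-j2) * y * x ^ j`, for `w = 32 * j + j2` -/
def wApp (w p : ℕ) : ℕ :=
  tg (XP ((23 - w % 32 % 23) % 23)) 12 (tg YC 12 (tg (XP (w / 32 % 23)) 12 p))

/-- the action of the inverse `x ^ (-j) * y * x ^ j2` -/
def wAppI (w p : ℕ) : ℕ :=
  tg (XP ((23 - w / 32 % 23) % 23)) 12 (tg YC 12 (tg (XP (w % 32 % 23)) 12 p))

/-- the action of the involution of a path -/
def pathApp : List ℕ → ℕ → ℕ
  | [], p => tg YC 12 p
  | w :: t, p => wApp w (pathApp t (wAppI w p))

/-- the conjugate by the involution of the conjugate by `x ^ j` of the representative `r` is in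
the list: a check on the base -/
def closOK (j r : ℕ) : Bool :=
  force (hint j r) fun h => force (h / 32) fun r2 => force (h % 32) fun j2 =>
    Nat.blt r2 NR && Nat.blt j2 23 &&
      allBelow 6 fun k => Nat.beq (pathApp ((j * 32 + j2) :: path r) (bv k))
        (pathApp (path r2) (bv k))

/-- one syllable-word applied to a point: the rightmost syllable first -/
def iterW (f : ℕ → ℕ) : List ℕ → ℕ → ℕ
  | [], v => v
  | e :: E, v => tg (XP e) 12 (f (iterW f E v))

/-- iterate -/
def iterN (f : ℕ → ℕ) (E : List ℕ) (m v : ℕ) : ℕ :=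
  Nat.rec (motive := fun _ => ℕ) v (fun _ r => iterW f E r) m

/-- the power `m` of the syllable-word is the identity -/
def powOK (f : ℕ → ℕ) (E : List ℕ) (m : ℕ) : Bool :=
  allBelow 2300 fun p => Nat.beq (iterN f E m p) p

/-- a list of relations -/
def relsOK (f : ℕ → ℕ) : List (List ℕ × ℕ) → Bool
  | [] => true
  | r :: R => powOK f r.1 r.2 && relsOK f R

/-- a witness `h = 4096 * k + p`: the relation `k` fails at the point `p` for the
representative `i` -/
def witOK (R : List (List ℕ × ℕ)) (i h : ℕ) : Bool :=
  Nat.blt (h / 4096) R.length && Nat.blt (h % 4096) 2300 &&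
    !(Nat.beq (iterN (pathApp (path i)) (R.getD (h / 4096) ([], 0)).1
      (R.getD (h / 4096) ([], 0)).2 (h % 4096)) (h % 4096))

/-- the filter -/
def filtOK (i : ℕ) : Bool := Nat.beq i IY || witOK RL i (tg FHP 13 i)

/-- the filter for the inverse -/
def filtOKm (i : ℕ) : Bool := witOK RLm i (tg FHMP 13 i)

/-- the code moves some point -/
def moved (c : ℕ) : Bool := !(allBelow 2300 fun p => Nat.beq (tg c 12 p) p)

/-- the table of the powers -/
def xpOK : Bool :=
  (allBelow 2300 fun y => Nat.beq (tg (XP 0) 12 y) y) && Nat.beq (XP 1) (ECL.getD 0 0) &&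
    (allBelow 22 fun k => allBelow 2300 fun y =>
      Nat.beq (tg (XP (k + 1)) 12 y) (tg (XP 1) 12 (tg (XP k) 12 y))) &&
    (allBelow 2300 fun y => Nat.beq (tg (XP 1) 12 (tg (XP 22) 12 y)) y) && moved (XP 1)

/-- the involution -/
def yOK : Bool :=
  (allBelow 2300 fun y => Nat.beq (tg YC 12 (tg YC 12 y)) y) && relsOK (pathApp []) RL &&
    moved YC

/-- the normalising element -/
def nOK : Bool :=
  (Wn.all fun l => Nat.blt l 42) &&
    allBelow 6 fun k => Nat.beq (appL ECL Wn (tg (XP 1) 12 (bv k)))
      (tg (XP 2) 12 (appL ECL Wn (bv k)))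

end Cfsg.Agent.Helper29.Co2X
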