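import Mathlib
import Cfsg.Agent.Lib.Helper29.Co2OutDefs

set_option autoImplicit false

/-! Kernel checks for the list of central involutions of the second Conway group (generated). -/

namespace Cfsg.Agent.Helper29.Co2X

open Cfsg.Agent.Helper29.HSP (tg force force_eq allBelow allBelow_iff)
open Cfsg.Agent.Helper29.PW Cfsg.Agent.Helper29.Co2M
open Cfsg.Agent.Helper29.Co2D (ECL)
open Cfsg.Agent.Helper29.Co2XD Cfsg.Agent.Helper29.Co2T

set_option maxRecDepth 100000 in
theorem clos_12 : allBelow 2475 (closOK 12) = true := by decide +kernel

set_option maxRecDepth 100000 in
theorem clos_13 : allBelow 2475 (closOK 13) = true := by decide +kernel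

set_option maxRecDepth 100000 in
theorem clos_14 : allBelow 2475 (closOK 14) = true := by decide +kernel

set_option maxRecDepth 100000 in
theorem clos_15 : allBelow 2475 (closOK 15) = true := by decide +kernel

set_option maxRecDepth 100000 in
theorem clos_16 : allBelow 2475 (closOK 16) = true := by decide +kernel

set_option maxRecDepth 100000 in
theorem clos_17 : allBelow 2475 (closOK 17) = true := by decide +kernel

end Cfsg.Agent.Helper29.Co2X
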