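import Mathlib

set_option autoImplicit false

/-! General lemmas for the outer automorphism group of the Higman-Sims group: Sylow arguments and
the sign of a product of transpositions. -/

namespace Cfsg.Agent.Helper29.HSXG

open scoped Pointwise commutatorElement

section sylow

variable {G : Type*} [Group G] [Finite G]

/-- a subgroup of `p`-power order and index prime to `p` is a Sylow subgroup -/
theorem exists_sylow_eq (p : ℕ) [Fact p.Prime] (S : Subgroup G) (k : ℕ) (hS : Nat.card S = p ^ k)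
    (hidx : ¬ p ∣ S.index) : ∃ P : Sylow p G, (P : Subgroup G) = S := by
  have hp : p.Prime := Fact.out
  have hSp : IsPGroup p S := IsPGroup.of_card hS
  obtain ⟨P, hle⟩ := hSp.exists_le_sylow
  refine ⟨P, ?_⟩
  have h1 : S.relIndex P * (P : Subgroup G).index = S.index := Subgroup.relIndex_mul_index hle
  have h2 : S.relIndex P ∣ S.index := Dvd.intro _ h1
  have h3 : S.relIndex P ∣ Nat.card (P : Subgroup G) := Subgroup.relIndex_dvd_card S P
  obtain ⟨m, hm⟩ := IsPGroup.iff_card.1 P.isPGroup'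
  rw [hm] at h3
  obtain ⟨j, _, hj'⟩ := (Nat.dvd_prime_pow hp).1 h3
  have hj0 : j = 0 := by
    by_contra hne
    apply hidx
    have : p ∣ S.relIndex P := by rw [hj']; exact dvd_pow_self p hne
    exact this.trans h2
  rw [hj0, pow_zero] at hj'
  exact le_antisymm (Subgroup.relIndex_eq_one.1 hj') hle

/-- conjugating a `p`-subgroup into a given Sylow subgroup -/
theorem exists_conj_le (p : ℕ) [Fact p.Prime] (P : Sylow p G) (Q : Subgroup G) (hQ : IsPGroup p Q) :
    ∃ g : G, ∀ q ∈ Q, g * q * g⁻¹ ∈ (P : Subgroup G) := by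
  obtain ⟨P', hle⟩ := hQ.exists_le_sylow
  obtain ⟨g, hg⟩ := MulAction.exists_smul_eq G P' P
  refine ⟨g, fun q hq => ?_⟩
  rw [← hg, Sylow.coe_subgroup_smul, Subgroup.mem_pointwise_smul_iff_inv_smul_mem]
  show (MulAut.conj g)⁻¹ • (g * q * g⁻¹) ∈ _
  rw [MulAut.smul_def, MulAut.conj_inv_apply]
  have : g⁻¹ * (g * q * g⁻¹) * g = q := by group
  rw [this]
  exact hle hq

/-- every element of order at most two is conjugate into a subgroup of order a power of two and
odd index -/
theorem exists_conj_mem_of_sq_one (S : Subgroup G) (k : ℕ) (hS : Nat.card S = 2 ^ k)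
    (hidx : ¬ 2 ∣ S.index) (t : G) (ht : t * t = 1) : ∃ g : G, g * t * g⁻¹ ∈ S := by
  have : Fact (Nat.Prime 2) := ⟨Nat.prime_two⟩
  obtain ⟨P, hP⟩ := exists_sylow_eq 2 S k hS hidx
  have hQ : IsPGroup 2 (Subgroup.zpowers t) := by
    intro q
    refine ⟨1, ?_⟩
    obtain ⟨q, hq⟩ := q
    obtain ⟨j, rfl⟩ := Subgroup.mem_zpowers_iff.1 hq
    apply Subtype.ext
    show (t ^ j) ^ 2 ^ 1 = 1
    rw [pow_one, ← zpow_natCast, ← zpow_mul, mul_comm, zpow_mul, zpow_natCast, pow_two, ht,
      one_zpow]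
  obtain ⟨g, hg⟩ := exists_conj_le 2 P (Subgroup.zpowers t) hQ
  refine ⟨g, ?_⟩
  rw [← hP]
  exact hg t (Subgroup.mem_zpowers t)

omit [Finite G] in
theorem conj_pow_eq (n x : G) (r : ℕ) (hn : n * x * n⁻¹ = x ^ r) (j : ℕ) :
    n ^ j * x * (n ^ j)⁻¹ = x ^ (r ^ j) := by
  induction j with
  | zero => simp
  | succ j ih =>
    have e : n ^ (j + 1) * x * (n ^ (j + 1))⁻¹ = n * (n ^ j * x * (n ^ j)⁻¹) * n⁻¹ := by
      rw [pow_succ']
      group
    rw [e, ih, ← conj_pow, hn, ← pow_mul, pow_succ, mul_comm]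

/-- automorphisms move an element of order seven generating a Sylow subgroup, and conjugate to its
cube, to a conjugate of it -/
theorem exists_conj_eq_of_seven (x n : G) (hx : x ^ 7 = 1) (hx1 : x ≠ 1)
    (h49 : ¬ 49 ∣ Nat.card G) (hn : n * x * n⁻¹ = x ^ 3) (φ : MulAut G) :
    ∃ g : G, g * φ x * g⁻¹ = x := by
  have : Fact (Nat.Prime 7) := ⟨by norm_num⟩
  have h7 : Nat.Prime 7 := by norm_num
  have ho : orderOf x = 7 := orderOf_eq_prime hx hx1
  have hcard : Nat.card (Subgroup.zpowers x) = 7 ^ 1 := by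
    rw [Nat.card_zpowers, ho, pow_one]
  have hidx : ¬ 7 ∣ (Subgroup.zpowers x).index := by
    intro hd
    apply h49
    rw [← Subgroup.card_mul_index (Subgroup.zpowers x), hcard, pow_one]
    exact Nat.mul_dvd_mul_left 7 hd
  obtain ⟨P, hP⟩ := exists_sylow_eq 7 (Subgroup.zpowers x) 1 hcard hidx
  have hφ7 : (φ x) ^ 7 = 1 := by rw [← map_pow, hx, map_one]
  have hQ : IsPGroup 7 (Subgroup.zpowers (φ x)) := by
    intro q
    refine ⟨1, ?_⟩
    obtain ⟨q, hq⟩ := q
    obtain ⟨j, rfl⟩ := Subgroup.mem_zpowers_iff.1 hq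
    apply Subtype.ext
    show ((φ x) ^ j) ^ 7 ^ 1 = 1
    rw [pow_one, ← zpow_natCast, ← zpow_mul, mul_comm, zpow_mul, zpow_natCast, hφ7, one_zpow]
  obtain ⟨g, hg⟩ := exists_conj_le 7 P (Subgroup.zpowers (φ x)) hQ
  have hmem : g * φ x * g⁻¹ ∈ Subgroup.zpowers x := by
    rw [← hP]
    exact hg _ (Subgroup.mem_zpowers _)
  obtain ⟨k, hk⟩ := Subgroup.mem_zpowers_iff.1 hmem
  -- reduce the exponent
  have hk' : x ^ (k % 7).toNat = g * φ x * g⁻¹ := by
    rw [← hk, ← zpow_natCast, Int.toNat_of_nonneg (Int.emod_nonneg k (by norm_num))]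
    have := zpow_mod_orderOf x k
    rw [ho] at this
    exact this
  have hlt : (k % 7).toNat < 7 := by
    have := Int.emod_lt_of_pos k (show (0 : ℤ) < 7 by norm_num)
    omega
  have hne : (k % 7).toNat ≠ 0 := by
    intro h0
    rw [h0, pow_zero] at hk'
    have h1 : φ x = 1 := by
      have : g * φ x * g⁻¹ = 1 := hk'.symm
      have h2 : φ x = g⁻¹ * (g * φ x * g⁻¹) * g := by group
      rw [h2, this]
      group
    exact hx1 (φ.injective (h1.trans (map_one φ).symm))
  obtain ⟨j, hj⟩ : ∃ j : ℕ, 3 ^ j % 7 = (k % 7).toNat := by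
    generalize (k % 7).toNat = m at hlt hne
    interval_cases m
    · exact absurd rfl hne
    · exact ⟨0, by norm_num⟩
    · exact ⟨2, by norm_num⟩
    · exact ⟨1, by norm_num⟩
    · exact ⟨4, by norm_num⟩
    · exact ⟨5, by norm_num⟩
    · exact ⟨3, by norm_num⟩
  have hpow : x ^ (3 ^ j) = x ^ (k % 7).toNat := by
    rw [← hj]
    have := pow_mod_orderOf x (3 ^ j)
    rw [ho] at this
    exact this.symm
  have hc := conj_pow_eq n x 3 hn j
  refine ⟨(n ^ j)⁻¹ * g, ?_⟩
  have e : (n ^ j)⁻¹ * g * φ x * ((n ^ j)⁻¹ * g)⁻¹ = (n ^ j)⁻¹ * (g * φ x * g⁻¹) * n ^ j := by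
    group
  rw [e, ← hk', ← hpow, ← hc]
  group

end sylow

section sign

variable {n : ℕ}

/-- the sign of a product of transpositions -/
theorem sign_prod_swaps (l : List (Fin n × Fin n)) (h : ∀ p ∈ l, p.1 ≠ p.2) :
    Equiv.Perm.sign ((l.map fun p => Equiv.swap p.1 p.2).prod) = (-1) ^ l.length := by
  induction l with
  | nil => simp
  | cons p l ih =>
    rw [List.map_cons, List.prod_cons, map_mul, Equiv.Perm.sign_swap (h p List.mem_cons_self),
      ih (fun q hq => h q (List.mem_cons_of_mem _ hq)), List.length_cons, pow_succ, mul_comm]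

/-- the sign of a commutator is trivial -/
theorem sign_commutator (a b : Equiv.Perm (Fin n)) : Equiv.Perm.sign ⁅a, b⁆ = 1 := by
  rw [map_commutatorElement]
  exact commutatorElement_eq_one_iff_commute.2 (Commute.all _ _)

end sign

end Cfsg.Agent.Helper29.HSXG
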