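import Mathlib
import Cfsg.Agent.Lib.Helper29.HSOutGen

set_option autoImplicit false

/-! General lemmas for the outer automorphism group of the third Conway group: the Sylow argument
for an element of order twenty-three, and for a central involution of a Sylow 2-subgroup. -/

namespace Cfsg.Agent.Helper29.Co3XG

open Cfsg.Agent.Helper29.HSXG

variable {G : Type*} [Group G] [Finite G]

/-- automorphisms move an element of order twenty-three generating a Sylow subgroup, and conjugate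
to its square, to a conjugate of it or of its inverse -/
theorem exists_conj_eq_of_twentythree (x n : G) (hx : x ^ 23 = 1) (hx1 : x ≠ 1)
    (h529 : ¬ 529 ∣ Nat.card G) (hn : n * x * n⁻¹ = x ^ 2) (φ : MulAut G) :
    ∃ g : G, g * φ x * g⁻¹ = x ∨ g * φ x * g⁻¹ = x ^ 22 := by
  have : Fact (Nat.Prime 23) := ⟨by norm_num⟩
  have h23 : Nat.Prime 23 := by norm_num
  have ho : orderOf x = 23 := orderOf_eq_prime hx hx1
  have hcard : Nat.card (Subgroup.zpowers x) = 23 ^ 1 := by
    rw [Nat.card_zpowers, ho, pow_one]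
  have hidx : ¬ 23 ∣ (Subgroup.zpowers x).index := by
    intro hd
    apply h529
    rw [← Subgroup.card_mul_index (Subgroup.zpowers x), hcard, pow_one]
    exact Nat.mul_dvd_mul_left 23 hd
  obtain ⟨P, hP⟩ := exists_sylow_eq 23 (Subgroup.zpowers x) 1 hcard hidx
  have hφ23 : (φ x) ^ 23 = 1 := by rw [← map_pow, hx, map_one]
  have hQ : IsPGroup 23 (Subgroup.zpowers (φ x)) := by
    intro q
    refine ⟨1, ?_⟩
    obtain ⟨q, hq⟩ := q
    obtain ⟨j, rfl⟩ := Subgroup.mem_zpowers_iff.1 hq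
    apply Subtype.ext
    show ((φ x) ^ j) ^ 23 ^ 1 = 1
    rw [pow_one, ← zpow_natCast, ← zpow_mul, mul_comm, zpow_mul, zpow_natCast, hφ23, one_zpow]
  obtain ⟨g, hg⟩ := exists_conj_le 23 P (Subgroup.zpowers (φ x)) hQ
  have hmem : g * φ x * g⁻¹ ∈ Subgroup.zpowers x := by
    rw [← hP]
    exact hg _ (Subgroup.mem_zpowers _)
  obtain ⟨k, hk⟩ := Subgroup.mem_zpowers_iff.1 hmem
  have hk' : x ^ (k % 23).toNat = g * φ x * g⁻¹ := by
    rw [← hk, ← zpow_natCast, Int.toNat_of_nonneg (Int.emod_nonneg k (by norm_num))]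
    have := zpow_mod_orderOf x k
    rw [ho] at this
    exact this
  have hlt : (k % 23).toNat < 23 := by
    have := Int.emod_lt_of_pos k (show (0 : ℤ) < 23 by norm_num)
    omega
  have hne : (k % 23).toNat ≠ 0 := by
    intro h0
    rw [h0, pow_zero] at hk'
    have h1 : φ x = 1 := by
      have : g * φ x * g⁻¹ = 1 := hk'.symm
      have h2 : φ x = g⁻¹ * (g * φ x * g⁻¹) * g := by group
      rw [h2, this]
      group
    exact hx1 (φ.injective (h1.trans (map_one φ).symm))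
  obtain ⟨j, hj⟩ : ∃ j : ℕ, 2 ^ j % 23 = (k % 23).toNat ∨ (2 ^ j * 22) % 23 = (k % 23).toNat := by
    generalize (k % 23).toNat = m at hlt hne
    interval_cases m
    · exact absurd rfl hne
    · exact ⟨0, Or.inl (by norm_num)⟩
    · exact ⟨1, Or.inl (by norm_num)⟩
    · exact ⟨8, Or.inl (by norm_num)⟩
    · exact ⟨2, Or.inl (by norm_num)⟩
    · exact ⟨6, Or.inr (by norm_num)⟩
    · exact ⟨9, Or.inl (by norm_num)⟩
    · exact ⟨4, Or.inr (by norm_num)⟩
    · exact ⟨3, Or.inl (by norm_num)⟩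
    · exact ⟨5, Or.inl (by norm_num)⟩
    · exact ⟨7, Or.inr (by norm_num)⟩
    · exact ⟨10, Or.inr (by norm_num)⟩
    · exact ⟨10, Or.inl (by norm_num)⟩
    · exact ⟨7, Or.inl (by norm_num)⟩
    · exact ⟨5, Or.inr (by norm_num)⟩
    · exact ⟨3, Or.inr (by norm_num)⟩
    · exact ⟨4, Or.inl (by norm_num)⟩
    · exact ⟨9, Or.inr (by norm_num)⟩
    · exact ⟨6, Or.inl (by norm_num)⟩
    · exact ⟨2, Or.inr (by norm_num)⟩
    · exact ⟨8, Or.inr (by norm_num)⟩
    · exact ⟨1, Or.inr (by norm_num)⟩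
    · exact ⟨0, Or.inr (by norm_num)⟩
  have hc := conj_pow_eq n x 2 hn j
  refine ⟨(n ^ j)⁻¹ * g, ?_⟩
  have e : (n ^ j)⁻¹ * g * φ x * ((n ^ j)⁻¹ * g)⁻¹ = (n ^ j)⁻¹ * (g * φ x * g⁻¹) * n ^ j := by
    group
  rw [e, ← hk']
  rcases hj with hj | hj
  · left
    have hpow : x ^ (2 ^ j) = x ^ (k % 23).toNat := by
      rw [← hj]
      have := pow_mod_orderOf x (2 ^ j)
      rw [ho] at this
      exact this.symm
    rw [← hpow, ← hc]
    group
  · right
    have hpow : x ^ (2 ^ j * 22) = x ^ (k % 23).toNat := by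
      rw [← hj]
      have := pow_mod_orderOf x (2 ^ j * 22)
      rw [ho] at this
      exact this.symm
    have hc22 : n ^ j * x ^ 22 * (n ^ j)⁻¹ = x ^ (2 ^ j * 22) := by
      rw [← conj_pow, hc, ← pow_mul]
    rw [← hpow, ← hc22]
    group

/-- an automorphism moves the central involution of a Sylow 2-subgroup with centre of order two
to a conjugate of it -/
theorem exists_conj_eq_of_central (S : Subgroup G) (k : ℕ) (hS : Nat.card S = 2 ^ k)
    (hidx : ¬ 2 ∣ S.index) (z : G) (hz : z ∈ S) (hz1 : z ≠ 1) (hzc : ∀ s ∈ S, z * s = s * z)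
    (hcen : ∀ g ∈ S, (∀ s ∈ S, g * s = s * g) → g = 1 ∨ g = z) (φ : MulAut G) :
    ∃ g : G, g * φ z * g⁻¹ = z := by
  have : Fact (Nat.Prime 2) := ⟨Nat.prime_two⟩
  obtain ⟨P, hP⟩ := exists_sylow_eq 2 S k hS hidx
  have hSp : IsPGroup 2 S := IsPGroup.of_card hS
  have hQ : IsPGroup 2 (S.map φ.toMonoidHom) := hSp.map φ.toMonoidHom
  obtain ⟨g, hg⟩ := exists_conj_le 2 P (S.map φ.toMonoidHom) hQ
  rw [hP] at hg
  refine ⟨g, ?_⟩
  -- the composite automorphism
  have hmap : ∀ s ∈ S, g * φ s * g⁻¹ ∈ S := fun s hs => hg _ ⟨s, hs, rfl⟩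
  let f : ↥S → ↥S := fun s => ⟨g * φ s.1 * g⁻¹, hmap s.1 s.2⟩
  have hinj : Function.Injective f := by
    intro a b h
    have h1 : g * φ a.1 * g⁻¹ = g * φ b.1 * g⁻¹ := congrArg Subtype.val h
    have h2 : φ a.1 = φ b.1 := by
      have := congrArg (fun t => g⁻¹ * t * g) h1
      simpa [mul_assoc] using this
    exact Subtype.ext (φ.injective h2)
  have : Finite ↥S := Nat.finite_of_card_ne_zero (by rw [hS]; positivity)
  have hsurj : Function.Surjective f := Finite.injective_iff_surjective.1 hinj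
  have hcz : ∀ t ∈ S, (g * φ z * g⁻¹) * t = t * (g * φ z * g⁻¹) := by
    intro t ht
    obtain ⟨s, hs⟩ := hsurj ⟨t, ht⟩
    have hs' : g * φ s.1 * g⁻¹ = t := congrArg Subtype.val hs
    rw [← hs']
    have h1 : g * φ z * g⁻¹ * (g * φ s.1 * g⁻¹) = g * φ (z * s.1) * g⁻¹ := by
      rw [map_mul]; group
    have h2 : g * φ s.1 * g⁻¹ * (g * φ z * g⁻¹) = g * φ (s.1 * z) * g⁻¹ := by
      rw [map_mul]; group
    rw [h1, h2, hzc s.1 s.2]
  rcases hcen _ (hmap z hz) hcz with h | h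
  · exfalso
    apply hz1
    have h1 : φ z = 1 := by
      have h2 : φ z = g⁻¹ * (g * φ z * g⁻¹) * g := by group
      rw [h2, h]
      group
    exact φ.injective (h1.trans (map_one φ).symm)
  · exact h

end Cfsg.Agent.Helper29.Co3XG
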