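import Mathlib
import Cfsg.Agent.Lib.Helper29.Co2OutChkC0
import Cfsg.Agent.Lib.Helper29.Co2OutChkC1
import Cfsg.Agent.Lib.Helper29.Co2OutChkC2
import Cfsg.Agent.Lib.Helper29.Co2OutChkC3
import Cfsg.Agent.Lib.Helper29.Co2OutChkF
import Cfsg.Agent.Lib.Helper29.Co2OutChkG
import Cfsg.Agent.Lib.Helper29.Co3OutGen

set_option autoImplicit false
open Cfsg

/-! The central involutions of the second Conway group on 2300 points: the list is closed under
conjugation, and the relations. -/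

namespace Cfsg.Agent.Helper29.Co2X

open Cfsg.Agent.Helper29.HSP (tg force force_eq allBelow allBelow_iff)
open Cfsg.Agent.Helper29.PW Cfsg.Agent.Helper29.Co2M
open Cfsg.Agent.Helper29.Co2D (ECL)
open Cfsg.Agent.Helper29.Co2XD Cfsg.Agent.Helper29.Co2T Cfsg.Agent.Helper29.DedCheck
open Cfsg.Agent.Helper29.HSXG Cfsg.Agent.Helper29.Co3XG

/-- the permutations -/
abbrev Pm : Type := Equiv.Perm (Fin 2300)

/-! ### The checks -/

theorem xp_chk : (∀ y < 2300, tg (XP 0) 12 y = y) ∧ XP 1 = ECL.getD 0 0 ∧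
    (∀ k < 22, ∀ y < 2300, tg (XP (k + 1)) 12 y = tg (XP 1) 12 (tg (XP k) 12 y)) ∧
    (∀ y < 2300, tg (XP 1) 12 (tg (XP 22) 12 y) = y) ∧ moved (XP 1) = true := by
  have h := xp_chk0
  unfold xpOK at h
  rw [Bool.and_eq_true, Bool.and_eq_true, Bool.and_eq_true, Bool.and_eq_true, allBelow_iff,
    allBelow_iff, allBelow_iff] at h
  obtain ⟨⟨⟨⟨h1, h2⟩, h3⟩, h4⟩, h5⟩ := h
  refine ⟨fun y hy => Nat.eq_of_beq_eq_true (h1 y hy), Nat.eq_of_beq_eq_true h2, ?_,
    fun y hy => Nat.eq_of_beq_eq_true (h4 y hy), h5⟩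
  intro k hk y hy
  have := h3 k hk
  rw [allBelow_iff] at this
  exact Nat.eq_of_beq_eq_true (this y hy)

theorem y_chk : (∀ y < 2300, tg YC 12 (tg YC 12 y) = y) ∧ relsOK (pathApp []) RL = true ∧
    moved YC = true := by
  have h := y_chk0
  unfold yOK at h
  rw [Bool.and_eq_true, Bool.and_eq_true, allBelow_iff] at h
  exact ⟨fun y hy => Nat.eq_of_beq_eq_true (h.1.1 y hy), h.1.2, h.2⟩

theorem ne_one_of_moved {g : Pm} {c : ℕ} (hg : Acts 2300 g c)
    (h : moved c = true) : g ≠ 1 := by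
  intro e
  unfold moved at h
  rw [Bool.not_eq_true'] at h
  have : (allBelow 2300 fun p => Nat.beq (tg c 12 p) p) = true := by
    rw [allBelow_iff]
    intro p hp
    have h1 := hg ⟨p, hp⟩
    rw [e] at h1
    have h2 : tg c 12 p = p := h1.symm
    rw [h2]
    exact Nat.beq_refl p
  rw [this] at h
  exact Bool.noConfusion h

theorem sq_one_of_acts {g : Pm} {c : ℕ} (hg : Acts 2300 g c)
    (h : ∀ y < 2300, tg c 12 (tg c 12 y) = y) : g * g = 1 := by
  apply Equiv.ext
  intro u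
  apply Fin.ext
  show (g (g u)).val = u.val
  rw [hg, hg, h u.val u.2]

/-! ### The two generators -/

def xP : Pm := gp 0
def yP : Pm := gp 1

theorem xP_mem : xP ∈ G23 := gp_mem 0 (by norm_num)

theorem yP_mem : yP ∈ G23 := gp_mem 1 (by norm_num)

theorem acts_xP : Acts 2300 xP (XP 1) := by
  rw [xp_chk.2.1, pc_eq 0 (by norm_num)]
  exact acts_gp 0 (by norm_num)

theorem acts_yP : Acts 2300 yP YC := by
  unfold YC
  rw [pc_eq 1 (by norm_num)]
  exact acts_gp 1 (by norm_num)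

theorem acts_xpow (k : ℕ) (hk : k < 23) : Acts 2300 (xP ^ k) (XP k) := by
  induction k with
  | zero =>
    rw [pow_zero]
    exact acts_one xp_chk.1
  | succ k ih =>
    rw [pow_succ']
    exact acts_mul acts_xP (ih (by omega)) (xp_chk.2.2.1 k (by omega))

theorem xP_pow23 : xP ^ 23 = 1 := by
  rw [pow_succ']
  apply Equiv.ext
  intro u
  apply Fin.ext
  rw [Equiv.Perm.mul_apply, Equiv.Perm.one_apply, acts_xP, acts_xpow 22 (by norm_num),
    xp_chk.2.2.2.1 u.val u.2]

theorem xP_ne_one : xP ≠ 1 := ne_one_of_moved acts_xP xp_chk.2.2.2.2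

theorem yP_sq : yP * yP = 1 := sq_one_of_acts acts_yP y_chk.1

theorem yP_inv : yP⁻¹ = yP := by
  symm
  exact eq_inv_of_mul_eq_one_left yP_sq

theorem yP_ne_one : yP ≠ 1 := ne_one_of_moved acts_yP y_chk.2.2

theorem xpow_inv (j : ℕ) (hj : j < 23) : (xP ^ j)⁻¹ = xP ^ ((23 - j) % 23) := by
  symm
  apply eq_inv_of_mul_eq_one_left
  rw [← pow_add]
  rcases Nat.eq_zero_or_pos j with h0 | h0
  · subst h0
    norm_num
  · have e : (23 - j) % 23 + j = 23 := by
      rw [Nat.mod_eq_of_lt (by omega)]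
      omega
    rw [e, xP_pow23]

theorem xpow_mem (j : ℕ) : xP ^ j ∈ G23 := G23.pow_mem xP_mem j

/-! ### The conjugating elements and the paths -/

/-- the element `x ^ (-j2) * y * x ^ j`, for `w = 32 * j + j2` -/
def wEl (w : ℕ) : Pm := (xP ^ (w % 32 % 23))⁻¹ * yP * xP ^ (w / 32 % 23)

theorem wEl_mem (w : ℕ) : wEl w ∈ G23 :=
  G23.mul_mem (G23.mul_mem (G23.inv_mem (xpow_mem _)) yP_mem) (xpow_mem _)

theorem wEl_apply (w : ℕ) (u : Fin 2300) : (wEl w u).val = wApp w u.val := by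
  have ha : w % 32 % 23 < 23 := Nat.mod_lt _ (by norm_num)
  have hb : w / 32 % 23 < 23 := Nat.mod_lt _ (by norm_num)
  unfold wEl wApp
  generalize w % 32 % 23 = a at ha ⊢
  generalize w / 32 % 23 = b at hb ⊢
  rw [xpow_inv a ha, Equiv.Perm.mul_apply, Equiv.Perm.mul_apply,
    acts_xpow _ (Nat.mod_lt _ (by norm_num)), acts_yP, acts_xpow b hb]

theorem wEl_inv_apply (w : ℕ) (u : Fin 2300) : ((wEl w)⁻¹ u).val = wAppI w u.val := by
  have ha : w % 32 % 23 < 23 := Nat.mod_lt _ (by norm_num)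
  have hb : w / 32 % 23 < 23 := Nat.mod_lt _ (by norm_num)
  have e : (wEl w)⁻¹ = (xP ^ (w / 32 % 23))⁻¹ * yP * xP ^ (w % 32 % 23) := by
    unfold wEl
    rw [mul_inv_rev, mul_inv_rev, inv_inv, yP_inv, mul_assoc]
  rw [e]
  unfold wAppI
  generalize w % 32 % 23 = a at ha ⊢
  generalize w / 32 % 23 = b at hb ⊢
  rw [xpow_inv b hb, Equiv.Perm.mul_apply, Equiv.Perm.mul_apply,
    acts_xpow _ (Nat.mod_lt _ (by norm_num)), acts_yP, acts_xpow a ha]

/-- the involution of a path -/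
def pathEl : List ℕ → Pm
  | [] => yP
  | w :: t => wEl w * pathEl t * (wEl w)⁻¹

theorem pathEl_mem (p : List ℕ) : pathEl p ∈ G23 := by
  induction p with
  | nil => exact yP_mem
  | cons w t ih => exact G23.mul_mem (G23.mul_mem (wEl_mem w) ih) (G23.inv_mem (wEl_mem w))

theorem pathEl_apply (p : List ℕ) (u : Fin 2300) : (pathEl p u).val = pathApp p u.val := by
  induction p generalizing u with
  | nil =>
    rw [pathEl, pathApp]
    exact acts_yP u
  | cons w t ih =>
    rw [pathEl, pathApp, Equiv.Perm.mul_apply, Equiv.Perm.mul_apply, wEl_apply, ih,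
      wEl_inv_apply]

/-- the representative `r` -/
def tE (r : ℕ) : Pm := pathEl (path r)

theorem tE_IY : tE IY = yP := by
  unfold tE
  rw [iy_chk0.1]
  rfl

/-! ### The list of involutions -/

/-- the permutation is a conjugate by a power of `x` of a representative -/
def InL (t : Pm) : Prop := ∃ r < NR, ∃ j < 23, (xP ^ j)⁻¹ * t * xP ^ j = tE r

theorem clos_all : ∀ j < 23, ∀ r < NR, closOK j r = true := by
  intro j hj
  interval_cases j
  · exact (allBelow_iff _ _).1 clos_0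
  · exact (allBelow_iff _ _).1 clos_1
  · exact (allBelow_iff _ _).1 clos_2
  · exact (allBelow_iff _ _).1 clos_3
  · exact (allBelow_iff _ _).1 clos_4
  · exact (allBelow_iff _ _).1 clos_5
  · exact (allBelow_iff _ _).1 clos_6
  · exact (allBelow_iff _ _).1 clos_7
  · exact (allBelow_iff _ _).1 clos_8
  · exact (allBelow_iff _ _).1 clos_9
  · exact (allBelow_iff _ _).1 clos_10
  · exact (allBelow_iff _ _).1 clos_11
  · exact (allBelow_iff _ _).1 clos_12
  · exact (allBelow_iff _ _).1 clos_13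
  · exact (allBelow_iff _ _).1 clos_14
  · exact (allBelow_iff _ _).1 clos_15
  · exact (allBelow_iff _ _).1 clos_16
  · exact (allBelow_iff _ _).1 clos_17
  · exact (allBelow_iff _ _).1 clos_18
  · exact (allBelow_iff _ _).1 clos_19
  · exact (allBelow_iff _ _).1 clos_20
  · exact (allBelow_iff _ _).1 clos_21
  · exact (allBelow_iff _ _).1 clos_22

theorem filt_chk0 : ∀ r < NR, filtOK r = true := (allBelow_iff _ _).1 filt_0

theorem filtm_chk0 : ∀ r < NR, filtOKm r = true := (allBelow_iff _ _).1 filtm_0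

/-- closed under conjugation -/
def CC (g : Pm) : Prop := ∀ t : Pm, InL t → InL (g * t * g⁻¹)

theorem cc_x : CC xP := by
  intro t h
  obtain ⟨r, hr, j, hj, ht⟩ := h
  by_cases h22 : j + 1 < 23
  · refine ⟨r, hr, j + 1, h22, ?_⟩
    have e : (xP ^ (j + 1))⁻¹ * (xP * t * xP⁻¹) * xP ^ (j + 1) = (xP ^ j)⁻¹ * t * xP ^ j := by
      rw [pow_succ]
      group
    rw [e]
    exact ht
  · have hj22 : j = 22 := by omega
    subst hj22
    refine ⟨r, hr, 0, by norm_num, ?_⟩
    have e1 : (xP ^ 22)⁻¹ = xP := by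
      symm
      apply eq_inv_of_mul_eq_one_left
      rw [← pow_succ']
      exact xP_pow23
    have e2 : xP⁻¹ = xP ^ 22 := (inv_eq_iff_eq_inv.1 e1).symm
    have e : (xP ^ 0)⁻¹ * (xP * t * xP⁻¹) * xP ^ 0 = (xP ^ 22)⁻¹ * t * xP ^ 22 := by
      rw [pow_zero, inv_one, one_mul, mul_one, e1, e2]
    rw [e]
    exact ht

theorem cc_y : CC yP := by
  intro t h
  obtain ⟨r, hr, j, hj, ht⟩ := h
  have hc := clos_all j hj r hr
  unfold closOK at hc
  rw [force_eq, force_eq, force_eq, Bool.and_eq_true, Bool.and_eq_true, allBelow_iff] at hc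
  obtain ⟨⟨h1, h2⟩, hall⟩ := hc
  have hr2 : hint j r / 32 < NR := Eq.mp Nat.blt_eq h1
  have hj2 : hint j r % 32 < 23 := Eq.mp Nat.blt_eq h2
  refine ⟨hint j r / 32, hr2, hint j r % 32, hj2, ?_⟩
  have hw : wEl (j * 32 + hint j r % 32) = (xP ^ (hint j r % 32))⁻¹ * yP * xP ^ j := by
    unfold wEl
    have e1 : (j * 32 + hint j r % 32) % 32 % 23 = hint j r % 32 := by omega
    have e2 : (j * 32 + hint j r % 32) / 32 % 23 = j := by omega
    rw [e1, e2]
  have heq : pathEl ((j * 32 + hint j r % 32) :: path r) = tE (hint j r / 32) := by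
    apply eq_of_base (pathEl_mem _) (pathEl_mem _)
    intro k hk
    apply Fin.ext
    rw [pathEl_apply, pathEl_apply, bpt_val k hk]
    exact Nat.eq_of_beq_eq_true (hall k hk)
  rw [← heq]
  show _ = wEl (j * 32 + hint j r % 32) * tE r * (wEl (j * 32 + hint j r % 32))⁻¹
  rw [hw, ← ht]
  group

theorem cc_one : CC 1 := by
  intro t h
  rw [one_mul, inv_one, mul_one]
  exact h

theorem cc_mul {g h : Pm} (hg : CC g) (hh : CC h) : CC (g * h) := by
  intro t ht
  have e : g * h * t * (g * h)⁻¹ = g * (h * t * h⁻¹) * g⁻¹ := by group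
  rw [e]
  exact hg _ (hh _ ht)

theorem cc_pow {g : Pm} (hg : CC g) (m : ℕ) : CC (g ^ m) := by
  induction m with
  | zero => rw [pow_zero]; exact cc_one
  | succ m ih => rw [pow_succ]; exact cc_mul ih hg

theorem cc_x_inv : CC xP⁻¹ := by
  have e : xP⁻¹ = xP ^ 22 := by
    symm
    apply eq_inv_of_mul_eq_one_left
    rw [← pow_succ]
    exact xP_pow23
  rw [e]
  exact cc_pow cc_x 22

theorem inL_conj (g : Pm) (hg : g ∈ G23) (t : Pm) (h : InL t) : InL (g * t * g⁻¹) := by
  have key : CC g ∧ CC g⁻¹ := by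
    unfold G23 at hg
    induction hg using Subgroup.closure_induction with
    | mem x hx =>
      obtain ⟨k, hk, rfl⟩ := hx
      interval_cases k
      · exact ⟨cc_x, cc_x_inv⟩
      · refine ⟨cc_y, ?_⟩
        have : (gp 1)⁻¹ = yP := yP_inv
        rw [this]
        exact cc_y
    | one =>
      rw [inv_one]
      exact ⟨cc_one, cc_one⟩
    | mul x y _ _ hx hy =>
      rw [mul_inv_rev]
      exact ⟨cc_mul hx.1 hy.1, cc_mul hy.2 hx.2⟩
    | inv x _ hx =>
      rw [inv_inv]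
      exact ⟨hx.2, hx.1⟩
  exact key.1 t h

theorem inL_y : InL yP := by
  refine ⟨IY, iy_chk0.2, 0, by norm_num, ?_⟩
  rw [pow_zero, inv_one, one_mul, mul_one, tE_IY]

/-! ### Syllable words and the relations -/

/-- the product of the syllables `x ^ e * t` -/
def relEl {M : Type*} [Monoid M] (x t : M) (E : List ℕ) : M := (E.map fun e => x ^ e * t).prod

theorem map_relEl {M N : Type*} [Monoid M] [Monoid N] (f : M →* N) (x t : M) (E : List ℕ) :
    f (relEl x t E) = relEl (f x) (f t) E := by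
  unfold relEl
  rw [map_list_prod, List.map_map]
  congr 1
  apply List.map_congr_left
  intro e _
  show f (x ^ e * t) = f x ^ e * f t
  rw [map_mul, map_pow]

theorem iterW_spec (x t : Pm) (f : ℕ → ℕ) (hx : ∀ e < 23, Acts 2300 (x ^ e) (XP e))
    (ht : ∀ u : Fin 2300, (t u).val = f u.val) (E : List ℕ) (hE : ∀ e ∈ E, e < 23)
    (u : Fin 2300) : (relEl x t E u).val = iterW f E u.val := by
  induction E with
  | nil => rfl
  | cons e E ih =>
    have e1 : relEl x t (e :: E) = x ^ e * t * relEl x t E := by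
      unfold relEl
      rw [List.map_cons, List.prod_cons]
    rw [e1]
    show ((x ^ e) (t (relEl x t E u))).val = tg (XP e) 12 (f (iterW f E u.val))
    rw [hx e (hE e List.mem_cons_self), ht, ih (fun e' he' => hE e' (List.mem_cons_of_mem _ he'))]

theorem iterN_spec (x t : Pm) (f : ℕ → ℕ) (hx : ∀ e < 23, Acts 2300 (x ^ e) (XP e))
    (ht : ∀ u : Fin 2300, (t u).val = f u.val) (E : List ℕ) (hE : ∀ e ∈ E, e < 23) (m : ℕ)
    (u : Fin 2300) : ((relEl x t E ^ m) u).val = iterN f E m u.val := by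
  induction m with
  | zero => rfl
  | succ m ih =>
    rw [pow_succ']
    show (relEl x t E ((relEl x t E ^ m) u)).val = iterW f E (iterN f E m u.val)
    rw [iterW_spec x t f hx ht E hE, ih]

theorem powOK_iff (x t : Pm) (f : ℕ → ℕ) (hx : ∀ e < 23, Acts 2300 (x ^ e) (XP e))
    (ht : ∀ u : Fin 2300, (t u).val = f u.val) (E : List ℕ) (hE : ∀ e ∈ E, e < 23) (m : ℕ) :
    powOK f E m = true ↔ relEl x t E ^ m = 1 := by
  unfold powOK
  rw [allBelow_iff]
  constructor
  · intro h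
    apply Equiv.ext
    intro u
    apply Fin.ext
    rw [iterN_spec x t f hx ht E hE m u]
    exact Nat.eq_of_beq_eq_true (h u.val u.2)
  · intro h p hp
    have := iterN_spec x t f hx ht E hE m ⟨p, hp⟩
    rw [h] at this
    rw [← this]
    exact Nat.beq_refl p

theorem relsOK_iff (x t : Pm) (f : ℕ → ℕ) (hx : ∀ e < 23, Acts 2300 (x ^ e) (XP e))
    (ht : ∀ u : Fin 2300, (t u).val = f u.val) (R : List (List ℕ × ℕ))
    (hR : ∀ r ∈ R, ∀ e ∈ r.1, e < 23) :
    relsOK f R = true ↔ ∀ r ∈ R, relEl x t r.1 ^ r.2 = 1 := by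
  induction R with
  | nil => simp [relsOK]
  | cons r R ih =>
    rw [relsOK, Bool.and_eq_true, powOK_iff x t f hx ht r.1 (hR r List.mem_cons_self) r.2,
      ih (fun r' hr' => hR r' (List.mem_cons_of_mem _ hr'))]
    simp

/-- a witness refutes the relations -/
theorem not_rels_of_wit (x t : Pm) (i h : ℕ) (hx : ∀ e < 23, Acts 2300 (x ^ e) (XP e))
    (ht : ∀ u : Fin 2300, (t u).val = pathApp (path i) u.val) (R : List (List ℕ × ℕ))
    (hR : ∀ r ∈ R, ∀ e ∈ r.1, e < 23) (hw : witOK R i h = true)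
    (hrel : ∀ r ∈ R, relEl x t r.1 ^ r.2 = 1) : False := by
  unfold witOK at hw
  rw [Bool.and_eq_true, Bool.and_eq_true, Bool.not_eq_true'] at hw
  obtain ⟨⟨h1, h2⟩, h3⟩ := hw
  have hk : h / 4096 < R.length := Eq.mp Nat.blt_eq h1
  have hp : h % 4096 < 2300 := Eq.mp Nat.blt_eq h2
  have hmem : R.getD (h / 4096) ([], 0) ∈ R := by
    rw [List.getD_eq_getElem _ _ hk]
    exact List.getElem_mem hk
  have h4 := iterN_spec x t (pathApp (path i)) hx ht _ (hR _ hmem)
    (R.getD (h / 4096) ([], 0)).2 ⟨h % 4096, hp⟩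
  rw [hrel _ hmem] at h4
  have h5 : h % 4096 = iterN (pathApp (path i)) (R.getD (h / 4096) ([], 0)).1
      (R.getD (h / 4096) ([], 0)).2 (h % 4096) := h4
  rw [← h5, Nat.beq_refl] at h3
  exact Bool.noConfusion h3

end Cfsg.Agent.Helper29.Co2X
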