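import Mathlib
import Cfsg.Agent.Lib.Helper29.Co2TwoDefs

set_option autoImplicit false
open Cfsg

/-! Kernel checks for the Sylow 2-subgroup of the second Conway group on 2300 points. -/

namespace Cfsg.Agent.Helper29.Co2T

open Cfsg.Agent.Helper29.HSP (tg force force_eq allBelow allBelow_iff)
open Cfsg.Agent.Helper29.PW Cfsg.Agent.Helper29.Co2M
open Cfsg.Agent.Helper29.Co2D (ECL)
open Cfsg.Agent.Helper29.Co2XD Cfsg.Agent.Helper29.DedCheck

set_option maxRecDepth 100000 in
theorem xw_chk0 : allBelow 4 xwOK = true := by decide +kernel

set_option maxRecDepth 100000 in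
theorem aw_chk0 : allBelow 5 awOK = true := by decide +kernel

set_option maxRecDepth 100000 in
theorem aw_chk1 : allBelow 5 (fun i => awOK (5 + i)) = true := by decide +kernel

theorem xwl_len : XWL.length = 4 := by decide +kernel

theorem awl_len : AWL.length = 10 := by decide +kernel

set_option maxRecDepth 100000 in
theorem xsq_chk0 : allBelow 4 (fun c => sqOK (XC c)) = true := by decide +kernel

set_option maxRecDepth 100000 in
theorem asq_chk0 : allBelow 10 (fun i => sqOK (AC i)) = true := by decide +kernel

set_option maxRecDepth 100000 in
theorem acom_chk0 : allBelow 10 (fun i => allBelow 10 fun j => comOK (AC i) (AC j)) = true := by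
  decide +kernel

set_option maxRecDepth 100000 in
theorem xfix_chk0 : allBelow 4 xfixOK = true := by decide +kernel

set_option maxRecDepth 100000 in
theorem node_chk00 : (allBelow 6 fun k => Nat.beq (KY 0 k) (bv k)) = true := by decide +kernel

set_option maxRecDepth 100000 in
theorem node_chk0 : allBelow 256 nodeOK = true := by decide +kernel

set_option maxRecDepth 100000 in
theorem tab_chk0 : allBelow 4 (fun c => allBelow 256 (tabOK c)) = true := by decide +kernel

set_option maxRecDepth 100000 in
theorem dist_chk0 : allBelow 256 distOK = true := by decide +kernel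

set_option maxRecDepth 100000 in
theorem nrm_chk0 : allBelow 4 (fun c => allBelow 10 (nrmOK c)) = true := by decide +kernel

set_option maxRecDepth 100000 in
theorem ycom_chk0 : allBelow 4 ycomOK = true := by decide +kernel

set_option maxRecDepth 100000 in
theorem yacom_chk0 : allBelow 10 yacomOK = true := by decide +kernel

theorem yw_chk0 : (YW.all fun l => Nat.blt l 10) = true := by decide +kernel

set_option maxRecDepth 100000 in
theorem yp0_chk0 : Nat.beq (appL ACL YW P0) (OT MY) = true := by decide +kernel

theorem my_chk0 : (Nat.blt MY 1024 && !(Nat.beq (OT MY) P0)) = true := by decide +kernel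

theorem ot0_chk0 : Nat.beq (OT 0) P0 = true := by decide +kernel

theorem p0_lt : P0 < 2300 := by decide +kernel

set_option maxRecDepth 100000 in
theorem prev_chk0 : allBelow 1024 prevOK = true := by decide +kernel

set_option maxRecDepth 100000 in
theorem ainv_chk0 : allBelow 10 (fun i => invOK (AC i)) = true := by decide +kernel

set_option maxRecDepth 100000 in
theorem xinv_chk0 : allBelow 4 (fun c => invOK (XC c)) = true := by decide +kernel

set_option maxRecDepth 100000 in
theorem oi_chk0 : allBelow 1024 oiOK = true := by decide +kernel

set_option maxRecDepth 100000 in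
theorem base_chk0 : allBelow 6 baseOK = true := by decide +kernel

set_option maxRecDepth 100000 in
theorem fx_chk0 : allBelow 1024 fxOK = true := by decide +kernel

end Cfsg.Agent.Helper29.Co2T
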