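import Mathlib
import Cfsg.Agent.Lib.Helper29.Co2TwoChk
import Cfsg.Agent.Lib.Helper29.Co3OutGen

set_option autoImplicit false
open Cfsg

/-! The Sylow 2-subgroup of the explicit second Conway group on 2300 points: an elementary
abelian group of order 1024, regular on an orbit which contains the base, extended by a group of
order 256 which fixes a point of the orbit; its centre has order two. -/

namespace Cfsg.Agent.Helper29.Co2T

open Cfsg.Agent.Helper29.HSP (tg force force_eq allBelow allBelow_iff)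
open Cfsg.Agent.Helper29.PW Cfsg.Agent.Helper29.Co2M
open Cfsg.Agent.Helper29.Co2D (ECL)
open Cfsg.Agent.Helper29.Co2XD Cfsg.Agent.Helper29.DedCheck

/-! ### The generators -/

theorem xw_chk (c : ℕ) (hc : c < 4) : reprL 2300 ECL (XC c) (XW c) = true :=
  (allBelow_iff _ _).1 xw_chk0 c hc

theorem aw_chk (i : ℕ) (hi : i < 10) : reprL 2300 ECL (AC i) (AW i) = true := by
  rcases Nat.lt_or_ge i 5 with h | h
  · exact (allBelow_iff _ _).1 aw_chk0 i h
  · have := (allBelow_iff _ _).1 aw_chk1 (i - 5) (by omega)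
    rwa [Nat.add_sub_cancel' h] at this

theorem xw_letters (c : ℕ) : ∀ l ∈ XW c, l < 42 := by
  by_cases hc : c < 4
  · exact letters42 (xw_chk c hc)
  · intro l hl
    unfold XW at hl
    rw [List.getD_eq_default _ _ (by rw [xwl_len]; omega)] at hl
    exact absurd hl (List.not_mem_nil)

theorem aw_letters (i : ℕ) : ∀ l ∈ AW i, l < 42 := by
  by_cases hi : i < 10
  · exact letters42 (aw_chk i hi)
  · intro l hl
    unfold AW at hl
    rw [List.getD_eq_default _ _ (by rw [awl_len]; omega)] at hl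
    exact absurd hl (List.not_mem_nil)

/-- the generators of the complement -/
def xg (c : ℕ) : ↥G23 := ⟨evalW (XW c), evalW_mem _ (xw_letters c)⟩

/-- the generators of the elementary abelian group -/
def eG (i : ℕ) : ↥G23 := ⟨evalW (AW i), evalW_mem _ (aw_letters i)⟩

theorem acts_xg (c : ℕ) (hc : c < 4) : Acts 2300 (xg c).val (XC c) := acts_evalW (xw_chk c hc)

theorem acts_eG (i : ℕ) (hi : i < 10) : Acts 2300 (eG i).val (AC i) := acts_evalW (aw_chk i hi)

theorem val_mul_apply (a b : ↥G23) (u : Fin 2300) : (a * b).val u = a.val (b.val u) := rfl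

/-- two elements which agree on the base are equal -/
theorem ext_base {g h : ↥G23}
    (hb : ∀ k < 6, (g.val (bpt k)).val = (h.val (bpt k)).val) : g = h :=
  Subtype.ext (eq_of_base g.2 h.2 fun k hk => Fin.ext (hb k hk))

theorem sq_of_chk {g : ↥G23} {x : ℕ} (hg : Acts 2300 g.val x) (h : sqOK x = true) :
    g * g = 1 := by
  apply ext_base
  intro k hk
  show (g.val (g.val (bpt k))).val = (bpt k).val
  rw [hg, hg, bpt_val k hk]
  unfold sqOK at h
  rw [allBelow_iff] at h
  exact Nat.eq_of_beq_eq_true (h k hk)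

theorem comm_of_chk {g h : ↥G23} {x y : ℕ} (hg : Acts 2300 g.val x) (hh : Acts 2300 h.val y)
    (hc : comOK x y = true) : g * h = h * g := by
  apply ext_base
  intro k hk
  show (g.val (h.val (bpt k))).val = (h.val (g.val (bpt k))).val
  rw [hg, hh, hh, hg, bpt_val k hk]
  unfold comOK at hc
  rw [allBelow_iff] at hc
  exact Nat.eq_of_beq_eq_true (hc k hk)

theorem xg_sq (c : ℕ) (hc : c < 4) : xg c * xg c = 1 :=
  sq_of_chk (acts_xg c hc) ((allBelow_iff _ _).1 xsq_chk0 c hc)

theorem eG_sq (i : ℕ) (hi : i < 10) : eG i * eG i = 1 :=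
  sq_of_chk (acts_eG i hi) ((allBelow_iff _ _).1 asq_chk0 i hi)

theorem eG_comm (i j : ℕ) (hi : i < 10) (hj : j < 10) : eG i * eG j = eG j * eG i :=
  comm_of_chk (acts_eG i hi) (acts_eG j hj)
    ((allBelow_iff _ _).1 ((allBelow_iff _ _).1 acom_chk0 i hi) j hj)

theorem xg_inv (c : ℕ) (hc : c < 4) : xg (D.inv c) = (xg c)⁻¹ :=
  eq_inv_of_mul_eq_one_right (xg_sq c hc)

/-- the first point of the orbit -/
def p0F : Fin 2300 := ⟨P0, p0_lt⟩

theorem xg_fix (c : ℕ) (hc : c < 4) : (xg c).val p0F = p0F := by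
  apply Fin.ext
  rw [acts_xg c hc]
  exact Nat.eq_of_beq_eq_true ((allBelow_iff _ _).1 xfix_chk0 c hc)

/-! ### The complement -/

theorem node_chk (i : ℕ) (hi : i < 256) (h0 : 0 < i) : D.par i < i ∧ D.pcol i < 4 ∧
    ∀ k < 6, KY i k = tg (XC (D.pcol i)) 12 (KY (D.par i) k) := by
  have h := (allBelow_iff _ _).1 node_chk0 i hi
  unfold nodeOK at h
  rw [Bool.or_eq_true] at h
  rcases h with h | h
  · have := Nat.eq_of_beq_eq_true h
    omega
  · rw [force_eq, force_eq, Bool.and_eq_true, Bool.and_eq_true, allBelow_iff] at h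
    obtain ⟨⟨h1, h2⟩, h3⟩ := h
    exact ⟨Eq.mp Nat.blt_eq h1, Eq.mp Nat.blt_eq h2, fun k hk => Nat.eq_of_beq_eq_true (h3 k hk)⟩

theorem node_base (i : ℕ) (hi : i < 256) :
    ∀ k < 6, ((D.node xg i).val (bpt k)).val = KY i k := by
  induction i using Nat.strong_induction_on with
  | _ i ih =>
    intro k hk
    rcases Nat.eq_zero_or_pos i with h0 | h0
    · subst h0
      rw [D.node_zero]
      show (bpt k).val = _
      rw [bpt_val k hk]
      exact (Nat.eq_of_beq_eq_true ((allBelow_iff _ _).1 node_chk00 k hk)).symm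
    · obtain ⟨h1, h2, h3⟩ := node_chk i hi h0
      rw [D.node_of_lt xg h0 h1]
      show ((xg (D.pcol i)).val ((D.node xg (D.par i)).val (bpt k))).val = _
      rw [acts_xg _ h2, ih _ h1 (by omega) k hk, h3 k hk]

theorem tab_chk (c : ℕ) (hc : c < 4) (i : ℕ) (hi : i < 256) : D.tget c i < 256 ∧
    ∀ k < 6, KY (D.tget c i) k = tg (XC c) 12 (KY i k) := by
  have h := (allBelow_iff _ _).1 ((allBelow_iff _ _).1 tab_chk0 c hc) i hi
  unfold tabOK at h
  rw [force_eq, Bool.and_eq_true, allBelow_iff] at h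
  exact ⟨Eq.mp Nat.blt_eq h.1, fun k hk => Nat.eq_of_beq_eq_true (h.2 k hk)⟩

theorem tabM : ∀ c < D.k, ∀ i < D.n, D.tget c i < D.n ∧
    xg c * D.node xg i = D.node xg (D.tget c i) := by
  intro c hc i hi
  obtain ⟨h1, h2⟩ := tab_chk c hc i hi
  refine ⟨h1, ?_⟩
  apply ext_base
  intro k hk
  show ((xg c).val ((D.node xg i).val (bpt k))).val = _
  rw [acts_xg c hc, node_base i hi k hk, node_base _ h1 k hk, h2 k hk]

theorem dist_chk (i : ℕ) (hi : i < 256) (j : ℕ) (hj : j < i) : ∃ k < 6, KY i k ≠ KY j k := by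
  have h := (allBelow_iff _ _).1 ((allBelow_iff _ _).1 dist_chk0 i hi) j hj
  rw [Bool.not_eq_true'] at h
  by_contra hne
  push Not at hne
  have : (allBelow 6 fun k => Nat.beq (KY i k) (KY j k)) = true := by
    rw [allBelow_iff]
    intro k hk
    rw [hne k hk]
    exact Nat.beq_refl _
  rw [this] at h
  exact Bool.noConfusion h

theorem node_inj (i j : ℕ) (hi : i < 256) (hj : j < 256) (h : D.node xg i = D.node xg j) :
    i = j := by
  have key : ∀ k < 6, KY i k = KY j k := by
    intro k hk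
    rw [← node_base i hi k hk, ← node_base j hj k hk, h]
  by_contra hne
  rcases Nat.lt_or_gt_of_ne hne with h1 | h1
  · obtain ⟨k, hk, hk'⟩ := dist_chk j hj i h1
    exact hk' (key k hk).symm
  · obtain ⟨k, hk, hk'⟩ := dist_chk i hi j h1
    exact hk' (key k hk)

/-- the complement -/
def T2 : Subgroup ↥G23 := Subgroup.closure {g | ∃ c < D.k, g = xg c}

theorem exists_node (g : ↥G23) (hg : g ∈ T2) : ∃ i < 256, g = D.node xg i :=
  D.closure_sub xg (by decide) (fun c hc => hc) xg_inv tabM g hg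

theorem xg_mem (c : ℕ) (hc : c < 4) : xg c ∈ T2 := Subgroup.subset_closure ⟨c, hc, rfl⟩

theorem node_mem (i : ℕ) (hi : i < 256) : D.node xg i ∈ T2 := by
  induction i using Nat.strong_induction_on with
  | _ i ih =>
    by_cases h : 0 < i ∧ D.par i < i
    · rw [D.node_of_lt xg h.1 h.2]
      refine T2.mul_mem ?_ (ih _ h.2 (by omega))
      exact xg_mem _ (node_chk i hi h.1).2.1
    · rw [Tab.node, dif_neg h]
      exact T2.one_mem

theorem card_T2 : Nat.card ↥T2 = 2 ^ 8 := by
  have hb : Function.Bijective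
      (fun i : Fin 256 => (⟨D.node xg i.val, node_mem i.val i.2⟩ : ↥T2)) := by
    constructor
    · intro i j h
      apply Fin.ext
      exact node_inj i.val j.val i.2 j.2 (congrArg Subtype.val h)
    · intro g
      obtain ⟨i, hi, e⟩ := exists_node g.val g.2
      exact ⟨⟨i, hi⟩, Subtype.ext e.symm⟩
  rw [← Nat.card_eq_of_bijective _ hb]
  simp

/-- the stabiliser of the first point of the orbit -/
def StP : Subgroup ↥G23 where
  carrier := {g | g.val p0F = p0F}
  mul_mem' := by
    intro a b ha hb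
    show a.val (b.val p0F) = p0F
    rw [show b.val p0F = p0F from hb]
    exact ha
  one_mem' := rfl
  inv_mem' := by
    intro a ha
    show (a.val)⁻¹ p0F = p0F
    rw [Equiv.Perm.inv_eq_iff_eq]
    exact (show a.val p0F = p0F from ha).symm

theorem T2_le_StP : T2 ≤ StP := by
  unfold T2
  rw [Subgroup.closure_le]
  rintro g ⟨c, hc, rfl⟩
  exact xg_fix c hc

theorem T2_fix (t : ↥G23) (ht : t ∈ T2) : t.val p0F = p0F := T2_le_StP ht

/-! ### The elementary abelian group -/

def A2 : Subgroup ↥G23 := Subgroup.closure {g | ∃ i < 10, g = eG i}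

theorem eG_mem (i : ℕ) (hi : i < 10) : eG i ∈ A2 := Subgroup.subset_closure ⟨i, hi, rfl⟩

theorem A2_le_centralizer (g : ↥G23) (hg : ∀ i < 10, eG i * g = g * eG i) :
    A2 ≤ Subgroup.centralizer {g} := by
  unfold A2
  rw [Subgroup.closure_le]
  rintro a ⟨i, hi, rfl⟩
  rw [SetLike.mem_coe, Subgroup.mem_centralizer_iff]
  intro h hh
  rw [Set.mem_singleton_iff.1 hh]
  exact (hg i hi).symm

theorem comm_of_mem_centralizer {a g : ↥G23} (h : a ∈ Subgroup.centralizer {g}) :
    g * a = a * g := (Subgroup.mem_centralizer_iff.1 h) g (Set.mem_singleton _)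

theorem A2_comm_gen (i : ℕ) (hi : i < 10) (a : ↥G23) (ha : a ∈ A2) : eG i * a = a * eG i :=
  comm_of_mem_centralizer (A2_le_centralizer (eG i) (fun j hj => eG_comm j i hj hi) ha)

theorem A2_comm (a b : ↥G23) (ha : a ∈ A2) (hb : b ∈ A2) : a * b = b * a :=
  (comm_of_mem_centralizer (A2_le_centralizer a (fun i hi => A2_comm_gen i hi a ha) hb))

/-- the elements of order at most two in the group -/
theorem A2_sq (a : ↥G23) (ha : a ∈ A2) : a ^ 2 = 1 := by
  unfold A2 at ha
  induction ha using Subgroup.closure_induction with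
  | mem x hx =>
    obtain ⟨i, hi, rfl⟩ := hx
    rw [pow_two]
    exact eG_sq i hi
  | one => exact one_pow 2
  | mul x y hx hy ihx ihy =>
    have hc : Commute x y := A2_comm x y hx hy
    rw [hc.mul_pow, ihx, ihy, one_mul]
  | inv x hx ihx => rw [inv_pow, ihx, inv_one]

theorem A2_pgroup : IsPGroup 2 ↥A2 := by
  intro a
  refine ⟨1, ?_⟩
  apply Subtype.ext
  show a.val ^ 2 ^ 1 = 1
  rw [pow_one]
  exact A2_sq a.val a.2

/-! ### The orbit -/

theorem prev_chk (m : ℕ) (hm : m < 1024) (h0 : 0 < m) : ∃ i < 10, 2 ^ i ≤ m ∧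
    tg (AC i) 12 (OT (m - 2 ^ i)) = OT m := by
  have h := (allBelow_iff _ _).1 prev_chk0 m hm
  unfold prevOK at h
  rw [Bool.or_eq_true] at h
  rcases h with h | h
  · have := Nat.eq_of_beq_eq_true h
    omega
  · rw [force_eq, Bool.and_eq_true, Bool.and_eq_true] at h
    exact ⟨Nat.log2 m, Eq.mp Nat.blt_eq h.1.1, Nat.le_of_ble_eq_true h.1.2,
      Nat.eq_of_beq_eq_true h.2⟩

theorem orb_mem (m : ℕ) (hm : m < 1024) : ∃ a ∈ A2, (a.val p0F).val = OT m := by
  induction m using Nat.strong_induction_on with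
  | _ m ih =>
    rcases Nat.eq_zero_or_pos m with h0 | h0
    · subst h0
      exact ⟨1, A2.one_mem, (Nat.eq_of_beq_eq_true ot0_chk0).symm⟩
    · obtain ⟨i, hi, h1, h2⟩ := prev_chk m hm h0
      have hpos : 0 < 2 ^ i := Nat.pos_of_ne_zero (by positivity)
      obtain ⟨a, ha, e⟩ := ih (m - 2 ^ i) (by omega) (by omega)
      refine ⟨eG i * a, A2.mul_mem (eG_mem i hi) ha, ?_⟩
      show ((eG i).val (a.val p0F)).val = _
      rw [acts_eG i hi, e, h2]

theorem oi_chk (m : ℕ) (hm : m < 1024) : OI (OT m) = m + 1 ∧ OT m < 2300 := by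
  have h := (allBelow_iff _ _).1 oi_chk0 m hm
  unfold oiOK at h
  rw [Bool.and_eq_true] at h
  exact ⟨Nat.eq_of_beq_eq_true h.1, Eq.mp Nat.blt_eq h.2⟩

theorem OT_inj (m m' : ℕ) (hm : m < 1024) (hm' : m' < 1024) (h : OT m = OT m') : m = m' := by
  have h1 := (oi_chk m hm).1
  have h2 := (oi_chk m' hm').1
  rw [h] at h1
  omega

/-- the points of the orbit -/
def InO (u : Fin 2300) : Prop := ∃ m < 1024, OT m = u.val

theorem InO_p0F : InO p0F := ⟨0, by norm_num, Nat.eq_of_beq_eq_true ot0_chk0⟩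

theorem inO_of_chk {g : ↥G23} {x : ℕ} (hg : Acts 2300 g.val x) (hsq : g * g = 1)
    (h : invOK x = true) (u : Fin 2300) : InO u ↔ InO (g.val u) := by
  have h1 : ∀ v : Fin 2300, InO v → InO (g.val v) := by
    rintro v ⟨m, hm, e⟩
    unfold invOK at h
    rw [allBelow_iff] at h
    obtain ⟨m', hm', e'⟩ := inO_spec (h m hm)
    refine ⟨m', hm', ?_⟩
    rw [hg, ← e, e']
  refine ⟨h1 u, fun h2 => ?_⟩
  have h3 := h1 _ h2
  have e : g.val (g.val u) = u := by
    have := congrArg (fun k : ↥G23 => k.val u) hsq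
    exact this
  rwa [e] at h3

/-- the elements which preserve the orbit -/
def StO : Subgroup ↥G23 where
  carrier := {g | ∀ u, InO u ↔ InO (g.val u)}
  mul_mem' := by
    intro a b ha hb u
    show InO u ↔ InO (a.val (b.val u))
    rw [hb u, ha (b.val u)]
  one_mem' := fun u => Iff.rfl
  inv_mem' := by
    intro a ha u
    show InO u ↔ InO ((a.val)⁻¹ u)
    have h := ha ((a.val)⁻¹ u)
    have e : a.val ((a.val)⁻¹ u) = u := Equiv.apply_symm_apply a.val u
    rw [e] at h
    exact h.symm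

/-- the Sylow subgroup -/
def S2 : Subgroup ↥G23 := A2 ⊔ T2

theorem A2_le_S2 : A2 ≤ S2 := le_sup_left

theorem T2_le_S2 : T2 ≤ S2 := le_sup_right

theorem S2_le_StO : S2 ≤ StO := by
  unfold S2
  apply sup_le
  · unfold A2
    rw [Subgroup.closure_le]
    rintro g ⟨i, hi, rfl⟩
    exact inO_of_chk (acts_eG i hi) (eG_sq i hi) ((allBelow_iff _ _).1 ainv_chk0 i hi)
  · unfold T2
    rw [Subgroup.closure_le]
    rintro g ⟨c, hc, rfl⟩
    exact inO_of_chk (acts_xg c hc) (xg_sq c hc) ((allBelow_iff _ _).1 xinv_chk0 c hc)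

theorem S2_orb (g : ↥G23) (hg : g ∈ S2) : ∃ m < 1024, OT m = (g.val p0F).val :=
  (S2_le_StO hg p0F).1 InO_p0F

/-! ### The order -/

theorem nrm_chk (c : ℕ) (hc : c < 4) (i : ℕ) (hi : i < 10) :
    xg c * eG i * xg c = ((NW c i).map eG).prod ∧ ∀ l ∈ NW c i, l < 10 := by
  have h := (allBelow_iff _ _).1 ((allBelow_iff _ _).1 nrm_chk0 c hc) i hi
  unfold nrmOK at h
  rw [Bool.and_eq_true, List.all_eq_true, allBelow_iff] at h
  have hl : ∀ l ∈ NW c i, l < 10 := fun l hl => Eq.mp Nat.blt_eq (h.1 l hl)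
  refine ⟨?_, hl⟩
  apply ext_base
  intro k hk
  have e : (((NW c i).map eG).prod : ↥G23).val = ((NW c i).map fun l => (eG l).val).prod := by
    rw [← Subgroup.coe_subtype, map_list_prod, List.map_map]
    rfl
  rw [e, prod_apply_of ACL (fun l => (eG l).val) (NW c i)
    (fun l hl' => acts_eG l (hl l hl')) (bpt k), bpt_val k hk]
  show ((xg c).val ((eG i).val ((xg c).val (bpt k)))).val = _
  rw [acts_xg c hc, acts_eG i hi, acts_xg c hc, bpt_val k hk]
  exact Nat.eq_of_beq_eq_true (h.2 k hk)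

theorem prod_eG_mem (w : List ℕ) (hw : ∀ l ∈ w, l < 10) : (w.map eG).prod ∈ A2 := by
  apply Subgroup.list_prod_mem
  intro x hx
  obtain ⟨l, hl, rfl⟩ := List.mem_map.1 hx
  exact eG_mem l (hw l hl)

theorem xg_conj_mem (c : ℕ) (hc : c < 4) (a : ↥G23) (ha : a ∈ A2) : xg c * a * xg c ∈ A2 := by
  unfold A2 at ha
  induction ha using Subgroup.closure_induction with
  | mem x hx =>
    obtain ⟨i, hi, rfl⟩ := hx
    obtain ⟨h1, h2⟩ := nrm_chk c hc i hi
    rw [h1]
    exact prod_eG_mem _ h2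
  | one =>
    rw [mul_one, xg_sq c hc]
    exact A2.one_mem
  | mul x y hx hy ihx ihy =>
    have e : xg c * (x * y) * xg c = (xg c * x * xg c) * (xg c * y * xg c) := by
      have := xg_sq c hc
      calc xg c * (x * y) * xg c = xg c * x * 1 * y * xg c := by group
        _ = xg c * x * (xg c * xg c) * y * xg c := by rw [this]
        _ = _ := by group
    rw [e]
    exact A2.mul_mem ihx ihy
  | inv x hx ihx =>
    have e : xg c * x⁻¹ * xg c = (xg c * x * xg c)⁻¹ := by
      have h1 : (xg c)⁻¹ = xg c := (xg_inv c hc).symm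
      rw [mul_inv_rev, mul_inv_rev, h1, mul_assoc]
    rw [e]
    exact A2.inv_mem ihx

theorem T2_le_normalizer : T2 ≤ Subgroup.normalizer (A2 : Set ↥G23) := by
  unfold T2
  rw [Subgroup.closure_le]
  rintro g ⟨c, hc, rfl⟩
  rw [SetLike.mem_coe, Subgroup.mem_normalizer_iff]
  have h1 : (xg c)⁻¹ = xg c := (xg_inv c hc).symm
  intro a
  rw [h1]
  refine ⟨xg_conj_mem c hc a, fun h => ?_⟩
  have h2 := xg_conj_mem c hc _ h
  have e : xg c * (xg c * a * xg c) * xg c = a := by
    have := xg_sq c hc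
    calc xg c * (xg c * a * xg c) * xg c = (xg c * xg c) * a * (xg c * xg c) := by group
      _ = a := by rw [this, one_mul, mul_one]
  rwa [e] at h2

theorem S2_pgroup : IsPGroup 2 ↥S2 :=
  IsPGroup.to_sup_of_normal_left' A2_pgroup (IsPGroup.of_card card_T2) T2_le_normalizer

/-- an element of the elementary abelian group for each point of the orbit -/
noncomputable def aM (m : Fin 1024) : ↥G23 := Classical.choose (orb_mem m.val m.2)

theorem aM_mem (m : Fin 1024) : aM m ∈ A2 := (Classical.choose_spec (orb_mem m.val m.2)).1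

theorem aM_spec (m : Fin 1024) : ((aM m).val p0F).val = OT m.val :=
  (Classical.choose_spec (orb_mem m.val m.2)).2

theorem card_S2_ge : 2 ^ 18 ≤ Nat.card ↥S2 := by
  let f : Fin 1024 × Fin 256 → ↥S2 := fun p =>
    ⟨aM p.1 * D.node xg p.2.val,
      S2.mul_mem (A2_le_S2 (aM_mem p.1)) (T2_le_S2 (node_mem p.2.val p.2.2))⟩
  have hf : Function.Injective f := by
    rintro ⟨m, i⟩ ⟨m', i'⟩ h
    have h1 : aM m * D.node xg i.val = aM m' * D.node xg i'.val := congrArg Subtype.val h
    have h2 := congrArg (fun k : ↥G23 => (k.val p0F).val) h1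
    have h3 : ((aM m).val ((D.node xg i.val).val p0F)).val =
        ((aM m').val ((D.node xg i'.val).val p0F)).val := h2
    rw [T2_fix _ (node_mem i.val i.2), T2_fix _ (node_mem i'.val i'.2), aM_spec, aM_spec] at h3
    have hm : m = m' := Fin.ext (OT_inj m.val m'.val m.2 m'.2 h3)
    subst hm
    have h4 : D.node xg i.val = D.node xg i'.val := mul_left_cancel h1
    have hi : i = i' := Fin.ext (node_inj i.val i'.val i.2 i'.2 h4)
    rw [hi]
  have hfin : Finite ↥S2 := inferInstance
  have := Nat.card_le_card_of_injective f hf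
  rw [Nat.card_prod, Nat.card_fin, Nat.card_fin] at this
  exact this

theorem card_S2 : Nat.card ↥S2 = 2 ^ 18 := by
  have : Fact (Nat.Prime 2) := ⟨Nat.prime_two⟩
  obtain ⟨k, hk⟩ := S2_pgroup.exists_card_eq
  have hd : Nat.card ↥S2 ∣ Nat.card ↥G23 := Subgroup.card_subgroup_dvd_card S2
  rw [card_G23, hk] at hd
  have hge := card_S2_ge
  rw [hk] at hge
  have h1 : k ≤ 18 := by
    by_contra hlt
    have h19 : 2 ^ 19 ∣ 2 ^ k := Nat.pow_dvd_pow 2 (by omega)
    have := dvd_trans h19 hd
    revert this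
    norm_num
  have h2 : 18 ≤ k := by
    by_contra hlt
    have : 2 ^ k ≤ 2 ^ 17 := Nat.pow_le_pow_right (by norm_num) (by omega)
    omega
  rw [hk, le_antisymm h1 h2]

theorem not_dvd_index_S2 : ¬ 2 ∣ S2.index := by
  have h := Subgroup.card_mul_index S2
  rw [card_S2, card_G23] at h
  have : S2.index = 161382375 := by omega
  rw [this]
  decide

/-! ### The centre -/

/-- the central involution -/
def yE : ↥G23 := (YW.map eG).prod

theorem yw_lt : ∀ l ∈ YW, l < 10 := by
  have h := yw_chk0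
  rw [List.all_eq_true] at h
  exact fun l hl => Eq.mp Nat.blt_eq (h l hl)

theorem yE_mem_A2 : yE ∈ A2 := prod_eG_mem YW yw_lt

theorem yE_mem : yE ∈ S2 := A2_le_S2 yE_mem_A2

theorem yE_apply (u : Fin 2300) : (yE.val u).val = appL ACL YW u.val := by
  have e : yE.val = (YW.map fun l => (eG l).val).prod := by
    unfold yE
    rw [← Subgroup.coe_subtype, map_list_prod, List.map_map]
    rfl
  rw [e, prod_apply_of ACL (fun l => (eG l).val) YW (fun l hl' => acts_eG l (yw_lt l hl')) u]

theorem yE_p0 : (yE.val p0F).val = OT MY := by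
  rw [yE_apply]
  exact Nat.eq_of_beq_eq_true yp0_chk0

theorem MY_lt : MY < 1024 := by
  have h := my_chk0
  rw [Bool.and_eq_true] at h
  exact Eq.mp Nat.blt_eq h.1

theorem yE_ne_one : yE ≠ 1 := by
  intro h
  have h1 := yE_p0
  rw [h] at h1
  have h2 := my_chk0
  rw [Bool.and_eq_true, Bool.not_eq_true'] at h2
  have h3 : (Nat.beq (OT MY) P0) = true := by
    rw [← h1]
    exact Nat.beq_refl _
  rw [h3] at h2
  exact Bool.noConfusion h2.2

theorem yE_comm_xg (c : ℕ) (hc : c < 4) : yE * xg c = xg c * yE := by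
  apply ext_base
  intro k hk
  rw [val_mul_apply, val_mul_apply, yE_apply, acts_xg c hc, acts_xg c hc, yE_apply, bpt_val k hk]
  have h := (allBelow_iff _ _).1 ycom_chk0 c hc
  unfold ycomOK at h
  rw [allBelow_iff] at h
  exact Nat.eq_of_beq_eq_true (h k hk)

theorem yE_central (s : ↥G23) (hs : s ∈ S2) : yE * s = s * yE := by
  have hle : S2 ≤ Subgroup.centralizer {yE} := by
    unfold S2
    apply sup_le
    · exact A2_le_centralizer yE (fun i hi => A2_comm_gen i hi yE yE_mem_A2)
    · unfold T2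
      rw [Subgroup.closure_le]
      rintro g ⟨c, hc, rfl⟩
      rw [SetLike.mem_coe, Subgroup.mem_centralizer_iff]
      intro h hh
      rw [Set.mem_singleton_iff.1 hh]
      exact yE_comm_xg c hc
  exact comm_of_mem_centralizer (hle hs)

theorem base_chk (k : ℕ) (hk : k < 6) : BM k < 1024 ∧ OT (BM k) = bv k := by
  have h := (allBelow_iff _ _).1 base_chk0 k hk
  unfold baseOK at h
  rw [Bool.and_eq_true] at h
  exact ⟨Eq.mp Nat.blt_eq h.1, Nat.eq_of_beq_eq_true h.2⟩

/-- a central element is determined by the image of the first point of the orbit -/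
theorem central_eq (g : ↥G23) (hc : ∀ s ∈ S2, g * s = s * g) (a : ↥G23)
    (ha : a ∈ A2) (h : g.val p0F = a.val p0F) : g = a := by
  apply ext_base
  intro k hk
  obtain ⟨h1, h2⟩ := base_chk k hk
  obtain ⟨b, hb, hb'⟩ := orb_mem (BM k) h1
  have e : bpt k = b.val p0F := by
    apply Fin.ext
    rw [bpt_val k hk, hb', h2]
  rw [e]
  have e1 : g.val (b.val p0F) = b.val (g.val p0F) := by
    have := congrArg (fun t : ↥G23 => t.val p0F) (hc b (A2_le_S2 hb))
    exact this
  have e2 : a.val (b.val p0F) = b.val (a.val p0F) := by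
    have := congrArg (fun t : ↥G23 => t.val p0F) (A2_comm a b ha hb)
    exact this
  rw [e1, e2, h]

theorem fx_chk (m : ℕ) (hm : m < 1024) : m = 0 ∨ m = MY ∨
    ∃ c < 4, tg (XC c) 12 (OT m) ≠ OT m := by
  have h := (allBelow_iff _ _).1 fx_chk0 m hm
  unfold fxOK at h
  rw [Bool.or_eq_true, Bool.or_eq_true] at h
  rcases h with (h | h) | h
  · exact Or.inl (Nat.eq_of_beq_eq_true h)
  · exact Or.inr (Or.inl (Nat.eq_of_beq_eq_true h))
  · right; right
    rw [force_eq, Bool.and_eq_true, Bool.not_eq_true'] at h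
    refine ⟨FX m, Eq.mp Nat.blt_eq h.1, fun e => ?_⟩
    rw [e, Nat.beq_refl] at h
    exact Bool.noConfusion h.2

/-- the centre of the Sylow subgroup has order two -/
theorem center_S2 (g : ↥G23) (hg : g ∈ S2) (hc : ∀ s ∈ S2, g * s = s * g) :
    g = 1 ∨ g = yE := by
  obtain ⟨m, hm, e⟩ := S2_orb g hg
  rcases fx_chk m hm with h | h | ⟨c, hc4, hne⟩
  · left
    apply central_eq g hc 1 A2.one_mem
    apply Fin.ext
    rw [← e, h]
    exact Nat.eq_of_beq_eq_true ot0_chk0
  · right
    apply central_eq g hc yE yE_mem_A2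
    apply Fin.ext
    rw [← e, h, yE_p0]
  · exfalso
    apply hne
    have h1 := congrArg (fun t : ↥G23 => (t.val p0F).val) (hc (xg c) (T2_le_S2 (xg_mem c hc4)))
    have h2 : (g.val ((xg c).val p0F)).val = ((xg c).val (g.val p0F)).val := h1
    rw [xg_fix c hc4, acts_xg c hc4, ← e] at h2
    exact h2.symm

/-- automorphisms move the central involution to a conjugate of it -/
theorem exists_conj_yE (φ : MulAut ↥G23) : ∃ g : ↥G23, g * φ yE * g⁻¹ = yE :=
  Co3XG.exists_conj_eq_of_central S2 18 card_S2 not_dvd_index_S2 yE yE_mem yE_ne_one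
    yE_central center_S2 φ

end Cfsg.Agent.Helper29.Co2T
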