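import Mathlib
import Cfsg.Agent.Lib.Helper29.Co2OutA
import Cfsg.Agent.Lib.Helper26.AutInner
import Cfsg.Agent.Lib.Helper29.Co2TwoA

set_option autoImplicit false
set_option maxRecDepth 8000
open Cfsg

/-! The automorphisms of the second Conway group on 2300 points are inner. -/

namespace Cfsg.Agent.Helper29.Co2X

open Cfsg.Agent.Helper29.HSP (tg force force_eq allBelow allBelow_iff)
open Cfsg.Agent.Helper29.PW Cfsg.Agent.Helper29.Co2M
open Cfsg.Agent.Helper29.Co2D (ECL)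
open Cfsg.Agent.Helper29.Co2XD Cfsg.Agent.Helper29.DedCheck
open Cfsg.Agent.Helper29.HSXG Cfsg.Agent.Helper29.Co3XG Cfsg.Agent.Helper26

/-! ### The elements -/

def xE : ↥G23 := ⟨xP, xP_mem⟩
def yE : ↥G23 := ⟨yP, yP_mem⟩

theorem wn_letters : ∀ l ∈ Wn, l < 42 := by
  have h := n_chk0
  unfold nOK at h
  rw [Bool.and_eq_true, List.all_eq_true] at h
  exact fun l hl => Eq.mp Nat.blt_eq (h.1 l hl)

def nE : ↥G23 := ⟨evalW Wn, evalW_mem _ wn_letters⟩

theorem xE_pow23 : xE ^ 23 = 1 := by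
  apply Subtype.ext
  rw [Subgroup.coe_pow]
  exact xP_pow23

theorem xE_ne_one : xE ≠ 1 := fun h => xP_ne_one (congrArg Subtype.val h)

theorem nE_conj : nE * xE * nE⁻¹ = xE ^ 2 := by
  rw [mul_inv_eq_iff_eq_mul]
  apply Co2T.ext_base
  intro k hk
  have e : (xE ^ 2).val = xP ^ 2 := by
    rw [Subgroup.coe_pow]
    rfl
  have e1 : nE.val = evalW Wn := rfl
  have e2 : xE.val = xP := rfl
  rw [Co2T.val_mul_apply, Co2T.val_mul_apply, e, e1, e2, evalW_apply _ wn_letters, acts_xP, acts_xpow 2 (by norm_num),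
    evalW_apply _ wn_letters, bpt_val k hk]
  have h := n_chk0
  unfold nOK at h
  rw [Bool.and_eq_true, allBelow_iff] at h
  exact Nat.eq_of_beq_eq_true (h.2 k hk)

theorem yE_sq : yE * yE = 1 := Subtype.ext yP_sq

theorem yE_ne_one : yE ≠ 1 := fun h => yP_ne_one (congrArg Subtype.val h)

theorem not_529_dvd : ¬ 529 ∣ Nat.card ↥G23 := by
  rw [card_G23]
  norm_num

/-- every automorphism moves `xE` to a conjugate of it or of its inverse -/
theorem stepA (φ : MulAut ↥G23) :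
    ∃ g : ↥G23, (MulAut.conj g * φ) xE = xE ∨ (MulAut.conj g * φ) xE = xE ^ 22 := by
  obtain ⟨g, hg⟩ := exists_conj_eq_of_twentythree xE nE xE_pow23 xE_ne_one not_529_dvd nE_conj φ
  refine ⟨g, ?_⟩
  rw [MulAut.mul_apply, MulAut.conj_apply]
  exact hg

/-! ### The central involution -/

theorem zE_eq : Co2T.yE = yE := by
  apply Co2T.ext_base
  intro k hk
  rw [Co2T.yE_apply, bpt_val k hk]
  show _ = (yP (bpt k)).val
  rw [acts_yP, bpt_val k hk]
  have h := (allBelow_iff _ _).1 yw_eq_chk0 k hk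
  exact Nat.eq_of_beq_eq_true h

/-- the image of `yE` under an automorphism is in the list -/
theorem inL_image (φ : MulAut ↥G23) : InL (φ yE).val := by
  obtain ⟨g, hg⟩ := Co2T.exists_conj_yE φ
  rw [zE_eq] at hg
  have e : (φ yE).val = (g⁻¹).val * yP * ((g⁻¹).val)⁻¹ := by
    have h1 : φ yE = g⁻¹ * (g * φ yE * g⁻¹) * (g⁻¹)⁻¹ := by group
    rw [hg] at h1
    rw [h1, Subgroup.coe_mul, Subgroup.coe_mul, Subgroup.coe_inv]
    rfl
  rw [e]
  exact inL_conj _ (g⁻¹).2 _ inL_y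

/-! ### The relations -/

theorem hRL : ∀ r ∈ RL, ∀ e ∈ r.1, e < 23 := by decide

theorem hRLm : ∀ r ∈ RLm, ∀ e ∈ r.1, e < 23 := by decide

theorem RLm_eq : RLm = RL.map fun r => (r.1.map fun e => 23 - e, r.2) := by decide

theorem coe_relEl (x t : ↥G23) (E : List ℕ) : (relEl x t E).val = relEl x.val t.val E :=
  map_relEl G23.subtype x t E

theorem rel_y : ∀ r ∈ RL, relEl xE yE r.1 ^ r.2 = 1 := by
  intro r hr
  apply Subtype.ext
  rw [Subgroup.coe_pow, coe_relEl]
  exact (relsOK_iff xP yP (pathApp []) acts_xpow (pathEl_apply []) RL hRL).1 y_chk.2.1 r hr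

theorem relEl_pow22 {M : Type*} [Monoid M] (x t : M) (hx : x ^ 23 = 1) (E : List ℕ)
    (hE : ∀ e ∈ E, e < 23) : relEl (x ^ 22) t E = relEl x t (E.map fun e => 23 - e) := by
  unfold relEl
  rw [List.map_map]
  congr 1
  apply List.map_congr_left
  intro e he
  show (x ^ 22) ^ e * t = x ^ (23 - e) * t
  congr 1
  have h23 := hE e he
  rcases e with _ | e'
  · rw [pow_zero, Nat.sub_zero, hx]
  · rw [← pow_mul]
    have e1 : 22 * (e' + 1) = 23 * e' + (23 - (e' + 1)) := by omega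
    rw [e1, pow_add, pow_mul, hx, one_pow, one_mul]

/-- conjugation by a power of `xE` of a syllable word -/
theorem relEl_conj (j : ℕ) (t : ↥G23) (E : List ℕ) :
    (xE ^ j)⁻¹ * relEl xE t E * xE ^ j = relEl xE ((xE ^ j)⁻¹ * t * xE ^ j) E := by
  have h := map_relEl (MulAut.conj ((xE ^ j)⁻¹)).toMonoidHom xE t E
  rw [MulEquiv.coe_toMonoidHom, MulAut.conj_apply, MulAut.conj_apply, MulAut.conj_apply,
    inv_inv] at h
  rw [h]
  congr 1
  have : Commute (xE ^ j) xE := (Commute.refl xE).pow_left j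
  calc (xE ^ j)⁻¹ * xE * xE ^ j = (xE ^ j)⁻¹ * (xE * xE ^ j) := by group
    _ = (xE ^ j)⁻¹ * (xE ^ j * xE) := by rw [this.eq]
    _ = xE := by group

theorem pow_conj_one {M : Type*} [Group M] (a b : M) (m : ℕ) (h : b ^ m = 1) :
    (a⁻¹ * b * a) ^ m = 1 := by
  have : a⁻¹ * b * a = MulAut.conj a⁻¹ b := by rw [MulAut.conj_apply, inv_inv]
  rw [this, ← map_pow, h, map_one]

/-- an automorphism fixing `xE` is the conjugation by a power of it -/
theorem image_fix (φ : MulAut ↥G23) (hx : φ xE = xE) :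
    ∃ j < 23, φ yE = xE ^ j * yE * (xE ^ j)⁻¹ := by
  obtain ⟨r, hr, j, hj, hact⟩ := inL_image φ
  have hval : ((xE ^ j)⁻¹ * φ yE * xE ^ j).val = (xP ^ j)⁻¹ * (φ yE).val * xP ^ j := by
    rw [Subgroup.coe_mul, Subgroup.coe_mul, Subgroup.coe_inv, Subgroup.coe_pow]
    rfl
  have hrel : ∀ rr ∈ RL, relEl xP (tE r) rr.1 ^ rr.2 = 1 := by
    intro rr hrr
    have h3 : relEl xE (φ yE) rr.1 ^ rr.2 = 1 := by
      have : relEl xE (φ yE) rr.1 = φ (relEl xE yE rr.1) := by
        have := map_relEl φ.toMonoidHom xE yE rr.1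
        rw [MulEquiv.coe_toMonoidHom, hx] at this
        exact this.symm
      rw [this, ← map_pow, rel_y rr hrr, map_one]
    have h4 := pow_conj_one (xE ^ j) _ rr.2 h3
    rw [relEl_conj] at h4
    have h5 := congrArg Subtype.val h4
    rw [Subgroup.coe_pow, coe_relEl, hval, hact] at h5
    exact h5
  have hf := filt_chk0 r hr
  unfold filtOK at hf
  rw [Bool.or_eq_true] at hf
  rcases hf with hf | hf
  swap
  · exact (not_rels_of_wit xP (tE r) r _ acts_xpow (pathEl_apply (path r)) RL hRL hf hrel).elim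
  · have hrIY : r = IY := Nat.eq_of_beq_eq_true hf
    rw [hrIY, tE_IY] at hact
    refine ⟨j, hj, ?_⟩
    have e2 : (xE ^ j)⁻¹ * φ yE * xE ^ j = yE := by
      apply Subtype.ext
      rw [hval, hact]
      rfl
    have e3 : φ yE = xE ^ j * ((xE ^ j)⁻¹ * φ yE * xE ^ j) * (xE ^ j)⁻¹ := by group
    rw [e2] at e3
    exact e3

/-- no automorphism inverts `xE` -/
theorem no_inverting (φ : MulAut ↥G23) (hx : φ xE = xE ^ 22) : False := by
  obtain ⟨r, hr, j, hj, hact⟩ := inL_image φ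
  have hval : ((xE ^ j)⁻¹ * φ yE * xE ^ j).val = (xP ^ j)⁻¹ * (φ yE).val * xP ^ j := by
    rw [Subgroup.coe_mul, Subgroup.coe_mul, Subgroup.coe_inv, Subgroup.coe_pow]
    rfl
  have hrel : ∀ rr ∈ RLm, relEl xP (tE r) rr.1 ^ rr.2 = 1 := by
    rw [RLm_eq]
    intro r' hr'
    obtain ⟨rr, hrr, rfl⟩ := List.mem_map.1 hr'
    show relEl xP _ (rr.1.map fun e => 23 - e) ^ rr.2 = 1
    have h3 : relEl xE (φ yE) (rr.1.map fun e => 23 - e) ^ rr.2 = 1 := by
      have : relEl xE (φ yE) (rr.1.map fun e => 23 - e) = φ (relEl xE yE rr.1) := by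
        have := map_relEl φ.toMonoidHom xE yE rr.1
        rw [MulEquiv.coe_toMonoidHom, hx, relEl_pow22 xE (φ yE) xE_pow23 rr.1 (hRL rr hrr)] at this
        exact this.symm
      rw [this, ← map_pow, rel_y rr hrr, map_one]
    have h4 := pow_conj_one (xE ^ j) _ rr.2 h3
    rw [relEl_conj] at h4
    have h5 := congrArg Subtype.val h4
    rw [Subgroup.coe_pow, coe_relEl, hval, hact] at h5
    exact h5
  have hf := filtm_chk0 r hr
  unfold filtOKm at hf
  exact not_rels_of_wit xP (tE r) r _ acts_xpow (pathEl_apply (path r)) RLm hRLm hf hrel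

/-! ### Generation -/

theorem closure_xy : Subgroup.closure ({xE, yE} : Set ↥G23) = ⊤ := by
  have h := Subgroup.closure_closure_coe_preimage (k := {g : Pm | ∃ k < 2, gp k = g})
  have e : ((↑) : ↥(Subgroup.closure {g : Pm | ∃ k < 2, gp k = g}) → Pm) ⁻¹'
      {g : Pm | ∃ k < 2, gp k = g} = ({xE, yE} : Set ↥G23) := by
    ext g
    constructor
    · rintro ⟨k, hk, hg⟩
      interval_cases k
      · left
        exact Subtype.ext hg.symm
      · right
        exact Subtype.ext hg.symm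
    · rintro (rfl | rfl)
      · exact ⟨0, by norm_num, rfl⟩
      · exact ⟨1, by norm_num, rfl⟩
  rw [e] at h
  exact h

theorem aut_ext {φ ψ : MulAut ↥G23} (hx : φ xE = ψ xE) (hy : φ yE = ψ yE) : φ = ψ := by
  have key : φ.toMonoidHom = ψ.toMonoidHom := by
    apply MonoidHom.eq_of_eqOn_dense closure_xy
    rintro x (rfl | rfl)
    · exact hx
    · exact hy
  exact MulEquiv.ext (fun x => DFunLike.congr_fun key x)

/-! ### Every automorphism is inner -/

theorem aut_inner (φ : MulAut ↥G23) : ∃ g : ↥G23, φ = MulAut.conj g := by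
  obtain ⟨g1, hx⟩ := stepA φ
  obtain ⟨ψ, hψ⟩ : ∃ ψ : MulAut ↥G23, ψ = MulAut.conj g1 * φ := ⟨_, rfl⟩
  rw [← hψ] at hx
  rcases hx with hx | hx
  swap
  · exact (no_inverting ψ hx).elim
  have hφ : φ = MulAut.conj g1⁻¹ * ψ := by
    rw [hψ, map_inv]
    group
  obtain ⟨j, _, hy⟩ := image_fix ψ hx
  have hψ2 : ψ = MulAut.conj (xE ^ j) := by
    apply aut_ext
    · rw [hx, MulAut.conj_apply]
      have : Commute (xE ^ j) xE := (Commute.refl xE).pow_left j
      rw [this.eq]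
      group
    · rw [hy, MulAut.conj_apply]
  exact ⟨g1⁻¹ * xE ^ j, by rw [hφ, hψ2, map_mul]⟩

theorem card_Out_G23 : Nat.card (Cfsg.Out ↥G23) = 1 := AutInner.card_Out_eq_one aut_inner

/-! ### Transport to the Conway group -/

theorem card_Out_congr_Co2 {Γ Δ : Type*} [Group Γ] [Group Δ] (e : Γ ≃* Δ) :
    Nat.card (Cfsg.Out Γ) = Nat.card (Cfsg.Out Δ) := by
  have hmap : (Cfsg.Inn Γ).map (MulAut.congr e).toMonoidHom = Cfsg.Inn Δ := by
    ext ψ
    constructor
    · rintro ⟨φ, ⟨g, rfl⟩, rfl⟩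
      refine ⟨e g, ?_⟩
      ext x
      simp [MulAut.congr, MulAut.conj_apply]
    · rintro ⟨d, rfl⟩
      refine ⟨MulAut.conj (e.symm d), ⟨e.symm d, rfl⟩, ?_⟩
      ext x
      simp [MulAut.congr, MulAut.conj_apply]
  exact Nat.card_congr
    (QuotientGroup.congr (Cfsg.Inn Γ) (Cfsg.Inn Δ) (MulAut.congr e) hmap).toEquiv

/-- **The outer automorphism group of the second Conway group is trivial.** -/
theorem card_Out_Co2 : Nat.card (Cfsg.Out ↥Cfsg.Spor.Co2) = 1 := by
  obtain ⟨e⟩ := iso_Co2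
  rw [← card_Out_congr_Co2 e]
  exact card_Out_G23

end Cfsg.Agent.Helper29.Co2X
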