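import Mathlib
import Cfsg.Agent.Lib.Helper29.McLModelB
import Cfsg.Agent.Lib.Helper29.Co3Data
import Cfsg.Agent.Lib.Helper27.Co3Simple
import Cfsg.Agent.Lib.Helper27.CoOrders

set_option autoImplicit false
set_option maxRecDepth 8000
open Cfsg

/-! The third Conway group on 276 points: the stabiliser of the standard vector of norm 48 acts
faithfully on the 276 pairs of minimal vectors with sum that vector, and explicit lattice
automorphisms give explicit permutations. -/

namespace Cfsg.Agent.Helper29.Co3M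

open Cfsg.Agent.Helper27 Cfsg.Agent.Helper29 Cfsg.Agent.Helper29.LV
open Cfsg.Agent.Helper29.Co3D (PT MG TWF SWW basePts sizes orbMasks transWords)
open Cfsg.Agent.Helper29.McLD (U5c V44c)
open Cfsg.Agent.Helper29.McLM (U5_eq V44_eq base_chk)
open Cfsg.Agent.Helper29.HSP (tg force force_eq allBelow allBelow_iff cnt card_filter_eq_cnt)
open Cfsg.Agent.Helper29.PP9 (ent build ent_build ent_lt)
open Cfsg.Agent.Helper29.PN
open Cfsg.Agent.S0358 (idx)
open MulAction

def pt (j : ℕ) : ℕ := PT.getD j 0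
def mgen (k : ℕ) : List ℕ := MG.getD k []
def twf (j : ℕ) : List ℕ := TWF.getD j []
def pc (k : ℕ) : ℕ := Co3D.PC.getD k 0

/-- the code of the difference of the standard vector and the vector with code `V` -/
def compV (V : ℕ) : ℕ := packN fun i => ent U5c i + 256 - ent V i

set_option maxRecDepth 100000 in
theorem u5c_ent : ∀ i < 24, 257 ≤ ent U5c i ∧ ent U5c i ≤ 261 := by decide +kernel

theorem toFun_compV (V : ℕ) (h : okV V = true) :
    LV.toFun (compV V) = LV.toFun U5c - LV.toFun V := by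
  funext p
  obtain ⟨h1, h2⟩ := okV_spec h (idx p) (M24.idx_lt p)
  obtain ⟨h3, h4⟩ := u5c_ent (idx p) (M24.idx_lt p)
  show LV.toFun (compV V) p = LV.toFun U5c p - LV.toFun V p
  unfold LV.toFun crd compV
  rw [ent_packN _ _ (M24.idx_lt p)]
  have e : (ent U5c (idx p) + 256 - ent V (idx p)) % 512 = ent U5c (idx p) + 256 - ent V (idx p) :=
    Nat.mod_eq_of_lt (by omega)
  rw [e]
  omega

/-! ### The computations -/

set_option maxRecDepth 100000 in
theorem mgen_chk : ∀ k < 2, appV (mgen k) U5c = U5c := by decide +kernel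

set_option maxRecDepth 100000 in
theorem twf_chk : ∀ j < 276, appV (twf j) U5c = U5c ∧ appV (twf j) V44c = pt j ∧
    okV (pt j) = true ∧ okV (compV (pt j)) = true := by
  decide +kernel

set_option maxRecDepth 100000 in
theorem sww_chk : appV SWW U5c = U5c ∧ appV SWW V44c = compV V44c ∧ okV (compV V44c) = true := by
  decide +kernel

set_option maxRecDepth 100000 in
theorem pt_lt : ∀ j < 276, pt j < 2 ^ 216 := by decide +kernel

set_option maxRecDepth 100000 in
theorem pt_mono : ∀ j < 275, pt j < pt (j + 1) := by decide +kernel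

set_option maxRecDepth 100000 in
theorem pt_even : ∀ j < 276, ent (pt j) 23 % 2 = 0 := by decide +kernel

/-- the image of a point under a generator, up to complement -/
def imgOK (k j : ℕ) : Bool :=
  force (appV (mgen k) (pt j)) fun a => force (pt (tg (pc k) 9 j)) fun b =>
    Nat.beq a b || Nat.beq a (compV b)

set_option maxRecDepth 100000 in
theorem img_chk0 : allBelow 2 (fun k => allBelow 276 fun j => imgOK k j) = true := by
  decide +kernel

set_option maxRecDepth 100000 in
theorem pc_chk : ∀ k < 2, validC 276 (pc k) (pc (k + 2)) = true := by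
  decide +kernel

/-! ### The group -/

/-- the stabiliser of the standard vector of norm 48 -/
def H3 : Subgroup ↥Co0 := stabilizer ↥Co0 U5

theorem mem_H3 (g : ↥Co0) : g ∈ H3 ↔ g • U5 = U5 := mem_stabilizer_iff

theorem wordG_mem_H3 (w : List ℕ) (h1 : appV w U5c = U5c) : wordG w ∈ H3 := by
  rw [mem_H3]
  apply Subtype.ext
  rw [wordG_smul_code w U5 U5c U5c U5_eq h1 base_chk.1, U5_eq]

theorem H3_card : Nat.card ↥H3 = 495766656000 := card_stab48 U5 U5_norm

instance finite_H3 : Finite ↥H3 := Nat.finite_of_card_ne_zero (by rw [H3_card]; norm_num)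

/-! ### The points -/

def Y (j : ℕ) : leechLattice := wordG (twf j) • V44

def Yc (j : ℕ) : leechLattice := U5 - Y j

theorem Y_eq (j : ℕ) (hj : j < 276) : (Y j : GolayPt → ℤ) = toFun (pt j) := by
  obtain ⟨_, h2, h3, _⟩ := twf_chk j hj
  exact wordG_smul_code (twf j) V44 V44c (pt j) V44_eq h2 h3

theorem Yc_eq (j : ℕ) (hj : j < 276) : (Yc j : GolayPt → ℤ) = toFun (compV (pt j)) := by
  rw [toFun_compV _ (twf_chk j hj).2.2.1, ← U5_eq, ← Y_eq j hj]
  rfl

theorem pt_strict (a b : ℕ) (hab : a < b) (hb : b < 276) : pt a < pt b := by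
  induction b with
  | zero => omega
  | succ b ih =>
    rcases Nat.lt_succ_iff_lt_or_eq.1 hab with h | h
    · exact lt_trans (ih h (by omega)) (pt_mono b (by omega))
    · rw [h]; exact pt_mono b (by omega)

theorem Y_inj (j j' : ℕ) (hj : j < 276) (hj' : j' < 276) (h : Y j = Y j') : j = j' := by
  have h1 : toFun (pt j) = toFun (pt j') := by rw [← Y_eq j hj, ← Y_eq j' hj', h]
  have h2 := eq_of_toFun_eq (pt_lt j hj) (pt_lt j' hj') h1
  by_contra hne
  rcases Nat.lt_or_gt_of_ne hne with hlt | hlt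
  · exact absurd h2 (Nat.ne_of_lt (pt_strict j j' hlt hj'))
  · exact absurd h2.symm (Nat.ne_of_lt (pt_strict j' j hlt hj))

theorem u5c_23 : ent U5c 23 = 261 := by decide +kernel

theorem Y_ne_Yc (j j' : ℕ) (hj : j < 276) (hj' : j' < 276) : Y j ≠ Yc j' := by
  intro h
  have h1 : toFun (pt j) = toFun (compV (pt j')) := by rw [← Y_eq j hj, ← Yc_eq j' hj', h]
  rw [toFun_compV _ (twf_chk j' hj').2.2.1] at h1
  have h2 := congrFun h1 (M24.dec 23)
  rw [Pi.sub_apply, toFun_dec _ _ (by norm_num), toFun_dec _ _ (by norm_num),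
    toFun_dec _ _ (by norm_num)] at h2
  unfold crd at h2
  have e1 := pt_even j hj
  have e2 := pt_even j' hj'
  rw [u5c_23] at h2
  omega

theorem Yc_inj (j j' : ℕ) (hj : j < 276) (hj' : j' < 276) (h : Yc j = Yc j') : j = j' := by
  apply Y_inj j j' hj hj'
  unfold Yc at h
  exact sub_right_injective h

/-! ### The 552 vectors -/

/-- the 552 vectors -/
def T552 : Set leechLattice := {v | ∃ j < 276, v = Y j ∨ v = Yc j}

def f552 (k : Fin 552) : leechLattice := if k.val < 276 then Y k.val else Yc (k.val - 276)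

theorem f552_inj : Function.Injective f552 := by
  intro a b h
  unfold f552 at h
  apply Fin.ext
  have ha := a.2
  have hb := b.2
  by_cases h1 : a.val < 276
  · by_cases h2 : b.val < 276
    · rw [if_pos h1, if_pos h2] at h
      exact Y_inj _ _ h1 h2 h
    · rw [if_pos h1, if_neg h2] at h
      exact absurd h (Y_ne_Yc _ _ h1 (by omega))
  · by_cases h2 : b.val < 276
    · rw [if_neg h1, if_pos h2] at h
      exact absurd h.symm (Y_ne_Yc _ _ h2 (by omega))
    · rw [if_neg h1, if_neg h2] at h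
      have := Yc_inj _ _ (by omega) (by omega) h
      omega

theorem range_f552 : Set.range f552 = T552 := by
  ext v
  constructor
  · rintro ⟨k, rfl⟩
    unfold f552
    by_cases h1 : k.val < 276
    · rw [if_pos h1]
      exact ⟨k.val, h1, Or.inl rfl⟩
    · rw [if_neg h1]
      exact ⟨k.val - 276, by have := k.2; omega, Or.inr rfl⟩
  · rintro ⟨j, hj, rfl | rfl⟩
    · refine ⟨⟨j, by omega⟩, ?_⟩
      unfold f552
      rw [if_pos hj]
    · refine ⟨⟨j + 276, by omega⟩, ?_⟩
      unfold f552
      have e : ¬ ((⟨j + 276, by omega⟩ : Fin 552).val < 276) := by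
        show ¬ (j + 276 < 276)
        omega
      rw [if_neg e]
      show Yc j = Yc (j + 276 - 276)
      rw [Nat.add_sub_cancel]

theorem T552_ncard : T552.ncard = 552 := by
  rw [← range_f552, ← Set.image_univ, Set.ncard_image_of_injective _ f552_inj, Set.ncard_univ]
  simp

theorem orbit_ncard : (orbit ↥H3 V44).ncard = 552 := by
  have h := card_stabilizer_inf (G := ↥Co0) U5 V44
  have e : stabilizer ↥Co0 U5 ⊓ stabilizer ↥Co0 V44 = McLM.H := rfl
  rw [e, McLM.H_card, card_stab48 U5 U5_norm] at h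
  show (orbit ↥(stabilizer ↥Co0 U5) V44).ncard = 552
  generalize (orbit ↥(stabilizer ↥Co0 U5) V44).ncard = n at h
  omega

theorem smul_U5 (h : ↥H3) : h.1 • U5 = U5 := (mem_H3 h.1).1 h.2

theorem sww_smul : wordG SWW • V44 = U5 - V44 := by
  apply Subtype.ext
  rw [wordG_smul_code SWW V44 V44c (compV V44c) V44_eq sww_chk.2.1 sww_chk.2.2,
    toFun_compV _ base_chk.2, ← U5_eq, ← V44_eq]
  rfl

theorem T552_sub : T552 ⊆ orbit ↥H3 V44 := by
  rintro v ⟨j, hj, rfl | rfl⟩
  · exact ⟨⟨wordG (twf j), wordG_mem_H3 _ (twf_chk j hj).1⟩, rfl⟩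
  · refine ⟨⟨wordG (twf j) * wordG SWW,
      H3.mul_mem (wordG_mem_H3 _ (twf_chk j hj).1) (wordG_mem_H3 _ sww_chk.1)⟩, ?_⟩
    show (wordG (twf j) * wordG SWW) • V44 = U5 - wordG (twf j) • V44
    rw [mul_smul, sww_smul, smul_sub', (mem_H3 _).1 (wordG_mem_H3 _ (twf_chk j hj).1)]

theorem T552_eq : T552 = orbit ↥H3 V44 := by
  have hf : (orbit ↥H3 V44).Finite := by
    apply Set.finite_of_ncard_ne_zero
    rw [orbit_ncard]
    norm_num
  exact Set.eq_of_subset_of_ncard_le T552_sub (by rw [orbit_ncard, T552_ncard]) hf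

theorem smul_mem_T552 (h : ↥H3) (v : leechLattice) (hv : v ∈ T552) : h.1 • v ∈ T552 := by
  rw [T552_eq] at hv ⊢
  obtain ⟨g, rfl⟩ := hv
  exact ⟨h * g, mul_smul h g V44⟩

end Cfsg.Agent.Helper29.Co3M
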