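import Mathlib
import Cfsg.Agent.Lib.Helper29.Co3ModelA

set_option autoImplicit false
set_option maxRecDepth 8000
open Cfsg

/-! The third Conway group on 276 points: the permutation representation on the pairs, the
explicit group `G276` generated by two permutations, and the isomorphism with the stabiliser. -/

namespace Cfsg.Agent.Helper29.Co3M

open Cfsg.Agent.Helper27 Cfsg.Agent.Helper29 Cfsg.Agent.Helper29.LV
open Cfsg.Agent.Helper29.Co3D (PT MG TWF SWW basePts sizes orbMasks transWords)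
open Cfsg.Agent.Helper29.McLD (U5c V44c)
open Cfsg.Agent.Helper29.McLM (U5_eq V44_eq base_chk)
open Cfsg.Agent.Helper29.HSP (tg force force_eq allBelow allBelow_iff cnt card_filter_eq_cnt)
open Cfsg.Agent.Helper29.PN
open Cfsg.Agent.S0358 (idx)
open MulAction
open scoped Pointwise

instance neZero276 : NeZero 276 := ⟨by norm_num⟩

/-! ### The pairs -/

/-- the pair of the point `j` -/
def Pr (j : ℕ) : Set leechLattice := {Y j, Yc j}

theorem smul_Pr_eq (h : ↥H3) (j j' : ℕ) (hh : h.1 • Y j = Y j' ∨ h.1 • Y j = Yc j') :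
    h • Pr j = Pr j' := by
  have e0 : h • Pr j = {h.1 • Y j, U5 - h.1 • Y j} := by
    unfold Pr
    rw [Set.smul_set_insert, Set.smul_set_singleton]
    have e1 : h • Y j = h.1 • Y j := rfl
    have e2 : h • Yc j = U5 - h.1 • Y j := by
      show h.1 • (U5 - Y j) = _
      rw [smul_sub', smul_U5]
    rw [e1, e2]
  rw [e0]
  rcases hh with hh | hh
  · rw [hh]
    rfl
  · rw [hh]
    unfold Pr
    have : U5 - Yc j' = Y j' := by
      unfold Yc
      abel
    rw [this, Set.pair_comm]

theorem exists_smul_Pr (h : ↥H3) (j : ℕ) (hj : j < 276) : ∃ j' < 276, h • Pr j = Pr j' := by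
  obtain ⟨j', hj', hh⟩ := smul_mem_T552 h (Y j) ⟨j, hj, Or.inl rfl⟩
  exact ⟨j', hj', smul_Pr_eq h j j' hh⟩

theorem Pr_inj (j j' : ℕ) (hj : j < 276) (hj' : j' < 276) (h : Pr j = Pr j') : j = j' := by
  have hm : Y j ∈ Pr j' := by
    rw [← h]
    exact Set.mem_insert _ _
  rcases hm with hm | hm
  · exact Y_inj j j' hj hj' hm
  · exact absurd hm (Y_ne_Yc j j' hj hj')

/-- the action of the stabiliser on the 276 pairs -/
def Sm : SubMulAction ↥H3 (Set leechLattice) where
  carrier := {s | ∃ j < 276, s = Pr j}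
  smul_mem' := by
    rintro h s ⟨j, hj, rfl⟩
    obtain ⟨j', hj', e⟩ := exists_smul_Pr h j hj
    exact ⟨j', hj', e⟩

def Xm (j : Fin 276) : ↥Sm := ⟨Pr j.val, j.val, j.2, rfl⟩

theorem Xm_bij : Function.Bijective Xm := by
  constructor
  · intro j j' h
    apply Fin.ext
    exact Pr_inj j.val j'.val j.2 j'.2 (congrArg Subtype.val h)
  · rintro ⟨s, j, hj, rfl⟩
    exact ⟨⟨j, hj⟩, rfl⟩

noncomputable def eS : Fin 276 ≃ ↥Sm := Equiv.ofBijective Xm Xm_bij

/-- the permutation representation on the 276 points -/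
noncomputable def rho : ↥H3 →* Equiv.Perm (Fin 276) :=
  (eS.symm.permCongrHom).toMonoidHom.comp (MulAction.toPermHom ↥H3 ↥Sm)

theorem rho_spec (h : ↥H3) (j : Fin 276) : Pr (rho h j).val = h • Pr j.val := by
  have e1 : eS (rho h j) = h • eS j := by
    simp [rho, Equiv.permCongrHom, Equiv.permCongr_apply]
  exact congrArg Subtype.val e1

/-! ### The generators -/

def mgenH (k : ℕ) (hk : k < 2) : ↥H3 := ⟨wordG (mgen k), wordG_mem_H3 _ (mgen_chk k hk)⟩

/-- the two generating permutations -/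
def gp (k : ℕ) : Equiv.Perm (Fin 276) := cP 276 (pc k) (pc (k + 2))

theorem acts_gp (k : ℕ) (hk : k < 2) : Acts 276 (gp k) (pc k) := acts_cP (pc_chk k hk)

theorem acts_gp_inv (k : ℕ) (hk : k < 2) : Acts 276 (gp k)⁻¹ (pc (k + 2)) :=
  acts_cP_inv (pc_chk k hk)

theorem img_chk (k : ℕ) (hk : k < 2) (j : ℕ) (hj : j < 276) :
    appV (mgen k) (pt j) = pt (tg (pc k) 9 j) ∨
      appV (mgen k) (pt j) = compV (pt (tg (pc k) 9 j)) := by
  have h := (allBelow_iff _ _).1 ((allBelow_iff _ _).1 img_chk0 k hk) j hj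
  unfold imgOK at h
  rw [force_eq, force_eq, Bool.or_eq_true] at h
  rcases h with h | h
  · exact Or.inl (Nat.eq_of_beq_eq_true h)
  · exact Or.inr (Nat.eq_of_beq_eq_true h)

theorem rho_mgen (k : ℕ) (hk : k < 2) : rho (mgenH k hk) = gp k := by
  apply Equiv.ext
  intro j
  apply Fin.ext
  apply Pr_inj _ _ (Fin.is_lt _) (Fin.is_lt _)
  rw [rho_spec]
  have hv := acts_gp k hk j
  have h1 : tg (pc k) 9 j.val < 276 := by rw [← hv]; exact (gp k j).2
  rw [hv]
  apply smul_Pr_eq
  show wordG (mgen k) • Y j.val = Y _ ∨ wordG (mgen k) • Y j.val = Yc _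
  rcases img_chk k hk j.val j.2 with h | h
  · left
    apply Subtype.ext
    rw [Y_eq _ h1]
    exact wordG_smul_code (mgen k) (Y j.val) (pt j.val) _ (Y_eq j.val j.2) h (twf_chk _ h1).2.2.1
  · right
    apply Subtype.ext
    rw [Yc_eq _ h1]
    exact wordG_smul_code (mgen k) (Y j.val) (pt j.val) _ (Y_eq j.val j.2) h
      (twf_chk _ h1).2.2.2

/-- the explicit group -/
def G276 : Subgroup (Equiv.Perm (Fin 276)) := Subgroup.closure {g | ∃ k < 2, gp k = g}

theorem gp_mem (k : ℕ) (hk : k < 2) : gp k ∈ G276 := Subgroup.subset_closure ⟨k, hk, rfl⟩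

theorem G276_le : G276 ≤ rho.range := by
  unfold G276
  rw [Subgroup.closure_le]
  rintro g ⟨k, hk, rfl⟩
  exact ⟨mgenH k hk, rho_mgen k hk⟩

/-! ### The action is faithful -/

theorem gp0_ne_one : gp 0 ≠ 1 := by
  intro h
  have h1 := acts_gp 0 (by norm_num) 0
  rw [h] at h1
  revert h1
  decide +kernel

theorem rho_injective : Function.Injective rho := by
  have hs : IsSimpleGroup ↥H3 := co3_simple U5_norm
  rw [← MonoidHom.ker_eq_bot_iff]
  rcases (MonoidHom.normal_ker rho).eq_bot_or_eq_top with h | h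
  · exact h
  · exfalso
    have : mgenH 0 (by norm_num) ∈ rho.ker := by rw [h]; exact Subgroup.mem_top _
    rw [MonoidHom.mem_ker, rho_mgen] at this
    exact gp0_ne_one this

/-! ### Words -/

/-- the letters: the two generators and their inverses -/
def ge (l : ℕ) : Equiv.Perm (Fin 276) := if l < 2 then gp l else (gp (l - 2))⁻¹

theorem PC_length : Co3D.PC.length = 4 := by decide

theorem acts_ge : ∀ l < Co3D.PC.length, Acts 276 (ge l) (Co3D.PC.getD l 0) := by
  intro l hl
  rw [PC_length] at hl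
  unfold ge
  by_cases h : l < 2
  · rw [if_pos h]
    exact acts_gp l h
  · rw [if_neg h]
    have e : Co3D.PC.getD l 0 = pc (l - 2 + 2) := by
      unfold pc
      congr 1
      omega
    rw [e]
    exact acts_gp_inv (l - 2) (by omega)

theorem ge_mem (l : ℕ) (hl : l < 4) : ge l ∈ G276 := by
  unfold ge
  by_cases h : l < 2
  · rw [if_pos h]; exact gp_mem l h
  · rw [if_neg h]; exact G276.inv_mem (gp_mem _ (by omega))

/-- the permutation of a word -/
def evalW (w : List ℕ) : Equiv.Perm (Fin 276) := (w.map ge).prod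

theorem evalW_mem (w : List ℕ) (hw : ∀ l ∈ w, l < 4) : evalW w ∈ G276 := by
  apply Subgroup.list_prod_mem
  intro x hx
  obtain ⟨l, hl, rfl⟩ := List.mem_map.1 hx
  exact ge_mem l (hw l hl)

theorem evalW_apply (w : List ℕ) (hw : ∀ l ∈ w, l < 4) (u : Fin 276) :
    (evalW w u).val = appL Co3D.PC w u.val :=
  prod_apply Co3D.PC ge acts_ge w (by rw [PC_length]; exact hw) u

theorem evalW_append (w v : List ℕ) : evalW (w ++ v) = evalW w * evalW v := by
  unfold evalW
  rw [List.map_append, List.prod_append]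

theorem acts_evalW {c : ℕ} {w : List ℕ} (h : reprL 276 Co3D.PC c w = true) :
    Acts 276 (evalW w) c :=
  acts_of_reprL Co3D.PC ge acts_ge h

/-! ### The order -/

def bv (k : ℕ) : ℕ := basePts.getD k 0

def bpt (k : ℕ) : Fin 276 := ⟨bv k % 276, Nat.mod_lt _ (by norm_num)⟩

theorem bv_lt : ∀ k < 7, bv k < 276 := by decide

theorem bpt_val (k : ℕ) (hk : k < 7) : (bpt k).val = bv k := Nat.mod_eq_of_lt (bv_lt k hk)

def TW (k q : ℕ) : List ℕ := (transWords.getD k []).getD q []

def OM (k : ℕ) : ℕ := orbMasks.getD k 0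

set_option maxRecDepth 1000000 in
theorem tw_chk : ∀ k < 7, ∀ q < 276, Nat.testBit (OM k) q = true →
    (∀ l ∈ TW k q, l < 4) ∧ appL Co3D.PC (TW k q) (bv k) = q ∧
      ∀ j < k, appL Co3D.PC (TW k q) (bv j) = bv j := by decide +kernel

set_option maxRecDepth 100000 in
theorem om_chk : ∀ k < 7, cnt (fun q => Nat.testBit (OM k) q) 276 = sizes.getD k 0 := by
  decide +kernel

/-- the orbit of the base point `k` -/
def Orb (k : ℕ) : Finset (Fin 276) :=
  Finset.univ.filter (fun q : Fin 276 => Nat.testBit (OM k) q.val = true)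

theorem card_Orb (k : ℕ) (hk : k < 7) : (Orb k).card = sizes.getD k 0 := by
  unfold Orb
  rw [card_filter_eq_cnt (fun q => Nat.testBit (OM k) q) 276]
  exact om_chk k hk

theorem step (k : ℕ) (hk : k < 7) :
    sizes.getD k 0 * Nat.card ↥(Hst G276 bpt (k + 1)) ≤ Nat.card ↥(Hst G276 bpt k) := by
  rw [← card_Orb k hk]
  apply card_step_le (Hst G276 bpt k) (bpt k) (Orb k)
  intro q hq
  have hq' : Nat.testBit (OM k) q.val = true := (Finset.mem_filter.1 hq).2
  obtain ⟨h1, h2, h3⟩ := tw_chk k hk q.val q.2 hq'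
  refine ⟨evalW (TW k q.val), ?_, ?_⟩
  · rw [mem_Hst]
    refine ⟨evalW_mem _ h1, fun j hj => ?_⟩
    apply Fin.ext
    rw [evalW_apply _ h1, bpt_val j (by omega)]
    exact h3 j hj
  · apply Fin.ext
    rw [evalW_apply _ h1, bpt_val k hk]
    exact h2

theorem card_ge : 495766656000 ≤ Nat.card ↥G276 := by
  have h0 := step 0 (by norm_num)
  have h1 := step 1 (by norm_num)
  have h2 := step 2 (by norm_num)
  have h3 := step 3 (by norm_num)
  have h4 := step 4 (by norm_num)
  have h5 := step 5 (by norm_num)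
  have h6 := step 6 (by norm_num)
  have h7 : 1 ≤ Nat.card ↥(Hst G276 bpt 7) := Nat.card_pos
  have e : Hst G276 bpt 0 = G276 := rfl
  rw [e] at h0
  simp only [sizes, List.getD_cons_zero, List.getD_cons_succ, Nat.reduceAdd, zero_add]
    at h0 h1 h2 h3 h4 h5 h6
  omega

/-! ### The isomorphism -/

theorem range_card : Nat.card ↥rho.range = 495766656000 := by
  rw [← H3_card]
  exact Nat.card_congr (MonoidHom.ofInjective rho_injective).toEquiv.symm

theorem G276_eq : G276 = rho.range := by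
  have : Finite ↥rho.range := Nat.finite_of_card_ne_zero (by rw [range_card]; norm_num)
  apply Subgroup.eq_of_le_of_card_ge G276_le
  rw [range_card]
  exact card_ge

theorem card_G276 : Nat.card ↥G276 = 495766656000 := by rw [G276_eq, range_card]

instance finite_G276 : Finite ↥G276 := Nat.finite_of_card_ne_zero (by rw [card_G276]; norm_num)

theorem iso_H3 : Nonempty (↥G276 ≃* ↥H3) := by
  rw [G276_eq]
  exact ⟨(MonoidHom.ofInjective rho_injective).symm⟩

/-! ### The group of the definitions -/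

theorem mem_Co3_iff (g : ↥Co0) : (g : Equiv.Perm leechLattice) ∈ Spor.Co3 ↔ g ∈ H3 := by
  rw [mem_H3]
  unfold Spor.Co3
  rw [Subgroup.mem_inf, mem_stabilizer_iff]
  constructor
  · rintro ⟨_, h1⟩
    have h1' : g • Spor.leechV = Spor.leechV := h1
    rw [McLM.leechV_eq, smul_neg', neg_inj] at h1'
    exact h1'
  · intro h1
    refine ⟨g.2, ?_⟩
    show g • Spor.leechV = Spor.leechV
    rw [McLM.leechV_eq, smul_neg', h1]

/-- the group of the definitions is the stabiliser -/
noncomputable def equivH3 : ↥Spor.Co3 ≃* ↥H3 where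
  toFun g := ⟨⟨g.1, by
      have := g.2
      unfold Spor.Co3 at this
      exact this.1⟩, by
      rw [← mem_Co3_iff]; exact g.2⟩
  invFun g := ⟨g.1.1, (mem_Co3_iff g.1).mpr g.2⟩
  left_inv g := rfl
  right_inv g := rfl
  map_mul' g h := rfl

theorem iso_Co3 : Nonempty (↥G276 ≃* ↥Spor.Co3) := by
  obtain ⟨e⟩ := iso_H3
  exact ⟨e.trans equivH3.symm⟩

end Cfsg.Agent.Helper29.Co3M
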