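import Mathlib
import Cfsg.Agent.Lib.Helper29.Co3TwoDefs

set_option autoImplicit false
open Cfsg

/-! Kernel checks for the Sylow 2-subgroup of the third Conway group on 276 points. -/

namespace Cfsg.Agent.Helper29.Co3T

open Cfsg.Agent.Helper29.HSP (tg force force_eq allBelow allBelow_iff)
open Cfsg.Agent.Helper29.PN Cfsg.Agent.Helper29.Co3M
open Cfsg.Agent.Helper29.Co3XD Cfsg.Agent.Helper29.DedCheck

set_option maxRecDepth 100000 in
theorem tab_0_0 : allR 0 512 (tabOK 0) = true := by decide +kernel

set_option maxRecDepth 100000 in
theorem tab_0_1 : allR 512 512 (tabOK 0) = true := by decide +kernel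

set_option maxRecDepth 100000 in
theorem tab_1_0 : allR 0 512 (tabOK 1) = true := by decide +kernel

set_option maxRecDepth 100000 in
theorem tab_1_1 : allR 512 512 (tabOK 1) = true := by decide +kernel

set_option maxRecDepth 100000 in
theorem tab_2_0 : allR 0 512 (tabOK 2) = true := by decide +kernel

set_option maxRecDepth 100000 in
theorem tab_2_1 : allR 512 512 (tabOK 2) = true := by decide +kernel

set_option maxRecDepth 100000 in
theorem tab_3_0 : allR 0 512 (tabOK 3) = true := by decide +kernel

set_option maxRecDepth 100000 in
theorem tab_3_1 : allR 512 512 (tabOK 3) = true := by decide +kernel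

end Cfsg.Agent.Helper29.Co3T
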