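import Mathlib
import Cfsg.Agent.Lib.Helper29.Co3TwoDefs

set_option autoImplicit false
open Cfsg

/-! Kernel checks for the Sylow 2-subgroup of the third Conway group on 276 points. -/

namespace Cfsg.Agent.Helper29.Co3T

open Cfsg.Agent.Helper29.HSP (tg force force_eq allBelow allBelow_iff)
open Cfsg.Agent.Helper29.PN Cfsg.Agent.Helper29.Co3M
open Cfsg.Agent.Helper29.Co3XD Cfsg.Agent.Helper29.DedCheck

set_option maxRecDepth 100000 in
theorem xw_0_0 : wordOK 0 0 69 = true := by decide +kernel

set_option maxRecDepth 100000 in
theorem xw_0_1 : wordOK 0 69 69 = true := by decide +kernel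

set_option maxRecDepth 100000 in
theorem xw_0_2 : wordOK 0 138 69 = true := by decide +kernel

set_option maxRecDepth 100000 in
theorem xw_0_3 : wordOK 0 207 69 = true := by decide +kernel

set_option maxRecDepth 100000 in
theorem xw_1_0 : wordOK 1 0 69 = true := by decide +kernel

set_option maxRecDepth 100000 in
theorem xw_1_1 : wordOK 1 69 69 = true := by decide +kernel

set_option maxRecDepth 100000 in
theorem xw_1_2 : wordOK 1 138 69 = true := by decide +kernel

set_option maxRecDepth 100000 in
theorem xw_1_3 : wordOK 1 207 69 = true := by decide +kernel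

set_option maxRecDepth 100000 in
theorem xw_2_0 : wordOK 2 0 69 = true := by decide +kernel

set_option maxRecDepth 100000 in
theorem xw_2_1 : wordOK 2 69 69 = true := by decide +kernel

set_option maxRecDepth 100000 in
theorem xw_2_2 : wordOK 2 138 69 = true := by decide +kernel

set_option maxRecDepth 100000 in
theorem xw_2_3 : wordOK 2 207 69 = true := by decide +kernel

set_option maxRecDepth 100000 in
theorem xw_3_0 : wordOK 3 0 69 = true := by decide +kernel

set_option maxRecDepth 100000 in
theorem xw_3_1 : wordOK 3 69 69 = true := by decide +kernel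

set_option maxRecDepth 100000 in
theorem xw_3_2 : wordOK 3 138 69 = true := by decide +kernel

set_option maxRecDepth 100000 in
theorem xw_3_3 : wordOK 3 207 69 = true := by decide +kernel

set_option maxRecDepth 100000 in
theorem xw_letters0 : allBelow 4 lettersOK = true := by decide +kernel

theorem xwl_len : XWL.length = 4 := by decide +kernel

set_option maxRecDepth 100000 in
theorem xinv_chk0 : allBelow 4 (fun c => force (XC c) fun x =>
    allBelow 276 fun y => Nat.beq (tg x 9 (tg x 9 y)) y) = true := by decide +kernel

end Cfsg.Agent.Helper29.Co3T
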