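import Mathlib
import Cfsg.Agent.Lib.Helper29.Co3TwoChkW
import Cfsg.Agent.Lib.Helper29.Co3TwoChkN
import Cfsg.Agent.Lib.Helper29.Co3TwoChkT
import Cfsg.Agent.Lib.Helper29.Co3TwoChkK

set_option autoImplicit false
open Cfsg

/-! The Sylow 2-subgroup of the explicit third Conway group on 276 points: its multiplication
table on a spanning tree, the checks, and its centre. -/

namespace Cfsg.Agent.Helper29.Co3T

open Cfsg.Agent.Helper29.HSP (tg force force_eq allBelow allBelow_iff)
open Cfsg.Agent.Helper29.PN Cfsg.Agent.Helper29.Co3M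
open Cfsg.Agent.Helper29.Co3XD Cfsg.Agent.Helper29.DedCheck

/-! ### The generators -/

theorem xw_quarters (c : ℕ) (h0 : wordOK c 0 69 = true) (h1 : wordOK c 69 69 = true)
    (h2 : wordOK c 138 69 = true) (h3 : wordOK c 207 69 = true) (hl : lettersOK c = true) :
    reprL 276 Co3D.PC (XC c) (XW c) = true := by
  unfold reprL
  rw [Bool.and_eq_true, allBelow_iff]
  refine ⟨hl, ?_⟩
  unfold wordOK at h0 h1 h2 h3
  rw [force_eq, allR_iff] at h0 h1 h2 h3
  intro p hp
  have hq : p / 69 < 4 := by omega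
  interval_cases hq' : p / 69
  · exact h0 p (by omega) (by omega)
  · exact h1 p (by omega) (by omega)
  · exact h2 p (by omega) (by omega)
  · exact h3 p (by omega) (by omega)

theorem xw_chk : ∀ c < 4, reprL 276 Co3D.PC (XC c) (XW c) = true := by
  intro c hc
  have hl := (allBelow_iff _ _).1 xw_letters0 c hc
  interval_cases c
  · exact xw_quarters 0 xw_0_0 xw_0_1 xw_0_2 xw_0_3 hl
  · exact xw_quarters 1 xw_1_0 xw_1_1 xw_1_2 xw_1_3 hl
  · exact xw_quarters 2 xw_2_0 xw_2_1 xw_2_2 xw_2_3 hl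
  · exact xw_quarters 3 xw_3_0 xw_3_1 xw_3_2 xw_3_3 hl

theorem xw_letters (c : ℕ) : ∀ l ∈ XW c, l < 4 := by
  by_cases hc : c < 4
  · have h := letters_of_reprL (xw_chk c hc)
    rw [PC_length] at h
    exact h
  · intro l hl
    unfold XW at hl
    rw [List.getD_eq_default _ _ (by rw [xwl_len]; omega)] at hl
    exact absurd hl (List.not_mem_nil)

/-- the generators of the Sylow subgroup -/
def xg (c : ℕ) : ↥G276 := ⟨evalW (XW c), evalW_mem _ (xw_letters c)⟩

theorem acts_xg (c : ℕ) (hc : c < 4) : Acts 276 (xg c).val (XC c) := acts_evalW (xw_chk c hc)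

theorem xinv_chk : ∀ c < 4, ∀ y < 276, tg (XC c) 9 (tg (XC c) 9 y) = y := by
  intro c hc
  have h := (allBelow_iff _ _).1 xinv_chk0 c hc
  rw [force_eq, allBelow_iff] at h
  intro y hy
  exact Nat.eq_of_beq_eq_true (h y hy)

theorem xg_sq (c : ℕ) (hc : c < 4) : xg c * xg c = 1 := by
  apply Subtype.ext
  show (xg c).val * (xg c).val = 1
  apply Equiv.ext
  intro u
  apply Fin.ext
  show ((xg c).val ((xg c).val u)).val = u.val
  rw [acts_xg c hc, acts_xg c hc, xinv_chk c hc u.val u.2]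

theorem xg_inv (c : ℕ) (hc : c < 4) : xg (D.inv c) = (xg c)⁻¹ :=
  eq_inv_of_mul_eq_one_right (xg_sq c hc)

/-! ### The nodes -/

theorem node_chk0 : ∀ i < 1024, nodeOK i = true := by
  intro i hi
  have hq : i / 256 < 4 := by omega
  interval_cases hq' : i / 256
  · exact (allR_iff _ _ _).1 node_chk_a i (by omega) (by omega)
  · exact (allR_iff _ _ _).1 node_chk_b i (by omega) (by omega)
  · exact (allR_iff _ _ _).1 node_chk_c i (by omega) (by omega)
  · exact (allR_iff _ _ _).1 node_chk_d i (by omega) (by omega)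

theorem node_chk : (∀ y < 276, tg (NC 0) 9 y = y) ∧ ∀ i < 1024, 0 < i → D.par i < i ∧
    D.pcol i < 4 ∧
    ∀ y < 276, tg (NC i) 9 y = tg (XC (D.pcol i)) 9 (tg (NC (D.par i)) 9 y) := by
  refine ⟨fun y hy => Nat.eq_of_beq_eq_true ((allBelow_iff _ _).1 node_chk00 y hy), ?_⟩
  intro i hi h0
  have h := node_chk0 i hi
  unfold nodeOK at h
  rw [Bool.or_eq_true] at h
  rcases h with h | h
  · have := Nat.eq_of_beq_eq_true h
    omega
  · rw [force_eq, force_eq, Bool.and_eq_true, Bool.and_eq_true, force_eq, force_eq, force_eq,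
      allBelow_iff] at h
    obtain ⟨⟨h1, h2⟩, h3⟩ := h
    refine ⟨Eq.mp Nat.blt_eq h1, Eq.mp Nat.blt_eq h2, ?_⟩
    intro y hy
    exact Nat.eq_of_beq_eq_true (h3 y hy)

theorem coe_node (i : ℕ) : (D.node xg i).val = D.node (fun c => (xg c).val) i :=
  D.map_node G276.subtype xg i

theorem acts_node (i : ℕ) (hi : i < 1024) : Acts 276 (D.node xg i).val (NC i) := by
  induction i using Nat.strong_induction_on with
  | _ i ih =>
    rcases Nat.eq_zero_or_pos i with h0 | h0
    · subst h0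
      rw [D.node_zero]
      exact acts_one node_chk.1
    · obtain ⟨h1, h2, h3⟩ := node_chk.2 i hi h0
      rw [D.node_of_lt xg h0 h1]
      exact acts_mul (acts_xg _ h2) (ih _ h1 (by omega)) h3

theorem tab_halves (c : ℕ) (h0 : allR 0 512 (tabOK c) = true)
    (h1 : allR 512 512 (tabOK c) = true) : ∀ i < 1024, tabOK c i = true := by
  intro i hi
  rcases Nat.lt_or_ge i 512 with h | h
  · exact (allR_iff _ _ _).1 h0 i (by omega) (by omega)
  · exact (allR_iff _ _ _).1 h1 i (by omega) (by omega)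

theorem tab_chk0 : ∀ c < 4, ∀ i < 1024, tabOK c i = true := by
  intro c hc
  interval_cases c
  · exact tab_halves 0 tab_0_0 tab_0_1
  · exact tab_halves 1 tab_1_0 tab_1_1
  · exact tab_halves 2 tab_2_0 tab_2_1
  · exact tab_halves 3 tab_3_0 tab_3_1

theorem tab_chk : ∀ c < 4, ∀ i < 1024, D.tget c i < 1024 ∧
    ∀ y < 276, tg (NC (D.tget c i)) 9 y = tg (XC c) 9 (tg (NC i) 9 y) := by
  intro c hc i hi
  have h := tab_chk0 c hc i hi
  unfold tabOK at h
  rw [force_eq, Bool.and_eq_true, force_eq, force_eq, force_eq, allBelow_iff] at h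
  refine ⟨Eq.mp Nat.blt_eq h.1, ?_⟩
  intro y hy
  exact Nat.eq_of_beq_eq_true (h.2 y hy)

theorem tabM : ∀ c < D.k, ∀ i < D.n, D.tget c i < D.n ∧
    xg c * D.node xg i = D.node xg (D.tget c i) := by
  intro c hc i hi
  obtain ⟨h1, h2⟩ := tab_chk c hc i hi
  refine ⟨h1, ?_⟩
  apply Subtype.ext
  exact eq_of_acts (acts_mul (acts_xg c hc) (acts_node i hi) h2) (acts_node _ h1)

theorem key_inc (k : ℕ) (hk : k < 1023) : ordN k < 1024 ∧ ordN (k + 1) < 1024 ∧
    keyOf (NC (ordN k)) < keyOf (NC (ordN (k + 1))) := by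
  have h := (allBelow_iff _ _).1 key_inc0 k hk
  unfold keyIncOK at h
  rw [force_eq, force_eq, Bool.and_eq_true, Bool.and_eq_true] at h
  exact ⟨Eq.mp Nat.blt_eq h.1.1, Eq.mp Nat.blt_eq h.1.2, Eq.mp Nat.blt_eq h.2⟩

theorem key_strict (a b : ℕ) (hab : a < b) (hb : b < 1024) :
    keyOf (NC (ordN a)) < keyOf (NC (ordN b)) := by
  induction b with
  | zero => omega
  | succ b ih =>
    rcases Nat.lt_succ_iff_lt_or_eq.1 hab with h | h
    · exact lt_trans (ih h (by omega)) (key_inc b (by omega)).2.2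
    · rw [h]; exact (key_inc b (by omega)).2.2

theorem pos_chk (i : ℕ) (hi : i < 1024) : posN i < 1024 ∧ ordN (posN i) = i := by
  have h := (allBelow_iff _ _).1 pos_chk0 i hi
  unfold posOK at h
  rw [force_eq, Bool.and_eq_true] at h
  exact ⟨Eq.mp Nat.blt_eq h.1, Nat.eq_of_beq_eq_true h.2⟩

theorem key_chk : ∀ i < 1024, ∀ j < 1024, i ≠ j → keyOf (NC i) ≠ keyOf (NC j) := by
  intro i hi j hj hne
  obtain ⟨h1, h2⟩ := pos_chk i hi
  obtain ⟨h3, h4⟩ := pos_chk j hj
  have hp : posN i ≠ posN j := by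
    intro e
    apply hne
    rw [← h2, ← h4, e]
  rw [← h2, ← h4]
  rcases Nat.lt_or_gt_of_ne hp with h | h
  · exact Nat.ne_of_lt (key_strict _ _ h h3)
  · exact (Nat.ne_of_lt (key_strict _ _ h h1)).symm

theorem node_inj (i j : ℕ) (hi : i < 1024) (hj : j < 1024) (h : D.node xg i = D.node xg j) :
    i = j := by
  have key : keyOf (NC i) = keyOf (NC j) := by
    have e : ∀ y < 276, tg (NC i) 9 y = tg (NC j) 9 y := by
      intro y hy
      have h1 := acts_node i hi ⟨y, hy⟩
      have h2 := acts_node j hj ⟨y, hy⟩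
      rw [h] at h1
      exact h1.symm.trans h2
    unfold keyOf
    rw [e 0 (by norm_num), e 1 (by norm_num), e 2 (by norm_num), e 3 (by norm_num),
      e 5 (by norm_num), e 4 (by norm_num), e 7 (by norm_num)]
  by_contra hne
  exact key_chk i hi j hj hne key

/-! ### The Sylow subgroup -/

def S2 : Subgroup ↥G276 := Subgroup.closure {g | ∃ c < D.k, g = xg c}

theorem exists_node (g : ↥G276) (hg : g ∈ S2) : ∃ i < 1024, g = D.node xg i :=
  D.closure_sub xg (by decide) (fun c hc => hc) xg_inv tabM g hg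

theorem pcol_lt (i : ℕ) (hi : i < 1024) (h0 : 0 < i) : D.pcol i < 4 := (node_chk.2 i hi h0).2.1

theorem node_mem (i : ℕ) (hi : i < 1024) : D.node xg i ∈ S2 := by
  induction i using Nat.strong_induction_on with
  | _ i ih =>
    by_cases h : 0 < i ∧ D.par i < i
    · rw [D.node_of_lt xg h.1 h.2]
      refine S2.mul_mem ?_ (ih _ h.2 (by omega))
      exact Subgroup.subset_closure ⟨D.pcol i, pcol_lt i hi h.1, rfl⟩
    · rw [Tab.node, dif_neg h]
      exact S2.one_mem

theorem card_S2 : Nat.card ↥S2 = 1024 := by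
  have hb : Function.Bijective
      (fun i : Fin 1024 => (⟨D.node xg i.val, node_mem i.val i.2⟩ : ↥S2)) := by
    constructor
    · intro i j h
      apply Fin.ext
      exact node_inj i.val j.val i.2 j.2 (congrArg Subtype.val h)
    · intro g
      obtain ⟨i, hi, e⟩ := exists_node g.val g.2
      exact ⟨⟨i, hi⟩, Subtype.ext e.symm⟩
  rw [← Nat.card_eq_of_bijective _ hb]
  simp

theorem not_dvd_index_S2 : ¬ 2 ∣ S2.index := by
  have h := Subgroup.card_mul_index S2
  rw [card_S2, card_G276] at h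
  have : S2.index = 484147125 := by omega
  rw [this]
  decide

/-! ### The centre -/

/-- the central involution -/
def zE : ↥G276 := D.node xg IYN

theorem IYN_lt : IYN < 1024 := by decide

theorem zE_mem : zE ∈ S2 := node_mem IYN IYN_lt

theorem acts_zE : Acts 276 zE.val (NC IYN) := acts_node IYN IYN_lt

/-- the centre of the Sylow subgroup has order two -/
theorem center_S2 (g : ↥G276) (hg : g ∈ S2) (hc : ∀ s ∈ S2, g * s = s * g) :
    g = 1 ∨ g = zE := by
  obtain ⟨i, hi, e⟩ := exists_node g hg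
  have h := (allBelow_iff _ _).1 cen_chk0 i hi
  unfold cenOK at h
  rw [Bool.or_eq_true, Bool.or_eq_true] at h
  rcases h with (h | h) | h
  · left
    rw [e, Nat.eq_of_beq_eq_true h, D.node_zero]
  · right
    rw [e, Nat.eq_of_beq_eq_true h]
    rfl
  · exfalso
    rw [force_eq, force_eq, force_eq, Bool.and_eq_true, Bool.and_eq_true, force_eq, force_eq,
      Bool.not_eq_true'] at h
    obtain ⟨⟨h1, h2⟩, h3⟩ := h
    have hc4 : tg cenP 13 i / 512 < 4 := Eq.mp Nat.blt_eq h1
    have hp : tg cenP 13 i % 512 < 276 := Eq.mp Nat.blt_eq h2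
    have hcomm := hc (xg (tg cenP 13 i / 512))
      (Subgroup.subset_closure ⟨_, hc4, rfl⟩)
    have h4 := congrArg (fun k : ↥G276 => (k.val ⟨tg cenP 13 i % 512, hp⟩).val) hcomm
    have h5 : (g.val ((xg (tg cenP 13 i / 512)).val ⟨tg cenP 13 i % 512, hp⟩)).val =
        ((xg (tg cenP 13 i / 512)).val (g.val ⟨tg cenP 13 i % 512, hp⟩)).val := h4
    have hact := acts_node i hi
    rw [← e] at hact
    rw [hact, acts_xg _ hc4, acts_xg _ hc4, hact] at h5
    rw [h5, Nat.beq_refl] at h3
    exact Bool.noConfusion h3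

end Cfsg.Agent.Helper29.Co3T
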