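import Mathlib
import Cfsg.Agent.Lib.Helper29.Co3MulDefs

set_option autoImplicit false
open Cfsg

/-! Kernel checks for the two-part of the Schur multiplier of the third Conway group: relators,
facts and certificates. -/

namespace Cfsg.Agent.Helper29.Co3Mu

open Cfsg.Agent.Helper29.HSP (tg force force_eq allBelow allBelow_iff)
open Cfsg.Agent.Helper29.PN Cfsg.Agent.Helper29.Co3M
open Cfsg.Agent.Helper29.Co3MD Cfsg.Agent.Helper29.DedCheck

set_option maxRecDepth 1000000 in
theorem rels_eq : relsLit = rels := by decide +kernel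

set_option maxRecDepth 1000000 in
theorem rels_k_lit : ∀ r ∈ relsLit, ∀ y ∈ r.2, y < 20 := by decide +kernel

set_option maxRecDepth 1000000 in
theorem base_chk : ∀ j < 55, D.walkT (bw j) 0 = 0 ∧ ∀ y ∈ bw j, y < 20 := by decide +kernel

theorem baseRels_len : baseRels.length = 55 := by decide

-- the columns in the old table: inverse columns, letters
set_option maxRecDepth 1000000 in
theorem pw_chk : ∀ c < 20, Co3T.D.walkT (PW c ++ PW (D.inv c)) 0 = 0 ∧ (∀ y ∈ PW c, y < 4) ∧
    D.inv c < 20 ∧ D.inv (D.inv c) = c ∧ D.inv c % 10 = c % 10 := by decide +kernel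

-- the relators hold in the old table
set_option maxRecDepth 1000000 in
theorem rel_chk : ∀ r ∈ relsLit, Co3T.D.walkT (r.2.flatMap PW) 0 = 0 := by decide +kernel

-- the nodes of the new table are nodes of the old table
set_option maxRecDepth 1000000 in
theorem pi_chk0 : allBelow 1024 (fun i => Nat.beq i 0 || (Nat.blt (D.par i) i &&
    Nat.blt (D.pcol i) 20 && Nat.beq (Co3T.D.walkT (PW (D.pcol i)) (pi (D.par i))) (pi i))) = true := by
  decide +kernel

set_option maxRecDepth 1000000 in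
theorem pi_chk1 : allBelow 1024 (fun i => Nat.blt (pi i) 1024 && Nat.beq (piInv (pi i)) i &&
    Nat.blt (piInv i) 1024 && Nat.beq (pi (piInv i)) i) = true := by decide +kernel

theorem pi_zero : pi 0 = 0 := by decide +kernel

set_option maxRecDepth 1000000 in
theorem cons_chk : ∀ t < 38, (consF.getD t (0, 0)).1 < 55 ∧ (consF.getD t (0, 0)).2 < 1024 ∧
    (V.walkF (bw (consF.getD t (0, 0)).1) (consF.getD t (0, 0)).2).1 = (consF.getD t (0, 0)).2 ∧
    factMasks.getD t 0 = Nat.xor (V.walkF (bw (consF.getD t (0, 0)).1) (consF.getD t (0, 0)).2).2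
      (Nat.shiftLeft 1 (consF.getD t (0, 0)).1) := by decide +kernel

set_option maxRecDepth 1000000 in
theorem pow_chk : ∀ s < 11, PG s < 3 ∧ (∀ y ∈ PU s ++ PU s, y < 20) ∧
    (∀ y ∈ PV s ++ PV s, y < 20) ∧
    (V.walkF (PU s ++ PU s) 0).1 = 0 ∧ (V.walkF (PV s ++ PV s) 0).1 = 0 ∧
    D.walkT (PU s ++ PU s) 0 = 0 ∧ D.walkT (PV s ++ PV s) 0 = 0 ∧
    factMasks.getD (38 + s) 0 =
      Nat.xor (V.walkF (PU s ++ PU s) 0).2 (V.walkF (PV s ++ PV s) 0).2 ∧
    pi (D.walkT (PU s) 0) < 1024 ∧ pi (D.walkT (PV s) 0) < 1024 ∧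
    ∀ y < 276, tg (GC (PG s)) 9 (tg (Co3T.NC (pi (D.walkT (PU s) 0))) 9 y) =
      tg (Co3T.NC (pi (D.walkT (PV s) 0))) 9 (tg (GC (PG s)) 9 y) := by
  decide +kernel

set_option maxRecDepth 1000000 in
theorem cert1 : ∀ r ∈ relsLit, r.1 < 55 ∧ fx r.2 = KML.getD r.1 0 := by decide +kernel

set_option maxRecDepth 1000000 in
theorem cert2 : ∀ j < 55, Nat.xor (Nat.shiftLeft 1 j) (KML.getD j 0) = fxf (LL.getD j []) ∧
    ∀ t ∈ LL.getD j [], t < 49 := by decide +kernel

theorem glet_chk : ∀ g < 3, glettersOK g = true := by decide +kernel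

end Cfsg.Agent.Helper29.Co3Mu
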