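import Mathlib
import Cfsg.Agent.Lib.Helper29.Co3MulDefs

set_option autoImplicit false
open Cfsg

/-! Kernel checks for the two-part of the Schur multiplier of the third Conway group: the words
of the fusion elements. -/

namespace Cfsg.Agent.Helper29.Co3Mu

open Cfsg.Agent.Helper29.Co3MD

set_option maxRecDepth 1000000 in
theorem gw_0_0 : gwordOK 0 0 69 = true := by decide +kernel
set_option maxRecDepth 1000000 in
theorem gw_0_1 : gwordOK 0 69 69 = true := by decide +kernel
set_option maxRecDepth 1000000 in
theorem gw_0_2 : gwordOK 0 138 69 = true := by decide +kernel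
set_option maxRecDepth 1000000 in
theorem gw_0_3 : gwordOK 0 207 69 = true := by decide +kernel
set_option maxRecDepth 1000000 in
theorem gw_1_0 : gwordOK 1 0 69 = true := by decide +kernel
set_option maxRecDepth 1000000 in
theorem gw_1_1 : gwordOK 1 69 69 = true := by decide +kernel
set_option maxRecDepth 1000000 in
theorem gw_1_2 : gwordOK 1 138 69 = true := by decide +kernel
set_option maxRecDepth 1000000 in
theorem gw_1_3 : gwordOK 1 207 69 = true := by decide +kernel
set_option maxRecDepth 1000000 in
theorem gw_2_0 : gwordOK 2 0 69 = true := by decide +kernel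
set_option maxRecDepth 1000000 in
theorem gw_2_1 : gwordOK 2 69 69 = true := by decide +kernel
set_option maxRecDepth 1000000 in
theorem gw_2_2 : gwordOK 2 138 69 = true := by decide +kernel
set_option maxRecDepth 1000000 in
theorem gw_2_3 : gwordOK 2 207 69 = true := by decide +kernel

end Cfsg.Agent.Helper29.Co3Mu
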