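import Mathlib
import Cfsg.Agent.Lib.Helper29.HSPerm
import Cfsg.Agent.Lib.Helper29.HSData
import Cfsg.Agent.Lib.Helper29.HSModelDefs

set_option autoImplicit false

/-! An explicit copy of the Higman-Sims graph on `Fin 100`, two automorphisms in the commutator
subgroup of its automorphism group, and a lower bound for the order of the group they
generate. -/

namespace Cfsg.Agent.Helper29.HSM

open Cfsg.Agent.Helper29.HSP Cfsg.Agent.Helper29.HSD Cfsg.Agent.Helper29.HSModel
open scoped commutatorElement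

/-! ### The graph -/

def adjB (x y : ℕ) : Bool := Nat.testBit (adjRows.getD x 0) y

set_option maxRecDepth 100000 in
theorem adj_chk : ∀ x < 100, adjB x x = false ∧ ∀ y < 100, adjB x y = adjB y x := by
  decide +kernel

def Γ100 : SimpleGraph (Fin 100) where
  Adj u v := adjB u.val v.val = true
  symm := ⟨fun u v h => by
    show adjB v.val u.val = true
    rw [← (adj_chk u.val u.2).2 v.val v.2]
    exact h⟩
  loopless := ⟨fun u h => by
    have h' : adjB u.val u.val = true := h
    rw [(adj_chk u.val u.2).1] at h'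
    exact Bool.noConfusion h'⟩

instance : DecidableRel Γ100.Adj := fun u v =>
  inferInstanceAs (Decidable (adjB u.val v.val = true))

theorem adj_iff (u v : Fin 100) : Γ100.Adj u v ↔ adjB u.val v.val = true := Iff.rfl

set_option maxRecDepth 100000 in
theorem deg_chk : ∀ v < 100, cnt (fun u => adjB v u) 100 = 22 := by decide +kernel

set_option maxRecDepth 100000 in
theorem cn_chk : ∀ v < 100, ∀ w < 100, v ≠ w →
    cnt (fun u => adjB v u && adjB w u) 100 = if adjB v w = true then 0 else 6 := by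
  decide +kernel

theorem card_cn (v w : Fin 100) (hne : v ≠ w) :
    Fintype.card (Γ100.commonNeighbors v w) = if adjB v.val w.val = true then 0 else 6 := by
  rw [Fintype.card_of_subtype
    (Finset.univ.filter (fun u : Fin 100 => (adjB v.val u.val && adjB w.val u.val) = true))]
  · rw [card_filter_eq_cnt (fun u => adjB v.val u && adjB w.val u) 100]
    exact cn_chk v.val v.2 w.val w.2 (Fin.val_ne_of_ne hne)
  · intro x
    rw [Finset.mem_filter, SimpleGraph.mem_commonNeighbors, adj_iff, adj_iff, Bool.and_eq_true]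
    simp

theorem srg100 : Γ100.IsSRGWith 100 22 0 6 := by
  refine ⟨by simp, ?_, ?_, ?_⟩
  · intro v
    rw [← SimpleGraph.card_neighborFinset_eq_degree, SimpleGraph.neighborFinset_eq_filter]
    exact (card_filter_eq_cnt (fun u => adjB v.val u) 100).trans (deg_chk v.val v.2)
  · intro v w hadj
    rw [card_cn v w (Γ100.ne_of_adj hadj), if_pos ((adj_iff v w).1 hadj)]
  · intro v w hne hnadj
    rw [card_cn v w hne, if_neg (fun h => hnadj ((adj_iff v w).2 h))]

/-! ### The generators -/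

set_option maxRecDepth 100000 in
theorem valid_chk : validC S0C S0Ci = true ∧ validC S1C S1Ci = true ∧ validC A0C A0Ci = true ∧
    validC B0C B0Ci = true ∧ validC A1C A1Ci = true ∧ validC B1C B1Ci = true := by
  decide +kernel

def s0 : Pm := cP S0C S0Ci
def s1 : Pm := cP S1C S1Ci
def a0 : Pm := cP A0C A0Ci
def b0 : Pm := cP B0C B0Ci
def a1 : Pm := cP A1C A1Ci
def b1 : Pm := cP B1C B1Ci

set_option maxRecDepth 100000 in
theorem aut_chk : ∀ c ∈ [A0C, B0C, A1C, B1C], ∀ x < 100, ∀ y < 100,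
    adjB (tg c 7 x) (tg c 7 y) = adjB x y := by decide +kernel

theorem mem_aut (g : Pm) (c : ℕ) (hg : Acts g c)
    (hc : ∀ x < 100, ∀ y < 100, adjB (tg c 7 x) (tg c 7 y) = adjB x y) :
    g ∈ autSub Γ100 := by
  rw [mem_autSub]
  intro x y
  rw [adj_iff, adj_iff, hg, hg, hc _ x.2 _ y.2]

theorem a0_mem : a0 ∈ autSub Γ100 :=
  mem_aut a0 A0C (acts_cP valid_chk.2.2.1) (aut_chk A0C (by simp))
theorem b0_mem : b0 ∈ autSub Γ100 :=
  mem_aut b0 B0C (acts_cP valid_chk.2.2.2.1) (aut_chk B0C (by simp))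
theorem a1_mem : a1 ∈ autSub Γ100 :=
  mem_aut a1 A1C (acts_cP valid_chk.2.2.2.2.1) (aut_chk A1C (by simp))
theorem b1_mem : b1 ∈ autSub Γ100 :=
  mem_aut b1 B1C (acts_cP valid_chk.2.2.2.2.2) (aut_chk B1C (by simp))

set_option maxRecDepth 100000 in
theorem comm_chk : (∀ y < 100, tg S0C 7 y = tg A0C 7 (tg B0C 7 (tg A0Ci 7 (tg B0Ci 7 y)))) ∧
    (∀ y < 100, tg S1C 7 y = tg A1C 7 (tg B1C 7 (tg A1Ci 7 (tg B1Ci 7 y)))) := by
  decide +kernel

theorem s0_eq : s0 = ⁅a0, b0⁆ :=
  eq_of_acts (acts_cP valid_chk.1) (acts_comm (acts_cP valid_chk.2.2.1)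
    (acts_cP valid_chk.2.2.2.1) (acts_cP_inv valid_chk.2.2.1) (acts_cP_inv valid_chk.2.2.2.1)
    comm_chk.1)

theorem s1_eq : s1 = ⁅a1, b1⁆ :=
  eq_of_acts (acts_cP valid_chk.2.1) (acts_comm (acts_cP valid_chk.2.2.2.2.1)
    (acts_cP valid_chk.2.2.2.2.2) (acts_cP_inv valid_chk.2.2.2.2.1)
    (acts_cP_inv valid_chk.2.2.2.2.2) comm_chk.2)

/-- the group -/
def G100 : Subgroup Pm := Subgroup.closure {s0, s1}

theorem G100_le : G100 ≤ ⁅autSub Γ100, autSub Γ100⁆ := by
  unfold G100
  rw [Subgroup.closure_le]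
  intro g hg
  rcases hg with rfl | rfl
  · rw [s0_eq]
    exact Subgroup.commutator_mem_commutator a0_mem b0_mem
  · rw [s1_eq]
    exact Subgroup.commutator_mem_commutator a1_mem b1_mem

/-! ### Words -/

/-- the codes of the letters -/
def LC : List ℕ := [S0C, S1C, S0Ci, S1Ci]

/-- the letters -/
def ge (l : ℕ) : Pm :=
  match l with
  | 0 => s0
  | 1 => s1
  | 2 => s0⁻¹
  | 3 => s1⁻¹
  | _ => 1

theorem acts_ge : ∀ l < LC.length, Acts (ge l) (LC.getD l 0) := by
  intro l hl
  have hl' : l < 4 := hl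
  interval_cases l
  · exact acts_cP valid_chk.1
  · exact acts_cP valid_chk.2.1
  · exact acts_cP_inv valid_chk.1
  · exact acts_cP_inv valid_chk.2.1

theorem ge_mem (l : ℕ) : ge l ∈ G100 := by
  have h0 : s0 ∈ G100 := Subgroup.subset_closure (by simp)
  have h1 : s1 ∈ G100 := Subgroup.subset_closure (by simp)
  unfold ge
  split
  · exact h0
  · exact h1
  · exact G100.inv_mem h0
  · exact G100.inv_mem h1
  · exact G100.one_mem

/-- the permutation of a word -/
def evalW (w : List ℕ) : Pm := (w.map ge).prod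

theorem evalW_mem (w : List ℕ) : evalW w ∈ G100 := by
  apply Subgroup.list_prod_mem
  intro x hx
  obtain ⟨l, _, rfl⟩ := List.mem_map.1 hx
  exact ge_mem l

theorem evalW_apply (w : List ℕ) (hw : ∀ l ∈ w, l < 4) (u : Fin 100) :
    (evalW w u).val = appL LC w u.val :=
  prod_apply LC ge acts_ge w hw u

theorem evalW_append (w v : List ℕ) : evalW (w ++ v) = evalW w * evalW v := by
  unfold evalW
  rw [List.map_append, List.prod_append]

theorem evalW_nil : evalW [] = 1 := rfl

theorem acts_evalW {c : ℕ} {w : List ℕ} (h : reprL LC c w = true) : Acts (evalW w) c :=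
  acts_of_reprL LC ge acts_ge h

/-! ### The order -/

theorem card_step_le (H : Subgroup Pm) (p : Fin 100) (O : Finset (Fin 100))
    (h2 : ∀ q ∈ O, ∃ g ∈ H, g p = q) :
    O.card * Nat.card ↥(H ⊓ MulAction.stabilizer Pm p) ≤ Nat.card H := by
  have hsub : (O : Set (Fin 100)) ⊆ MulAction.orbit H p := by
    intro q hq
    obtain ⟨g, hg, e⟩ := h2 q (Finset.mem_coe.1 hq)
    exact ⟨⟨g, hg⟩, e⟩
  have hprod : Nat.card (MulAction.orbit H p) * Nat.card (MulAction.stabilizer H p) =
      Nat.card H := by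
    rw [← Nat.card_prod, Nat.card_congr (MulAction.orbitProdStabilizerEquivGroup H p)]
  have hmap : (MulAction.stabilizer H p).map H.subtype =
      H ⊓ MulAction.stabilizer Pm p := by
    ext g
    rw [Subgroup.mem_map, Subgroup.mem_inf]
    constructor
    · rintro ⟨h, hh, rfl⟩
      exact ⟨h.2, hh⟩
    · rintro ⟨hg1, hg2⟩
      exact ⟨⟨g, hg1⟩, hg2, rfl⟩
  have hO : O.card ≤ Nat.card (MulAction.orbit H p) := by
    rw [Nat.card_coe_set_eq, ← Set.ncard_coe_finset]
    exact Set.ncard_le_ncard hsub (Set.toFinite _)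
  rw [← hmap, Subgroup.card_subtype, ← hprod]
  exact Nat.mul_le_mul_right _ hO

def bv (k : ℕ) : ℕ := basePts.getD k 0

def bpt (k : ℕ) : Fin 100 := ⟨bv k % 100, Nat.mod_lt _ (by norm_num)⟩

theorem bv_lt : ∀ k < 6, bv k < 100 := by decide

theorem bpt_val (k : ℕ) (hk : k < 6) : (bpt k).val = bv k := Nat.mod_eq_of_lt (bv_lt k hk)

/-- the stabilizer chain -/
def Hst : ℕ → Subgroup Pm
  | 0 => G100
  | k + 1 => Hst k ⊓ MulAction.stabilizer Pm (bpt k)

theorem mem_Hst (k : ℕ) (g : Pm) : g ∈ Hst k ↔ g ∈ G100 ∧ ∀ j < k, g (bpt j) = bpt j := by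
  induction k with
  | zero => simp [Hst]
  | succ k ih =>
    rw [Hst, Subgroup.mem_inf, ih, MulAction.mem_stabilizer_iff]
    constructor
    · rintro ⟨⟨h1, h2⟩, h3⟩
      refine ⟨h1, fun j hj => ?_⟩
      rcases Nat.lt_succ_iff_lt_or_eq.1 hj with h | h
      · exact h2 j h
      · rw [h]; exact h3
    · rintro ⟨h1, h2⟩
      exact ⟨⟨h1, fun j hj => h2 j (Nat.lt_succ_of_lt hj)⟩, h2 k (Nat.lt_succ_self k)⟩

def TW (k q : ℕ) : List ℕ := (transWords.getD k []).getD q []

def OM (k : ℕ) : ℕ := orbMasks.getD k 0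

def sizes : List ℕ := [100, 22, 21, 20, 3, 16]

set_option maxRecDepth 100000 in
theorem tw_chk : ∀ k < 6, ∀ q < 100, Nat.testBit (OM k) q = true →
    (∀ l ∈ TW k q, l < 4) ∧ appL LC (TW k q) (bv k) = q ∧
      ∀ j < k, appL LC (TW k q) (bv j) = bv j := by decide +kernel

set_option maxRecDepth 100000 in
theorem om_chk : ∀ k < 6, cnt (fun q => Nat.testBit (OM k) q) 100 = sizes.getD k 0 := by
  decide +kernel

/-- the orbit of the base point `k` -/
def Orb (k : ℕ) : Finset (Fin 100) :=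
  Finset.univ.filter (fun q : Fin 100 => Nat.testBit (OM k) q.val = true)

theorem card_Orb (k : ℕ) (hk : k < 6) : (Orb k).card = sizes.getD k 0 := by
  unfold Orb
  rw [card_filter_eq_cnt (fun q => Nat.testBit (OM k) q) 100]
  exact om_chk k hk

theorem step (k : ℕ) (hk : k < 6) :
    sizes.getD k 0 * Nat.card ↥(Hst (k + 1)) ≤ Nat.card ↥(Hst k) := by
  rw [← card_Orb k hk]
  apply card_step_le (Hst k) (bpt k) (Orb k)
  intro q hq
  have hq' : Nat.testBit (OM k) q.val = true := (Finset.mem_filter.1 hq).2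
  obtain ⟨h1, h2, h3⟩ := tw_chk k hk q.val q.2 hq'
  refine ⟨evalW (TW k q.val), ?_, ?_⟩
  · rw [mem_Hst]
    refine ⟨evalW_mem _, fun j hj => ?_⟩
    apply Fin.ext
    rw [evalW_apply _ h1, bpt_val j (by omega)]
    exact h3 j hj
  · apply Fin.ext
    rw [evalW_apply _ h1, bpt_val k hk]
    exact h2

theorem card_ge : 44352000 ≤ Nat.card ↥G100 := by
  have h0 := step 0 (by norm_num)
  have h1 := step 1 (by norm_num)
  have h2 := step 2 (by norm_num)
  have h3 := step 3 (by norm_num)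
  have h4 := step 4 (by norm_num)
  have h5 := step 5 (by norm_num)
  have h6 : 1 ≤ Nat.card ↥(Hst 6) := Nat.card_pos
  have e : Hst 0 = G100 := rfl
  rw [e] at h0
  simp only [sizes, List.getD_cons_zero, List.getD_cons_succ, Nat.reduceAdd, zero_add] at h0 h1 h2 h3 h4 h5
  omega

end Cfsg.Agent.Helper29.HSM
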