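import Mathlib
import Cfsg.Agent.Lib.Helper29.HSModelA
import Cfsg.Agent.Lib.Helper21.HSModel

set_option autoImplicit false
open Cfsg

/-! The explicit group on a hundred points is the Higman-Sims group. -/

namespace Cfsg.Agent.Helper29.HSM

open Cfsg.Agent.Helper29.HSP Cfsg.Agent.Helper29.HSD Cfsg.Agent.Helper29.HSModel

theorem card_G100 : Nat.card ↥G100 = 44352000 :=
  (isoHS_of_srg Γ100 srg100 G100 G100_le card_ge).1

theorem iso_HS : Nonempty (↥G100 ≃* ↥Cfsg.Spor.HS) :=
  (isoHS_of_srg Γ100 srg100 G100 G100_le card_ge).2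

instance finite_G100 : Finite ↥G100 := inferInstance

end Cfsg.Agent.Helper29.HSM
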