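import Mathlib
import Cfsg.Agent.Lib.Helper29.HSModelB
import Cfsg.Agent.Lib.Helper29.HSTwoData
import Cfsg.Agent.Lib.Helper22.DedV

set_option autoImplicit false
open Cfsg

/-! The Sylow 2-subgroup of the explicit Higman-Sims group: its multiplication table on a
spanning tree, with tails, and the checks. -/

namespace Cfsg.Agent.Helper29.HST

open Cfsg.Agent.Helper29.HSP Cfsg.Agent.Helper29.HSD Cfsg.Agent.Helper29.HSM
open Cfsg.Agent.Helper29.HSTD Cfsg.Agent.Helper29.DedCheck

/-- the table -/
def D : Tab where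
  n := 512
  k := 18
  b := 10
  inv := fun c => if c < 9 then c + 9 else c - 9
  cols := tcols
  par := fun i => tg parP 10 i
  pcol := fun i => tg pcolP 5 i

/-- the table with tails -/
def V : VT where
  D := D
  m := 45
  vcols := vcols

/-- the rotations of a word -/
def rots (w : List ℕ) : List (List ℕ) := (List.range w.length).map fun r => w.drop r ++ w.take r

/-- the inverse word -/
def winv (w : List ℕ) : List ℕ := w.reverse.map D.inv

/-- the relators obtained from one relator -/
def relsOf (rid : ℕ) (w : List ℕ) : List (ℕ × List ℕ) :=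
  (rots w ++ rots (winv w)).map fun r => (rid, r)

/-- the relator with index `j` -/
def bw (j : ℕ) : List ℕ := baseRels.getD j []

/-- all relators -/
def rels : List (ℕ × List ℕ) := (List.range 45).flatMap fun j => relsOf j (bw j)

/-- the log -/
def dlog : List (ℕ × ℕ × ℕ) := logN.map fun x => (x % 18, (x / 18) % 512, x / (18 * 512))

set_option maxRecDepth 100000 in
theorem rels_eq : relsLit = rels := by decide +kernel

set_option maxRecDepth 100000 in
theorem check_lit : V.check relsLit dlog = true := by decide +kernel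

theorem check_ok : V.check rels dlog = true := by
  rw [← rels_eq]
  exact check_lit

set_option maxRecDepth 100000 in
theorem rels_k_lit : ∀ r ∈ relsLit, ∀ y ∈ r.2, y < 18 := by decide +kernel

theorem rels_k : ∀ r ∈ rels, ∀ y ∈ r.2, y < 18 := by
  rw [← rels_eq]
  exact rels_k_lit

set_option maxRecDepth 100000 in
theorem base_chk : ∀ j < 45, D.walkT (bw j) 0 = 0 ∧ ∀ y ∈ bw j, y < 18 := by decide +kernel

/-! ### The generators -/

def XC (c : ℕ) : ℕ := XCL.getD c 0
def XW (c : ℕ) : List ℕ := XWL.getD c []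
def NC (i : ℕ) : ℕ := NCL.getD i 0

set_option maxRecDepth 100000 in
theorem xw_chk0 : allBelow 18 (fun c => force (XC c) fun x => reprL LC x (XW c)) = true := by
  decide +kernel

theorem xw_chk : ∀ c < 18, reprL LC (XC c) (XW c) = true := by
  intro c hc
  have h := (allBelow_iff _ _).1 xw_chk0 c hc
  rwa [force_eq] at h

/-- the generators of the Sylow subgroup and their inverses -/
def xg (c : ℕ) : ↥G100 := ⟨evalW (XW c), evalW_mem _⟩

theorem acts_xg (c : ℕ) (hc : c < 18) : Acts (xg c).val (XC c) := acts_evalW (xw_chk c hc)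

theorem xg_ge (c : ℕ) (hc : 18 ≤ c) : xg c = 1 := by
  apply Subtype.ext
  show evalW (XW c) = 1
  unfold XW
  rw [List.getD_eq_default _ _ (by simpa [XWL] using hc)]
  rfl

set_option maxRecDepth 100000 in
theorem xinv_chk0 : allBelow 18 (fun c => force (XC c) fun x => force (XC (D.inv c)) fun xi =>
    allBelow 100 fun y => Nat.beq (tg x 7 (tg xi 7 y)) y) = true := by decide +kernel

theorem xinv_chk1 : ∀ c < 18, D.inv c < 18 ∧ D.inv (D.inv c) = c ∧ D.inv c % 9 = c % 9 := by
  decide

theorem xinv_chk : ∀ c < 18, D.inv c < 18 ∧ D.inv (D.inv c) = c ∧ D.inv c % 9 = c % 9 ∧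
    ∀ y < 100, tg (XC c) 7 (tg (XC (D.inv c)) 7 y) = y := by
  intro c hc
  obtain ⟨h1, h2, h3⟩ := xinv_chk1 c hc
  refine ⟨h1, h2, h3, ?_⟩
  have h := (allBelow_iff _ _).1 xinv_chk0 c hc
  rw [force_eq, force_eq, allBelow_iff] at h
  intro y hy
  exact Nat.eq_of_beq_eq_true (h y hy)

theorem xg_inv (c : ℕ) (hc : c < 18) : xg (D.inv c) = (xg c)⁻¹ := by
  apply eq_inv_of_mul_eq_one_right
  apply Subtype.ext
  show (xg c).val * (xg (D.inv c)).val = 1
  apply eq_one_of_acts
  apply acts_mul (acts_xg c hc) (acts_xg _ (xinv_chk c hc).1)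
  intro y hy
  rw [idC_spec y hy, (xinv_chk c hc).2.2.2 y hy]

/-! ### The nodes -/

/-- the check of a node -/
def nodeOK (i : ℕ) : Bool :=
  Nat.beq i 0 || (force (D.par i) fun p => force (D.pcol i) fun c => Nat.blt p i && Nat.blt c 18 &&
    force (NC i) fun a => force (XC c) fun x => force (NC p) fun b =>
      allBelow 100 fun y => Nat.beq (tg a 7 y) (tg x 7 (tg b 7 y)))

set_option maxRecDepth 100000 in
theorem node_chk0 : Nat.beq (NC 0) idC = true ∧ allBelow 512 nodeOK = true := by decide +kernel

theorem node_chk : NC 0 = idC ∧ ∀ i < 512, 0 < i → D.par i < i ∧ D.pcol i < 18 ∧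
    ∀ y < 100, tg (NC i) 7 y = tg (XC (D.pcol i)) 7 (tg (NC (D.par i)) 7 y) := by
  refine ⟨Nat.eq_of_beq_eq_true node_chk0.1, ?_⟩
  intro i hi h0
  have h := (allBelow_iff _ _).1 node_chk0.2 i hi
  unfold nodeOK at h
  rw [Bool.or_eq_true] at h
  rcases h with h | h
  · have := Nat.eq_of_beq_eq_true h
    omega
  · rw [force_eq, force_eq, Bool.and_eq_true, Bool.and_eq_true, force_eq, force_eq, force_eq,
      allBelow_iff] at h
    obtain ⟨⟨h1, h2⟩, h3⟩ := h
    refine ⟨Eq.mp Nat.blt_eq h1, Eq.mp Nat.blt_eq h2, ?_⟩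
    intro y hy
    exact Nat.eq_of_beq_eq_true (h3 y hy)

theorem coe_node (i : ℕ) : (D.node xg i).val = D.node (fun c => (xg c).val) i :=
  D.map_node G100.subtype xg i

theorem acts_node (i : ℕ) (hi : i < 512) : Acts (D.node xg i).val (NC i) := by
  induction i using Nat.strong_induction_on with
  | _ i ih =>
    rcases Nat.eq_zero_or_pos i with h0 | h0
    · subst h0
      rw [D.node_zero, node_chk.1]
      exact acts_one
    · obtain ⟨h1, h2, h3⟩ := node_chk.2 i hi h0
      rw [D.node_of_lt xg h0 h1]
      exact acts_mul (acts_xg _ h2) (ih _ h1 (by omega)) h3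

/-- the check of a table entry -/
def tabOK (c i : ℕ) : Bool :=
  force (D.tget c i) fun j => Nat.blt j 512 && force (NC j) fun b => force (NC i) fun a =>
    force (XC c) fun x => allBelow 100 fun y => Nat.beq (tg b 7 y) (tg x 7 (tg a 7 y))

set_option maxRecDepth 100000 in
theorem tab_chk0 : allBelow 18 (fun c => allBelow 512 fun i => tabOK c i) = true := by
  decide +kernel

theorem tab_chk : ∀ c < 18, ∀ i < 512, D.tget c i < 512 ∧
    ∀ y < 100, tg (NC (D.tget c i)) 7 y = tg (XC c) 7 (tg (NC i) 7 y) := by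
  intro c hc i hi
  have h := (allBelow_iff _ _).1 ((allBelow_iff _ _).1 tab_chk0 c hc) i hi
  unfold tabOK at h
  rw [force_eq, Bool.and_eq_true, force_eq, force_eq, force_eq, allBelow_iff] at h
  refine ⟨Eq.mp Nat.blt_eq h.1, ?_⟩
  intro y hy
  exact Nat.eq_of_beq_eq_true (h.2 y hy)

theorem tabM : ∀ c < D.k, ∀ i < D.n, D.tget c i < D.n ∧
    xg c * D.node xg i = D.node xg (D.tget c i) := by
  intro c hc i hi
  obtain ⟨h1, h2⟩ := tab_chk c hc i hi
  refine ⟨h1, ?_⟩
  apply Subtype.ext
  exact eq_of_acts (acts_mul (acts_xg c hc) (acts_node i hi) h2) (acts_node _ h1)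

/-- the key of a code: the images of the base points -/
def keyOf (c : ℕ) : ℕ :=
  tg c 7 0 + 128 * (tg c 7 1 + 128 * (tg c 7 2 + 128 * (tg c 7 3 + 128 * (tg c 7 5 +
    128 * tg c 7 4))))

/-- the keys of the nodes -/
def keyL : List ℕ := (List.range 512).map fun i => keyOf (NC i)

/-- strictly different from all later entries -/
def distinctL : List ℕ → Bool
  | [] => true
  | a :: t => (t.all fun b => !(Nat.beq a b)) && distinctL t

theorem nodup_of_distinctL : ∀ l : List ℕ, distinctL l = true → l.Nodup := by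
  intro l
  induction l with
  | nil => intro _; exact List.nodup_nil
  | cons a t ih =>
    intro h
    rw [distinctL, Bool.and_eq_true, List.all_eq_true] at h
    rw [List.nodup_cons]
    refine ⟨?_, ih h.2⟩
    intro hm
    have := h.1 a hm
    simp at this

set_option maxRecDepth 100000 in
theorem key_chk0 : distinctL keyL = true := by decide +kernel

theorem key_chk : ∀ i < 512, ∀ j < i, keyOf (NC i) ≠ keyOf (NC j) := by
  have hnd := nodup_of_distinctL keyL key_chk0
  intro i hi j hj h
  have hlen : keyL.length = 512 := by simp [keyL]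
  have h1 : keyL[i]'(by omega) = keyOf (NC i) := by simp [keyL]
  have h2 : keyL[j]'(by omega) = keyOf (NC j) := by simp [keyL]
  have := (List.Nodup.getElem_inj_iff hnd (hi := by omega) (hj := by omega)).1
    (h1.trans (h.trans h2.symm))
  omega

theorem node_inj (i j : ℕ) (hi : i < 512) (hj : j < 512) (h : D.node xg i = D.node xg j) :
    i = j := by
  have key : keyOf (NC i) = keyOf (NC j) := by
    have e : ∀ y < 100, tg (NC i) 7 y = tg (NC j) 7 y := by
      intro y hy
      have h1 := acts_node i hi ⟨y, hy⟩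
      have h2 := acts_node j hj ⟨y, hy⟩
      rw [h] at h1
      exact h1.symm.trans h2
    unfold keyOf
    rw [e 0 (by norm_num), e 1 (by norm_num), e 2 (by norm_num), e 3 (by norm_num),
      e 5 (by norm_num), e 4 (by norm_num)]
  rcases Nat.lt_trichotomy i j with h1 | h1 | h1
  · exact absurd key.symm (key_chk j hj i h1)
  · exact h1
  · exact absurd key (key_chk i hi j h1)

theorem node_ne_one (i : ℕ) (hi : i < 512) (h0 : i ≠ 0) : D.node xg i ≠ 1 := by
  intro h
  apply h0
  apply node_inj i 0 hi (by norm_num)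
  rw [h, D.node_zero]

/-! ### The Sylow subgroup -/

def S2 : Subgroup ↥G100 := Subgroup.closure {g | ∃ c < D.k, g = xg c}

theorem hinvk : ∀ c < D.k, D.inv c < D.k := fun c hc => (xinv_chk c hc).1

theorem exists_node (g : ↥G100) (hg : g ∈ S2) : ∃ i < 512, g = D.node xg i :=
  D.closure_sub xg (by decide) hinvk xg_inv tabM g hg

theorem pcol_lt (i : ℕ) (hi : i < 512) (h0 : 0 < i) : D.pcol i < 18 := (node_chk.2 i hi h0).2.1

theorem node_mem (i : ℕ) (hi : i < 512) : D.node xg i ∈ S2 := by
  induction i using Nat.strong_induction_on with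
  | _ i ih =>
    by_cases h : 0 < i ∧ D.par i < i
    · rw [D.node_of_lt xg h.1 h.2]
      refine S2.mul_mem ?_ (ih _ h.2 (by omega))
      exact Subgroup.subset_closure ⟨D.pcol i, pcol_lt i hi h.1, rfl⟩
    · rw [Tab.node, dif_neg h]
      exact S2.one_mem

theorem card_S2 : Nat.card ↥S2 = 512 := by
  have hb : Function.Bijective (fun i : Fin 512 => (⟨D.node xg i.val, node_mem i.val i.2⟩ : ↥S2)) := by
    constructor
    · intro i j h
      apply Fin.ext
      exact node_inj i.val j.val i.2 j.2 (congrArg Subtype.val h)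
    · intro g
      obtain ⟨i, hi, e⟩ := exists_node g.val g.2
      exact ⟨⟨i, hi⟩, Subtype.ext e.symm⟩
  rw [← Nat.card_eq_of_bijective _ hb]
  simp

theorem not_dvd_index_S2 : ¬ 2 ∣ S2.index := by
  have h := Subgroup.card_mul_index S2
  rw [card_S2, card_G100] at h
  have : S2.index = 86625 := by omega
  rw [this]
  decide

end Cfsg.Agent.Helper29.HST
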