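import Mathlib
import Cfsg.Agent.Lib.Helper29.HSTwoA
import Cfsg.Agent.Lib.Helper29.StemSylow
import Cfsg.Agent.Lib.Helper29.StemSplit2
import Cfsg.Prelude.Def_KGroupFacts

set_option autoImplicit false
open Cfsg

/-! The two-part of the Schur multiplier of the Higman-Sims group: in a stem extension with
kernel of order two the lifts of a certain commuting pair of involutions do not commute. -/

namespace Cfsg.Agent.Helper29.HST

open Cfsg.Agent.Helper29.HSP Cfsg.Agent.Helper29.HSD Cfsg.Agent.Helper29.HSM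
open Cfsg.Agent.Helper29.HSTD Cfsg.Agent.Helper29.DedCheck
open Cfsg.Agent.Helper29.StemSylow Cfsg.Agent.Helper29.StemSplit
open scoped commutatorElement

universe u

/-! ### Checks -/

def GC (g : ℕ) : ℕ := GCL.getD g 0
def GW (g : ℕ) : List ℕ := GWL.getD g []

set_option maxRecDepth 100000 in
theorem gw_chk : ∀ g < 3, reprL LC (GC g) (GW g) = true := by decide +kernel

theorem baseRels_len : baseRels.length = 45 := by decide

theorem bw10 : bw 10 = [0, 2, 9, 11] := by decide

set_option maxRecDepth 100000 in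
theorem cons_chk : ∀ t < 32, (consF.getD t (0, 0)).1 < 45 ∧ (consF.getD t (0, 0)).2 < 512 ∧
    (V.walkF (bw (consF.getD t (0, 0)).1) (consF.getD t (0, 0)).2).1 = (consF.getD t (0, 0)).2 ∧
    factMasks.getD t 0 = Nat.xor (V.walkF (bw (consF.getD t (0, 0)).1) (consF.getD t (0, 0)).2).2
      (Nat.shiftLeft 1 (consF.getD t (0, 0)).1) := by decide +kernel

/-- the first word of a power fact -/
def PU (s : ℕ) : List ℕ := (powF.getD s (0, [], [])).2.1
/-- the second word of a power fact -/
def PV (s : ℕ) : List ℕ := (powF.getD s (0, [], [])).2.2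
/-- the conjugating element of a power fact -/
def PG (s : ℕ) : ℕ := (powF.getD s (0, [], [])).1

set_option maxRecDepth 100000 in
theorem pow_chk : ∀ s < 6, PG s < 3 ∧ (∀ y ∈ PU s ++ PU s, y < 18) ∧ (∀ y ∈ PV s ++ PV s, y < 18) ∧
    (V.walkF (PU s ++ PU s) 0).1 = 0 ∧ (V.walkF (PV s ++ PV s) 0).1 = 0 ∧
    D.walkT (PU s ++ PU s) 0 = 0 ∧ D.walkT (PV s ++ PV s) 0 = 0 ∧
    factMasks.getD (32 + s) 0 =
      Nat.xor (V.walkF (PU s ++ PU s) 0).2 (V.walkF (PV s ++ PV s) 0).2 ∧
    ∀ y < 100, tg (GC (PG s)) 7 (appL XCL (PU s) y) = appL XCL (PV s) (tg (GC (PG s)) 7 y) := by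
  decide +kernel

theorem fact38 : factMasks.getD 38 0 = Nat.shiftLeft 1 10 := by decide +kernel

/-- the tail change of a word under the new choice of lifts -/
def fx (w : List ℕ) : ℕ := w.foldr (fun c acc => Nat.xor (McL.getD (c % 9) 0) acc) 0

/-- the sum of a list of facts -/
def fxf (l : List ℕ) : ℕ := l.foldr (fun t acc => Nat.xor (factMasks.getD t 0) acc) 0

set_option maxRecDepth 100000 in
theorem cert1 : ∀ r ∈ rels, r.1 < 45 ∧ fx r.2 = KML.getD r.1 0 := by decide +kernel

set_option maxRecDepth 100000 in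
theorem cert2 : ∀ j < 45, Nat.xor (Nat.shiftLeft 1 j) (KML.getD j 0) = fxf (LL.getD j []) ∧
    ∀ t ∈ LL.getD j [], t < 39 := by decide +kernel

/-! ### General lemmas -/

/-- variant of the local criterion: only the primes dividing the order of the kernel matter -/
theorem ker_eq_bot_of_local2 {Γ : Type*} [Group Γ] {G : Type*} [Group G] [Finite Γ]
    (σ : Γ →* G) (hs : Function.Surjective σ)
    (hK : σ.ker ≤ Subgroup.center Γ) (hK' : σ.ker ≤ commutator Γ)
    (h : ∀ p : ℕ, p.Prime → p ∣ Nat.card σ.ker → ∃ Q : Subgroup G, ¬ p ∣ Q.index ∧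
      ∀ k ∈ ⁅Q.comap σ, Q.comap σ⁆, k ∈ σ.ker → k = 1) : σ.ker = ⊥ := by
  by_contra hne
  have hcard : Nat.card σ.ker ≠ 1 := by
    intro h1
    exact hne (Subgroup.card_eq_one.mp h1)
  obtain ⟨p, hp, hpd⟩ := Nat.exists_prime_and_dvd hcard
  have : Fact p.Prime := ⟨hp⟩
  obtain ⟨k, hk⟩ := exists_prime_orderOf_dvd_card' p hpd
  obtain ⟨Q, hQ, hQ2⟩ := h p hp hpd
  have hidx : (Q.comap σ).index = Q.index := Subgroup.index_comap_of_surjective Q hs
  have hkH : (k : Γ) ∈ Q.comap σ := by
    rw [Subgroup.mem_comap, (MonoidHom.mem_ker).1 k.2]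
    exact Q.one_mem
  have h1 := pow_index_mem_comm (Q.comap σ) (hK k.2) (hK' k.2) (Subgroup.pow_mem _ hkH _)
  have h2 := hQ2 _ h1 (Subgroup.pow_mem _ k.2 _)
  have h3 : orderOf (k : Γ) ∣ (Q.comap σ).index := orderOf_dvd_of_pow_eq_one h2
  rw [Subgroup.orderOf_coe, hk, hidx] at h3
  exact hQ h3

theorem prod_rot {M : Type*} [Group M] (e : ℕ → M) (w : List ℕ) (r : ℕ) (z : M)
    (hz : ∀ g, g * z = z * g) (h : (w.map e).prod = z) :
    ((w.drop r ++ w.take r).map e).prod = z := by
  have h1 : ((w.take r).map e).prod * ((w.drop r).map e).prod = z := by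
    rw [← List.prod_append, ← List.map_append, List.take_append_drop]
    exact h
  rw [List.map_append, List.prod_append]
  have h2 : ((w.drop r).map e).prod = (((w.take r).map e).prod)⁻¹ * z := by
    rw [← h1]; group
  rw [h2, mul_assoc, ← hz, ← mul_assoc, inv_mul_cancel, one_mul]

theorem prod_winv {M : Type*} [Group M] (e : ℕ → M) (hinv : ∀ c < 18, e (D.inv c) = (e c)⁻¹)
    (w : List ℕ) (hw : ∀ y ∈ w, y < 18) : ((winv w).map e).prod = ((w.map e).prod)⁻¹ := by
  induction w with
  | nil => simp [winv]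
  | cons c t ih =>
    have e1 : winv (c :: t) = winv t ++ [D.inv c] := by
      simp [winv]
    rw [e1, List.map_append, List.prod_append, ih (fun y hy => hw y (List.mem_cons_of_mem _ hy)),
      List.map_cons, List.map_nil, List.prod_cons, List.prod_nil, mul_one,
      hinv c (hw c List.mem_cons_self), List.map_cons, List.prod_cons, mul_inv_rev]

theorem prod_mul_central {M : Type*} [Group M] (e κ : ℕ → M) (hκ : ∀ c g, g * κ c = κ c * g)
    (w : List ℕ) : (w.map fun c => e c * κ c).prod = (w.map e).prod * (w.map κ).prod := by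
  induction w with
  | nil => simp
  | cons c t ih =>
    rw [List.map_cons, List.prod_cons, ih, List.map_cons, List.prod_cons, List.map_cons,
      List.prod_cons]
    calc e c * κ c * ((t.map e).prod * (t.map κ).prod)
        = e c * (κ c * (t.map e).prod) * (t.map κ).prod := by group
      _ = e c * ((t.map e).prod * κ c) * (t.map κ).prod := by rw [← hκ c]
      _ = e c * (t.map e).prod * (κ c * (t.map κ).prod) := by group

theorem evn_one {Γ : Type*} [Group Γ] (mask j : ℕ) : VT.evn (fun _ => (1 : Γ)) mask j = 1 := by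
  induction j with
  | zero => rfl
  | succ j ih =>
    rw [VT.evn, ih]
    simp

theorem evn_mem {Γ : Type*} [Group Γ] (τ : ℕ → Γ) (H : Subgroup Γ) (hτ : ∀ j, τ j ∈ H)
    (mask j : ℕ) : VT.evn τ mask j ∈ H := by
  induction j with
  | zero => exact H.one_mem
  | succ j ih =>
    rw [VT.evn]
    apply H.mul_mem ih
    split
    · exact hτ j
    · exact H.one_mem

/-- squares are invariant under conjugation up to the kernel -/
theorem sq_eq_of_conj {Γ G : Type*} [Group Γ] [Group G] (σ : Γ →* G)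
    (hK : σ.ker ≤ Subgroup.center Γ) (hexp : ∀ k ∈ σ.ker, k * k = 1) (γ x y : Γ)
    (hx : x * x ∈ σ.ker) (hconj : σ γ * σ x * (σ γ)⁻¹ = σ y) : x * x = y * y := by
  obtain ⟨κ, hκ, e1⟩ := exists_ker_mul σ (γ * x * γ⁻¹) y (by
    rw [map_mul, map_mul, map_inv]; exact hconj)
  have c1 := central_comm σ hK hκ
  have c2 := central_comm σ hK hx
  have h1 : γ * x * γ⁻¹ * (γ * x * γ⁻¹) = x * x := by
    calc γ * x * γ⁻¹ * (γ * x * γ⁻¹) = γ * (x * x) * γ⁻¹ := by group
      _ = x * x * γ * γ⁻¹ := by rw [c2 γ]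
      _ = x * x := by group
  rw [← h1, e1]
  calc y * κ * (y * κ) = y * (κ * y) * κ := by group
    _ = y * (y * κ) * κ := by rw [← c1 y]
    _ = y * y * (κ * κ) := by group
    _ = y * y := by rw [hexp κ hκ, mul_one]


theorem walkF_fst (w : List ℕ) (i : ℕ) : (V.walkF w i).1 = D.walkT w i := by
  induction w with
  | nil => rfl
  | cons y t ih =>
    show V.D.tget y (V.walkF t i).1 = D.tget y (D.walkT t i)
    rw [ih]
    rfl

theorem acts_xgL : ∀ l < XCL.length, Acts ((fun c => (xg c).val) l) (XCL.getD l 0) := by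
  intro l hl
  exact acts_xg l (by simpa [XCL] using hl)

theorem coe_prod_xg (w : List ℕ) :
    ((w.map xg).prod : ↥G100).val = (w.map fun c => (xg c).val).prod := by
  induction w with
  | nil => rfl
  | cons c t ih =>
    rw [List.map_cons, List.prod_cons, List.map_cons, List.prod_cons, Subgroup.coe_mul, ih]

/-- the conjugation underlying a power fact -/
theorem conj_pow (s : ℕ) (hs : s < 6) :
    (⟨evalW (GW (PG s)), evalW_mem _⟩ : ↥G100) * ((PU s).map xg).prod *
      (⟨evalW (GW (PG s)), evalW_mem _⟩ : ↥G100)⁻¹ = ((PV s).map xg).prod := by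
  obtain ⟨c1, c2, c3, _, _, _, _, _, c9⟩ := pow_chk s hs
  rw [mul_inv_eq_iff_eq_mul]
  apply Subtype.ext
  rw [Subgroup.coe_mul, Subgroup.coe_mul, coe_prod_xg, coe_prod_xg]
  apply Equiv.ext
  intro u
  apply Fin.ext
  have hg : Acts (evalW (GW (PG s))) (GC (PG s)) := acts_evalW (gw_chk _ c1)
  have hU : ∀ y ∈ PU s, y < XCL.length := by
    intro y hy
    have := c2 y (List.mem_append_left _ hy)
    simpa [XCL] using this
  have hV : ∀ y ∈ PV s, y < XCL.length := by
    intro y hy
    have := c3 y (List.mem_append_left _ hy)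
    simpa [XCL] using this
  show (evalW (GW (PG s)) (((PU s).map fun c => (xg c).val).prod u)).val =
    ((((PV s).map fun c => (xg c).val).prod) (evalW (GW (PG s)) u)).val
  rw [hg, prod_apply XCL _ acts_xgL _ hU, prod_apply XCL _ acts_xgL _ hV, hg]
  exact c9 u.val u.2

/-- **The two-part.**  In a stem extension with kernel of order two the lifts of the commuting
involutions `xg 0` and `xg 2` do not commute. -/
theorem core_two {Γ : Type u} [Group Γ] [Finite Γ] (σ : Γ →* ↥G100)
    (hσ : Cfsg.IsStemExtension σ) (hcard : Nat.card σ.ker = 2) (a b : Γ) (ha : σ a = xg 0)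
    (hb : σ b = xg 2) (hab : a * b = b * a) : False := by
  obtain ⟨hs, hK, hK'⟩ := hσ
  have hexp : ∀ k ∈ σ.ker, k * k = 1 := by
    intro k hk
    have h1 : (⟨k, hk⟩ : σ.ker) ^ Nat.card σ.ker = 1 := pow_card_eq_one'
    rw [hcard] at h1
    have h2 := congrArg Subtype.val h1
    simpa [pow_two] using h2
  have kc : ∀ {κ : Γ}, κ ∈ σ.ker → ∀ g, g * κ = κ * g := fun hκ g => central_comm σ hK hκ g
  -- lifts of the columns
  choose E hE using fun c => hs (xg c)
  obtain ⟨e, hedef⟩ : ∃ e : ℕ → Γ, e = fun c => if c < 9 then E c else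
      if c < 18 then (E (c - 9))⁻¹ else 1 := ⟨_, rfl⟩
  have he1 : ∀ c, c < 9 → e c = E c := by
    intro c hc
    rw [hedef]
    simp only [hc, if_true]
  have he2 : ∀ c, 9 ≤ c → c < 18 → e c = (E (c - 9))⁻¹ := by
    intro c h1 h2
    rw [hedef]
    simp only
    rw [if_neg (by omega), if_pos h2]
  have he3 : ∀ c, 18 ≤ c → e c = 1 := by
    intro c h1
    rw [hedef]
    simp only
    rw [if_neg (by omega), if_neg (by omega)]
  have hinvlo : ∀ c, c < 9 → D.inv c = c + 9 := by
    intro c hc
    show (if c < 9 then c + 9 else c - 9) = c + 9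
    rw [if_pos hc]
  have hinvhi : ∀ c, 9 ≤ c → D.inv c = c - 9 := by
    intro c hc
    show (if c < 9 then c + 9 else c - 9) = c - 9
    rw [if_neg (by omega)]
  have hσe : ∀ c, σ (e c) = xg c := by
    intro c
    by_cases h1 : c < 9
    · rw [he1 c h1, hE]
    · by_cases h2 : c < 18
      · rw [he2 c (by omega) h2, map_inv, hE]
        have h3 := xg_inv (c - 9) (by omega)
        rw [hinvlo (c - 9) (by omega), Nat.sub_add_cancel (by omega)] at h3
        exact h3.symm
      · rw [he3 c (by omega), map_one, xg_ge c (by omega)]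
  have hfun : (fun c => σ (e c)) = xg := funext hσe
  have hinv : ∀ c < V.D.k, e (V.D.inv c) = (e c)⁻¹ := by
    intro c hc
    have hc' : c < 18 := hc
    show e (D.inv c) = (e c)⁻¹
    by_cases h1 : c < 9
    · rw [hinvlo c h1, he2 (c + 9) (by omega) (by omega), he1 c h1, Nat.add_sub_cancel]
    · rw [hinvhi c (by omega), he1 (c - 9) (by omega), he2 c (by omega) hc', inv_inv]
  have hprodσ : ∀ w : List ℕ, σ ((w.map e).prod) = (w.map xg).prod := by
    intro w
    rw [map_list_prod, List.map_map, ← hfun]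
    rfl
  -- the values of the relators
  obtain ⟨τ, hτdef⟩ : ∃ τ : ℕ → Γ, τ = fun j => ((bw j).map e).prod := ⟨_, rfl⟩
  have hτj : ∀ j, τ j = ((bw j).map e).prod := by
    intro j
    rw [hτdef]
  have hτker : ∀ j, τ j ∈ σ.ker := by
    intro j
    rw [hτj, MonoidHom.mem_ker, hprodσ]
    by_cases hj : j < 45
    · exact D.prod_eq_one_of_walk xg tabM (by decide) _ (base_chk j hj).2 (base_chk j hj).1
    · have : bw j = [] := by
        unfold bw
        rw [List.getD_eq_default _ _ (by rw [baseRels_len]; omega)]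
      rw [this]
      rfl
  have hc : ∀ j g, g * τ j = τ j * g := fun j g => kc (hτker j) g
  have hτ : ∀ j, τ j * τ j = 1 := fun j => hexp _ (hτker j)
  have hrel : ∀ r ∈ rels, (r.2.map e).prod = τ r.1 := by
    intro r hr
    unfold rels at hr
    obtain ⟨j, hj, hr2⟩ := List.mem_flatMap.1 hr
    rw [List.mem_range] at hj
    unfold relsOf at hr2
    obtain ⟨w, hw, rfl⟩ := List.mem_map.1 hr2
    show (w.map e).prod = τ j
    rcases List.mem_append.1 hw with hw | hw
    · obtain ⟨r', _, rfl⟩ := List.mem_map.1 hw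
      exact prod_rot e (bw j) r' (τ j) (hc j) (hτj j).symm
    · obtain ⟨r', _, rfl⟩ := List.mem_map.1 hw
      apply prod_rot e (winv (bw j)) r' (τ j) (hc j)
      rw [prod_winv e hinv (bw j) (base_chk j hj).2, ← hτj j]
      exact inv_eq_of_mul_eq_one_left (hτ j)
  have htab := V.table_of_check e τ rels dlog check_ok hc hτ hinv hrel rels_k
  -- the facts
  have hfact : ∀ t < 39, V.ev τ (factMasks.getD t 0) = 1 := by
    intro t ht
    by_cases h1 : t < 32
    · obtain ⟨c1, c2, c3, c4⟩ := cons_chk t h1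
      have hw := V.fact_of_walk e τ hc hτ htab (bw (consF.getD t (0, 0)).1)
        (base_chk _ c1).2 (consF.getD t (0, 0)).2 c2 (τ (consF.getD t (0, 0)).1) (hc _)
        (hτj _).symm c3
      rw [c4, V.ev_xor τ hc hτ, hw, V.ev_bit τ _ c1, hτ]
    · by_cases h2 : t < 38
      · obtain ⟨s, rfl⟩ : ∃ s, t = 32 + s := ⟨t - 32, by omega⟩
        have hs6 : s < 6 := by omega
        obtain ⟨c1, c2, c3, c4, c5, c6, c7, c8, _⟩ := pow_chk s hs6
        obtain ⟨γ, hγ⟩ := hs (⟨evalW (GW (PG s)), evalW_mem _⟩ : ↥G100)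
        have huu : ((PU s ++ PU s).map e).prod = ((PU s).map e).prod * ((PU s).map e).prod := by
          rw [List.map_append, List.prod_append]
        have hvv : ((PV s ++ PV s).map e).prod = ((PV s).map e).prod * ((PV s).map e).prod := by
          rw [List.map_append, List.prod_append]
        have huker : ((PU s).map e).prod * ((PU s).map e).prod ∈ σ.ker := by
          rw [← huu, MonoidHom.mem_ker, hprodσ]
          exact D.prod_eq_one_of_walk xg tabM (by decide) _ c2 c6
        have hvker : ((PV s).map e).prod * ((PV s).map e).prod ∈ σ.ker := by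
          rw [← hvv, MonoidHom.mem_ker, hprodσ]
          exact D.prod_eq_one_of_walk xg tabM (by decide) _ c3 c7
        have f1 := V.fact_of_walk e τ hc hτ htab (PU s ++ PU s) c2 0 (by decide) _
          (kc huker) huu c4
        have f2 := V.fact_of_walk e τ hc hτ htab (PV s ++ PV s) c3 0 (by decide) _
          (kc hvker) hvv c5
        have f3 := sq_eq_of_conj σ hK hexp γ ((PU s).map e).prod ((PV s).map e).prod huker (by
          rw [hγ, hprodσ, hprodσ]
          exact conj_pow s hs6)
        rw [c8, V.ev_xor τ hc hτ, f1, f2, f3]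
        exact hexp _ hvker
      · have ht38 : t = 38 := by omega
        subst ht38
        rw [fact38, V.ev_bit τ 10 (by decide), hτj, bw10]
        have e9 : e 9 = (e 0)⁻¹ := by
          have := hinv 0 (by decide)
          rwa [show V.D.inv 0 = 9 from rfl] at this
        have e11 : e 11 = (e 2)⁻¹ := by
          have := hinv 2 (by decide)
          rwa [show V.D.inv 2 = 11 from rfl] at this
        have h3 : ([0, 2, 9, 11].map e).prod = ⁅e 0, e 2⁆ := by
          simp only [List.map_cons, List.map_nil, List.prod_cons, List.prod_nil, e9, e11,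
            commutatorElement_def]
          group
        rw [h3]
        obtain ⟨κ, hκ, e1'⟩ := exists_ker_mul σ (e 0) a (by rw [hσe, ha])
        obtain ⟨μ, hμ, e2'⟩ := exists_ker_mul σ (e 2) b (by rw [hσe, hb])
        rw [e1', e2', comm_strip_left _ _ _ (kc hκ _).symm, comm_strip_right _ _ _ (kc hμ _).symm,
          commutatorElement_eq_one_iff_mul_comm]
        exact hab
  -- the new lifts
  obtain ⟨κ, hκdef⟩ : ∃ κ : ℕ → Γ, κ = fun c => V.ev τ (McL.getD (c % 9) 0) := ⟨_, rfl⟩
  have hκc : ∀ c, κ c = V.ev τ (McL.getD (c % 9) 0) := by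
    intro c
    rw [hκdef]
  have hκcen : ∀ c g, g * κ c = κ c * g := by
    intro c g
    rw [hκc]
    exact V.ev_central τ hc _ g
  have hκsq : ∀ c, κ c * κ c = 1 := by
    intro c
    rw [hκc]
    exact V.ev_sq τ hc hτ _
  have hκker : ∀ c, κ c ∈ σ.ker := by
    intro c
    rw [hκc]
    exact evn_mem τ σ.ker hτker _ _
  have hκprod : ∀ w : List ℕ, (w.map κ).prod = V.ev τ (fx w) := by
    intro w
    induction w with
    | nil => exact (V.ev_zero τ).symm
    | cons c t ih =>
      rw [List.map_cons, List.prod_cons, ih, hκc]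
      exact (V.ev_xor τ hc hτ _ _).symm
  have hfxf : ∀ l : List ℕ, (∀ t ∈ l, t < 39) → V.ev τ (fxf l) = 1 := by
    intro l
    induction l with
    | nil => intro _; exact V.ev_zero τ
    | cons t l ih =>
      intro hl
      show V.ev τ (Nat.xor (factMasks.getD t 0) (fxf l)) = 1
      rw [V.ev_xor τ hc hτ, hfact t (hl t List.mem_cons_self),
        ih (fun t' ht' => hl t' (List.mem_cons_of_mem _ ht')), one_mul]
  obtain ⟨e', he'def⟩ : ∃ e' : ℕ → Γ, e' = fun c => e c * κ c := ⟨_, rfl⟩
  have he'c : ∀ c, e' c = e c * κ c := by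
    intro c
    rw [he'def]
  have hrel' : ∀ r ∈ rels, (r.2.map e').prod = (fun _ => (1 : Γ)) r.1 := by
    intro r hr
    obtain ⟨c1, c2⟩ := cert1 r hr
    obtain ⟨c3, c4⟩ := cert2 r.1 c1
    show (r.2.map e').prod = 1
    rw [he'def, prod_mul_central e κ hκcen r.2, hrel r hr, hκprod, c2, ← V.ev_bit τ r.1 c1,
      ← V.ev_xor τ hc hτ, c3]
    exact hfxf _ c4
  have hinv' : ∀ c < V.D.k, e' (V.D.inv c) = (e' c)⁻¹ := by
    intro c hc'
    have hκi : κ (V.D.inv c) = κ c := by
      rw [hκc, hκc]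
      have : V.D.inv c % 9 = c % 9 := (xinv_chk c hc').2.2.1
      rw [this]
    have hκinv : (κ c)⁻¹ = κ c := inv_eq_of_mul_eq_one_left (hκsq c)
    rw [he'c, he'c, hinv c hc', hκi, mul_inv_rev, hκinv]
    exact hκcen c _
  have htab' := V.table_of_check e' (fun _ => (1 : Γ)) rels dlog check_ok
    (fun _ g => by rw [mul_one, one_mul]) (fun _ => one_mul 1) hinv' hrel' rels_k
  have htabP : ∀ c < D.k, ∀ i < D.n, D.tget c i < D.n ∧
      e' c * D.node e' i = D.node e' (D.tget c i) := by
    intro c hc' i hi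
    obtain ⟨h1, h2⟩ := htab' c hc' i hi
    refine ⟨h1, ?_⟩
    have h2' : e' c * D.node e' i =
        D.node e' (D.tget c i) * VT.evn (fun _ => (1 : Γ)) (V.vget c i) V.m := h2
    rw [h2', evn_one, mul_one]
  have hsub := D.closure_sub e' (by decide) hinvk hinv' htabP
  have hσe' : ∀ c, σ (e' c) = xg c := by
    intro c
    rw [he'c, map_mul, hσe, (MonoidHom.mem_ker).1 (hκker c), mul_one]
  have hfun' : (fun c => σ (e' c)) = xg := funext hσe'
  have hnodeσ : ∀ i, σ (D.node e' i) = D.node xg i := by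
    intro i
    rw [D.map_node σ e' i, hfun']
  have hbot : σ.ker = ⊥ := by
    apply ker_eq_bot_of_local2 σ hs hK hK'
    intro p hp hpd
    rw [hcard] at hpd
    have hp2 : p = 2 := (Nat.prime_dvd_prime_iff_eq hp Nat.prime_two).1 hpd
    subst hp2
    refine ⟨S2, not_dvd_index_S2, ?_⟩
    intro k hk hkK
    obtain ⟨Γ0, hΓ0⟩ : ∃ Γ0 : Subgroup Γ,
        Γ0 = Subgroup.closure {g : Γ | ∃ c < D.k, g = e' c} := ⟨_, rfl⟩
    have hnode : ∀ i, i < 512 → D.node e' i ∈ Γ0 := by
      intro i
      induction i using Nat.strong_induction_on with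
      | _ i ih =>
        intro hi
        by_cases h : 0 < i ∧ D.par i < i
        · rw [D.node_of_lt e' h.1 h.2]
          refine Γ0.mul_mem ?_ (ih _ h.2 (by omega))
          rw [hΓ0]
          exact Subgroup.subset_closure ⟨D.pcol i, pcol_lt i hi h.1, rfl⟩
        · rw [Tab.node, dif_neg h]
          exact Γ0.one_mem
    have hle : ⁅S2.comap σ, S2.comap σ⁆ ≤ Γ0 := by
      rw [Subgroup.commutator_le]
      intro g1 hg1 g2 hg2
      obtain ⟨i1, hi1, e1'⟩ := exists_node (σ g1) (Subgroup.mem_comap.1 hg1)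
      obtain ⟨i2, hi2, e2'⟩ := exists_node (σ g2) (Subgroup.mem_comap.1 hg2)
      obtain ⟨κ1, hκ1, rfl⟩ := exists_ker_mul σ g1 (D.node e' i1) (by rw [hnodeσ, e1'])
      obtain ⟨κ2, hκ2, rfl⟩ := exists_ker_mul σ g2 (D.node e' i2) (by rw [hnodeσ, e2'])
      rw [comm_strip_left _ _ _ (kc hκ1 _).symm, comm_strip_right _ _ _ (kc hκ2 _).symm,
        commutatorElement_def]
      exact Γ0.mul_mem (Γ0.mul_mem (Γ0.mul_mem (hnode i1 hi1) (hnode i2 hi2))
        (Γ0.inv_mem (hnode i1 hi1))) (Γ0.inv_mem (hnode i2 hi2))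
    have hk0 : k ∈ Γ0 := hle hk
    rw [hΓ0] at hk0
    obtain ⟨i, hi, rfl⟩ := hsub k hk0
    have h1 : D.node xg i = 1 := by
      rw [← hnodeσ]
      exact (MonoidHom.mem_ker).1 hkK
    by_cases h0 : i = 0
    · subst h0
      exact D.node_zero e'
    · exact absurd h1 (node_ne_one i hi h0)
  rw [hbot, Subgroup.card_bot] at hcard
  exact absurd hcard (by norm_num)

end Cfsg.Agent.Helper29.HST
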