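import Mathlib
import Cfsg.Agent.Lib.Helper29.Co3MulA
import Cfsg.Agent.Lib.Helper29.HSTwoB
import Cfsg.Prelude.Def_KGroupFacts

set_option autoImplicit false
open Cfsg

/-! The two-part of the Schur multiplier of the third Conway group: there is no stem extension
with kernel of order two. -/

namespace Cfsg.Agent.Helper29.Co3Mu

open Cfsg.Agent.Helper29.HSP (tg force force_eq allBelow allBelow_iff)
open Cfsg.Agent.Helper29.PN Cfsg.Agent.Helper29.Co3M
open Cfsg.Agent.Helper29.Co3MD Cfsg.Agent.Helper29.DedCheck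
open Cfsg.Agent.Helper29.StemSylow Cfsg.Agent.Helper29.StemSplit
open Cfsg.Agent.Helper29.HST (ker_eq_bot_of_local2 prod_rot prod_mul_central evn_mem sq_eq_of_conj)
open scoped commutatorElement

universe u

theorem prod_winv {M : Type*} [Group M] (e : ℕ → M) (hinv : ∀ c < 20, e (D.inv c) = (e c)⁻¹)
    (w : List ℕ) (hw : ∀ y ∈ w, y < 20) : ((winv w).map e).prod = ((w.map e).prod)⁻¹ := by
  induction w with
  | nil => simp [winv]
  | cons c t ih =>
    have e1 : winv (c :: t) = winv t ++ [D.inv c] := by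
      simp [winv]
    rw [e1, List.map_append, List.prod_append, ih (fun y hy => hw y (List.mem_cons_of_mem _ hy)),
      List.map_cons, List.map_nil, List.prod_cons, List.prod_nil, mul_one,
      hinv c (hw c List.mem_cons_self), List.map_cons, List.prod_cons, mul_inv_rev]

/-- **The two-part.**  There is no stem extension with kernel of order two. -/
theorem core_two {Γ : Type u} [Group Γ] [Finite Γ] (σ : Γ →* ↥G276)
    (hσ : Cfsg.IsStemExtension σ) (hcard : Nat.card σ.ker = 2) : False := by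
  obtain ⟨hs, hK, hK'⟩ := hσ
  have hexp : ∀ k ∈ σ.ker, k * k = 1 := by
    intro k hk
    have h1 : (⟨k, hk⟩ : σ.ker) ^ Nat.card σ.ker = 1 := pow_card_eq_one'
    rw [hcard] at h1
    have h2 := congrArg Subtype.val h1
    simpa [pow_two] using h2
  have kc : ∀ {κ : Γ}, κ ∈ σ.ker → ∀ g, g * κ = κ * g := fun hκ g => central_comm σ hK hκ g
  -- lifts of the columns
  choose E hE using fun c => hs (xg c)
  obtain ⟨e, hedef⟩ : ∃ e : ℕ → Γ, e = fun c => if c < 10 then E c else
      if c < 20 then (E (c - 10))⁻¹ else 1 := ⟨_, rfl⟩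
  have he1 : ∀ c, c < 10 → e c = E c := by
    intro c hc
    rw [hedef]
    simp only [hc, if_true]
  have he2 : ∀ c, 10 ≤ c → c < 20 → e c = (E (c - 10))⁻¹ := by
    intro c h1 h2
    rw [hedef]
    simp only
    rw [if_neg (by omega), if_pos h2]
  have he3 : ∀ c, 20 ≤ c → e c = 1 := by
    intro c h1
    rw [hedef]
    simp only
    rw [if_neg (by omega), if_neg (by omega)]
  have hinvlo : ∀ c, c < 10 → D.inv c = c + 10 := by
    intro c hc
    show (if c < 10 then c + 10 else c - 10) = c + 10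
    rw [if_pos hc]
  have hinvhi : ∀ c, 10 ≤ c → D.inv c = c - 10 := by
    intro c hc
    show (if c < 10 then c + 10 else c - 10) = c - 10
    rw [if_neg (by omega)]
  have hσe : ∀ c, σ (e c) = xg c := by
    intro c
    by_cases h1 : c < 10
    · rw [he1 c h1, hE]
    · by_cases h2 : c < 20
      · rw [he2 c (by omega) h2, map_inv, hE]
        have h3 := xg_inv (c - 10) (show c - 10 < 20 by omega)
        rw [hinvlo (c - 10) (by omega), Nat.sub_add_cancel (by omega)] at h3
        exact h3.symm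
      · rw [he3 c (by omega), map_one, xg_ge c (by omega)]
  have hfun : (fun c => σ (e c)) = xg := funext hσe
  have hinv : ∀ c < V.D.k, e (V.D.inv c) = (e c)⁻¹ := by
    intro c hc
    have hc' : c < 20 := hc
    show e (D.inv c) = (e c)⁻¹
    by_cases h1 : c < 10
    · rw [hinvlo c h1, he2 (c + 10) (by omega) (by omega), he1 c h1, Nat.add_sub_cancel]
    · rw [hinvhi c (by omega), he1 (c - 10) (by omega), he2 c (by omega) hc', inv_inv]
  have hprodσ : ∀ w : List ℕ, σ ((w.map e).prod) = (w.map xg).prod := by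
    intro w
    rw [map_list_prod, List.map_map, ← hfun]
    rfl
  -- the values of the relators
  obtain ⟨τ, hτdef⟩ : ∃ τ : ℕ → Γ, τ = fun j => ((bw j).map e).prod := ⟨_, rfl⟩
  have hτj : ∀ j, τ j = ((bw j).map e).prod := by
    intro j
    rw [hτdef]
  have hτker : ∀ j, τ j ∈ σ.ker := by
    intro j
    rw [hτj, MonoidHom.mem_ker, hprodσ]
    by_cases hj : j < 55
    · exact D.prod_eq_one_of_walk xg tabM (by decide) _ (base_chk j hj).2 (base_chk j hj).1
    · have : bw j = [] := by
        unfold bw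
        rw [List.getD_eq_default _ _ (by rw [baseRels_len]; omega)]
      rw [this]
      rfl
  have hc : ∀ j g, g * τ j = τ j * g := fun j g => kc (hτker j) g
  have hτ : ∀ j, τ j * τ j = 1 := fun j => hexp _ (hτker j)
  have hrel : ∀ r ∈ rels, (r.2.map e).prod = τ r.1 := by
    intro r hr
    unfold rels at hr
    obtain ⟨j, hj, hr2⟩ := List.mem_flatMap.1 hr
    rw [List.mem_range] at hj
    unfold relsOf at hr2
    obtain ⟨w, hw, rfl⟩ := List.mem_map.1 hr2
    show (w.map e).prod = τ j
    rcases List.mem_append.1 hw with hw | hw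
    · obtain ⟨r', _, rfl⟩ := List.mem_map.1 hw
      exact prod_rot e (bw j) r' (τ j) (hc j) (hτj j).symm
    · obtain ⟨r', _, rfl⟩ := List.mem_map.1 hw
      apply prod_rot e (winv (bw j)) r' (τ j) (hc j)
      rw [prod_winv e hinv (bw j) (base_chk j hj).2, ← hτj j]
      exact inv_eq_of_mul_eq_one_left (hτ j)
  have htab := V.table_of_check e τ rels dlog check_ok hc hτ hinv hrel rels_k
  -- the facts
  have hfact : ∀ t < 49, V.ev τ (factMasks.getD t 0) = 1 := by
    intro t ht
    by_cases h1 : t < 38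
    · obtain ⟨c1, c2, c3, c4⟩ := cons_chk t h1
      have hw := V.fact_of_walk e τ hc hτ htab (bw (consF.getD t (0, 0)).1)
        (base_chk _ c1).2 (consF.getD t (0, 0)).2 c2 (τ (consF.getD t (0, 0)).1) (hc _)
        (hτj _).symm c3
      rw [c4, V.ev_xor τ hc hτ, hw, V.ev_bit τ _ c1, hτ]
    · obtain ⟨s, rfl⟩ : ∃ s, t = 38 + s := ⟨t - 38, by omega⟩
      have hs11 : s < 11 := by omega
      obtain ⟨c1, c2, c3, c4, c5, c6, c7, c8, _⟩ := pow_chk s hs11
      obtain ⟨γ, hγ⟩ := hs (fg (PG s))
      have huu : ((PU s ++ PU s).map e).prod = ((PU s).map e).prod * ((PU s).map e).prod := by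
        rw [List.map_append, List.prod_append]
      have hvv : ((PV s ++ PV s).map e).prod = ((PV s).map e).prod * ((PV s).map e).prod := by
        rw [List.map_append, List.prod_append]
      have huker : ((PU s).map e).prod * ((PU s).map e).prod ∈ σ.ker := by
        rw [← huu, MonoidHom.mem_ker, hprodσ]
        exact D.prod_eq_one_of_walk xg tabM (by decide) _ c2 c6
      have hvker : ((PV s).map e).prod * ((PV s).map e).prod ∈ σ.ker := by
        rw [← hvv, MonoidHom.mem_ker, hprodσ]
        exact D.prod_eq_one_of_walk xg tabM (by decide) _ c3 c7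
      have f1 := V.fact_of_walk e τ hc hτ htab (PU s ++ PU s) c2 0 (by decide) _
        (kc huker) huu c4
      have f2 := V.fact_of_walk e τ hc hτ htab (PV s ++ PV s) c3 0 (by decide) _
        (kc hvker) hvv c5
      have f3 := sq_eq_of_conj σ hK hexp γ ((PU s).map e).prod ((PV s).map e).prod huker (by
        rw [hγ, hprodσ, hprodσ]
        exact conj_pow s hs11)
      rw [c8, V.ev_xor τ hc hτ, f1, f2, f3]
      exact hexp _ hvker
  -- the new lifts
  obtain ⟨κ, hκdef⟩ : ∃ κ : ℕ → Γ, κ = fun c => V.ev τ (McL.getD (c % 10) 0) := ⟨_, rfl⟩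
  have hκc : ∀ c, κ c = V.ev τ (McL.getD (c % 10) 0) := by
    intro c
    rw [hκdef]
  have hκcen : ∀ c g, g * κ c = κ c * g := by
    intro c g
    rw [hκc]
    exact V.ev_central τ hc _ g
  have hκsq : ∀ c, κ c * κ c = 1 := by
    intro c
    rw [hκc]
    exact V.ev_sq τ hc hτ _
  have hκker : ∀ c, κ c ∈ σ.ker := by
    intro c
    rw [hκc]
    exact evn_mem τ σ.ker hτker _ _
  have hκprod : ∀ w : List ℕ, (w.map κ).prod = V.ev τ (fx w) := by
    intro w
    induction w with
    | nil => exact (V.ev_zero τ).symm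
    | cons c t ih =>
      rw [List.map_cons, List.prod_cons, ih, hκc]
      exact (V.ev_xor τ hc hτ _ _).symm
  have hfxf : ∀ l : List ℕ, (∀ t ∈ l, t < 49) → V.ev τ (fxf l) = 1 := by
    intro l
    induction l with
    | nil => intro _; exact V.ev_zero τ
    | cons t l ih =>
      intro hl
      show V.ev τ (Nat.xor (factMasks.getD t 0) (fxf l)) = 1
      rw [V.ev_xor τ hc hτ, hfact t (hl t List.mem_cons_self),
        ih (fun t' ht' => hl t' (List.mem_cons_of_mem _ ht')), one_mul]
  obtain ⟨e', he'def⟩ : ∃ e' : ℕ → Γ, e' = fun c => e c * κ c := ⟨_, rfl⟩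
  have he'c : ∀ c, e' c = e c * κ c := by
    intro c
    rw [he'def]
  have hrel' : ∀ r ∈ rels, (r.2.map e').prod = (fun _ => (1 : Γ)) r.1 := by
    intro r hr
    have hr' : r ∈ relsLit := by rw [rels_eq]; exact hr
    obtain ⟨c1, c2⟩ := cert1 r hr'
    obtain ⟨c3, c4⟩ := cert2 r.1 c1
    show (r.2.map e').prod = 1
    rw [he'def, prod_mul_central e κ hκcen r.2, hrel r hr, hκprod, c2, ← V.ev_bit τ r.1 c1,
      ← V.ev_xor τ hc hτ, c3]
    exact hfxf _ c4
  have hinv' : ∀ c < V.D.k, e' (V.D.inv c) = (e' c)⁻¹ := by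
    intro c hc'
    have hκi : κ (V.D.inv c) = κ c := by
      rw [hκc, hκc]
      have : V.D.inv c % 10 = c % 10 := (pw_chk c hc').2.2.2.2
      rw [this]
    have hκinv : (κ c)⁻¹ = κ c := inv_eq_of_mul_eq_one_left (hκsq c)
    rw [he'c, he'c, hinv c hc', hκi, mul_inv_rev, hκinv]
    exact hκcen c _
  have htab' := V.table_of_check e' (fun _ => (1 : Γ)) rels dlog check_ok
    (fun _ g => by rw [mul_one, one_mul]) (fun _ => one_mul 1) hinv' hrel' rels_k
  have htabP : ∀ c < D.k, ∀ i < D.n, D.tget c i < D.n ∧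
      e' c * D.node e' i = D.node e' (D.tget c i) := by
    intro c hc' i hi
    obtain ⟨h1, h2⟩ := htab' c hc' i hi
    refine ⟨h1, ?_⟩
    have h2' : e' c * D.node e' i =
        D.node e' (D.tget c i) * VT.evn (fun _ => (1 : Γ)) (V.vget c i) V.m := h2
    rw [h2', evn_one, mul_one]
  have hsub := D.closure_sub e' (by decide) hinvk hinv' htabP
  have hσe' : ∀ c, σ (e' c) = xg c := by
    intro c
    rw [he'c, map_mul, hσe, (MonoidHom.mem_ker).1 (hκker c), mul_one]
  have hfun' : (fun c => σ (e' c)) = xg := funext hσe'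
  have hnodeσ : ∀ i, σ (D.node e' i) = D.node xg i := by
    intro i
    rw [D.map_node σ e' i, hfun']
  have hbot : σ.ker = ⊥ := by
    apply ker_eq_bot_of_local2 σ hs hK hK'
    intro p hp hpd
    rw [hcard] at hpd
    have hp2 : p = 2 := (Nat.prime_dvd_prime_iff_eq hp Nat.prime_two).1 hpd
    subst hp2
    refine ⟨Co3T.S2, Co3T.not_dvd_index_S2, ?_⟩
    intro k hk hkK
    obtain ⟨Γ0, hΓ0⟩ : ∃ Γ0 : Subgroup Γ,
        Γ0 = Subgroup.closure {g : Γ | ∃ c < D.k, g = e' c} := ⟨_, rfl⟩
    have hnode : ∀ i, i < 1024 → D.node e' i ∈ Γ0 := by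
      intro i
      induction i using Nat.strong_induction_on with
      | _ i ih =>
        intro hi
        by_cases h : 0 < i ∧ D.par i < i
        · rw [D.node_of_lt e' h.1 h.2]
          refine Γ0.mul_mem ?_ (ih _ h.2 (by omega))
          rw [hΓ0]
          exact Subgroup.subset_closure ⟨D.pcol i, (pi_chk i hi h.1).2.1, rfl⟩
        · rw [Tab.node, dif_neg h]
          exact Γ0.one_mem
    have hle : ⁅Co3T.S2.comap σ, Co3T.S2.comap σ⁆ ≤ Γ0 := by
      rw [Subgroup.commutator_le]
      intro g1 hg1 g2 hg2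
      obtain ⟨i1, hi1, e1'⟩ := exists_node (σ g1) (Subgroup.mem_comap.1 hg1)
      obtain ⟨i2, hi2, e2'⟩ := exists_node (σ g2) (Subgroup.mem_comap.1 hg2)
      obtain ⟨κ1, hκ1, rfl⟩ := exists_ker_mul σ g1 (D.node e' i1) (by rw [hnodeσ, e1'])
      obtain ⟨κ2, hκ2, rfl⟩ := exists_ker_mul σ g2 (D.node e' i2) (by rw [hnodeσ, e2'])
      rw [comm_strip_left _ _ _ (kc hκ1 _).symm,
        comm_strip_right _ _ _ (kc hκ2 _).symm,
        commutatorElement_def]
      exact Γ0.mul_mem (Γ0.mul_mem (Γ0.mul_mem (hnode i1 hi1) (hnode i2 hi2))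
        (Γ0.inv_mem (hnode i1 hi1))) (Γ0.inv_mem (hnode i2 hi2))
    have hk0 : k ∈ Γ0 := hle hk
    rw [hΓ0] at hk0
    obtain ⟨i, hi, rfl⟩ := hsub k hk0
    have h1 : D.node xg i = 1 := by
      rw [← hnodeσ]
      exact (MonoidHom.mem_ker).1 hkK
    by_cases h0 : i = 0
    · subst h0
      exact D.node_zero e'
    · exact absurd h1 (node_ne_one i hi h0)
  rw [hbot, Subgroup.card_bot] at hcard
  exact absurd hcard (by norm_num)

end Cfsg.Agent.Helper29.Co3Mu
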