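import Mathlib
import Cfsg.Agent.Lib.Helper29.PermN

set_option autoImplicit false

/-! Permutations of `Fin n` given by packed tables (nine bits per entry): elements given by
straight-line programs, and equalities of words checked on the codes. -/

namespace Cfsg.Agent.Helper29.PN

open Cfsg.Agent.Helper29.HSP (tg force force_eq allBelow allBelow_iff)

/-- evaluation of a word with the hypothesis on the letters of the word only -/
theorem prod_apply_of {n : ℕ} (CL : List ℕ) (ge : ℕ → Equiv.Perm (Fin n)) (w : List ℕ)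
    (hw : ∀ l ∈ w, Acts n (ge l) (CL.getD l 0)) (u : Fin n) :
    ((w.map ge).prod u).val = appL CL w u.val := by
  induction w with
  | nil => rfl
  | cons l t ih =>
    rw [List.map_cons, List.prod_cons]
    show (ge l ((t.map ge).prod u)).val = _
    rw [hw l List.mem_cons_self, ih (fun l' hl' => hw l' (List.mem_cons_of_mem _ hl'))]
    rfl

/-- the elements of the program after `j` steps: the letter `k0 + j` is defined as the product of
the word `WL j` in the earlier letters -/
def elF {n : ℕ} (WL : List (List ℕ)) (ge0 : ℕ → Equiv.Perm (Fin n)) (k0 : ℕ) :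
    ℕ → ℕ → Equiv.Perm (Fin n)
  | 0 => ge0
  | j + 1 => fun l => if l = k0 + j then ((WL.getD j []).map (elF WL ge0 k0 j)).prod
      else elF WL ge0 k0 j l

theorem elF_stable {n : ℕ} (WL : List (List ℕ)) (ge0 : ℕ → Equiv.Perm (Fin n)) (k0 : ℕ)
    (j k l : ℕ) (hl : l < k0 + j) : elF WL ge0 k0 (j + k) l = elF WL ge0 k0 j l := by
  induction k with
  | zero => rfl
  | succ k ih =>
    rw [← Nat.add_assoc]
    show (if l = k0 + (j + k) then _ else elF WL ge0 k0 (j + k) l) = _
    rw [if_neg (by omega), ih]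

/-- the check of the step `j` of the program -/
def slpOK (n : ℕ) (CL : List ℕ) (WL : List (List ℕ)) (k0 j : ℕ) : Bool :=
  ((WL.getD j []).all fun l => Nat.blt l (k0 + j)) &&
    allBelow n fun y => Nat.beq (tg (CL.getD (k0 + j) 0) 9 y) (appL CL (WL.getD j []) y)

theorem elF_spec {n : ℕ} {CL : List ℕ} {WL : List (List ℕ)} {ge0 : ℕ → Equiv.Perm (Fin n)}
    {k0 : ℕ} (G : Subgroup (Equiv.Perm (Fin n)))
    (h0 : ∀ l < k0, Acts n (ge0 l) (CL.getD l 0) ∧ ge0 l ∈ G) (m : ℕ)
    (hchk : ∀ j < m, slpOK n CL WL k0 j = true) :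
    ∀ j ≤ m, ∀ l < k0 + j, Acts n (elF WL ge0 k0 j l) (CL.getD l 0) ∧ elF WL ge0 k0 j l ∈ G := by
  intro j
  induction j with
  | zero =>
    intro _ l hl
    exact h0 l (by omega)
  | succ j ih =>
    intro hj l hl
    have ih' := ih (by omega)
    show Acts n (if l = k0 + j then _ else elF WL ge0 k0 j l) _ ∧
      (if l = k0 + j then _ else elF WL ge0 k0 j l) ∈ G
    by_cases h : l = k0 + j
    · rw [if_pos h]
      have hc := hchk j (by omega)
      unfold slpOK at hc
      rw [Bool.and_eq_true, List.all_eq_true, allBelow_iff] at hc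
      have hlt : ∀ l' ∈ WL.getD j [], l' < k0 + j := fun l' hl' => Eq.mp Nat.blt_eq (hc.1 l' hl')
      constructor
      · intro u
        rw [prod_apply_of CL (elF WL ge0 k0 j) (WL.getD j [])
          (fun l' hl' => (ih' l' (hlt l' hl')).1) u, h]
        exact (Nat.eq_of_beq_eq_true (hc.2 u.val u.2)).symm
      · apply Subgroup.list_prod_mem
        intro x hx
        obtain ⟨l', hl', rfl⟩ := List.mem_map.1 hx
        exact (ih' l' (hlt l' hl')).2
    · rw [if_neg h]
      exact ih' l (by omega)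

/-- two words in letters acting by codes agree as boolean -/
def weqL (n : ℕ) (CL : List ℕ) (w v : List ℕ) : Bool :=
  allBelow n fun y => Nat.beq (appL CL w y) (appL CL v y)

theorem prod_eq_of_weqL {n : ℕ} (CL : List ℕ) (ge : ℕ → Equiv.Perm (Fin n)) (w v : List ℕ)
    (hw : ∀ l ∈ w, Acts n (ge l) (CL.getD l 0)) (hv : ∀ l ∈ v, Acts n (ge l) (CL.getD l 0))
    (h : weqL n CL w v = true) : (w.map ge).prod = (v.map ge).prod := by
  apply Equiv.ext
  intro u
  apply Fin.ext
  rw [prod_apply_of CL ge w hw u, prod_apply_of CL ge v hv u]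
  unfold weqL at h
  rw [allBelow_iff] at h
  exact Nat.eq_of_beq_eq_true (h u.val u.2)

theorem prod_ne_of_appL {n : ℕ} (CL : List ℕ) (ge : ℕ → Equiv.Perm (Fin n)) (w v : List ℕ)
    (hw : ∀ l ∈ w, Acts n (ge l) (CL.getD l 0)) (hv : ∀ l ∈ v, Acts n (ge l) (CL.getD l 0))
    (y : ℕ) (hy : y < n) (h : appL CL w y ≠ appL CL v y) : (w.map ge).prod ≠ (v.map ge).prod := by
  intro e
  apply h
  have h1 := prod_apply_of CL ge w hw ⟨y, hy⟩
  have h2 := prod_apply_of CL ge v hv ⟨y, hy⟩
  rw [e] at h1
  exact h1.symm.trans h2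

end Cfsg.Agent.Helper29.PN
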