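import Mathlib
import Cfsg.Agent.Lib.Helper29.Co3ModelB
import Cfsg.Agent.Lib.Helper29.PermNSlp
import Cfsg.Agent.Lib.Helper29.Co3OddD

set_option autoImplicit false
open Cfsg

/-! Elements of the explicit third Conway group on 276 points given by a straight-line program,
for the odd part of the Schur multiplier. -/

namespace Cfsg.Agent.Helper29.Co3Od

open Cfsg.Agent.Helper29.HSP (tg force force_eq allBelow allBelow_iff)
open Cfsg.Agent.Helper29.PN Cfsg.Agent.Helper29.Co3M
open Cfsg.Agent.Helper29.Co3OD

theorem WL_len : WL.length = 45 := by decide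

set_option maxRecDepth 1000000 in
theorem slp_chk : ∀ j < 45, slpOK 276 CL WL 4 j = true := by decide +kernel

set_option maxRecDepth 1000000 in
theorem base_codes : ∀ l < 4, CL.getD l 0 = Co3D.PC.getD l 0 := by decide +kernel

/-- the elements of the program -/
def el (l : ℕ) : Equiv.Perm (Fin 276) := elF WL ge 4 45 l

theorem el_spec (l : ℕ) (hl : l < 49) : Acts 276 (el l) (CL.getD l 0) ∧ el l ∈ G276 := by
  have h0 : ∀ l < 4, Acts 276 (ge l) (CL.getD l 0) ∧ ge l ∈ G276 := by
    intro l hl
    rw [base_codes l hl]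
    exact ⟨acts_ge l (by rw [PC_length]; exact hl), ge_mem l hl⟩
  exact elF_spec G276 h0 45 slp_chk 45 le_rfl l (by omega)

/-- the elements of the program in the group -/
def eg (l : ℕ) : ↥G276 := if h : l < 49 then ⟨el l, (el_spec l h).2⟩ else 1

theorem eg_val (l : ℕ) (hl : l < 49) : (eg l).val = el l := by
  unfold eg
  rw [dif_pos hl]

theorem acts_eg (l : ℕ) (hl : l < 49) : Acts 276 (eg l).val (CL.getD l 0) := by
  rw [eg_val l hl]
  exact (el_spec l hl).1

theorem coe_prod (w : List ℕ) :
    ((w.map eg).prod : ↥G276).val = (w.map fun l => (eg l).val).prod := by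
  induction w with
  | nil => rfl
  | cons c t ih =>
    rw [List.map_cons, List.prod_cons, List.map_cons, List.prod_cons, Subgroup.coe_mul, ih]

/-- the action of a word -/
theorem prod_acts (w : List ℕ) (hw : ∀ l ∈ w, l < 49) (u : Fin 276) :
    (((w.map eg).prod : ↥G276).val u).val = appL CL w u.val := by
  rw [coe_prod]
  exact prod_apply_of CL (fun l => (eg l).val) w (fun l hl => acts_eg l (hw l hl)) u

/-- equal words give equal elements -/
theorem weq_prod (w v : List ℕ) (hw : ∀ l ∈ w, l < 49) (hv : ∀ l ∈ v, l < 49)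
    (h : weqL 276 CL w v = true) : (w.map eg).prod = (v.map eg).prod := by
  apply Subtype.ext
  rw [coe_prod, coe_prod]
  exact prod_eq_of_weqL CL (fun l => (eg l).val) w v (fun l hl => acts_eg l (hw l hl))
    (fun l hl => acts_eg l (hv l hl)) h

end Cfsg.Agent.Helper29.Co3Od
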