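import Mathlib
import Cfsg.Agent.Lib.Helper29.Co3OddA

set_option autoImplicit false
open Cfsg

/-! Relations between the elements of the straight-line program (generated). -/

namespace Cfsg.Agent.Helper29.Co3Od

open Cfsg.Agent.Helper29.PN Cfsg.Agent.Helper29.Co3OD

theorem rel_0 : ([5, 5].map eg).prod = (([] : List ℕ).map eg).prod :=
  weq_prod _ _ (by decide) (by decide) (by decide +kernel)

theorem rel_1 : ([26, 26, 26].map eg).prod = (([] : List ℕ).map eg).prod :=
  weq_prod _ _ (by decide) (by decide) (by decide +kernel)

theorem rel_2 : ([27, 27, 27].map eg).prod = (([] : List ℕ).map eg).prod :=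
  weq_prod _ _ (by decide) (by decide) (by decide +kernel)

theorem rel_3 : ([28, 28, 28].map eg).prod = (([] : List ℕ).map eg).prod :=
  weq_prod _ _ (by decide) (by decide) (by decide +kernel)

theorem rel_4 : ([29, 29, 29].map eg).prod = (([] : List ℕ).map eg).prod :=
  weq_prod _ _ (by decide) (by decide) (by decide +kernel)

theorem rel_5 : ([30, 30, 30].map eg).prod = (([] : List ℕ).map eg).prod :=
  weq_prod _ _ (by decide) (by decide) (by decide +kernel)

theorem rel_6 : ([26, 27].map eg).prod = (([27, 26] : List ℕ).map eg).prod :=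
  weq_prod _ _ (by decide) (by decide) (by decide +kernel)

theorem rel_7 : ([26, 28].map eg).prod = (([28, 26] : List ℕ).map eg).prod :=
  weq_prod _ _ (by decide) (by decide) (by decide +kernel)

theorem rel_8 : ([26, 29].map eg).prod = (([29, 26] : List ℕ).map eg).prod :=
  weq_prod _ _ (by decide) (by decide) (by decide +kernel)

theorem rel_9 : ([26, 30].map eg).prod = (([30, 26] : List ℕ).map eg).prod :=
  weq_prod _ _ (by decide) (by decide) (by decide +kernel)

theorem rel_10 : ([27, 28].map eg).prod = (([28, 27] : List ℕ).map eg).prod :=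
  weq_prod _ _ (by decide) (by decide) (by decide +kernel)

theorem rel_11 : ([27, 29].map eg).prod = (([29, 27] : List ℕ).map eg).prod :=
  weq_prod _ _ (by decide) (by decide) (by decide +kernel)

theorem rel_12 : ([27, 30].map eg).prod = (([30, 27] : List ℕ).map eg).prod :=
  weq_prod _ _ (by decide) (by decide) (by decide +kernel)

theorem rel_13 : ([28, 29].map eg).prod = (([29, 28] : List ℕ).map eg).prod :=
  weq_prod _ _ (by decide) (by decide) (by decide +kernel)

theorem rel_14 : ([28, 30].map eg).prod = (([30, 28] : List ℕ).map eg).prod :=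
  weq_prod _ _ (by decide) (by decide) (by decide +kernel)

theorem rel_15 : ([29, 30].map eg).prod = (([30, 29] : List ℕ).map eg).prod :=
  weq_prod _ _ (by decide) (by decide) (by decide +kernel)

theorem rel_16 : ([5, 26, 5, 26].map eg).prod = (([] : List ℕ).map eg).prod :=
  weq_prod _ _ (by decide) (by decide) (by decide +kernel)

theorem rel_17 : ([5, 27, 5, 27].map eg).prod = (([] : List ℕ).map eg).prod :=
  weq_prod _ _ (by decide) (by decide) (by decide +kernel)

theorem rel_18 : ([5, 28, 5, 28].map eg).prod = (([] : List ℕ).map eg).prod :=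
  weq_prod _ _ (by decide) (by decide) (by decide +kernel)

theorem rel_19 : ([5, 29, 5, 29].map eg).prod = (([] : List ℕ).map eg).prod :=
  weq_prod _ _ (by decide) (by decide) (by decide +kernel)

theorem rel_20 : ([5, 30, 5, 30].map eg).prod = (([] : List ℕ).map eg).prod :=
  weq_prod _ _ (by decide) (by decide) (by decide +kernel)

theorem rel_21 : ([31, 26].map eg).prod = (([26, 26, 28, 28, 29, 30, 30, 31] : List ℕ).map eg).prod :=
  weq_prod _ _ (by decide) (by decide) (by decide +kernel)

theorem rel_22 : ([31, 27].map eg).prod = (([26, 30, 31] : List ℕ).map eg).prod :=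
  weq_prod _ _ (by decide) (by decide) (by decide +kernel)

theorem rel_23 : ([31, 28].map eg).prod = (([26, 26, 27, 28, 30, 30, 31] : List ℕ).map eg).prod :=
  weq_prod _ _ (by decide) (by decide) (by decide +kernel)

theorem rel_24 : ([31, 29].map eg).prod = (([26, 28, 28, 29, 29, 30, 30, 31] : List ℕ).map eg).prod :=
  weq_prod _ _ (by decide) (by decide) (by decide +kernel)

theorem rel_25 : ([31, 30].map eg).prod = (([26, 27, 27, 28, 29, 31] : List ℕ).map eg).prod :=
  weq_prod _ _ (by decide) (by decide) (by decide +kernel)

theorem rel_26 : ([32, 26].map eg).prod = (([26, 26, 27, 27, 28, 28, 29, 29, 32] : List ℕ).map eg).prod :=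
  weq_prod _ _ (by decide) (by decide) (by decide +kernel)

theorem rel_27 : ([32, 27].map eg).prod = (([27, 27, 28, 28, 29, 30, 32] : List ℕ).map eg).prod :=
  weq_prod _ _ (by decide) (by decide) (by decide +kernel)

theorem rel_28 : ([32, 28].map eg).prod = (([26, 26, 27, 27, 28, 28, 30, 30, 32] : List ℕ).map eg).prod :=
  weq_prod _ _ (by decide) (by decide) (by decide +kernel)

theorem rel_29 : ([32, 29].map eg).prod = (([26, 27, 27, 28, 28, 32] : List ℕ).map eg).prod :=
  weq_prod _ _ (by decide) (by decide) (by decide +kernel)

theorem rel_30 : ([32, 30].map eg).prod = (([27, 27, 29, 30, 30, 32] : List ℕ).map eg).prod :=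
  weq_prod _ _ (by decide) (by decide) (by decide +kernel)

theorem rel_31 : ([31, 31, 31].map eg).prod = (([] : List ℕ).map eg).prod :=
  weq_prod _ _ (by decide) (by decide) (by decide +kernel)

theorem rel_32 : ([32, 32, 32].map eg).prod = (([] : List ℕ).map eg).prod :=
  weq_prod _ _ (by decide) (by decide) (by decide +kernel)

theorem rel_33 : ([31, 32].map eg).prod = (([32, 31] : List ℕ).map eg).prod :=
  weq_prod _ _ (by decide) (by decide) (by decide +kernel)

theorem rel_34 : ([5, 31].map eg).prod = (([31, 5] : List ℕ).map eg).prod :=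
  weq_prod _ _ (by decide) (by decide) (by decide +kernel)

theorem rel_35 : ([5, 32].map eg).prod = (([32, 5] : List ℕ).map eg).prod :=
  weq_prod _ _ (by decide) (by decide) (by decide +kernel)

theorem rel_36 : ([33, 31].map eg).prod = (([31, 33] : List ℕ).map eg).prod :=
  weq_prod _ _ (by decide) (by decide) (by decide +kernel)

theorem rel_37 : ([32, 33, 32].map eg).prod = (([33] : List ℕ).map eg).prod :=
  weq_prod _ _ (by decide) (by decide) (by decide +kernel)

theorem rel_38 : ([34, 27].map eg).prod = (([27, 34] : List ℕ).map eg).prod :=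
  weq_prod _ _ (by decide) (by decide) (by decide +kernel)

theorem rel_39 : ([26, 34, 26].map eg).prod = (([34] : List ℕ).map eg).prod :=
  weq_prod _ _ (by decide) (by decide) (by decide +kernel)

theorem rel_40 : ([35, 28].map eg).prod = (([28, 35] : List ℕ).map eg).prod :=
  weq_prod _ _ (by decide) (by decide) (by decide +kernel)

theorem rel_41 : ([26, 35, 26].map eg).prod = (([35] : List ℕ).map eg).prod :=
  weq_prod _ _ (by decide) (by decide) (by decide +kernel)

theorem rel_42 : ([35, 29].map eg).prod = (([29, 35] : List ℕ).map eg).prod :=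
  weq_prod _ _ (by decide) (by decide) (by decide +kernel)

theorem rel_43 : ([26, 35, 26].map eg).prod = (([35] : List ℕ).map eg).prod :=
  weq_prod _ _ (by decide) (by decide) (by decide +kernel)

theorem rel_44 : ([35, 30].map eg).prod = (([30, 35] : List ℕ).map eg).prod :=
  weq_prod _ _ (by decide) (by decide) (by decide +kernel)

theorem rel_45 : ([26, 35, 26].map eg).prod = (([35] : List ℕ).map eg).prod :=
  weq_prod _ _ (by decide) (by decide) (by decide +kernel)

theorem rel_46 : ([35, 28].map eg).prod = (([28, 35] : List ℕ).map eg).prod :=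
  weq_prod _ _ (by decide) (by decide) (by decide +kernel)

theorem rel_47 : ([27, 35, 27].map eg).prod = (([35] : List ℕ).map eg).prod :=
  weq_prod _ _ (by decide) (by decide) (by decide +kernel)

theorem rel_48 : ([35, 29].map eg).prod = (([29, 35] : List ℕ).map eg).prod :=
  weq_prod _ _ (by decide) (by decide) (by decide +kernel)

theorem rel_49 : ([27, 35, 27].map eg).prod = (([35] : List ℕ).map eg).prod :=
  weq_prod _ _ (by decide) (by decide) (by decide +kernel)

theorem rel_50 : ([35, 30].map eg).prod = (([30, 35] : List ℕ).map eg).prod :=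
  weq_prod _ _ (by decide) (by decide) (by decide +kernel)

theorem rel_51 : ([27, 35, 27].map eg).prod = (([35] : List ℕ).map eg).prod :=
  weq_prod _ _ (by decide) (by decide) (by decide +kernel)

theorem rel_52 : ([36, 29].map eg).prod = (([29, 36] : List ℕ).map eg).prod :=
  weq_prod _ _ (by decide) (by decide) (by decide +kernel)

theorem rel_53 : ([28, 36, 28].map eg).prod = (([36] : List ℕ).map eg).prod :=
  weq_prod _ _ (by decide) (by decide) (by decide +kernel)

theorem rel_54 : ([37, 28].map eg).prod = (([28, 37] : List ℕ).map eg).prod :=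
  weq_prod _ _ (by decide) (by decide) (by decide +kernel)

theorem rel_55 : ([30, 37, 30].map eg).prod = (([37] : List ℕ).map eg).prod :=
  weq_prod _ _ (by decide) (by decide) (by decide +kernel)

theorem rel_56 : ([38, 29].map eg).prod = (([29, 38] : List ℕ).map eg).prod :=
  weq_prod _ _ (by decide) (by decide) (by decide +kernel)

theorem rel_57 : ([30, 38, 30].map eg).prod = (([38] : List ℕ).map eg).prod :=
  weq_prod _ _ (by decide) (by decide) (by decide +kernel)

theorem rel_58 : ([42, 42, 42, 42, 42].map eg).prod = (([] : List ℕ).map eg).prod :=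
  weq_prod _ _ (by decide) (by decide) (by decide +kernel)

theorem rel_59 : ([46, 46, 46, 46, 46].map eg).prod = (([] : List ℕ).map eg).prod :=
  weq_prod _ _ (by decide) (by decide) (by decide +kernel)

theorem rel_60 : ([42, 42, 46, 47, 48].map eg).prod = (([42, 46, 47, 48, 42] : List ℕ).map eg).prod :=
  weq_prod _ _ (by decide) (by decide) (by decide +kernel)

theorem rel_61 : ([46, 42, 46, 47, 48].map eg).prod = (([42, 46, 47, 48, 46] : List ℕ).map eg).prod :=
  weq_prod _ _ (by decide) (by decide) (by decide +kernel)

theorem rel_62 : ([42, 1, 42].map eg).prod = (([1] : List ℕ).map eg).prod :=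
  weq_prod _ _ (by decide) (by decide) (by decide +kernel)

theorem rel_63 : ([46, 1, 46].map eg).prod = (([1] : List ℕ).map eg).prod :=
  weq_prod _ _ (by decide) (by decide) (by decide +kernel)

theorem rel_64 : ([42, 47].map eg).prod = (([] : List ℕ).map eg).prod :=
  weq_prod _ _ (by decide) (by decide) (by decide +kernel)

theorem rel_65 : ([46, 48].map eg).prod = (([] : List ℕ).map eg).prod :=
  weq_prod _ _ (by decide) (by decide) (by decide +kernel)

end Cfsg.Agent.Helper29.Co3Od
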