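import Mathlib
import Cfsg.Agent.Lib.Helper29.Co3OddF
import Cfsg.Agent.Lib.Helper29.StemOdd
import Cfsg.Agent.Lib.Helper29.StemSplit2
import Cfsg.Agent.Lib.Helper19.HeisLocal

set_option autoImplicit false
open Cfsg

/-! The odd primes for the stem extensions of the third Conway group. -/

namespace Cfsg.Agent.Helper29.Co3Od

open Cfsg.Agent.Helper29.HSP (tg force force_eq allBelow allBelow_iff cnt card_filter_eq_cnt)
open Cfsg.Agent.Helper29.PN Cfsg.Agent.Helper29.Co3M
open Cfsg.Agent.Helper29.Co3OD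
open Cfsg.Agent.Helper29.StemSylow Cfsg.Agent.Helper29.StemSplit Cfsg.Agent.Helper29.StemOdd
open scoped commutatorElement

/-! ### General lemmas -/

/-- lifts of two commuting elements, the first of order dividing three, commute if some element
centralizes the first and inverts the second -/
theorem comm_of_cent_inv {Γ G : Type*} [Group Γ] [Group G] (σ : Γ →* G)
    (hK : σ.ker ≤ Subgroup.center Γ) (u v n : Γ) (hu3 : σ u ^ 3 = 1)
    (huv : σ u * σ v = σ v * σ u) (hnu : σ n * σ u * (σ n)⁻¹ = σ u)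
    (hnv : σ n * σ v * (σ n)⁻¹ = (σ v)⁻¹) : u * v = v * u := by
  have hb := comm_eq_bot_of_odd σ hK ((pairSubgroup (σ u) (σ v) huv).comap σ) u v n 3 (by decide)
    hu3 huv hnu hnv (fun g hg => (mem_pairSubgroup (σ u) (σ v) huv (σ g)).1 hg)
  have h1 : u ∈ (pairSubgroup (σ u) (σ v) huv).comap σ := ⟨1, 0, by simp⟩
  have h2 : v ∈ (pairSubgroup (σ u) (σ v) huv).comap σ := ⟨0, 1, by simp⟩
  have h3 := Subgroup.commutator_mem_commutator h1 h2
  rw [hb] at h3
  exact commutatorElement_eq_one_iff_mul_comm.1 (Subgroup.mem_bot.1 h3)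

/-! ### The elements -/

/-- the involution inverting the elementary abelian group -/
def zE : ↥G276 := eg 5
/-- the basis of the elementary abelian group of order `3 ^ 5` -/
def bE (k : ℕ) : ↥G276 := eg (26 + k)
def x3 : ↥G276 := eg 31
def y3 : ↥G276 := eg 32
def n3 : ↥G276 := eg 33

theorem zE_sq : zE * zE = 1 := by simpa [zE, bE, x3, y3, n3] using rel_0

theorem bE_cube : ∀ k < 5, bE k ^ 3 = 1 := by
  intro k hk
  interval_cases k
  · simpa [zE, bE, x3, y3, n3, pow_succ, mul_assoc] using rel_1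
  · simpa [zE, bE, x3, y3, n3, pow_succ, mul_assoc] using rel_2
  · simpa [zE, bE, x3, y3, n3, pow_succ, mul_assoc] using rel_3
  · simpa [zE, bE, x3, y3, n3, pow_succ, mul_assoc] using rel_4
  · simpa [zE, bE, x3, y3, n3, pow_succ, mul_assoc] using rel_5

theorem bE_comm_lt : ∀ i < 5, ∀ j < 5, i < j → bE i * bE j = bE j * bE i := by
  intro i hi j hj hij
  interval_cases i <;> interval_cases j <;> first | omega | skip
  · simpa [zE, bE, x3, y3, n3] using rel_6
  · simpa [zE, bE, x3, y3, n3] using rel_7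
  · simpa [zE, bE, x3, y3, n3] using rel_8
  · simpa [zE, bE, x3, y3, n3] using rel_9
  · simpa [zE, bE, x3, y3, n3] using rel_10
  · simpa [zE, bE, x3, y3, n3] using rel_11
  · simpa [zE, bE, x3, y3, n3] using rel_12
  · simpa [zE, bE, x3, y3, n3] using rel_13
  · simpa [zE, bE, x3, y3, n3] using rel_14
  · simpa [zE, bE, x3, y3, n3] using rel_15

theorem bE_comm : ∀ i < 5, ∀ j < 5, bE i * bE j = bE j * bE i := by
  intro i hi j hj
  rcases Nat.lt_trichotomy i j with h | h | h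
  · exact bE_comm_lt i hi j hj h
  · rw [h]
  · exact (bE_comm_lt j hj i hi h).symm

theorem zE_inv : zE⁻¹ = zE := inv_eq_of_mul_eq_one_left zE_sq

theorem zE_bE : ∀ k < 5, zE * bE k * zE⁻¹ = (bE k)⁻¹ := by
  intro k hk
  rw [zE_inv]
  have key : ∀ b : ↥G276, zE * (b * (zE * b)) = 1 → zE * b * zE = b⁻¹ := by
    intro b h
    have h2 : zE * b * zE * b = 1 := by rw [← h]; group
    exact eq_inv_of_mul_eq_one_left h2
  interval_cases k
  · exact key _ (by simpa [zE, bE, x3, y3, n3] using rel_16)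
  · exact key _ (by simpa [zE, bE, x3, y3, n3] using rel_17)
  · exact key _ (by simpa [zE, bE, x3, y3, n3] using rel_18)
  · exact key _ (by simpa [zE, bE, x3, y3, n3] using rel_19)
  · exact key _ (by simpa [zE, bE, x3, y3, n3] using rel_20)

/-- the generating set -/
def SE : Set ↥G276 := {g | ∃ k < 5, g = bE k}

/-- the elementary abelian subgroup of order `3 ^ 5` -/
def E3 : Subgroup ↥G276 := Subgroup.closure SE

theorem bE_mem (k : ℕ) (hk : k < 5) : bE k ∈ E3 := Subgroup.subset_closure ⟨k, hk, rfl⟩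

theorem E3_comm : ∀ u ∈ E3, ∀ v ∈ E3, u * v = v * u := by
  apply comm_of_closure
  rintro _ ⟨i, hi, rfl⟩ _ ⟨j, hj, rfl⟩
  exact bE_comm i hi j hj

theorem E3_cube : ∀ u ∈ E3, u ^ 3 = 1 := by
  intro u hu
  induction hu using Subgroup.closure_induction with
  | mem x hx =>
    obtain ⟨k, hk, rfl⟩ := hx
    exact bE_cube k hk
  | one => exact one_pow 3
  | mul x y hx hy ihx ihy =>
    have hc : Commute x y := E3_comm x hx y hy
    rw [hc.mul_pow, ihx, ihy, one_mul]
  | inv x hx ih => rw [inv_pow, ih, inv_one]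

theorem zE_E3 : ∀ u ∈ E3, zE * u * zE⁻¹ = u⁻¹ := by
  intro u hu
  induction hu using Subgroup.closure_induction with
  | mem x hx =>
    obtain ⟨k, hk, rfl⟩ := hx
    exact zE_bE k hk
  | one => simp
  | mul x y hx hy ihx ihy =>
    have hc : x * y = y * x := E3_comm x hx y hy
    have e : zE * (x * y) * zE⁻¹ = (zE * x * zE⁻¹) * (zE * y * zE⁻¹) := by group
    rw [e, ihx, ihy, ← mul_inv_rev, hc]
  | inv x hx ih =>
    have e : zE * x⁻¹ * zE⁻¹ = (zE * x * zE⁻¹)⁻¹ := by group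
    rw [e, ih]

theorem E3_pgroup : IsPGroup 3 E3 := by
  intro g
  refine ⟨1, ?_⟩
  apply Subtype.ext
  rw [pow_one, Subgroup.coe_pow]
  exact E3_cube g.1 g.2

/-! ### The complement -/

theorem x3_cube : x3 ^ 3 = 1 := by simpa [zE, bE, x3, y3, n3, pow_succ, mul_assoc] using rel_31
theorem y3_cube : y3 ^ 3 = 1 := by simpa [zE, bE, x3, y3, n3, pow_succ, mul_assoc] using rel_32
theorem x3_y3 : Commute x3 y3 := by
  have h : x3 * y3 = y3 * x3 := by simpa [zE, bE, x3, y3, n3] using rel_33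
  exact h
theorem zE_x3 : zE * x3 = x3 * zE := by simpa [zE, bE, x3, y3, n3] using rel_34
theorem zE_y3 : zE * y3 = y3 * zE := by simpa [zE, bE, x3, y3, n3] using rel_35
theorem n3_x3 : n3 * x3 * n3⁻¹ = x3 := by
  have h : n3 * x3 = x3 * n3 := by simpa [zE, bE, x3, y3, n3] using rel_36
  rw [h]; group
theorem n3_y3 : n3 * y3 * n3⁻¹ = y3⁻¹ := by
  have h : y3 * (n3 * y3) = n3 := by simpa [zE, bE, x3, y3, n3] using rel_37
  rw [mul_inv_eq_iff_eq_mul, eq_inv_mul_iff_mul_eq, ← mul_assoc]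
  rw [← mul_assoc] at h
  exact h

/-- conjugation by an element: words in the basis are in the subgroup -/
theorem prod_mem_E3 (w : List ℕ) (hw : ∀ l ∈ w, 26 ≤ l ∧ l < 31) : (w.map eg).prod ∈ E3 := by
  apply Subgroup.list_prod_mem
  intro g hg
  obtain ⟨l, hl, rfl⟩ := List.mem_map.1 hg
  obtain ⟨h1, h2⟩ := hw l hl
  have : eg l = bE (l - 26) := by
    unfold bE
    congr 1
    omega
  rw [this]
  exact bE_mem _ (by omega)

theorem conj_mem_of_rel (g l : ℕ) (W : List ℕ) (hW : ∀ l ∈ W, 26 ≤ l ∧ l < 31)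
    (h : ([g, l].map eg).prod = ((W ++ [g]).map eg).prod) : eg g * eg l * (eg g)⁻¹ ∈ E3 := by
  rw [List.map_append, List.prod_append] at h
  simp only [List.map_cons, List.map_nil, List.prod_cons, List.prod_nil, mul_one] at h
  rw [h]
  have e : (W.map eg).prod * eg g * (eg g)⁻¹ = (W.map eg).prod := by group
  rw [e]
  exact prod_mem_E3 W hW

theorem x3_bE : ∀ k < 5, x3 * bE k * x3⁻¹ ∈ E3 := by
  intro k hk
  interval_cases k
  · exact conj_mem_of_rel 31 26 [26, 26, 28, 28, 29, 30, 30] (by decide) rel_21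
  · exact conj_mem_of_rel 31 27 [26, 30] (by decide) rel_22
  · exact conj_mem_of_rel 31 28 [26, 26, 27, 28, 30, 30] (by decide) rel_23
  · exact conj_mem_of_rel 31 29 [26, 28, 28, 29, 29, 30, 30] (by decide) rel_24
  · exact conj_mem_of_rel 31 30 [26, 27, 27, 28, 29] (by decide) rel_25

theorem y3_bE : ∀ k < 5, y3 * bE k * y3⁻¹ ∈ E3 := by
  intro k hk
  interval_cases k
  · exact conj_mem_of_rel 32 26 [26, 26, 27, 27, 28, 28, 29, 29] (by decide) rel_26
  · exact conj_mem_of_rel 32 27 [27, 27, 28, 28, 29, 30] (by decide) rel_27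
  · exact conj_mem_of_rel 32 28 [26, 26, 27, 27, 28, 28, 30, 30] (by decide) rel_28
  · exact conj_mem_of_rel 32 29 [26, 27, 27, 28, 28] (by decide) rel_29
  · exact conj_mem_of_rel 32 30 [27, 27, 29, 30, 30] (by decide) rel_30

theorem conj3 {G : Type*} [Group G] (g w : G) :
    g * (g * (g * w * g⁻¹) * g⁻¹) * g⁻¹ = g ^ 3 * w * (g ^ 3)⁻¹ := by
  simp only [pow_succ, pow_zero, one_mul, mul_inv_rev, mul_assoc]

/-- an element of order three mapping the generators into the subgroup normalizes it -/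
theorem mem_normalizer_of_cube (g : ↥G276) (hg : g ^ 3 = 1)
    (h : ∀ k < 5, g * bE k * g⁻¹ ∈ E3) : g ∈ Subgroup.normalizer (E3 : Set ↥G276) := by
  have hc : ∀ u ∈ E3, g * u * g⁻¹ ∈ E3 := by
    apply conj_mem_closure SE g
    rintro _ ⟨k, hk, rfl⟩
    exact h k hk
  rw [Subgroup.mem_normalizer_iff]
  intro w
  constructor
  · exact hc w
  · intro hw
    have h2 := hc _ (hc _ hw)
    rw [conj3, hg, one_mul, inv_one, mul_one] at h2
    exact h2

theorem x3_norm : x3 ∈ Subgroup.normalizer (E3 : Set ↥G276) :=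
  mem_normalizer_of_cube x3 x3_cube x3_bE

theorem y3_norm : y3 ∈ Subgroup.normalizer (E3 : Set ↥G276) :=
  mem_normalizer_of_cube y3 y3_cube y3_bE

/-- the complement of order nine -/
def D3 : Subgroup ↥G276 := pairSubgroup x3 y3 x3_y3

theorem x3_mem : x3 ∈ D3 := ⟨1, 0, by simp⟩
theorem y3_mem : y3 ∈ D3 := ⟨0, 1, by simp⟩

theorem D3_le : D3 ≤ Subgroup.normalizer (E3 : Set ↥G276) := by
  rintro _ ⟨i, j, rfl⟩
  exact Subgroup.mul_mem _ (Subgroup.zpow_mem _ x3_norm i) (Subgroup.zpow_mem _ y3_norm j)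

theorem D3_pgroup : IsPGroup 3 D3 := by
  intro g
  refine ⟨1, ?_⟩
  obtain ⟨i, j, hij⟩ := g.2
  apply Subtype.ext
  rw [pow_one, Subgroup.coe_pow, hij, (x3_y3.zpow_zpow i j).mul_pow, ← zpow_natCast, ← zpow_mul,
    mul_comm, zpow_mul, zpow_natCast, x3_cube, one_zpow, ← zpow_natCast, ← zpow_mul, mul_comm,
    zpow_mul, zpow_natCast, y3_cube, one_zpow, one_mul]
  rfl

theorem D3_zE : ∀ d ∈ D3, d * zE * d⁻¹ = zE := by
  rintro _ ⟨i, j, rfl⟩
  have h1 : Commute x3 zE := zE_x3.symm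
  have h2 : Commute y3 zE := zE_y3.symm
  have h3 : Commute (x3 ^ i * y3 ^ j) zE := (h1.zpow_left i).mul_left (h2.zpow_left j)
  rw [h3.eq]
  group

/-- the Sylow 3-subgroup -/
def P3 : Subgroup ↥G276 := E3 ⊔ D3

theorem P3_pgroup : IsPGroup 3 P3 := IsPGroup.to_sup_of_normal_left' E3_pgroup D3_pgroup D3_le

end Cfsg.Agent.Helper29.Co3Od
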