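import Mathlib
import Cfsg.Agent.Lib.Helper29.Co3OddB

set_option autoImplicit false
open Cfsg

/-! The odd primes for the stem extensions of the third Conway group: the local statements. -/

namespace Cfsg.Agent.Helper29.Co3Od

open Cfsg.Agent.Helper29.HSP (tg force force_eq allBelow allBelow_iff cnt card_filter_eq_cnt)
open Cfsg.Agent.Helper29.PN Cfsg.Agent.Helper29.Co3M
open Cfsg.Agent.Helper29.Co3OD
open Cfsg.Agent.Helper29.StemSylow Cfsg.Agent.Helper29.StemSplit Cfsg.Agent.Helper29.StemOdd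
open scoped commutatorElement

/-! ### The order of the Sylow 3-subgroup -/

set_option maxRecDepth 1000000 in
theorem tw0_chk : ∀ q < 276, Nat.testBit OM0 q = true →
    (∀ l ∈ TW0.getD q [], 26 ≤ l ∧ l < 31) ∧ appL CL (TW0.getD q []) 90 = q := by decide +kernel

set_option maxRecDepth 1000000 in
theorem tw1_chk : ∀ q < 276, Nat.testBit OM1 q = true →
    (∀ l ∈ TW1.getD q [], l = 31 ∨ l = 32) ∧ appL CL (TW1.getD q []) 7 = q ∧
      appL CL (TW1.getD q []) 90 = 90 := by decide +kernel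

set_option maxRecDepth 1000000 in
theorem om_chk : cnt (fun q => Nat.testBit OM0 q) 276 = 243 ∧
    cnt (fun q => Nat.testBit OM1 q) 276 = 9 := by decide +kernel

def O0 : Finset (Fin 276) := Finset.univ.filter (fun q : Fin 276 => Nat.testBit OM0 q.val = true)
def O1 : Finset (Fin 276) := Finset.univ.filter (fun q : Fin 276 => Nat.testBit OM1 q.val = true)

theorem card_O0 : O0.card = 243 := by
  unfold O0
  rw [card_filter_eq_cnt (fun q => Nat.testBit OM0 q) 276]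
  exact om_chk.1

theorem card_O1 : O1.card = 9 := by
  unfold O1
  rw [card_filter_eq_cnt (fun q => Nat.testBit OM1 q) 276]
  exact om_chk.2

theorem prod_mem_D3 (w : List ℕ) (hw : ∀ l ∈ w, l = 31 ∨ l = 32) : (w.map eg).prod ∈ D3 := by
  apply Subgroup.list_prod_mem
  intro g hg
  obtain ⟨l, hl, rfl⟩ := List.mem_map.1 hg
  rcases hw l hl with h | h
  · rw [h]; exact x3_mem
  · rw [h]; exact y3_mem

theorem card_P3_ge : 2187 ≤ Nat.card P3 := by
  obtain ⟨H, hH⟩ : ∃ H : Subgroup (Equiv.Perm (Fin 276)), H = P3.map G276.subtype := ⟨_, rfl⟩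
  have hcard : Nat.card H = Nat.card P3 := by
    rw [hH]
    exact Subgroup.card_map_of_injective (Subgroup.subtype_injective _)
  have hmem : ∀ g : ↥G276, g ∈ P3 → g.val ∈ H := by
    intro g hg
    rw [hH]
    exact ⟨g, hg, rfl⟩
  have s0 := card_step_le H (⟨90, by norm_num⟩ : Fin 276) O0 (by
    intro q hq
    have hq' : Nat.testBit OM0 q.val = true := (Finset.mem_filter.1 hq).2
    obtain ⟨h1, h2⟩ := tw0_chk q.val q.2 hq'
    refine ⟨((TW0.getD q.val []).map eg).prod.val, hmem _ ?_, ?_⟩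
    · exact Subgroup.mem_sup_left (prod_mem_E3 _ h1)
    · apply Fin.ext
      rw [prod_acts _ (fun l hl => by have := h1 l hl; omega)]
      exact h2)
  have s1 := card_step_le
    (H ⊓ MulAction.stabilizer (Equiv.Perm (Fin 276)) (⟨90, by norm_num⟩ : Fin 276))
    (⟨7, by norm_num⟩ : Fin 276) O1 (by
    intro q hq
    have hq' : Nat.testBit OM1 q.val = true := (Finset.mem_filter.1 hq).2
    obtain ⟨h1, h2, h3⟩ := tw1_chk q.val q.2 hq'
    have hlt : ∀ l ∈ TW1.getD q.val [], l < 49 := by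
      intro l hl
      rcases h1 l hl with h | h <;> omega
    refine ⟨((TW1.getD q.val []).map eg).prod.val, ?_, ?_⟩
    · rw [Subgroup.mem_inf, MulAction.mem_stabilizer_iff]
      refine ⟨hmem _ (Subgroup.mem_sup_right (prod_mem_D3 _ h1)), ?_⟩
      apply Fin.ext
      show ((((TW1.getD q.val []).map eg).prod : ↥G276).val ⟨90, by norm_num⟩).val = 90
      rw [prod_acts _ hlt]
      exact h3
    · apply Fin.ext
      rw [prod_acts _ hlt]
      exact h2)
  rw [card_O0] at s0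
  rw [card_O1] at s1
  have h1 : 1 ≤ Nat.card ↥((H ⊓ MulAction.stabilizer (Equiv.Perm (Fin 276))
      (⟨90, by norm_num⟩ : Fin 276)) ⊓ MulAction.stabilizer (Equiv.Perm (Fin 276))
      (⟨7, by norm_num⟩ : Fin 276)) := Nat.card_pos
  rw [← hcard]
  omega

theorem not_dvd_index_P3 : ¬ 3 ∣ P3.index := by
  have : Fact (Nat.Prime 3) := ⟨Nat.prime_three⟩
  obtain ⟨m, hm⟩ := (IsPGroup.iff_card).1 P3_pgroup
  have h7 : 7 ≤ m := by
    by_contra hlt
    rw [not_le] at hlt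
    have h1 : 3 ^ m ≤ 3 ^ 6 := Nat.pow_le_pow_right (by norm_num) (by omega)
    have h2 := card_P3_ge
    rw [hm] at h2
    omega
  intro hd
  have h := Subgroup.card_mul_index P3
  rw [card_G276, hm] at h
  have h2 : 3 ^ 8 ∣ 495766656000 := by
    rw [← h, pow_succ]
    exact Nat.mul_dvd_mul (Nat.pow_dvd_pow 3 h7) hd
  revert h2
  decide

/-! ### The prime three -/

theorem lift_comm_of_rels {Γ : Type*} [Group Γ] (σ : Γ →* ↥G276) (hs : Function.Surjective σ)
    (hK : σ.ker ≤ Subgroup.center Γ) (m a b : ℕ)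
    (h1 : ([m, a].map eg).prod = ([a, m].map eg).prod)
    (h2 : ([b, m, b].map eg).prod = ([m].map eg).prod) (ha3 : eg a ^ 3 = 1)
    (hab : eg a * eg b = eg b * eg a) (A B : Γ) (hA : σ A = eg a) (hB : σ B = eg b) :
    A * B = B * A := by
  obtain ⟨n, hn⟩ := hs (eg m)
  simp only [List.map_cons, List.map_nil, List.prod_cons, List.prod_nil, mul_one] at h1 h2
  apply comm_of_cent_inv σ hK A B n
  · rw [hA]; exact ha3
  · rw [hA, hB]; exact hab
  · rw [hA, hn, h1]; group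
  · rw [hB, hn, mul_inv_eq_iff_eq_mul, eq_inv_mul_iff_mul_eq, ← mul_assoc]
    rw [← mul_assoc] at h2
    exact h2

theorem pair_lift {Γ : Type*} [Group Γ] (σ : Γ →* ↥G276) (hs : Function.Surjective σ)
    (hK : σ.ker ≤ Subgroup.center Γ) : ∀ i < 5, ∀ j < 5, i < j → ∀ A B : Γ,
    σ A = bE i → σ B = bE j → A * B = B * A := by
  intro i hi j hj hij A B hA hB
  have c := bE_comm
  have q := bE_cube
  interval_cases i <;> interval_cases j <;> first | omega | skip
  · exact (lift_comm_of_rels σ hs hK 34 27 26 rel_38 rel_39 (q 1 (by norm_num))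
      (c 1 (by norm_num) 0 (by norm_num)) B A hB hA).symm
  · exact (lift_comm_of_rels σ hs hK 35 28 26 rel_40 rel_41 (q 2 (by norm_num))
      (c 2 (by norm_num) 0 (by norm_num)) B A hB hA).symm
  · exact (lift_comm_of_rels σ hs hK 35 29 26 rel_42 rel_43 (q 3 (by norm_num))
      (c 3 (by norm_num) 0 (by norm_num)) B A hB hA).symm
  · exact (lift_comm_of_rels σ hs hK 35 30 26 rel_44 rel_45 (q 4 (by norm_num))
      (c 4 (by norm_num) 0 (by norm_num)) B A hB hA).symm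
  · exact (lift_comm_of_rels σ hs hK 35 28 27 rel_46 rel_47 (q 2 (by norm_num))
      (c 2 (by norm_num) 1 (by norm_num)) B A hB hA).symm
  · exact (lift_comm_of_rels σ hs hK 35 29 27 rel_48 rel_49 (q 3 (by norm_num))
      (c 3 (by norm_num) 1 (by norm_num)) B A hB hA).symm
  · exact (lift_comm_of_rels σ hs hK 35 30 27 rel_50 rel_51 (q 4 (by norm_num))
      (c 4 (by norm_num) 1 (by norm_num)) B A hB hA).symm
  · exact (lift_comm_of_rels σ hs hK 36 29 28 rel_52 rel_53 (q 3 (by norm_num))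
      (c 3 (by norm_num) 2 (by norm_num)) B A hB hA).symm
  · exact lift_comm_of_rels σ hs hK 37 28 30 rel_54 rel_55 (q 2 (by norm_num))
      (c 2 (by norm_num) 4 (by norm_num)) A B hA hB
  · exact lift_comm_of_rels σ hs hK 38 29 30 rel_56 rel_57 (q 3 (by norm_num))
      (c 3 (by norm_num) 4 (by norm_num)) A B hA hB

theorem local3 {Γ : Type*} [Group Γ] (σ : Γ →* ↥G276) (hs : Function.Surjective σ)
    (hK : σ.ker ≤ Subgroup.center Γ) :
    ∃ Q : Subgroup ↥G276, ¬ 3 ∣ Q.index ∧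
      ∀ k ∈ ⁅Q.comap σ, Q.comap σ⁆, k ∈ σ.ker → k = 1 := by
  refine ⟨P3, not_dvd_index_P3, ?_⟩
  obtain ⟨x, hx⟩ := hs x3
  obtain ⟨y, hy⟩ := hs y3
  obtain ⟨n, hn⟩ := hs n3
  obtain ⟨z, hz0⟩ := hs zE
  have hE : ∀ u ∈ E3.comap σ, ∀ v ∈ E3.comap σ, u * v = v * u := by
    apply comm_comap_closure σ hK SE
    rintro _ ⟨i, hi, rfl⟩ _ ⟨j, hj, rfl⟩
    obtain ⟨A, hA⟩ := hs (bE i)
    obtain ⟨B, hB⟩ := hs (bE j)
    rcases Nat.lt_trichotomy i j with h | h | h
    · exact ⟨A, B, hA, hB, pair_lift σ hs hK i hi j hj h A B hA hB⟩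
    · subst h
      exact ⟨A, A, hA, hA, rfl⟩
    · exact ⟨A, B, hA, hB, (pair_lift σ hs hK j hj i hi h B A hB hA).symm⟩
  have hz : ∀ u ∈ E3, σ z * u * (σ z)⁻¹ ∈ E3 := by
    intro u hu
    rw [hz0, zE_E3 u hu]
    exact Subgroup.inv_mem _ hu
  have hfpf : ∀ u ∈ E3, σ z * u * (σ z)⁻¹ = u → u = 1 := by
    intro u hu h
    rw [hz0, zE_E3 u hu] at h
    have h2 : u ^ 2 = 1 := by
      rw [pow_two]
      exact inv_mul_eq_one.2 h
    have h3 := E3_cube u hu
    rw [pow_succ, h2, one_mul] at h3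
    exact h3
  have hER : ∀ u ∈ E3, ∃ a, σ a = u := fun u _ => hs u
  have hDn : ∀ d' ∈ D3.comap σ, ∀ e ∈ fpfCompl σ E3 z hE hz,
      d' * e * d'⁻¹ ∈ fpfCompl σ E3 z hE hz := by
    intro d' hd' e he
    have hdD : σ d' ∈ D3 := hd'
    have hdn : ∀ w ∈ E3, σ d' * w * (σ d')⁻¹ ∈ E3 := by
      intro w hw
      exact (Subgroup.mem_normalizer_iff.1 (D3_le hdD) w).1 hw
    have hdz : σ d' * σ z * (σ d')⁻¹ = σ z := by
      rw [hz0]
      exact D3_zE _ hdD
    exact conj_mem_fpfCompl' σ E3 z hE hz hK hER hfpf d' z hdn hz rfl hdz e he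
  have hDc : ∀ c ∈ ⁅D3.comap σ, D3.comap σ⁆, σ c ∈ E3 → c = 1 := by
    have hb := comm_eq_bot_of_odd σ hK (D3.comap σ) x y n 3 (by decide)
      (by rw [hx]; exact x3_cube)
      (by rw [hx, hy]; exact x3_y3.eq)
      (by rw [hx, hn]; exact n3_x3)
      (by rw [hy, hn]; exact n3_y3)
      (by
        intro u hu
        obtain ⟨i, j, hij⟩ := (mem_pairSubgroup x3 y3 x3_y3 (σ u)).1 hu
        exact ⟨i, j, by rw [hx, hy]; exact hij⟩)
    intro c hc _
    rw [hb] at hc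
    exact Subgroup.mem_bot.1 hc
  have hP : ∀ g ∈ P3, ∃ e ∈ E3, ∃ d ∈ D3, g = e * d := by
    intro g hg
    have h1 : g ∈ ((E3 ⊔ D3 : Subgroup ↥G276) : Set ↥G276) := hg
    rw [Subgroup.coe_mul_of_right_le_normalizer_left E3 D3 D3_le] at h1
    obtain ⟨e, he, d', hd', rfl⟩ := Set.mem_mul.1 h1
    exact ⟨e, he, d', hd', rfl⟩
  exact comm_inf_ker_of_split σ E3 z hE hz hK hER hfpf D3 P3 hDn hDc hP

/-! ### The prime five -/

def X5 : ↥G276 := eg 42
def Y5 : ↥G276 := eg 46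

theorem X5_pow : X5 ^ 5 = 1 := by simpa [X5, pow_succ, mul_assoc] using rel_58
theorem Y5_pow : Y5 ^ 5 = 1 := by simpa [Y5, pow_succ, mul_assoc] using rel_59

theorem X5_inv : eg 47 = X5⁻¹ := by
  have h : X5 * eg 47 = 1 := by simpa [X5] using rel_64
  exact eq_inv_of_mul_eq_one_right h

theorem Y5_inv : eg 48 = Y5⁻¹ := by
  have h : Y5 * eg 48 = 1 := by simpa [Y5] using rel_65
  exact eq_inv_of_mul_eq_one_right h

theorem C5_eq : ([42, 46, 47, 48].map eg).prod = ⁅X5, Y5⁆ := by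
  simp only [List.map_cons, List.map_nil, List.prod_cons, List.prod_nil, mul_one]
  rw [X5_inv, Y5_inv, commutatorElement_def]
  unfold X5 Y5
  group

theorem X5_C5 : X5 * ⁅X5, Y5⁆ = ⁅X5, Y5⁆ * X5 := by
  have h := rel_60
  have e1 : ([42, 42, 46, 47, 48].map eg).prod = eg 42 * ([42, 46, 47, 48].map eg).prod := by
    rw [List.map_cons, List.prod_cons]
  have e2 : ([42, 46, 47, 48, 42].map eg).prod = ([42, 46, 47, 48].map eg).prod * eg 42 := by
    have : ([42, 46, 47, 48, 42] : List ℕ) = [42, 46, 47, 48] ++ [42] := rfl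
    rw [this, List.map_append, List.prod_append]
    simp
  rw [e1, e2, C5_eq] at h
  exact h

theorem Y5_C5 : Y5 * ⁅X5, Y5⁆ = ⁅X5, Y5⁆ * Y5 := by
  have h := rel_61
  have e1 : ([46, 42, 46, 47, 48].map eg).prod = eg 46 * ([42, 46, 47, 48].map eg).prod := by
    rw [List.map_cons, List.prod_cons]
  have e2 : ([42, 46, 47, 48, 46].map eg).prod = ([42, 46, 47, 48].map eg).prod * eg 46 := by
    have : ([42, 46, 47, 48, 46] : List ℕ) = [42, 46, 47, 48] ++ [46] := rfl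
    rw [this, List.map_append, List.prod_append]
    simp
  rw [e1, e2, C5_eq] at h
  exact h

theorem N5_X5 : eg 1 * X5 * (eg 1)⁻¹ = X5⁻¹ := by
  have h : X5 * (eg 1 * X5) = eg 1 := by simpa [X5] using rel_62
  rw [mul_inv_eq_iff_eq_mul, eq_inv_mul_iff_mul_eq, ← mul_assoc]
  rw [← mul_assoc] at h
  exact h

theorem N5_Y5 : eg 1 * Y5 * (eg 1)⁻¹ = Y5⁻¹ := by
  have h : Y5 * (eg 1 * Y5) = eg 1 := by simpa [Y5] using rel_63
  rw [mul_inv_eq_iff_eq_mul, eq_inv_mul_iff_mul_eq, ← mul_assoc]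
  rw [← mul_assoc] at h
  exact h

set_option maxRecDepth 100000 in
theorem C5_ne : ⁅X5, Y5⁆ ≠ 1 := by
  rw [← C5_eq]
  intro h
  have h1 := prod_acts [42, 46, 47, 48] (by decide) (⟨0, by norm_num⟩ : Fin 276)
  rw [h] at h1
  revert h1
  show ¬ ((0 : ℕ) = appL CL [42, 46, 47, 48] 0)
  decide +kernel

theorem not_dvd5 : ¬ 5 ^ 4 ∣ Nat.card ↥G276 := by
  rw [card_G276]
  norm_num

theorem local5 {Γ : Type*} [Group Γ] (σ : Γ →* ↥G276) (hs : Function.Surjective σ)
    (hK : σ.ker ≤ Subgroup.center Γ) :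
    ∃ Q : Subgroup ↥G276, ¬ 5 ∣ Q.index ∧
      ∀ k ∈ ⁅Q.comap σ, Q.comap σ⁆, k ∈ σ.ker → k = 1 :=
  local_of_heis 5 (by norm_num) (by norm_num) σ hs hK X5 Y5 (eg 1)
    X5_pow Y5_pow X5_C5 Y5_C5 N5_X5 N5_Y5 C5_ne not_dvd5

end Cfsg.Agent.Helper29.Co3Od
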