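import Mathlib
import Cfsg.Agent.Lib.Helper29.Co3TwoDefs
import Cfsg.Agent.Lib.Helper29.Co3OutD0
import Cfsg.Agent.Lib.Helper29.Co3OutDA
import Cfsg.Agent.Lib.Helper29.Co3OutDB

set_option autoImplicit false

/-! The central involutions of the third Conway group on 276 points: representatives of the orbits
of the element of order 23 on the class, tables and check functions. -/

namespace Cfsg.Agent.Helper29.Co3X

open Cfsg.Agent.Helper29.HSP (tg force force_eq allBelow allBelow_iff)
open Cfsg.Agent.Helper29.PN Cfsg.Agent.Helper29.Co3M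
open Cfsg.Agent.Helper29.Co3XD Cfsg.Agent.Helper29.Co3T

/-- the number of representatives -/
def NR : ℕ := 7425
/-- a packed row of codes of involutions: 75 codes in a row, 50 rows in the first part -/
def irow (i : ℕ) : ℕ :=
  force (i / 75) fun r => cond (Nat.blt r 50) (ILA.getD r 0) (ILB.getD (r - 50) 0)
/-- the code of the representative with index `i` -/
def Lc (i : ℕ) : ℕ := tg (irow i) 2484 (i % 75)
/-- the codes of the powers of the element of order twenty-three -/
def XP (k : ℕ) : ℕ := XPL.getD k 0
/-- the code of the involution -/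
def YC : ℕ := Co3D.PC.getD 1 0
/-- the code of `x ^ (-j2) * y * x ^ j` -/
def WC (j j2 : ℕ) : ℕ := WL.getD (j * 23 + j2) 0
/-- the hint for the representative `r` and the exponent `j` -/
def hint (j r : ℕ) : ℕ := tg (HJ.getD j 0) 18 r

/-- the conjugate by the involution of the conjugate by `x ^ j` of the representative `r` is in
the list -/
def closOK (j r : ℕ) : Bool :=
  force (hint j r) fun h => force (h / 32) fun r2 => force (h % 32) fun j2 =>
    Nat.blt r2 NR && Nat.blt j2 23 &&
    force (WC j j2) fun w => force (Lc r) fun a => force (Lc r2) fun b =>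
      allBelow 276 fun p => Nat.beq (tg b 9 (tg w 9 p)) (tg w 9 (tg a 9 p))

/-- the table of the elements `x ^ (-j2) * y * x ^ j` -/
def wOK (j j2 : ℕ) : Bool :=
  force (WC j j2) fun w => force (XP ((23 - j2) % 23)) fun a => force (XP j) fun b =>
    allBelow 276 fun p => Nat.beq (tg w 9 p) (tg a 9 (tg YC 9 (tg b 9 p)))

/-- one syllable-word applied to a point: the rightmost syllable first -/
def iterW (c : ℕ) : List ℕ → ℕ → ℕ
  | [], v => v
  | e :: E, v => tg (XP e) 9 (tg c 9 (iterW c E v))

/-- iterate -/
def iterN (c : ℕ) (E : List ℕ) (m v : ℕ) : ℕ :=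
  Nat.rec (motive := fun _ => ℕ) v (fun _ r => iterW c E r) m

/-- the power `m` of the syllable-word is the identity -/
def powOK (c : ℕ) (E : List ℕ) (m : ℕ) : Bool := allBelow 276 fun p => Nat.beq (iterN c E m p) p

/-- a list of relations -/
def relsOK (c : ℕ) : List (List ℕ × ℕ) → Bool
  | [] => true
  | r :: R => powOK c r.1 r.2 && relsOK c R

/-- the filter -/
def filtOK (i : ℕ) : Bool := force (Lc i) fun c => !(relsOK c RL) || Nat.beq i IY

/-- the filter for the inverse -/
def filtOKm (i : ℕ) : Bool := force (Lc i) fun c => !(relsOK c RLm)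

end Cfsg.Agent.Helper29.Co3X
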