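import Mathlib
import Cfsg.Agent.Lib.Helper29.Co3OutDefs

set_option autoImplicit false

/-! Kernel checks for the list of central involutions of the third Conway group (generated). -/

namespace Cfsg.Agent.Helper29.Co3X

open Cfsg.Agent.Helper29.HSP (tg force force_eq allBelow allBelow_iff)
open Cfsg.Agent.Helper29.PN Cfsg.Agent.Helper29.Co3M
open Cfsg.Agent.Helper29.Co3XD Cfsg.Agent.Helper29.Co3T

set_option maxRecDepth 100000 in
theorem clos_0_0 : allR 0 825 (closOK 0) = true := by decide +kernel

set_option maxRecDepth 100000 in
theorem clos_0_1 : allR 825 825 (closOK 0) = true := by decide +kernel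

set_option maxRecDepth 100000 in
theorem clos_0_2 : allR 1650 825 (closOK 0) = true := by decide +kernel

set_option maxRecDepth 100000 in
theorem clos_0_3 : allR 2475 825 (closOK 0) = true := by decide +kernel

set_option maxRecDepth 100000 in
theorem clos_0_4 : allR 3300 825 (closOK 0) = true := by decide +kernel

set_option maxRecDepth 100000 in
theorem clos_0_5 : allR 4125 825 (closOK 0) = true := by decide +kernel

set_option maxRecDepth 100000 in
theorem clos_0_6 : allR 4950 825 (closOK 0) = true := by decide +kernel

set_option maxRecDepth 100000 in
theorem clos_0_7 : allR 5775 825 (closOK 0) = true := by decide +kernel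

set_option maxRecDepth 100000 in
theorem clos_0_8 : allR 6600 825 (closOK 0) = true := by decide +kernel

set_option maxRecDepth 100000 in
theorem clos_1_0 : allR 0 825 (closOK 1) = true := by decide +kernel

set_option maxRecDepth 100000 in
theorem clos_1_1 : allR 825 825 (closOK 1) = true := by decide +kernel

set_option maxRecDepth 100000 in
theorem clos_1_2 : allR 1650 825 (closOK 1) = true := by decide +kernel

set_option maxRecDepth 100000 in
theorem clos_1_3 : allR 2475 825 (closOK 1) = true := by decide +kernel

set_option maxRecDepth 100000 in
theorem clos_1_4 : allR 3300 825 (closOK 1) = true := by decide +kernel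

set_option maxRecDepth 100000 in
theorem clos_1_5 : allR 4125 825 (closOK 1) = true := by decide +kernel

set_option maxRecDepth 100000 in
theorem clos_1_6 : allR 4950 825 (closOK 1) = true := by decide +kernel

set_option maxRecDepth 100000 in
theorem clos_1_7 : allR 5775 825 (closOK 1) = true := by decide +kernel

set_option maxRecDepth 100000 in
theorem clos_1_8 : allR 6600 825 (closOK 1) = true := by decide +kernel

set_option maxRecDepth 100000 in
theorem clos_2_0 : allR 0 825 (closOK 2) = true := by decide +kernel

set_option maxRecDepth 100000 in
theorem clos_2_1 : allR 825 825 (closOK 2) = true := by decide +kernel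

set_option maxRecDepth 100000 in
theorem clos_2_2 : allR 1650 825 (closOK 2) = true := by decide +kernel

set_option maxRecDepth 100000 in
theorem clos_2_3 : allR 2475 825 (closOK 2) = true := by decide +kernel

set_option maxRecDepth 100000 in
theorem clos_2_4 : allR 3300 825 (closOK 2) = true := by decide +kernel

set_option maxRecDepth 100000 in
theorem clos_2_5 : allR 4125 825 (closOK 2) = true := by decide +kernel

set_option maxRecDepth 100000 in
theorem clos_2_6 : allR 4950 825 (closOK 2) = true := by decide +kernel

set_option maxRecDepth 100000 in
theorem clos_2_7 : allR 5775 825 (closOK 2) = true := by decide +kernel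

set_option maxRecDepth 100000 in
theorem clos_2_8 : allR 6600 825 (closOK 2) = true := by decide +kernel

set_option maxRecDepth 100000 in
theorem clos_3_0 : allR 0 825 (closOK 3) = true := by decide +kernel

set_option maxRecDepth 100000 in
theorem clos_3_1 : allR 825 825 (closOK 3) = true := by decide +kernel

set_option maxRecDepth 100000 in
theorem clos_3_2 : allR 1650 825 (closOK 3) = true := by decide +kernel

set_option maxRecDepth 100000 in
theorem clos_3_3 : allR 2475 825 (closOK 3) = true := by decide +kernel

set_option maxRecDepth 100000 in
theorem clos_3_4 : allR 3300 825 (closOK 3) = true := by decide +kernel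

set_option maxRecDepth 100000 in
theorem clos_3_5 : allR 4125 825 (closOK 3) = true := by decide +kernel

set_option maxRecDepth 100000 in
theorem clos_3_6 : allR 4950 825 (closOK 3) = true := by decide +kernel

set_option maxRecDepth 100000 in
theorem clos_3_7 : allR 5775 825 (closOK 3) = true := by decide +kernel

set_option maxRecDepth 100000 in
theorem clos_3_8 : allR 6600 825 (closOK 3) = true := by decide +kernel

end Cfsg.Agent.Helper29.Co3X
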