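import Mathlib
import Cfsg.Agent.Lib.Helper29.Co3OutDefs

set_option autoImplicit false

/-! Kernel checks for the list of central involutions of the third Conway group (generated). -/

namespace Cfsg.Agent.Helper29.Co3X

open Cfsg.Agent.Helper29.HSP (tg force force_eq allBelow allBelow_iff)
open Cfsg.Agent.Helper29.PN Cfsg.Agent.Helper29.Co3M
open Cfsg.Agent.Helper29.Co3XD Cfsg.Agent.Helper29.Co3T

set_option maxRecDepth 100000 in
theorem clos_4_0 : allR 0 825 (closOK 4) = true := by decide +kernel

set_option maxRecDepth 100000 in
theorem clos_4_1 : allR 825 825 (closOK 4) = true := by decide +kernel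

set_option maxRecDepth 100000 in
theorem clos_4_2 : allR 1650 825 (closOK 4) = true := by decide +kernel

set_option maxRecDepth 100000 in
theorem clos_4_3 : allR 2475 825 (closOK 4) = true := by decide +kernel

set_option maxRecDepth 100000 in
theorem clos_4_4 : allR 3300 825 (closOK 4) = true := by decide +kernel

set_option maxRecDepth 100000 in
theorem clos_4_5 : allR 4125 825 (closOK 4) = true := by decide +kernel

set_option maxRecDepth 100000 in
theorem clos_4_6 : allR 4950 825 (closOK 4) = true := by decide +kernel

set_option maxRecDepth 100000 in
theorem clos_4_7 : allR 5775 825 (closOK 4) = true := by decide +kernel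

set_option maxRecDepth 100000 in
theorem clos_4_8 : allR 6600 825 (closOK 4) = true := by decide +kernel

set_option maxRecDepth 100000 in
theorem clos_5_0 : allR 0 825 (closOK 5) = true := by decide +kernel

set_option maxRecDepth 100000 in
theorem clos_5_1 : allR 825 825 (closOK 5) = true := by decide +kernel

set_option maxRecDepth 100000 in
theorem clos_5_2 : allR 1650 825 (closOK 5) = true := by decide +kernel

set_option maxRecDepth 100000 in
theorem clos_5_3 : allR 2475 825 (closOK 5) = true := by decide +kernel

set_option maxRecDepth 100000 in
theorem clos_5_4 : allR 3300 825 (closOK 5) = true := by decide +kernel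

set_option maxRecDepth 100000 in
theorem clos_5_5 : allR 4125 825 (closOK 5) = true := by decide +kernel

set_option maxRecDepth 100000 in
theorem clos_5_6 : allR 4950 825 (closOK 5) = true := by decide +kernel

set_option maxRecDepth 100000 in
theorem clos_5_7 : allR 5775 825 (closOK 5) = true := by decide +kernel

set_option maxRecDepth 100000 in
theorem clos_5_8 : allR 6600 825 (closOK 5) = true := by decide +kernel

set_option maxRecDepth 100000 in
theorem clos_6_0 : allR 0 825 (closOK 6) = true := by decide +kernel

set_option maxRecDepth 100000 in
theorem clos_6_1 : allR 825 825 (closOK 6) = true := by decide +kernel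

set_option maxRecDepth 100000 in
theorem clos_6_2 : allR 1650 825 (closOK 6) = true := by decide +kernel

set_option maxRecDepth 100000 in
theorem clos_6_3 : allR 2475 825 (closOK 6) = true := by decide +kernel

set_option maxRecDepth 100000 in
theorem clos_6_4 : allR 3300 825 (closOK 6) = true := by decide +kernel

set_option maxRecDepth 100000 in
theorem clos_6_5 : allR 4125 825 (closOK 6) = true := by decide +kernel

set_option maxRecDepth 100000 in
theorem clos_6_6 : allR 4950 825 (closOK 6) = true := by decide +kernel

set_option maxRecDepth 100000 in
theorem clos_6_7 : allR 5775 825 (closOK 6) = true := by decide +kernel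

set_option maxRecDepth 100000 in
theorem clos_6_8 : allR 6600 825 (closOK 6) = true := by decide +kernel

set_option maxRecDepth 100000 in
theorem clos_7_0 : allR 0 825 (closOK 7) = true := by decide +kernel

set_option maxRecDepth 100000 in
theorem clos_7_1 : allR 825 825 (closOK 7) = true := by decide +kernel

set_option maxRecDepth 100000 in
theorem clos_7_2 : allR 1650 825 (closOK 7) = true := by decide +kernel

set_option maxRecDepth 100000 in
theorem clos_7_3 : allR 2475 825 (closOK 7) = true := by decide +kernel

set_option maxRecDepth 100000 in
theorem clos_7_4 : allR 3300 825 (closOK 7) = true := by decide +kernel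

set_option maxRecDepth 100000 in
theorem clos_7_5 : allR 4125 825 (closOK 7) = true := by decide +kernel

set_option maxRecDepth 100000 in
theorem clos_7_6 : allR 4950 825 (closOK 7) = true := by decide +kernel

set_option maxRecDepth 100000 in
theorem clos_7_7 : allR 5775 825 (closOK 7) = true := by decide +kernel

set_option maxRecDepth 100000 in
theorem clos_7_8 : allR 6600 825 (closOK 7) = true := by decide +kernel

end Cfsg.Agent.Helper29.Co3X
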