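import Mathlib
import Cfsg.Agent.Lib.Helper29.Co3OutDefs

set_option autoImplicit false

/-! Kernel checks for the list of central involutions of the third Conway group (generated). -/

namespace Cfsg.Agent.Helper29.Co3X

open Cfsg.Agent.Helper29.HSP (tg force force_eq allBelow allBelow_iff)
open Cfsg.Agent.Helper29.PN Cfsg.Agent.Helper29.Co3M
open Cfsg.Agent.Helper29.Co3XD Cfsg.Agent.Helper29.Co3T

set_option maxRecDepth 100000 in
theorem clos_8_0 : allR 0 825 (closOK 8) = true := by decide +kernel

set_option maxRecDepth 100000 in
theorem clos_8_1 : allR 825 825 (closOK 8) = true := by decide +kernel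

set_option maxRecDepth 100000 in
theorem clos_8_2 : allR 1650 825 (closOK 8) = true := by decide +kernel

set_option maxRecDepth 100000 in
theorem clos_8_3 : allR 2475 825 (closOK 8) = true := by decide +kernel

set_option maxRecDepth 100000 in
theorem clos_8_4 : allR 3300 825 (closOK 8) = true := by decide +kernel

set_option maxRecDepth 100000 in
theorem clos_8_5 : allR 4125 825 (closOK 8) = true := by decide +kernel

set_option maxRecDepth 100000 in
theorem clos_8_6 : allR 4950 825 (closOK 8) = true := by decide +kernel

set_option maxRecDepth 100000 in
theorem clos_8_7 : allR 5775 825 (closOK 8) = true := by decide +kernel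

set_option maxRecDepth 100000 in
theorem clos_8_8 : allR 6600 825 (closOK 8) = true := by decide +kernel

set_option maxRecDepth 100000 in
theorem clos_9_0 : allR 0 825 (closOK 9) = true := by decide +kernel

set_option maxRecDepth 100000 in
theorem clos_9_1 : allR 825 825 (closOK 9) = true := by decide +kernel

set_option maxRecDepth 100000 in
theorem clos_9_2 : allR 1650 825 (closOK 9) = true := by decide +kernel

set_option maxRecDepth 100000 in
theorem clos_9_3 : allR 2475 825 (closOK 9) = true := by decide +kernel

set_option maxRecDepth 100000 in
theorem clos_9_4 : allR 3300 825 (closOK 9) = true := by decide +kernel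

set_option maxRecDepth 100000 in
theorem clos_9_5 : allR 4125 825 (closOK 9) = true := by decide +kernel

set_option maxRecDepth 100000 in
theorem clos_9_6 : allR 4950 825 (closOK 9) = true := by decide +kernel

set_option maxRecDepth 100000 in
theorem clos_9_7 : allR 5775 825 (closOK 9) = true := by decide +kernel

set_option maxRecDepth 100000 in
theorem clos_9_8 : allR 6600 825 (closOK 9) = true := by decide +kernel

set_option maxRecDepth 100000 in
theorem clos_10_0 : allR 0 825 (closOK 10) = true := by decide +kernel

set_option maxRecDepth 100000 in
theorem clos_10_1 : allR 825 825 (closOK 10) = true := by decide +kernel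

set_option maxRecDepth 100000 in
theorem clos_10_2 : allR 1650 825 (closOK 10) = true := by decide +kernel

set_option maxRecDepth 100000 in
theorem clos_10_3 : allR 2475 825 (closOK 10) = true := by decide +kernel

set_option maxRecDepth 100000 in
theorem clos_10_4 : allR 3300 825 (closOK 10) = true := by decide +kernel

set_option maxRecDepth 100000 in
theorem clos_10_5 : allR 4125 825 (closOK 10) = true := by decide +kernel

set_option maxRecDepth 100000 in
theorem clos_10_6 : allR 4950 825 (closOK 10) = true := by decide +kernel

set_option maxRecDepth 100000 in
theorem clos_10_7 : allR 5775 825 (closOK 10) = true := by decide +kernel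

set_option maxRecDepth 100000 in
theorem clos_10_8 : allR 6600 825 (closOK 10) = true := by decide +kernel

set_option maxRecDepth 100000 in
theorem clos_11_0 : allR 0 825 (closOK 11) = true := by decide +kernel

set_option maxRecDepth 100000 in
theorem clos_11_1 : allR 825 825 (closOK 11) = true := by decide +kernel

set_option maxRecDepth 100000 in
theorem clos_11_2 : allR 1650 825 (closOK 11) = true := by decide +kernel

set_option maxRecDepth 100000 in
theorem clos_11_3 : allR 2475 825 (closOK 11) = true := by decide +kernel

set_option maxRecDepth 100000 in
theorem clos_11_4 : allR 3300 825 (closOK 11) = true := by decide +kernel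

set_option maxRecDepth 100000 in
theorem clos_11_5 : allR 4125 825 (closOK 11) = true := by decide +kernel

set_option maxRecDepth 100000 in
theorem clos_11_6 : allR 4950 825 (closOK 11) = true := by decide +kernel

set_option maxRecDepth 100000 in
theorem clos_11_7 : allR 5775 825 (closOK 11) = true := by decide +kernel

set_option maxRecDepth 100000 in
theorem clos_11_8 : allR 6600 825 (closOK 11) = true := by decide +kernel

end Cfsg.Agent.Helper29.Co3X
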