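import Mathlib
import Cfsg.Agent.Lib.Helper29.Co3OutDefs

set_option autoImplicit false

/-! Kernel checks for the list of central involutions of the third Conway group (generated). -/

namespace Cfsg.Agent.Helper29.Co3X

open Cfsg.Agent.Helper29.HSP (tg force force_eq allBelow allBelow_iff)
open Cfsg.Agent.Helper29.PN Cfsg.Agent.Helper29.Co3M
open Cfsg.Agent.Helper29.Co3XD Cfsg.Agent.Helper29.Co3T

set_option maxRecDepth 100000 in
theorem clos_12_0 : allR 0 825 (closOK 12) = true := by decide +kernel

set_option maxRecDepth 100000 in
theorem clos_12_1 : allR 825 825 (closOK 12) = true := by decide +kernel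

set_option maxRecDepth 100000 in
theorem clos_12_2 : allR 1650 825 (closOK 12) = true := by decide +kernel

set_option maxRecDepth 100000 in
theorem clos_12_3 : allR 2475 825 (closOK 12) = true := by decide +kernel

set_option maxRecDepth 100000 in
theorem clos_12_4 : allR 3300 825 (closOK 12) = true := by decide +kernel

set_option maxRecDepth 100000 in
theorem clos_12_5 : allR 4125 825 (closOK 12) = true := by decide +kernel

set_option maxRecDepth 100000 in
theorem clos_12_6 : allR 4950 825 (closOK 12) = true := by decide +kernel

set_option maxRecDepth 100000 in
theorem clos_12_7 : allR 5775 825 (closOK 12) = true := by decide +kernel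

set_option maxRecDepth 100000 in
theorem clos_12_8 : allR 6600 825 (closOK 12) = true := by decide +kernel

set_option maxRecDepth 100000 in
theorem clos_13_0 : allR 0 825 (closOK 13) = true := by decide +kernel

set_option maxRecDepth 100000 in
theorem clos_13_1 : allR 825 825 (closOK 13) = true := by decide +kernel

set_option maxRecDepth 100000 in
theorem clos_13_2 : allR 1650 825 (closOK 13) = true := by decide +kernel

set_option maxRecDepth 100000 in
theorem clos_13_3 : allR 2475 825 (closOK 13) = true := by decide +kernel

set_option maxRecDepth 100000 in
theorem clos_13_4 : allR 3300 825 (closOK 13) = true := by decide +kernel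

set_option maxRecDepth 100000 in
theorem clos_13_5 : allR 4125 825 (closOK 13) = true := by decide +kernel

set_option maxRecDepth 100000 in
theorem clos_13_6 : allR 4950 825 (closOK 13) = true := by decide +kernel

set_option maxRecDepth 100000 in
theorem clos_13_7 : allR 5775 825 (closOK 13) = true := by decide +kernel

set_option maxRecDepth 100000 in
theorem clos_13_8 : allR 6600 825 (closOK 13) = true := by decide +kernel

set_option maxRecDepth 100000 in
theorem clos_14_0 : allR 0 825 (closOK 14) = true := by decide +kernel

set_option maxRecDepth 100000 in
theorem clos_14_1 : allR 825 825 (closOK 14) = true := by decide +kernel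

set_option maxRecDepth 100000 in
theorem clos_14_2 : allR 1650 825 (closOK 14) = true := by decide +kernel

set_option maxRecDepth 100000 in
theorem clos_14_3 : allR 2475 825 (closOK 14) = true := by decide +kernel

set_option maxRecDepth 100000 in
theorem clos_14_4 : allR 3300 825 (closOK 14) = true := by decide +kernel

set_option maxRecDepth 100000 in
theorem clos_14_5 : allR 4125 825 (closOK 14) = true := by decide +kernel

set_option maxRecDepth 100000 in
theorem clos_14_6 : allR 4950 825 (closOK 14) = true := by decide +kernel

set_option maxRecDepth 100000 in
theorem clos_14_7 : allR 5775 825 (closOK 14) = true := by decide +kernel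

set_option maxRecDepth 100000 in
theorem clos_14_8 : allR 6600 825 (closOK 14) = true := by decide +kernel

set_option maxRecDepth 100000 in
theorem clos_15_0 : allR 0 825 (closOK 15) = true := by decide +kernel

set_option maxRecDepth 100000 in
theorem clos_15_1 : allR 825 825 (closOK 15) = true := by decide +kernel

set_option maxRecDepth 100000 in
theorem clos_15_2 : allR 1650 825 (closOK 15) = true := by decide +kernel

set_option maxRecDepth 100000 in
theorem clos_15_3 : allR 2475 825 (closOK 15) = true := by decide +kernel

set_option maxRecDepth 100000 in
theorem clos_15_4 : allR 3300 825 (closOK 15) = true := by decide +kernel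

set_option maxRecDepth 100000 in
theorem clos_15_5 : allR 4125 825 (closOK 15) = true := by decide +kernel

set_option maxRecDepth 100000 in
theorem clos_15_6 : allR 4950 825 (closOK 15) = true := by decide +kernel

set_option maxRecDepth 100000 in
theorem clos_15_7 : allR 5775 825 (closOK 15) = true := by decide +kernel

set_option maxRecDepth 100000 in
theorem clos_15_8 : allR 6600 825 (closOK 15) = true := by decide +kernel

end Cfsg.Agent.Helper29.Co3X
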