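import Mathlib
import Cfsg.Agent.Lib.Helper29.Co3OutDefs

set_option autoImplicit false

/-! Kernel checks for the list of central involutions of the third Conway group (generated). -/

namespace Cfsg.Agent.Helper29.Co3X

open Cfsg.Agent.Helper29.HSP (tg force force_eq allBelow allBelow_iff)
open Cfsg.Agent.Helper29.PN Cfsg.Agent.Helper29.Co3M
open Cfsg.Agent.Helper29.Co3XD Cfsg.Agent.Helper29.Co3T

set_option maxRecDepth 100000 in
theorem clos_16_0 : allR 0 825 (closOK 16) = true := by decide +kernel

set_option maxRecDepth 100000 in
theorem clos_16_1 : allR 825 825 (closOK 16) = true := by decide +kernel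

set_option maxRecDepth 100000 in
theorem clos_16_2 : allR 1650 825 (closOK 16) = true := by decide +kernel

set_option maxRecDepth 100000 in
theorem clos_16_3 : allR 2475 825 (closOK 16) = true := by decide +kernel

set_option maxRecDepth 100000 in
theorem clos_16_4 : allR 3300 825 (closOK 16) = true := by decide +kernel

set_option maxRecDepth 100000 in
theorem clos_16_5 : allR 4125 825 (closOK 16) = true := by decide +kernel

set_option maxRecDepth 100000 in
theorem clos_16_6 : allR 4950 825 (closOK 16) = true := by decide +kernel

set_option maxRecDepth 100000 in
theorem clos_16_7 : allR 5775 825 (closOK 16) = true := by decide +kernel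

set_option maxRecDepth 100000 in
theorem clos_16_8 : allR 6600 825 (closOK 16) = true := by decide +kernel

set_option maxRecDepth 100000 in
theorem clos_17_0 : allR 0 825 (closOK 17) = true := by decide +kernel

set_option maxRecDepth 100000 in
theorem clos_17_1 : allR 825 825 (closOK 17) = true := by decide +kernel

set_option maxRecDepth 100000 in
theorem clos_17_2 : allR 1650 825 (closOK 17) = true := by decide +kernel

set_option maxRecDepth 100000 in
theorem clos_17_3 : allR 2475 825 (closOK 17) = true := by decide +kernel

set_option maxRecDepth 100000 in
theorem clos_17_4 : allR 3300 825 (closOK 17) = true := by decide +kernel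

set_option maxRecDepth 100000 in
theorem clos_17_5 : allR 4125 825 (closOK 17) = true := by decide +kernel

set_option maxRecDepth 100000 in
theorem clos_17_6 : allR 4950 825 (closOK 17) = true := by decide +kernel

set_option maxRecDepth 100000 in
theorem clos_17_7 : allR 5775 825 (closOK 17) = true := by decide +kernel

set_option maxRecDepth 100000 in
theorem clos_17_8 : allR 6600 825 (closOK 17) = true := by decide +kernel

set_option maxRecDepth 100000 in
theorem clos_18_0 : allR 0 825 (closOK 18) = true := by decide +kernel

set_option maxRecDepth 100000 in
theorem clos_18_1 : allR 825 825 (closOK 18) = true := by decide +kernel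

set_option maxRecDepth 100000 in
theorem clos_18_2 : allR 1650 825 (closOK 18) = true := by decide +kernel

set_option maxRecDepth 100000 in
theorem clos_18_3 : allR 2475 825 (closOK 18) = true := by decide +kernel

set_option maxRecDepth 100000 in
theorem clos_18_4 : allR 3300 825 (closOK 18) = true := by decide +kernel

set_option maxRecDepth 100000 in
theorem clos_18_5 : allR 4125 825 (closOK 18) = true := by decide +kernel

set_option maxRecDepth 100000 in
theorem clos_18_6 : allR 4950 825 (closOK 18) = true := by decide +kernel

set_option maxRecDepth 100000 in
theorem clos_18_7 : allR 5775 825 (closOK 18) = true := by decide +kernel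

set_option maxRecDepth 100000 in
theorem clos_18_8 : allR 6600 825 (closOK 18) = true := by decide +kernel

set_option maxRecDepth 100000 in
theorem clos_19_0 : allR 0 825 (closOK 19) = true := by decide +kernel

set_option maxRecDepth 100000 in
theorem clos_19_1 : allR 825 825 (closOK 19) = true := by decide +kernel

set_option maxRecDepth 100000 in
theorem clos_19_2 : allR 1650 825 (closOK 19) = true := by decide +kernel

set_option maxRecDepth 100000 in
theorem clos_19_3 : allR 2475 825 (closOK 19) = true := by decide +kernel

set_option maxRecDepth 100000 in
theorem clos_19_4 : allR 3300 825 (closOK 19) = true := by decide +kernel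

set_option maxRecDepth 100000 in
theorem clos_19_5 : allR 4125 825 (closOK 19) = true := by decide +kernel

set_option maxRecDepth 100000 in
theorem clos_19_6 : allR 4950 825 (closOK 19) = true := by decide +kernel

set_option maxRecDepth 100000 in
theorem clos_19_7 : allR 5775 825 (closOK 19) = true := by decide +kernel

set_option maxRecDepth 100000 in
theorem clos_19_8 : allR 6600 825 (closOK 19) = true := by decide +kernel

end Cfsg.Agent.Helper29.Co3X
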