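import Mathlib
import Cfsg.Agent.Lib.Helper29.Co3OutDefs

set_option autoImplicit false

/-! Kernel checks for the list of central involutions of the third Conway group (generated). -/

namespace Cfsg.Agent.Helper29.Co3X

open Cfsg.Agent.Helper29.HSP (tg force force_eq allBelow allBelow_iff)
open Cfsg.Agent.Helper29.PN Cfsg.Agent.Helper29.Co3M
open Cfsg.Agent.Helper29.Co3XD Cfsg.Agent.Helper29.Co3T

set_option maxRecDepth 100000 in
theorem clos_20_0 : allR 0 825 (closOK 20) = true := by decide +kernel

set_option maxRecDepth 100000 in
theorem clos_20_1 : allR 825 825 (closOK 20) = true := by decide +kernel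

set_option maxRecDepth 100000 in
theorem clos_20_2 : allR 1650 825 (closOK 20) = true := by decide +kernel

set_option maxRecDepth 100000 in
theorem clos_20_3 : allR 2475 825 (closOK 20) = true := by decide +kernel

set_option maxRecDepth 100000 in
theorem clos_20_4 : allR 3300 825 (closOK 20) = true := by decide +kernel

set_option maxRecDepth 100000 in
theorem clos_20_5 : allR 4125 825 (closOK 20) = true := by decide +kernel

set_option maxRecDepth 100000 in
theorem clos_20_6 : allR 4950 825 (closOK 20) = true := by decide +kernel

set_option maxRecDepth 100000 in
theorem clos_20_7 : allR 5775 825 (closOK 20) = true := by decide +kernel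

set_option maxRecDepth 100000 in
theorem clos_20_8 : allR 6600 825 (closOK 20) = true := by decide +kernel

set_option maxRecDepth 100000 in
theorem clos_21_0 : allR 0 825 (closOK 21) = true := by decide +kernel

set_option maxRecDepth 100000 in
theorem clos_21_1 : allR 825 825 (closOK 21) = true := by decide +kernel

set_option maxRecDepth 100000 in
theorem clos_21_2 : allR 1650 825 (closOK 21) = true := by decide +kernel

set_option maxRecDepth 100000 in
theorem clos_21_3 : allR 2475 825 (closOK 21) = true := by decide +kernel

set_option maxRecDepth 100000 in
theorem clos_21_4 : allR 3300 825 (closOK 21) = true := by decide +kernel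

set_option maxRecDepth 100000 in
theorem clos_21_5 : allR 4125 825 (closOK 21) = true := by decide +kernel

set_option maxRecDepth 100000 in
theorem clos_21_6 : allR 4950 825 (closOK 21) = true := by decide +kernel

set_option maxRecDepth 100000 in
theorem clos_21_7 : allR 5775 825 (closOK 21) = true := by decide +kernel

set_option maxRecDepth 100000 in
theorem clos_21_8 : allR 6600 825 (closOK 21) = true := by decide +kernel

set_option maxRecDepth 100000 in
theorem clos_22_0 : allR 0 825 (closOK 22) = true := by decide +kernel

set_option maxRecDepth 100000 in
theorem clos_22_1 : allR 825 825 (closOK 22) = true := by decide +kernel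

set_option maxRecDepth 100000 in
theorem clos_22_2 : allR 1650 825 (closOK 22) = true := by decide +kernel

set_option maxRecDepth 100000 in
theorem clos_22_3 : allR 2475 825 (closOK 22) = true := by decide +kernel

set_option maxRecDepth 100000 in
theorem clos_22_4 : allR 3300 825 (closOK 22) = true := by decide +kernel

set_option maxRecDepth 100000 in
theorem clos_22_5 : allR 4125 825 (closOK 22) = true := by decide +kernel

set_option maxRecDepth 100000 in
theorem clos_22_6 : allR 4950 825 (closOK 22) = true := by decide +kernel

set_option maxRecDepth 100000 in
theorem clos_22_7 : allR 5775 825 (closOK 22) = true := by decide +kernel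

set_option maxRecDepth 100000 in
theorem clos_22_8 : allR 6600 825 (closOK 22) = true := by decide +kernel

end Cfsg.Agent.Helper29.Co3X
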