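import Mathlib
import Cfsg.Agent.Lib.Helper29.Co3OutDefs

set_option autoImplicit false

/-! Kernel checks for the list of central involutions of the third Conway group (generated). -/

namespace Cfsg.Agent.Helper29.Co3X

open Cfsg.Agent.Helper29.HSP (tg force force_eq allBelow allBelow_iff)
open Cfsg.Agent.Helper29.PN Cfsg.Agent.Helper29.Co3M
open Cfsg.Agent.Helper29.Co3XD Cfsg.Agent.Helper29.Co3T

set_option maxRecDepth 100000 in
theorem filt_0 : allR 0 825 filtOK = true := by decide +kernel

set_option maxRecDepth 100000 in
theorem filt_1 : allR 825 825 filtOK = true := by decide +kernel

set_option maxRecDepth 100000 in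
theorem filt_2 : allR 1650 825 filtOK = true := by decide +kernel

set_option maxRecDepth 100000 in
theorem filt_3 : allR 2475 825 filtOK = true := by decide +kernel

set_option maxRecDepth 100000 in
theorem filt_4 : allR 3300 825 filtOK = true := by decide +kernel

set_option maxRecDepth 100000 in
theorem filt_5 : allR 4125 825 filtOK = true := by decide +kernel

set_option maxRecDepth 100000 in
theorem filt_6 : allR 4950 825 filtOK = true := by decide +kernel

set_option maxRecDepth 100000 in
theorem filt_7 : allR 5775 825 filtOK = true := by decide +kernel

set_option maxRecDepth 100000 in
theorem filt_8 : allR 6600 825 filtOK = true := by decide +kernel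

set_option maxRecDepth 100000 in
theorem filtm_0 : allR 0 825 filtOKm = true := by decide +kernel

set_option maxRecDepth 100000 in
theorem filtm_1 : allR 825 825 filtOKm = true := by decide +kernel

set_option maxRecDepth 100000 in
theorem filtm_2 : allR 1650 825 filtOKm = true := by decide +kernel

set_option maxRecDepth 100000 in
theorem filtm_3 : allR 2475 825 filtOKm = true := by decide +kernel

set_option maxRecDepth 100000 in
theorem filtm_4 : allR 3300 825 filtOKm = true := by decide +kernel

set_option maxRecDepth 100000 in
theorem filtm_5 : allR 4125 825 filtOKm = true := by decide +kernel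

set_option maxRecDepth 100000 in
theorem filtm_6 : allR 4950 825 filtOKm = true := by decide +kernel

set_option maxRecDepth 100000 in
theorem filtm_7 : allR 5775 825 filtOKm = true := by decide +kernel

set_option maxRecDepth 100000 in
theorem filtm_8 : allR 6600 825 filtOKm = true := by decide +kernel

end Cfsg.Agent.Helper29.Co3X
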