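import Mathlib
import Cfsg.Agent.Lib.Helper29.Co3OutDefs

set_option autoImplicit false

/-! Kernel checks for the list of central involutions of the third Conway group (generated). -/

namespace Cfsg.Agent.Helper29.Co3X

open Cfsg.Agent.Helper29.HSP (tg force force_eq allBelow allBelow_iff)
open Cfsg.Agent.Helper29.PN Cfsg.Agent.Helper29.Co3M
open Cfsg.Agent.Helper29.Co3XD Cfsg.Agent.Helper29.Co3T

/-- the code moves some point -/
def moved (c : ℕ) : Bool := !(allBelow 276 fun p => Nat.beq (tg c 9 p) p)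

theorem ne_one_of_moved {g : Equiv.Perm (Fin 276)} {c : ℕ} (hg : Acts 276 g c)
    (h : moved c = true) : g ≠ 1 := by
  intro e
  unfold moved at h
  rw [Bool.not_eq_true'] at h
  have : (allBelow 276 fun p => Nat.beq (tg c 9 p) p) = true := by
    rw [allBelow_iff]
    intro p hp
    have h1 := hg ⟨p, hp⟩
    rw [e] at h1
    have h2 : tg c 9 p = p := h1.symm
    rw [h2]
    exact Nat.beq_refl p
  rw [this] at h
  exact Bool.noConfusion h

set_option maxRecDepth 100000 in
theorem wn_chk : reprL 276 Co3D.PC NC1 Wn = true := by decide +kernel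

set_option maxRecDepth 100000 in
theorem xp_chk : (∀ y < 276, tg (XP 0) 9 y = y) ∧ XP 1 = pc 0 ∧
    (∀ k < 22, ∀ y < 276, tg (XP (k + 1)) 9 y = tg (XP 1) 9 (tg (XP k) 9 y)) ∧
    (∀ y < 276, tg (XP 1) 9 (tg (XP 22) 9 y) = y) ∧ moved (XP 1) = true := by
  decide +kernel

set_option maxRecDepth 100000 in
theorem n_chk : ∀ y < 276, tg NC1 9 (tg (XP 1) 9 y) = tg (XP 2) 9 (tg NC1 9 y) := by
  decide +kernel

set_option maxRecDepth 100000 in
theorem y_chk : YC = pc 1 ∧ (∀ y < 276, tg YC 9 (tg YC 9 y) = y) ∧ relsOK YC RL = true ∧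
    moved YC = true ∧ Lc IY = YC ∧ NC IYN = YC ∧ IY < NR := by
  decide +kernel

set_option maxRecDepth 100000 in
theorem zc_chk : ∀ c < 4, ∀ y < 276, tg YC 9 (tg (XC c) 9 y) = tg (XC c) 9 (tg YC 9 y) := by
  decide +kernel

set_option maxRecDepth 100000 in
theorem w_chk0 : allBelow 23 (fun j => allBelow 23 fun j2 => wOK j j2) = true := by
  decide +kernel

end Cfsg.Agent.Helper29.Co3X
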