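import Mathlib
import Cfsg.Agent.Lib.Helper29.Co3OutChkC0
import Cfsg.Agent.Lib.Helper29.Co3OutChkC1
import Cfsg.Agent.Lib.Helper29.Co3OutChkC2
import Cfsg.Agent.Lib.Helper29.Co3OutChkC3
import Cfsg.Agent.Lib.Helper29.Co3OutChkC4
import Cfsg.Agent.Lib.Helper29.Co3OutChkC5
import Cfsg.Agent.Lib.Helper29.Co3OutChkF
import Cfsg.Agent.Lib.Helper29.Co3OutChkM
import Cfsg.Agent.Lib.Helper29.Co3OutGen

set_option autoImplicit false
open Cfsg

/-! The central involutions of the third Conway group on 276 points: the list is closed under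
conjugation, and the relations. -/

namespace Cfsg.Agent.Helper29.Co3X

open Cfsg.Agent.Helper29.HSP (tg force force_eq allBelow allBelow_iff)
open Cfsg.Agent.Helper29.PN Cfsg.Agent.Helper29.Co3M
open Cfsg.Agent.Helper29.Co3XD Cfsg.Agent.Helper29.Co3T Cfsg.Agent.Helper29.DedCheck
open Cfsg.Agent.Helper29.HSXG Cfsg.Agent.Helper29.Co3XG

/-- the permutations -/
abbrev Pm : Type := Equiv.Perm (Fin 276)

/-! ### Tools for codes -/

theorem acts_conj {g t : Pm} {A c d : ℕ} (hg : Acts 276 g A) (ht : Acts 276 t c)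
    (h : ∀ y < 276, tg d 9 (tg A 9 y) = tg A 9 (tg c 9 y)) : Acts 276 (g * t * g⁻¹) d := by
  intro u
  show (g (t (g⁻¹ u))).val = tg d 9 u.val
  rw [hg, ht, ← h _ (g⁻¹ u).2, ← hg]
  simp

theorem sq_one_of_acts {g : Pm} {c : ℕ} (hg : Acts 276 g c)
    (h : ∀ y < 276, tg c 9 (tg c 9 y) = y) : g * g = 1 := by
  apply Equiv.ext
  intro u
  apply Fin.ext
  show (g (g u)).val = u.val
  rw [hg, hg, h u.val u.2]

/-! ### The two generators -/

def xP : Pm := gp 0
def yP : Pm := gp 1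

theorem acts_xP : Acts 276 xP (XP 1) := by
  rw [xp_chk.2.1]
  exact acts_gp 0 (by norm_num)

theorem acts_yP : Acts 276 yP YC := by
  rw [y_chk.1]
  exact acts_gp 1 (by norm_num)

theorem acts_xpow (k : ℕ) (hk : k < 23) : Acts 276 (xP ^ k) (XP k) := by
  induction k with
  | zero =>
    rw [pow_zero]
    exact acts_one xp_chk.1
  | succ k ih =>
    rw [pow_succ']
    exact acts_mul acts_xP (ih (by omega)) (xp_chk.2.2.1 k (by omega))

theorem xP_pow23 : xP ^ 23 = 1 := by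
  rw [pow_succ']
  apply Equiv.ext
  intro u
  apply Fin.ext
  rw [Equiv.Perm.mul_apply, Equiv.Perm.one_apply, acts_xP, acts_xpow 22 (by norm_num),
    xp_chk.2.2.2.1 u.val u.2]

theorem xP_ne_one : xP ≠ 1 := ne_one_of_moved acts_xP xp_chk.2.2.2.2

theorem yP_sq : yP * yP = 1 := sq_one_of_acts acts_yP y_chk.2.1

theorem yP_inv : yP⁻¹ = yP := by
  symm
  exact eq_inv_of_mul_eq_one_left yP_sq

theorem yP_ne_one : yP ≠ 1 := ne_one_of_moved acts_yP y_chk.2.2.2.1

theorem xpow_inv (j : ℕ) (hj : j < 23) : (xP ^ j)⁻¹ = xP ^ ((23 - j) % 23) := by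
  symm
  apply eq_inv_of_mul_eq_one_left
  rw [← pow_add]
  rcases Nat.eq_zero_or_pos j with h0 | h0
  · subst h0
    norm_num
  · have e : (23 - j) % 23 + j = 23 := by
      rw [Nat.mod_eq_of_lt (by omega)]
      omega
    rw [e, xP_pow23]

/-- the elements `x ^ (-j2) * y * x ^ j` -/
theorem acts_w (j j2 : ℕ) (hj : j < 23) (hj2 : j2 < 23) :
    Acts 276 ((xP ^ j2)⁻¹ * yP * xP ^ j) (WC j j2) := by
  have h := (allBelow_iff _ _).1 ((allBelow_iff _ _).1 w_chk0 j hj) j2 hj2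
  unfold wOK at h
  rw [force_eq, force_eq, force_eq, allBelow_iff] at h
  rw [xpow_inv j2 hj2]
  intro u
  show ((xP ^ ((23 - j2) % 23)) (yP ((xP ^ j) u))).val = _
  rw [acts_xpow _ (Nat.mod_lt _ (by norm_num)), acts_yP, acts_xpow j hj]
  exact (Nat.eq_of_beq_eq_true (h u.val u.2)).symm

/-! ### The list of involutions -/

/-- the permutation is a conjugate by a power of `x` of a representative -/
def InL (t : Pm) : Prop := ∃ r < NR, ∃ j < 23, Acts 276 ((xP ^ j)⁻¹ * t * xP ^ j) (Lc r)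

theorem ninths (p : ℕ → Bool) (h0 : allR 0 825 p = true) (h1 : allR 825 825 p = true)
    (h2 : allR 1650 825 p = true) (h3 : allR 2475 825 p = true) (h4 : allR 3300 825 p = true)
    (h5 : allR 4125 825 p = true) (h6 : allR 4950 825 p = true) (h7 : allR 5775 825 p = true)
    (h8 : allR 6600 825 p = true) : ∀ r < NR, p r = true := by
  intro r hr
  have hr' : r < 7425 := hr
  have hq : r / 825 < 9 := by omega
  interval_cases hq' : r / 825
  · exact (allR_iff _ _ _).1 h0 r (by omega) (by omega)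
  · exact (allR_iff _ _ _).1 h1 r (by omega) (by omega)
  · exact (allR_iff _ _ _).1 h2 r (by omega) (by omega)
  · exact (allR_iff _ _ _).1 h3 r (by omega) (by omega)
  · exact (allR_iff _ _ _).1 h4 r (by omega) (by omega)
  · exact (allR_iff _ _ _).1 h5 r (by omega) (by omega)
  · exact (allR_iff _ _ _).1 h6 r (by omega) (by omega)
  · exact (allR_iff _ _ _).1 h7 r (by omega) (by omega)
  · exact (allR_iff _ _ _).1 h8 r (by omega) (by omega)

theorem clos_all : ∀ j < 23, ∀ r < NR, closOK j r = true := by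
  intro j hj
  interval_cases j
  · exact ninths _ clos_0_0 clos_0_1 clos_0_2 clos_0_3 clos_0_4 clos_0_5 clos_0_6 clos_0_7 clos_0_8
  · exact ninths _ clos_1_0 clos_1_1 clos_1_2 clos_1_3 clos_1_4 clos_1_5 clos_1_6 clos_1_7 clos_1_8
  · exact ninths _ clos_2_0 clos_2_1 clos_2_2 clos_2_3 clos_2_4 clos_2_5 clos_2_6 clos_2_7 clos_2_8
  · exact ninths _ clos_3_0 clos_3_1 clos_3_2 clos_3_3 clos_3_4 clos_3_5 clos_3_6 clos_3_7 clos_3_8
  · exact ninths _ clos_4_0 clos_4_1 clos_4_2 clos_4_3 clos_4_4 clos_4_5 clos_4_6 clos_4_7 clos_4_8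
  · exact ninths _ clos_5_0 clos_5_1 clos_5_2 clos_5_3 clos_5_4 clos_5_5 clos_5_6 clos_5_7 clos_5_8
  · exact ninths _ clos_6_0 clos_6_1 clos_6_2 clos_6_3 clos_6_4 clos_6_5 clos_6_6 clos_6_7 clos_6_8
  · exact ninths _ clos_7_0 clos_7_1 clos_7_2 clos_7_3 clos_7_4 clos_7_5 clos_7_6 clos_7_7 clos_7_8
  · exact ninths _ clos_8_0 clos_8_1 clos_8_2 clos_8_3 clos_8_4 clos_8_5 clos_8_6 clos_8_7 clos_8_8
  · exact ninths _ clos_9_0 clos_9_1 clos_9_2 clos_9_3 clos_9_4 clos_9_5 clos_9_6 clos_9_7 clos_9_8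
  · exact ninths _ clos_10_0 clos_10_1 clos_10_2 clos_10_3 clos_10_4 clos_10_5 clos_10_6 clos_10_7 clos_10_8
  · exact ninths _ clos_11_0 clos_11_1 clos_11_2 clos_11_3 clos_11_4 clos_11_5 clos_11_6 clos_11_7 clos_11_8
  · exact ninths _ clos_12_0 clos_12_1 clos_12_2 clos_12_3 clos_12_4 clos_12_5 clos_12_6 clos_12_7 clos_12_8
  · exact ninths _ clos_13_0 clos_13_1 clos_13_2 clos_13_3 clos_13_4 clos_13_5 clos_13_6 clos_13_7 clos_13_8
  · exact ninths _ clos_14_0 clos_14_1 clos_14_2 clos_14_3 clos_14_4 clos_14_5 clos_14_6 clos_14_7 clos_14_8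
  · exact ninths _ clos_15_0 clos_15_1 clos_15_2 clos_15_3 clos_15_4 clos_15_5 clos_15_6 clos_15_7 clos_15_8
  · exact ninths _ clos_16_0 clos_16_1 clos_16_2 clos_16_3 clos_16_4 clos_16_5 clos_16_6 clos_16_7 clos_16_8
  · exact ninths _ clos_17_0 clos_17_1 clos_17_2 clos_17_3 clos_17_4 clos_17_5 clos_17_6 clos_17_7 clos_17_8
  · exact ninths _ clos_18_0 clos_18_1 clos_18_2 clos_18_3 clos_18_4 clos_18_5 clos_18_6 clos_18_7 clos_18_8
  · exact ninths _ clos_19_0 clos_19_1 clos_19_2 clos_19_3 clos_19_4 clos_19_5 clos_19_6 clos_19_7 clos_19_8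
  · exact ninths _ clos_20_0 clos_20_1 clos_20_2 clos_20_3 clos_20_4 clos_20_5 clos_20_6 clos_20_7 clos_20_8
  · exact ninths _ clos_21_0 clos_21_1 clos_21_2 clos_21_3 clos_21_4 clos_21_5 clos_21_6 clos_21_7 clos_21_8
  · exact ninths _ clos_22_0 clos_22_1 clos_22_2 clos_22_3 clos_22_4 clos_22_5 clos_22_6 clos_22_7 clos_22_8

theorem filt_chk0 : ∀ r < NR, filtOK r = true :=
  ninths _ filt_0 filt_1 filt_2 filt_3 filt_4 filt_5 filt_6 filt_7 filt_8

theorem filtm_chk0 : ∀ r < NR, filtOKm r = true :=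
  ninths _ filtm_0 filtm_1 filtm_2 filtm_3 filtm_4 filtm_5 filtm_6 filtm_7 filtm_8

/-- closed under conjugation -/
def CC (g : Pm) : Prop := ∀ t : Pm, InL t → InL (g * t * g⁻¹)

theorem cc_x : CC xP := by
  intro t h
  obtain ⟨r, hr, j, hj, ht⟩ := h
  by_cases h22 : j + 1 < 23
  · refine ⟨r, hr, j + 1, h22, ?_⟩
    have e : (xP ^ (j + 1))⁻¹ * (xP * t * xP⁻¹) * xP ^ (j + 1) = (xP ^ j)⁻¹ * t * xP ^ j := by
      rw [pow_succ]
      group
    rw [e]
    exact ht
  · have hj22 : j = 22 := by omega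
    subst hj22
    refine ⟨r, hr, 0, by norm_num, ?_⟩
    have e1 : (xP ^ 22)⁻¹ = xP := by
      symm
      apply eq_inv_of_mul_eq_one_left
      rw [← pow_succ']
      exact xP_pow23
    have e2 : xP⁻¹ = xP ^ 22 := (inv_eq_iff_eq_inv.1 e1).symm
    have e : (xP ^ 0)⁻¹ * (xP * t * xP⁻¹) * xP ^ 0 = (xP ^ 22)⁻¹ * t * xP ^ 22 := by
      rw [pow_zero, inv_one, one_mul, mul_one, e1, e2]
    rw [e]
    exact ht

theorem cc_y : CC yP := by
  intro t h
  obtain ⟨r, hr, j, hj, ht⟩ := h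
  have hc := clos_all j hj r hr
  unfold closOK at hc
  rw [force_eq, force_eq, force_eq, Bool.and_eq_true, Bool.and_eq_true, force_eq, force_eq,
    force_eq, allBelow_iff] at hc
  obtain ⟨⟨h1, h2⟩, hall⟩ := hc
  have hr2 : hint j r / 32 < NR := Eq.mp Nat.blt_eq h1
  have hj2 : hint j r % 32 < 23 := Eq.mp Nat.blt_eq h2
  refine ⟨hint j r / 32, hr2, hint j r % 32, hj2, ?_⟩
  have hw := acts_w j (hint j r % 32) hj hj2
  have hconj := acts_conj (d := Lc (hint j r / 32)) hw ht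
    (fun y hy => Nat.eq_of_beq_eq_true (hall y hy))
  have e : (xP ^ (hint j r % 32))⁻¹ * yP * xP ^ j * ((xP ^ j)⁻¹ * t * xP ^ j) *
      ((xP ^ (hint j r % 32))⁻¹ * yP * xP ^ j)⁻¹ =
      (xP ^ (hint j r % 32))⁻¹ * (yP * t * yP⁻¹) * xP ^ (hint j r % 32) := by
    group
  rw [e] at hconj
  exact hconj

theorem cc_one : CC 1 := by
  intro t h
  rw [one_mul, inv_one, mul_one]
  exact h

theorem cc_mul {g h : Pm} (hg : CC g) (hh : CC h) : CC (g * h) := by
  intro t ht
  have e : g * h * t * (g * h)⁻¹ = g * (h * t * h⁻¹) * g⁻¹ := by group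
  rw [e]
  exact hg _ (hh _ ht)

theorem cc_pow {g : Pm} (hg : CC g) (m : ℕ) : CC (g ^ m) := by
  induction m with
  | zero => rw [pow_zero]; exact cc_one
  | succ m ih => rw [pow_succ]; exact cc_mul ih hg

theorem cc_x_inv : CC xP⁻¹ := by
  have e : xP⁻¹ = xP ^ 22 := by
    symm
    apply eq_inv_of_mul_eq_one_left
    rw [← pow_succ]
    exact xP_pow23
  rw [e]
  exact cc_pow cc_x 22

theorem inL_conj (g : Pm) (hg : g ∈ G276) (t : Pm) (h : InL t) : InL (g * t * g⁻¹) := by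
  have key : CC g ∧ CC g⁻¹ := by
    unfold G276 at hg
    induction hg using Subgroup.closure_induction with
    | mem x hx =>
      obtain ⟨k, hk, rfl⟩ := hx
      interval_cases k
      · exact ⟨cc_x, cc_x_inv⟩
      · refine ⟨cc_y, ?_⟩
        have : (gp 1)⁻¹ = yP := yP_inv
        rw [this]
        exact cc_y
    | one =>
      rw [inv_one]
      exact ⟨cc_one, cc_one⟩
    | mul x y _ _ hx hy =>
      rw [mul_inv_rev]
      exact ⟨cc_mul hx.1 hy.1, cc_mul hy.2 hx.2⟩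
    | inv x _ hx =>
      rw [inv_inv]
      exact ⟨hx.2, hx.1⟩
  exact key.1 t h

theorem inL_y : InL yP := by
  refine ⟨IY, y_chk.2.2.2.2.2.2, 0, by norm_num, ?_⟩
  rw [pow_zero, inv_one, one_mul, mul_one, y_chk.2.2.2.2.1]
  exact acts_yP

/-! ### Syllable words and the relations -/

/-- the product of the syllables `x ^ e * t` -/
def relEl {M : Type*} [Monoid M] (x t : M) (E : List ℕ) : M := (E.map fun e => x ^ e * t).prod

theorem map_relEl {M N : Type*} [Monoid M] [Monoid N] (f : M →* N) (x t : M) (E : List ℕ) :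
    f (relEl x t E) = relEl (f x) (f t) E := by
  unfold relEl
  rw [map_list_prod, List.map_map]
  congr 1
  apply List.map_congr_left
  intro e _
  show f (x ^ e * t) = f x ^ e * f t
  rw [map_mul, map_pow]

theorem iterW_spec (x t : Pm) (c : ℕ) (hx : ∀ e < 23, Acts 276 (x ^ e) (XP e))
    (ht : Acts 276 t c) (E : List ℕ) (hE : ∀ e ∈ E, e < 23) (u : Fin 276) :
    (relEl x t E u).val = iterW c E u.val := by
  induction E with
  | nil => rfl
  | cons e E ih =>
    have e1 : relEl x t (e :: E) = x ^ e * t * relEl x t E := by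
      unfold relEl
      rw [List.map_cons, List.prod_cons]
    rw [e1]
    show ((x ^ e) (t (relEl x t E u))).val = tg (XP e) 9 (tg c 9 (iterW c E u.val))
    rw [hx e (hE e List.mem_cons_self), ht, ih (fun e' he' => hE e' (List.mem_cons_of_mem _ he'))]

theorem iterN_spec (x t : Pm) (c : ℕ) (hx : ∀ e < 23, Acts 276 (x ^ e) (XP e))
    (ht : Acts 276 t c) (E : List ℕ) (hE : ∀ e ∈ E, e < 23) (m : ℕ) (u : Fin 276) :
    ((relEl x t E ^ m) u).val = iterN c E m u.val := by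
  induction m with
  | zero => rfl
  | succ m ih =>
    rw [pow_succ']
    show (relEl x t E ((relEl x t E ^ m) u)).val = iterW c E (iterN c E m u.val)
    rw [iterW_spec x t c hx ht E hE, ih]

theorem powOK_iff (x t : Pm) (c : ℕ) (hx : ∀ e < 23, Acts 276 (x ^ e) (XP e))
    (ht : Acts 276 t c) (E : List ℕ) (hE : ∀ e ∈ E, e < 23) (m : ℕ) :
    powOK c E m = true ↔ relEl x t E ^ m = 1 := by
  unfold powOK
  rw [allBelow_iff]
  constructor
  · intro h
    apply Equiv.ext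
    intro u
    apply Fin.ext
    rw [iterN_spec x t c hx ht E hE m u]
    exact Nat.eq_of_beq_eq_true (h u.val u.2)
  · intro h p hp
    have := iterN_spec x t c hx ht E hE m ⟨p, hp⟩
    rw [h] at this
    rw [← this]
    exact Nat.beq_refl p

theorem relsOK_iff (x t : Pm) (c : ℕ) (hx : ∀ e < 23, Acts 276 (x ^ e) (XP e))
    (ht : Acts 276 t c) (R : List (List ℕ × ℕ)) (hR : ∀ r ∈ R, ∀ e ∈ r.1, e < 23) :
    relsOK c R = true ↔ ∀ r ∈ R, relEl x t r.1 ^ r.2 = 1 := by
  induction R with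
  | nil => simp [relsOK]
  | cons r R ih =>
    rw [relsOK, Bool.and_eq_true, powOK_iff x t c hx ht r.1 (hR r List.mem_cons_self) r.2,
      ih (fun r' hr' => hR r' (List.mem_cons_of_mem _ hr'))]
    simp

end Cfsg.Agent.Helper29.Co3X
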