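import Mathlib
import Cfsg.Agent.Lib.Helper29.Co3OutA
import Cfsg.Agent.Lib.Helper26.AutInner
import Cfsg.Agent.Lib.Helper29.Co3TwoA

set_option autoImplicit false
open Cfsg

/-! The automorphisms of the third Conway group on 276 points are inner. -/

namespace Cfsg.Agent.Helper29.Co3X

open Cfsg.Agent.Helper29.HSP (tg force force_eq allBelow allBelow_iff)
open Cfsg.Agent.Helper29.PN Cfsg.Agent.Helper29.Co3M
open Cfsg.Agent.Helper29.Co3XD Cfsg.Agent.Helper29.Co3T Cfsg.Agent.Helper29.DedCheck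
open Cfsg.Agent.Helper29.HSXG Cfsg.Agent.Helper29.Co3XG Cfsg.Agent.Helper26

theorem eq_of_acts_comp {a b a' b' : Pm} {A B A' B' : ℕ} (ha : Acts 276 a A) (hb : Acts 276 b B)
    (ha' : Acts 276 a' A') (hb' : Acts 276 b' B')
    (h : ∀ y < 276, tg A 9 (tg B 9 y) = tg A' 9 (tg B' 9 y)) : a * b = a' * b' := by
  apply Equiv.ext
  intro u
  apply Fin.ext
  show (a (b u)).val = (a' (b' u)).val
  rw [ha, hb, ha', hb', h u.val u.2]

theorem letters4 {c : ℕ} {w : List ℕ} (h : reprL 276 Co3D.PC c w = true) : ∀ l ∈ w, l < 4 := by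
  have := letters_of_reprL h
  rwa [PC_length] at this

/-! ### The elements -/

def xE : ↥G276 := ⟨xP, gp_mem 0 (by norm_num)⟩
def yE : ↥G276 := ⟨yP, gp_mem 1 (by norm_num)⟩
def nE : ↥G276 := ⟨evalW Wn, evalW_mem _ (letters4 wn_chk)⟩

theorem acts_nE : Acts 276 nE.val NC1 := acts_evalW wn_chk

theorem xE_pow23 : xE ^ 23 = 1 := by
  apply Subtype.ext
  rw [Subgroup.coe_pow]
  exact xP_pow23

theorem xE_ne_one : xE ≠ 1 := fun h => xP_ne_one (congrArg Subtype.val h)

theorem nE_conj : nE * xE * nE⁻¹ = xE ^ 2 := by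
  rw [mul_inv_eq_iff_eq_mul]
  apply Subtype.ext
  rw [Subgroup.coe_mul, Subgroup.coe_mul, Subgroup.coe_pow]
  exact eq_of_acts_comp acts_nE acts_xP (acts_xpow 2 (by norm_num)) acts_nE n_chk

theorem yE_sq : yE * yE = 1 := Subtype.ext yP_sq

theorem yE_ne_one : yE ≠ 1 := fun h => yP_ne_one (congrArg Subtype.val h)

theorem not_529_dvd : ¬ 529 ∣ Nat.card ↥G276 := by
  rw [card_G276]
  norm_num

/-- every automorphism moves `xE` to a conjugate of it or of its inverse -/
theorem stepA (φ : MulAut ↥G276) :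
    ∃ g : ↥G276, (MulAut.conj g * φ) xE = xE ∨ (MulAut.conj g * φ) xE = xE ^ 22 := by
  obtain ⟨g, hg⟩ := exists_conj_eq_of_twentythree xE nE xE_pow23 xE_ne_one not_529_dvd nE_conj φ
  refine ⟨g, ?_⟩
  rw [MulAut.mul_apply, MulAut.conj_apply]
  exact hg

/-! ### The central involution -/

theorem zE_eq : zE = yE := by
  apply Subtype.ext
  have h := acts_zE
  rw [y_chk.2.2.2.2.2.1] at h
  exact eq_of_acts h acts_yP

theorem yE_comm : ∀ s ∈ S2, yE * s = s * yE := by
  intro s hs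
  unfold S2 at hs
  induction hs using Subgroup.closure_induction with
  | mem g hg =>
    obtain ⟨c, hc, rfl⟩ := hg
    apply Subtype.ext
    rw [Subgroup.coe_mul, Subgroup.coe_mul]
    exact eq_of_acts_comp acts_yP (acts_xg c hc) (acts_xg c hc) acts_yP (zc_chk c hc)
  | one => rw [mul_one, one_mul]
  | mul a b _ _ ha hb => rw [← mul_assoc, ha, mul_assoc, hb, mul_assoc]
  | inv a _ ha =>
    have : a⁻¹ * (yE * a) * a⁻¹ = a⁻¹ * (a * yE) * a⁻¹ := by rw [ha]
    have e1 : a⁻¹ * (yE * a) * a⁻¹ = a⁻¹ * yE := by group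
    have e2 : a⁻¹ * (a * yE) * a⁻¹ = yE * a⁻¹ := by group
    rw [e1, e2] at this
    exact this.symm

theorem card_S2_pow : Nat.card ↥S2 = 2 ^ 10 := by
  rw [card_S2]
  norm_num

/-- the image of `yE` under an automorphism is in the list -/
theorem inL_image (φ : MulAut ↥G276) : InL (φ yE).val := by
  have hz : yE ∈ S2 := by rw [← zE_eq]; exact zE_mem
  obtain ⟨g, hg⟩ := exists_conj_eq_of_central S2 10 card_S2_pow not_dvd_index_S2 yE hz yE_ne_one
    yE_comm (fun g hg hc => by rw [← zE_eq]; exact center_S2 g hg hc) φ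
  have e : (φ yE).val = (g⁻¹).val * yP * ((g⁻¹).val)⁻¹ := by
    have h1 : φ yE = g⁻¹ * (g * φ yE * g⁻¹) * (g⁻¹)⁻¹ := by group
    rw [hg] at h1
    rw [h1, Subgroup.coe_mul, Subgroup.coe_mul, Subgroup.coe_inv]
    rfl
  rw [e]
  exact inL_conj _ (g⁻¹).2 _ inL_y

/-! ### The relations -/

theorem hRL : ∀ r ∈ RL, ∀ e ∈ r.1, e < 23 := by decide

theorem hRLm : ∀ r ∈ RLm, ∀ e ∈ r.1, e < 23 := by decide

theorem RLm_eq : RLm = RL.map fun r => (r.1.map fun e => 23 - e, r.2) := by decide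

theorem coe_relEl (x t : ↥G276) (E : List ℕ) : (relEl x t E).val = relEl x.val t.val E :=
  map_relEl G276.subtype x t E

theorem rel_y : ∀ r ∈ RL, relEl xE yE r.1 ^ r.2 = 1 := by
  intro r hr
  apply Subtype.ext
  rw [Subgroup.coe_pow, coe_relEl]
  exact (relsOK_iff xP yP YC acts_xpow acts_yP RL hRL).1 y_chk.2.2.1 r hr

theorem relEl_pow22 {M : Type*} [Monoid M] (x t : M) (hx : x ^ 23 = 1) (E : List ℕ)
    (hE : ∀ e ∈ E, e < 23) : relEl (x ^ 22) t E = relEl x t (E.map fun e => 23 - e) := by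
  unfold relEl
  rw [List.map_map]
  congr 1
  apply List.map_congr_left
  intro e he
  show (x ^ 22) ^ e * t = x ^ (23 - e) * t
  congr 1
  have h23 := hE e he
  rcases e with _ | e'
  · rw [pow_zero, Nat.sub_zero, hx]
  · rw [← pow_mul]
    have e1 : 22 * (e' + 1) = 23 * e' + (23 - (e' + 1)) := by omega
    rw [e1, pow_add, pow_mul, hx, one_pow, one_mul]

/-- conjugation by a power of `xE` of a syllable word -/
theorem relEl_conj (j : ℕ) (t : ↥G276) (E : List ℕ) :
    (xE ^ j)⁻¹ * relEl xE t E * xE ^ j = relEl xE ((xE ^ j)⁻¹ * t * xE ^ j) E := by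
  have h := map_relEl (MulAut.conj ((xE ^ j)⁻¹)).toMonoidHom xE t E
  rw [MulEquiv.coe_toMonoidHom, MulAut.conj_apply, MulAut.conj_apply, MulAut.conj_apply,
    inv_inv] at h
  rw [h]
  congr 1
  have : Commute (xE ^ j) xE := (Commute.refl xE).pow_left j
  calc (xE ^ j)⁻¹ * xE * xE ^ j = (xE ^ j)⁻¹ * (xE * xE ^ j) := by group
    _ = (xE ^ j)⁻¹ * (xE ^ j * xE) := by rw [this.eq]
    _ = xE := by group

theorem pow_conj_one {M : Type*} [Group M] (a b : M) (m : ℕ) (h : b ^ m = 1) :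
    (a⁻¹ * b * a) ^ m = 1 := by
  have : a⁻¹ * b * a = MulAut.conj a⁻¹ b := by rw [MulAut.conj_apply, inv_inv]
  rw [this, ← map_pow, h, map_one]

/-- an automorphism fixing `xE` is the conjugation by a power of it -/
theorem image_fix (φ : MulAut ↥G276) (hx : φ xE = xE) :
    ∃ j < 23, φ yE = xE ^ j * yE * (xE ^ j)⁻¹ := by
  obtain ⟨r, hr, j, hj, hact⟩ := inL_image φ
  have hval : ((xE ^ j)⁻¹ * φ yE * xE ^ j).val = (xP ^ j)⁻¹ * (φ yE).val * xP ^ j := by
    rw [Subgroup.coe_mul, Subgroup.coe_mul, Subgroup.coe_inv, Subgroup.coe_pow]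
    rfl
  have hrel : relsOK (Lc r) RL = true := by
    rw [relsOK_iff xP _ (Lc r) acts_xpow hact RL hRL]
    intro rr hrr
    have h3 : relEl xE (φ yE) rr.1 ^ rr.2 = 1 := by
      have : relEl xE (φ yE) rr.1 = φ (relEl xE yE rr.1) := by
        have := map_relEl φ.toMonoidHom xE yE rr.1
        rw [MulEquiv.coe_toMonoidHom, hx] at this
        exact this.symm
      rw [this, ← map_pow, rel_y rr hrr, map_one]
    have h4 := pow_conj_one (xE ^ j) _ rr.2 h3
    rw [relEl_conj] at h4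
    have h5 := congrArg Subtype.val h4
    rw [Subgroup.coe_pow, coe_relEl, hval] at h5
    exact h5
  have hf := filt_chk0 r hr
  unfold filtOK at hf
  rw [force_eq, Bool.or_eq_true] at hf
  rcases hf with hf | hf
  · exfalso
    rw [Bool.not_eq_true', hrel] at hf
    exact Bool.noConfusion hf
  · have hrIY : r = IY := Nat.eq_of_beq_eq_true hf
    rw [hrIY, y_chk.2.2.2.2.1] at hact
    have e1 : (xP ^ j)⁻¹ * (φ yE).val * xP ^ j = yP := eq_of_acts hact acts_yP
    refine ⟨j, hj, ?_⟩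
    have e2 : (xE ^ j)⁻¹ * φ yE * xE ^ j = yE := by
      apply Subtype.ext
      rw [hval, e1]
      rfl
    have e3 : φ yE = xE ^ j * ((xE ^ j)⁻¹ * φ yE * xE ^ j) * (xE ^ j)⁻¹ := by group
    rw [e2] at e3
    exact e3

/-- no automorphism inverts `xE` -/
theorem no_inverting (φ : MulAut ↥G276) (hx : φ xE = xE ^ 22) : False := by
  obtain ⟨r, hr, j, hj, hact⟩ := inL_image φ
  have hval : ((xE ^ j)⁻¹ * φ yE * xE ^ j).val = (xP ^ j)⁻¹ * (φ yE).val * xP ^ j := by
    rw [Subgroup.coe_mul, Subgroup.coe_mul, Subgroup.coe_inv, Subgroup.coe_pow]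
    rfl
  have hrel : relsOK (Lc r) RLm = true := by
    rw [relsOK_iff xP _ (Lc r) acts_xpow hact RLm hRLm, RLm_eq]
    intro r' hr'
    obtain ⟨rr, hrr, rfl⟩ := List.mem_map.1 hr'
    show relEl xP _ (rr.1.map fun e => 23 - e) ^ rr.2 = 1
    have h3 : relEl xE (φ yE) (rr.1.map fun e => 23 - e) ^ rr.2 = 1 := by
      have : relEl xE (φ yE) (rr.1.map fun e => 23 - e) = φ (relEl xE yE rr.1) := by
        have := map_relEl φ.toMonoidHom xE yE rr.1
        rw [MulEquiv.coe_toMonoidHom, hx, relEl_pow22 xE (φ yE) xE_pow23 rr.1 (hRL rr hrr)] at this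
        exact this.symm
      rw [this, ← map_pow, rel_y rr hrr, map_one]
    have h4 := pow_conj_one (xE ^ j) _ rr.2 h3
    rw [relEl_conj] at h4
    have h5 := congrArg Subtype.val h4
    rw [Subgroup.coe_pow, coe_relEl, hval] at h5
    exact h5
  have hf := filtm_chk0 r hr
  unfold filtOKm at hf
  rw [force_eq, Bool.not_eq_true', hrel] at hf
  exact Bool.noConfusion hf

/-! ### Generation -/

theorem closure_xy : Subgroup.closure ({xE, yE} : Set ↥G276) = ⊤ := by
  have h := Subgroup.closure_closure_coe_preimage (k := {g : Pm | ∃ k < 2, gp k = g})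
  have e : ((↑) : ↥(Subgroup.closure {g : Pm | ∃ k < 2, gp k = g}) → Pm) ⁻¹'
      {g : Pm | ∃ k < 2, gp k = g} = ({xE, yE} : Set ↥G276) := by
    ext g
    constructor
    · rintro ⟨k, hk, hg⟩
      interval_cases k
      · left
        exact Subtype.ext hg.symm
      · right
        exact Subtype.ext hg.symm
    · rintro (rfl | rfl)
      · exact ⟨0, by norm_num, rfl⟩
      · exact ⟨1, by norm_num, rfl⟩
  rw [e] at h
  exact h

theorem aut_ext {φ ψ : MulAut ↥G276} (hx : φ xE = ψ xE) (hy : φ yE = ψ yE) : φ = ψ := by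
  have key : φ.toMonoidHom = ψ.toMonoidHom := by
    apply MonoidHom.eq_of_eqOn_dense closure_xy
    rintro x (rfl | rfl)
    · exact hx
    · exact hy
  exact MulEquiv.ext (fun x => DFunLike.congr_fun key x)

/-! ### Every automorphism is inner -/

theorem aut_inner (φ : MulAut ↥G276) : ∃ g : ↥G276, φ = MulAut.conj g := by
  obtain ⟨g1, hx⟩ := stepA φ
  obtain ⟨ψ, hψ⟩ : ∃ ψ : MulAut ↥G276, ψ = MulAut.conj g1 * φ := ⟨_, rfl⟩
  rw [← hψ] at hx
  rcases hx with hx | hx
  swap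
  · exact (no_inverting ψ hx).elim
  have hφ : φ = MulAut.conj g1⁻¹ * ψ := by
    rw [hψ, map_inv]
    group
  obtain ⟨j, _, hy⟩ := image_fix ψ hx
  have hψ2 : ψ = MulAut.conj (xE ^ j) := by
    apply aut_ext
    · rw [hx, MulAut.conj_apply]
      have : Commute (xE ^ j) xE := (Commute.refl xE).pow_left j
      rw [this.eq]
      group
    · rw [hy, MulAut.conj_apply]
  exact ⟨g1⁻¹ * xE ^ j, by rw [hφ, hψ2, map_mul]⟩

theorem card_Out_G276 : Nat.card (Cfsg.Out ↥G276) = 1 := AutInner.card_Out_eq_one aut_inner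

/-! ### Transport to the Conway group -/

theorem card_Out_congr_Co3 {Γ Δ : Type*} [Group Γ] [Group Δ] (e : Γ ≃* Δ) :
    Nat.card (Cfsg.Out Γ) = Nat.card (Cfsg.Out Δ) := by
  have hmap : (Cfsg.Inn Γ).map (MulAut.congr e).toMonoidHom = Cfsg.Inn Δ := by
    ext ψ
    constructor
    · rintro ⟨φ, ⟨g, rfl⟩, rfl⟩
      refine ⟨e g, ?_⟩
      ext x
      simp [MulAut.congr, MulAut.conj_apply]
    · rintro ⟨d, rfl⟩
      refine ⟨MulAut.conj (e.symm d), ⟨e.symm d, rfl⟩, ?_⟩
      ext x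
      simp [MulAut.congr, MulAut.conj_apply]
  exact Nat.card_congr
    (QuotientGroup.congr (Cfsg.Inn Γ) (Cfsg.Inn Δ) (MulAut.congr e) hmap).toEquiv

/-- **The outer automorphism group of the third Conway group is trivial.** -/
theorem card_Out_Co3 : Nat.card (Cfsg.Out ↥Cfsg.Spor.Co3) = 1 := by
  obtain ⟨e⟩ := iso_Co3
  rw [← card_Out_congr_Co3 e]
  exact card_Out_G276

end Cfsg.Agent.Helper29.Co3X
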