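import Mathlib
import Cfsg.Agent.Lib.Helper29.Co3OddC
import Cfsg.Agent.Lib.Helper29.Co3MulB
import Cfsg.Agent.Lib.Helper25.StemPrimeQ
import Cfsg.Agent.Lib.Helper20.Schur
import Cfsg.Agent.Lib.Helper11.SchurTransport

set_option autoImplicit false
open Cfsg

/-! Every finite stem extension of the third Conway group is an isomorphism. -/

namespace Cfsg.Agent.Helper29.Co3Sch

open Cfsg.Agent.Helper29.Co3M Cfsg.Agent.Helper29.Co3Od Cfsg.Agent.Helper29.Co3Mu
open Cfsg.Agent.Helper29.StemSylow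
open Cfsg.Agent.Helper29.HST (ker_eq_bot_of_local2)
open scoped commutatorElement

universe u

theorem not_sq_dvd (p : ℕ) (hp : p.Prime) (h2 : p ≠ 2) (h3 : p ≠ 3) (h5 : p ≠ 5) :
    ¬ p ^ 2 ∣ 495766656000 := by
  intro hd
  have h1 : p ∣ 2 ^ 10 * 3 ^ 7 * 5 ^ 3 * 7 * 11 * 23 :=
    (dvd_pow_self p (by norm_num)).trans hd
  have hcases : p = 7 ∨ p = 11 ∨ p = 23 := by
    rcases (Nat.Prime.dvd_mul hp).1 h1 with h | h
    · rcases (Nat.Prime.dvd_mul hp).1 h with h | h
      · rcases (Nat.Prime.dvd_mul hp).1 h with h | h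
        · rcases (Nat.Prime.dvd_mul hp).1 h with h | h
          · rcases (Nat.Prime.dvd_mul hp).1 h with h | h
            · exact absurd ((Nat.prime_dvd_prime_iff_eq hp Nat.prime_two).1
                (hp.dvd_of_dvd_pow h)) h2
            · exact absurd ((Nat.prime_dvd_prime_iff_eq hp Nat.prime_three).1
                (hp.dvd_of_dvd_pow h)) h3
          · exact absurd ((Nat.prime_dvd_prime_iff_eq hp (by norm_num)).1
              (hp.dvd_of_dvd_pow h)) h5
        · left; exact (Nat.prime_dvd_prime_iff_eq hp (by norm_num)).1 h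
      · right; left; exact (Nat.prime_dvd_prime_iff_eq hp (by norm_num)).1 h
    · right; right; exact (Nat.prime_dvd_prime_iff_eq hp (by norm_num)).1 h
  have e7 : ¬ (7 : ℕ) ^ 2 ∣ 495766656000 := by norm_num
  have e11 : ¬ (11 : ℕ) ^ 2 ∣ 495766656000 := by norm_num
  have e23 : ¬ (23 : ℕ) ^ 2 ∣ 495766656000 := by norm_num
  rcases hcases with h' | h' | h'
  · rw [h'] at hd; exact e7 hd
  · rw [h'] at hd; exact e11 hd
  · rw [h'] at hd; exact e23 hd

/-- the local statement for all odd primes -/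
theorem local_odd {Γ : Type*} [Group Γ] (σ : Γ →* ↥G276) (hs : Function.Surjective σ)
    (hK : σ.ker ≤ Subgroup.center Γ) (p : ℕ) (hp : p.Prime) (h2 : p ≠ 2) :
    ∃ Q : Subgroup ↥G276, ¬ p ∣ Q.index ∧
      ∀ k ∈ ⁅Q.comap σ, Q.comap σ⁆, k ∈ σ.ker → k = 1 := by
  have : Finite ↥G276 := finite_G276
  by_cases h3 : p = 3
  · subst h3
    exact local3 σ hs hK
  by_cases h5 : p = 5
  · subst h5
    exact local5 σ hs hK
  · apply local_of_not_sq_dvd σ hs hK p hp
    rw [card_G276]
    exact not_sq_dvd p hp h2 h3 h5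

/-- no stem extension has a kernel of prime order -/
theorem prime_contra {Γ : Type u} [Group Γ] [Finite Γ] (σ : Γ →* ↥G276)
    (hσ : Cfsg.IsStemExtension σ) (hp : (Nat.card σ.ker).Prime) : False := by
  have : Finite ↥G276 := finite_G276
  by_cases h2 : Nat.card σ.ker = 2
  · exact core_two σ hσ h2
  · obtain ⟨hs, hK, hK'⟩ := hσ
    have hbot : σ.ker = ⊥ := by
      apply ker_eq_bot_of_local2 σ hs hK hK'
      intro p hpp hpd
      have hpe : p = Nat.card σ.ker := (Nat.prime_dvd_prime_iff_eq hpp hp).1 hpd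
      exact local_odd σ hs hK p hpp (by rw [hpe]; exact h2)
    rw [hbot, Subgroup.card_bot] at hp
    exact Nat.not_prime_one hp

/-- every finite stem extension of the model is an isomorphism -/
theorem ker_eq_bot (Γ : Type u) [Group Γ] [Finite Γ] (σ : Γ →* ↥G276)
    (hσ : Cfsg.IsStemExtension σ) : σ.ker = ⊥ := by
  by_contra hne
  obtain ⟨Γ', _, _, σ', π, hσ', hp, hπ, _⟩ :=
    Cfsg.Agent.Helper25.StemPrimeQ.exists_prime_stem_quotient σ hσ ⊥ bot_le (Ne.symm hne)
  exact prime_contra σ' hσ' hp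

theorem schur_G276 : Cfsg.HasCyclicSchurMultiplier ↥G276 1 := by
  have : Finite ↥G276 := finite_G276
  exact Cfsg.Agent.Helper20.hasCyclicSchurMultiplier_one_of_forall_ker_eq_bot ↥G276
    (fun Γ _ _ σ hσ => ker_eq_bot Γ σ hσ)

theorem schur_Co3 : Cfsg.HasCyclicSchurMultiplier ↥Cfsg.Spor.Co3 1 := by
  obtain ⟨e⟩ := iso_Co3
  exact Cfsg.Agent.Helper11.SchurTransport.hasSchurMultiplier_of_mulEquiv e.symm schur_G276

end Cfsg.Agent.Helper29.Co3Sch
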