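import Cfsg.Agent.Lib.Helper29.J2GDefs

/-! Kernel-evaluated checks for the Hall-Janko group on 315 points (generated). -/

set_option autoImplicit false

namespace Cfsg.Agent.Helper29.J2K

open Cfsg.Agent.Helper26 Cfsg.Agent.Helper29.PP9 Cfsg.Agent.Helper29.J2D Cfsg.Agent.Helper29.J2C

theorem sch0_all' : allB 315 (schOK 0) = true := by decide +kernel
theorem sch1_all' : allB 315 (schOK 1) = true := by decide +kernel
theorem x1_eq : X1P = pmul 315 (pmul 315 GP0 GP1) GP2 := by decide +kernel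
theorem x2_eq : X2P = pmul 315 (pmul 315 GP0 GP2) GP3 := by decide +kernel
theorem pow_x1 : pmul 315 (pmul 315 (pmul 315 (pmul 315 (pmul 315 (pmul 315 X1P X1P) X1P) X1P) X1P) X1P) X1P = pid 315 := by
  decide +kernel
theorem pow_x2 : pmul 315 (pmul 315 (pmul 315 (pmul 315 (pmul 315 (pmul 315 X2P X2P) X2P) X2P) X2P) X2P) X2P = pid 315 := by
  decide +kernel

end Cfsg.Agent.Helper29.J2K
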