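import Cfsg.Agent.Lib.Helper29.J2GDefs

/-! Kernel-evaluated checks for the Hall-Janko group on 315 points (generated). -/

set_option autoImplicit false

namespace Cfsg.Agent.Helper29.J2K

open Cfsg.Agent.Helper26 Cfsg.Agent.Helper29.PP9 Cfsg.Agent.Helper29.J2D Cfsg.Agent.Helper29.J2C

theorem usch0_2 : allR 960 480 (uschOK 0) = true := by decide +kernel

end Cfsg.Agent.Helper29.J2K
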