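import Cfsg.Agent.Lib.Helper29.J2GChkUT0
import Cfsg.Agent.Lib.Helper29.J2GChkUT1
import Cfsg.Agent.Lib.Helper29.J2GChkUT2
import Cfsg.Agent.Lib.Helper29.J2GChkUT3
import Cfsg.Agent.Lib.Helper29.J2GChkUA0
import Cfsg.Agent.Lib.Helper29.J2GChkUA1
import Cfsg.Agent.Lib.Helper29.J2GChkUA2
import Cfsg.Agent.Lib.Helper29.J2GChkUA3
import Cfsg.Agent.Lib.Helper29.J2GChkUB0
import Cfsg.Agent.Lib.Helper29.J2GChkUB1
import Cfsg.Agent.Lib.Helper29.J2GChkUB2
import Cfsg.Agent.Lib.Helper29.J2GChkUB3
import Cfsg.Agent.Lib.Helper29.J2GChkX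
import Cfsg.Agent.Lib.Helper29.J2GChkS

/-! Summary of the kernel-evaluated checks for the Hall-Janko group on 315 points. -/

set_option autoImplicit false

namespace Cfsg.Agent.Helper29.J2K

open Cfsg.Agent.Helper26 Cfsg.Agent.Helper29.PP9 Cfsg.Agent.Helper29.J2D Cfsg.Agent.Helper29.J2C

theorem utree_all : ∀ i, 1 ≤ i → i < 1920 → utreeOK i = true := by
  intro i h1 h2
  by_cases c0 : i < 480
  · exact allR_true utree_0 i (by omega) (by omega)
  by_cases c1 : i < 960
  · exact allR_true utree_1 i (by omega) (by omega)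
  by_cases c2 : i < 1440
  · exact allR_true utree_2 i (by omega) (by omega)
  · exact allR_true utree_3 i (by omega) (by omega)

theorem usch0_all : ∀ i, i < 1920 → uschOK 0 i = true := by
  intro i h2
  by_cases c0 : i < 480
  · exact allR_true usch0_0 i (by omega) (by omega)
  by_cases c1 : i < 960
  · exact allR_true usch0_1 i (by omega) (by omega)
  by_cases c2 : i < 1440
  · exact allR_true usch0_2 i (by omega) (by omega)
  · exact allR_true usch0_3 i (by omega) (by omega)

theorem usch1_all : ∀ i, i < 1920 → uschOK 1 i = true := by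
  intro i h2
  by_cases c0 : i < 480
  · exact allR_true usch1_0 i (by omega) (by omega)
  by_cases c1 : i < 960
  · exact allR_true usch1_1 i (by omega) (by omega)
  by_cases c2 : i < 1440
  · exact allR_true usch1_2 i (by omega) (by omega)
  · exact allR_true usch1_3 i (by omega) (by omega)

end Cfsg.Agent.Helper29.J2K
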