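import Cfsg.Agent.Lib.Helper29.J2Tab

/-! Kernel-evaluated check of the permutation table of a reflection (generated). -/

set_option autoImplicit false

namespace Cfsg.Agent.Helper29.J2

open Cfsg.Agent.Helper26 Cfsg.Agent.Helper29.J2D

theorem tab_chk2 : allB 315 (tabOK 19 GP2 UT2) = true := by decide +kernel

end Cfsg.Agent.Helper29.J2
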