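import Mathlib
import Cfsg.Agent.Lib.Helper26.Schreier2
import Cfsg.Agent.Lib.Helper29.J2GChk
import Cfsg.Agent.Lib.Helper29.J2TabC0
import Cfsg.Agent.Lib.Helper29.J2TabC1
import Cfsg.Agent.Lib.Helper29.J2TabC2
import Cfsg.Agent.Lib.Helper29.J2TabC3

/-!
# The Hall-Janko group as a group of permutations of the 315 reflections: order 604800
-/

set_option autoImplicit false

namespace Cfsg.Agent.Helper29.J2G

open Cfsg.Spor
open Cfsg.Agent.Helper26 Cfsg.Agent.Helper29.PP9 Cfsg.Agent.Helper29.J2D
  Cfsg.Agent.Helper29.J2C Cfsg.Agent.Helper29.J2K Cfsg.Agent.Helper29.J2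

/-- The ambient symmetric group. -/
abbrev A : Type := Equiv.Perm (Fin 315)

/-- The underlying map of a permutation. -/
def val : A →* Function.End (Fin 315) where
  toFun σ := (σ : Fin 315 → Fin 315)
  map_one' := rfl
  map_mul' _ _ := rfl

theorem val_apply (σ : A) (x : Fin 315) : val σ x = σ x := rfl

theorem val_inj : Function.Injective val := fun _ _ h => Equiv.ext (congrFun h)

/-- Decoding. -/
def d315 (P : ℕ) : Function.End (Fin 315) := dec 315 P

theorem d_mul (P Q : ℕ) : d315 (pmul 315 P Q) = d315 P * d315 Q := dec_pmul 315 P Q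

theorem d_one : d315 (pid 315) = 1 := dec_pid 315 (by norm_num)

theorem d_apply (P : ℕ) (x : Fin 315) : (d315 P x).val = ent P x.val % 315 := rfl

/-! ### The generators -/

/-- The reflections as elements of the group. -/
noncomputable def rhoE (a : ℕ) (ha : a < 315) : twoJ2 := ⟨rho ⟨a, ha⟩, rho_mem _⟩

theorem psi_rho_val {a P T : ℕ} (ha : a < 315) (h : allB 315 (tabOK a P T) = true) :
    val (psi (rhoE a ha)) = d315 P := by
  funext j
  apply Fin.ext
  rw [val_apply, d_apply]
  have e := tabOK_spec ha h j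
  have e' : (psi (rhoE a ha) j).val = ent P j.val := e
  rw [e']
  have hlt : ent P j.val < 315 := by rw [← e']; exact (psi (rhoE a ha) j).isLt
  exact (Nat.mod_eq_of_lt hlt).symm

/-- First generator. -/
noncomputable def x1L : twoJ2 :=
  rhoE 0 (by norm_num) * rhoE 165 (by norm_num) * rhoE 19 (by norm_num)
/-- Second generator. -/
noncomputable def x2L : twoJ2 :=
  rhoE 0 (by norm_num) * rhoE 19 (by norm_num) * rhoE 63 (by norm_num)

theorem val_x1 : val (psi x1L) = d315 X1P := by
  unfold x1L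
  rw [map_mul, map_mul, map_mul, map_mul, psi_rho_val _ tab_chk0, psi_rho_val _ tab_chk1,
    psi_rho_val _ tab_chk2, ← d_mul, ← d_mul, ← x1_eq]

theorem val_x2 : val (psi x2L) = d315 X2P := by
  unfold x2L
  rw [map_mul, map_mul, map_mul, map_mul, psi_rho_val _ tab_chk0, psi_rho_val _ tab_chk2,
    psi_rho_val _ tab_chk3, ← d_mul, ← d_mul, ← x2_eq]

/-- The two generators upstairs. -/
noncomputable def genL (g : ℕ) : twoJ2 := cond (Nat.beq g 0) x1L x2L

/-- The two generators. -/
noncomputable def gen (g : ℕ) : A := psi (genL g)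

theorem gen_val (g : ℕ) : val (gen g) = d315 (gP g) := by
  unfold gen genL gP
  cases h : Nat.beq g 0
  · exact val_x2
  · exact val_x1

/-- The generating set. -/
def SG : Set A := {psi x1L, psi x2L}

theorem gen_mem (g : ℕ) : gen g ∈ Subgroup.closure SG := by
  unfold gen genL SG
  cases h : Nat.beq g 0
  · exact Subgroup.subset_closure (by simp)
  · exact Subgroup.subset_closure (by simp)

theorem mem_SG {g : A} (hg : g ∈ SG) : ∃ s < 2, g = gen s := by
  rcases hg with rfl | rfl
  · exact ⟨0, by norm_num, rfl⟩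
  · exact ⟨1, by norm_num, rfl⟩

/-- The straight-line elements upstairs. -/
noncomputable def eL : ℕ → twoJ2
  | i => if _h : 0 < i ∧ PAR i < i then genL (LAB i) * eL (PAR i) else 1
termination_by i => i
decreasing_by exact _h.2

/-- The straight-line elements. -/
noncomputable def E (i : ℕ) : A := psi (eL i)

theorem eL_zero : eL 0 = 1 := by
  rw [eL]; simp

theorem eL_step (i : ℕ) (h1 : 0 < i) (h2 : PAR i < i) : eL i = genL (LAB i) * eL (PAR i) := by
  rw [eL]; simp [h1, h2]

theorem E_zero : E 0 = 1 := by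
  unfold E; rw [eL_zero, map_one]

theorem E_step (i : ℕ) (h1 : 0 < i) (h2 : PAR i < i) : E i = gen (LAB i) * E (PAR i) := by
  unfold E gen; rw [eL_step i h1 h2, map_mul]

theorem E_mem (i : ℕ) : E i ∈ Subgroup.closure SG := by
  induction i using Nat.strong_induction_on with
  | _ i ih =>
    by_cases h : 0 < i ∧ PAR i < i
    · rw [E_step i h.1 h.2]
      exact Subgroup.mul_mem _ (gen_mem _) (ih _ h.2)
    · unfold E
      rw [eL]; simp only [h, dite_false]; rw [map_one]; exact Subgroup.one_mem _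

theorem treeOK_spec {i : ℕ} (h1 : 1 ≤ i) (h2 : i < nE) :
    PAR i < i ∧ TT i = pmul 315 (gP (LAB i)) (TT (PAR i)) := by
  have h := allR_true tree_all' i h1 (by have : i < 324 := h2; omega)
  unfold treeOK at h
  rw [Bool.and_eq_true, pmF_eq] at h
  exact ⟨blt_lt h.1, Nat.eq_of_beq_eq_true h.2⟩

theorem E_val (i : ℕ) (hi : i < nE) : val (E i) = d315 (TT i) := by
  induction i using Nat.strong_induction_on with
  | _ i ih =>
    rcases Nat.eq_zero_or_pos i with h0 | h0
    · rw [h0, E_zero, TT_zero, d_one, map_one]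
    · obtain ⟨hp, heq⟩ := treeOK_spec h0 hi
      rw [E_step i h0 hp, map_mul, gen_val, ih _ hp (lt_trans hp hi), heq, d_mul]

/-! ### Validity of the codes -/

theorem validOK_spec {P : ℕ} (h : validOK P = true) : ∀ i < 315, ent P i < 315 := by
  intro i hi
  exact blt_lt (allB_true h i hi)

theorem gP_valid (g : ℕ) : ∀ i < 315, ent (gP g) i < 315 := by
  unfold gP
  cases h : Nat.beq g 0
  · exact validOK_spec valid_x2
  · exact validOK_spec valid_x1

theorem TT_canon (i : ℕ) (hi : i < nE) : Canon 315 (TT i) := by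
  rcases Nat.eq_zero_or_pos i with h0 | h0
  · rw [h0, TT_zero]; exact canon_pid 315 (by norm_num)
  · rw [(treeOK_spec h0 hi).2]
    exact canon_pmul 315 _ _ (gP_valid _) (by norm_num)

/-! ### The point stabilizer -/

/-- The two generators of the point stabilizer, upstairs. -/
noncomputable def hgenL (s : ℕ) : twoJ2 := cond (Nat.beq s 0) (eL idx_h1) (eL idx_h2)

/-- The two generators of the point stabilizer. -/
noncomputable def hgen (s : ℕ) : A := psi (hgenL s)

theorem hgen_eq (s : ℕ) : hgen s = cond (Nat.beq s 0) (E idx_h1) (E idx_h2) := by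
  unfold hgen hgenL E
  cases Nat.beq s 0 <;> rfl

theorem hgen_val (s : ℕ) : val (hgen s) = d315 (hP s) := by
  rw [hgen_eq]
  unfold hP
  cases h : Nat.beq s 0
  · exact E_val idx_h2 (by decide)
  · exact E_val idx_h1 (by decide)

theorem hP_valid (s : ℕ) : ∀ i < 315, ent (hP s) i < 315 := by
  unfold hP
  cases h : Nat.beq s 0
  · exact (TT_canon idx_h2 (by decide)).2
  · exact (TT_canon idx_h1 (by decide)).2

/-- The generating set of the point stabilizer. -/
def SH : Set A := {E idx_h1, E idx_h2}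

theorem hgen_mem (s : ℕ) : hgen s ∈ Subgroup.closure SH := by
  rw [hgen_eq]
  unfold SH
  cases h : Nat.beq s 0
  · exact Subgroup.subset_closure (by simp)
  · exact Subgroup.subset_closure (by simp)

theorem mem_SH {g : A} (hg : g ∈ SH) : ∃ s < 2, g = hgen s := by
  rcases hg with rfl | rfl
  · exact ⟨0, by norm_num, by rw [hgen_eq]; rfl⟩
  · exact ⟨1, by norm_num, by rw [hgen_eq]; rfl⟩

/-- The elements of the point stabilizer, upstairs. -/
noncomputable def uL : ℕ → twoJ2
  | k => if _h : 0 < k ∧ UPAR k < k then hgenL (ULAB k) * uL (UPAR k) else 1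
termination_by k => k
decreasing_by exact _h.2

/-- The elements of the point stabilizer. -/
noncomputable def U (k : ℕ) : A := psi (uL k)

theorem uL_zero : uL 0 = 1 := by
  rw [uL]; simp

theorem uL_step (k : ℕ) (h1 : 0 < k) (h2 : UPAR k < k) :
    uL k = hgenL (ULAB k) * uL (UPAR k) := by
  rw [uL]; simp [h1, h2]

theorem U_zero : U 0 = 1 := by
  unfold U; rw [uL_zero, map_one]

theorem U_step (k : ℕ) (h1 : 0 < k) (h2 : UPAR k < k) : U k = hgen (ULAB k) * U (UPAR k) := by
  unfold U hgen; rw [uL_step k h1 h2, map_mul]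

theorem U_mem (k : ℕ) : U k ∈ Subgroup.closure SH := by
  induction k using Nat.strong_induction_on with
  | _ k ih =>
    by_cases h : 0 < k ∧ UPAR k < k
    · rw [U_step k h.1 h.2]
      exact Subgroup.mul_mem _ (hgen_mem _) (ih _ h.2)
    · unfold U
      rw [uL]; simp only [h, dite_false]; rw [map_one]; exact Subgroup.one_mem _

theorem utreeOK_spec {k : ℕ} (h1 : 1 ≤ k) (h2 : k < J2D.nH) :
    UPAR k < k ∧ UU k = pmul 315 (hP (ULAB k)) (UU (UPAR k)) := by
  have h := utree_all k h1 h2
  unfold utreeOK at h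
  rw [Bool.and_eq_true, pmF_eq] at h
  exact ⟨blt_lt h.1, Nat.eq_of_beq_eq_true h.2⟩

theorem U_val (k : ℕ) (hk : k < J2D.nH) : val (U k) = d315 (UU k) := by
  induction k using Nat.strong_induction_on with
  | _ k ih =>
    rcases Nat.eq_zero_or_pos k with h0 | h0
    · rw [h0, U_zero, UU_zero, d_one, map_one]
    · obtain ⟨hp, heq⟩ := utreeOK_spec h0 hk
      rw [U_step k h0 hp, map_mul, hgen_val, ih _ hp (lt_trans hp hk), heq, d_mul]

theorem UU_canon (k : ℕ) (hk : k < J2D.nH) : Canon 315 (UU k) := by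
  rcases Nat.eq_zero_or_pos k with h0 | h0
  · rw [h0, UU_zero]; exact canon_pid 315 (by norm_num)
  · rw [(utreeOK_spec h0 hk).2]
    exact canon_pmul 315 _ _ (hP_valid _) (by norm_num)

theorem uschOK_spec (s : ℕ) (hs : s < 2) {k : ℕ} (hk : k < J2D.nH) :
    utau s k < J2D.nH ∧ pmul 315 (hP s) (UU k) = UU (utau s k) := by
  have h : uschOK s k = true := by
    interval_cases s
    · exact usch0_all k hk
    · exact usch1_all k hk
  unfold uschOK at h
  rw [Bool.and_eq_true, pmF_eq] at h
  exact ⟨blt_lt h.1, Nat.eq_of_beq_eq_true h.2⟩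

theorem UPI_spec (k : ℕ) (hk : k < J2D.nH) : UPI k < J2D.nH ∧ UPINV (UPI k) = k := by
  have h := allB_true ukey_all' k hk
  unfold ukeyOK at h
  rw [Bool.and_eq_true] at h
  exact ⟨blt_lt h.1, Nat.eq_of_beq_eq_true h.2⟩

theorem usorted_step (m : ℕ) (hm : m + 1 < J2D.nH) : UU (UPINV m) < UU (UPINV (m + 1)) := by
  have h := allB_true usort_all' m (by have : m + 1 < 1920 := hm; omega)
  exact blt_lt h

theorem usorted_lt {m m' : ℕ} (h : m < m') (hm' : m' < J2D.nH) :
    UU (UPINV m) < UU (UPINV m') := by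
  induction m' with
  | zero => exact absurd h (Nat.not_lt_zero m)
  | succ k ih =>
    rcases Nat.lt_succ_iff_lt_or_eq.1 h with h1 | h1
    · exact lt_trans (ih h1 (by omega)) (usorted_step k hm')
    · rw [h1]; exact usorted_step k hm'

theorem UU_inj {i j : ℕ} (hi : i < J2D.nH) (hj : j < J2D.nH) (h : UU i = UU j) : i = j := by
  obtain ⟨hi1, hi2⟩ := UPI_spec i hi
  obtain ⟨hj1, hj2⟩ := UPI_spec j hj
  have hk : UU (UPINV (UPI i)) = UU (UPINV (UPI j)) := by rw [hi2, hj2, h]
  have : UPI i = UPI j := by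
    rcases Nat.lt_trichotomy (UPI i) (UPI j) with h1 | h1 | h1
    · exact absurd hk (ne_of_lt (usorted_lt h1 hj1))
    · exact h1
    · exact absurd hk.symm (ne_of_lt (usorted_lt h1 hi1))
  rw [← hi2, ← hj2, this]

theorem U_inj : ∀ i < J2D.nH, ∀ j < J2D.nH, U i = U j → i = j := by
  intro i hi j hj h
  apply UU_inj hi hj
  apply dec_inj (UU_canon i hi) (UU_canon j hj)
  show d315 (UU i) = d315 (UU j)
  rw [← U_val i hi, ← U_val j hj, h]

theorem U_step_gen (s : ℕ) (hs : s < 2) {k : ℕ} (hk : k < J2D.nH) :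
    utau s k < J2D.nH ∧ hgen s * U k = U (utau s k) := by
  obtain ⟨h1, h2⟩ := uschOK_spec s hs hk
  refine ⟨h1, val_inj ?_⟩
  rw [map_mul, hgen_val, U_val k hk, U_val _ h1, ← d_mul, h2]

/-- The point stabilizer has order 1920 and consists of the `U k`. -/
theorem level2 : (∀ k ∈ Subgroup.closure SH, ∃ i < J2D.nH, k = U i) ∧
    Nat.card (Subgroup.closure SH) = J2D.nH := by
  apply schreier_list SH J2D.nH U (by decide) U_zero (fun i _ => U_mem i) U_inj
  intro g hg i hi
  obtain ⟨s, hs, rfl⟩ := mem_SH hg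
  exact ⟨utau s i, (U_step_gen s hs hi).1, (U_step_gen s hs hi).2⟩

theorem H_le : Subgroup.closure SH ≤ Subgroup.closure SG := by
  rw [Subgroup.closure_le]
  intro g hg
  rcases hg with rfl | rfl
  · exact E_mem _
  · exact E_mem _

/-- The stabilizer elements fix the point `0`. -/
theorem U_fix (k : ℕ) (hk : k < J2D.nH) : U k 0 = 0 := by
  have h := allB_true ufix_all' k hk
  unfold ufixOK at h
  have h' : ent (UU k) 0 = 0 := Nat.eq_of_beq_eq_true h
  apply Fin.ext
  have e : (val (U k) 0).val = ent (UU k) 0 % 315 := by rw [U_val k hk]; rfl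
  rw [val_apply] at e
  rw [e, h']
  rfl

theorem PT_lt (i : ℕ) (hi : i < nPts) : PT i < 315 := by
  have h := allB_true base_all' i hi
  unfold baseOK at h
  have h' : ent (TT i) 0 = PT i := Nat.eq_of_beq_eq_true h
  rw [← h']
  exact (TT_canon i (lt_trans hi (by decide))).2 0 (by norm_num)

/-- The transversal element of the node `i` maps `0` to the point `PT i`. -/
theorem E_base (i : ℕ) (hi : i < nPts) : (E i 0).val = PT i := by
  have h := allB_true base_all' i hi
  unfold baseOK at h
  have h' : ent (TT i) 0 = PT i := Nat.eq_of_beq_eq_true h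
  have e : (val (E i) 0).val = ent (TT i) 0 % 315 := by
    rw [E_val i (lt_trans hi (by decide))]; rfl
  rw [val_apply] at e
  rw [e, h']
  exact Nat.mod_eq_of_lt (PT_lt i hi)

theorem NODE_PT (i : ℕ) (hi : i < nPts) : NODE (PT i) = i :=
  Nat.eq_of_beq_eq_true (allB_true node_all' i hi)

theorem PT_NODE (p : ℕ) (hp : p < 315) : NODE p < nPts ∧ PT (NODE p) = p := by
  have h := allB_true pt_all' p hp
  unfold ptOK at h
  rw [Bool.and_eq_true] at h
  exact ⟨blt_lt h.1, Nat.eq_of_beq_eq_true h.2⟩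

theorem E_inj : ∀ i < nPts, ∀ j < nPts, (E j)⁻¹ * E i ∈ Subgroup.closure SH → i = j := by
  intro i hi j hj h
  obtain ⟨k, hk, hk2⟩ := level2.1 _ h
  have hE : E i = E j * U k := by rw [← hk2, mul_inv_cancel_left]
  have h0 : E i 0 = E j 0 := by
    rw [hE, Equiv.Perm.mul_apply, U_fix k hk]
  have := congrArg Fin.val h0
  rw [E_base i hi, E_base j hj] at this
  rw [← NODE_PT i hi, ← NODE_PT j hj, this]

theorem schOK_spec (g : ℕ) (hg : g < 2) {i : ℕ} (hi : i < nPts) :
    tau g i < nPts ∧ sig g i < J2D.nH ∧ gen g * E i = E (tau g i) * U (sig g i) := by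
  have h : schOK g i = true := by
    interval_cases g
    · exact allB_true sch0_all' i hi
    · exact allB_true sch1_all' i hi
  unfold schOK at h
  rw [Bool.and_eq_true, Bool.and_eq_true, pmF_eq, pmF_eq] at h
  obtain ⟨⟨h1, h2⟩, h3⟩ := h
  have h1 := blt_lt h1
  have h2 := blt_lt h2
  refine ⟨h1, h2, val_inj ?_⟩
  rw [map_mul, map_mul, gen_val, E_val i (lt_trans hi (by decide)),
    E_val _ (lt_trans h1 (by decide)), U_val _ h2, ← d_mul, ← d_mul,
    Nat.eq_of_beq_eq_true h3]

/-- The coset decomposition and the order of the group. -/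
theorem level1 : (∀ k ∈ Subgroup.closure SG, ∃ i < nPts, ∃ h ∈ Subgroup.closure SH,
      k = E i * h) ∧
    Nat.card (Subgroup.closure SG) = nPts * Nat.card (Subgroup.closure SH) := by
  apply schreier_card SG (Subgroup.closure SH) nPts E (by decide) E_zero
    (fun i _ => E_mem i) E_inj H_le
  intro g hg i hi
  obtain ⟨s, hs, rfl⟩ := mem_SG hg
  obtain ⟨h1, h2, h3⟩ := schOK_spec s hs hi
  refine ⟨tau s i, h1, ?_⟩
  rw [mul_assoc, h3, ← mul_assoc, inv_mul_cancel, one_mul]
  exact U_mem _

/-- The group. -/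
def G : Subgroup A := Subgroup.closure SG

theorem card_G : Nat.card G = 604800 := by
  show Nat.card (Subgroup.closure SG) = 604800
  rw [level1.2, level2.2]; rfl

end Cfsg.Agent.Helper29.J2G
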