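import Mathlib
import Cfsg.Agent.Lib.Helper29.J2GCore

/-!
# The order of the reflection group and of the Hall-Janko group
-/

set_option autoImplicit false

namespace Cfsg.Agent.Helper29.J2G

open Cfsg.Spor
open Cfsg.Agent.Helper26 Cfsg.Agent.Helper29.PP9 Cfsg.Agent.Helper29.J2D
  Cfsg.Agent.Helper29.J2C Cfsg.Agent.Helper29.J2K Cfsg.Agent.Helper29.J2

/-- the node of a point -/
def nodeOf (p : Fin 315) : ℕ := NODE p.val

theorem nodeOf_lt (p : Fin 315) : nodeOf p < nPts := (PT_NODE p.val p.isLt).1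

theorem E_nodeOf (p : Fin 315) : E (nodeOf p) 0 = p := by
  apply Fin.ext
  rw [E_base _ (nodeOf_lt p)]
  exact (PT_NODE p.val p.isLt).2

/-- every reflection is conjugate to the first one -/
theorem rho_conj (p : Fin 315) :
    eL (nodeOf p) * rhoE 0 (by norm_num) * (eL (nodeOf p))⁻¹ = rhoE p.val p.isLt := by
  apply Subtype.ext
  have h := psi_spec (eL (nodeOf p)) 0
  have e : psi (eL (nodeOf p)) 0 = p := E_nodeOf p
  rw [e] at h
  exact h

theorem psi_rho0 : psi (rhoE 0 (by norm_num)) = U k0 := by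
  apply val_inj
  rw [psi_rho_val _ tab_chk0, U_val k0 (by decide), GP0_eq]

theorem psi_rho_mem (p : Fin 315) : psi (rhoE p.val p.isLt) ∈ G := by
  rw [← rho_conj p, map_mul, map_mul, map_inv, psi_rho0]
  exact Subgroup.mul_mem _ (Subgroup.mul_mem _ (E_mem _) (H_le (U_mem _)))
    (Subgroup.inv_mem _ (E_mem _))

theorem psi_mem (g : twoJ2) : psi g ∈ G := by
  obtain ⟨f, hf⟩ := g
  have key : ∀ f (hf : f ∈ Subgroup.closure {f | IsIcoReflection f}),
      psi (⟨f, hf⟩ : twoJ2) ∈ G := by
    intro f hf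
    refine Subgroup.closure_induction (G := Equiv.Perm icoLeech)
      (k := {f | IsIcoReflection f})
      (p := fun (f : Equiv.Perm icoLeech)
        (hf : f ∈ Subgroup.closure {f : Equiv.Perm icoLeech | IsIcoReflection f}) =>
        psi (⟨f, hf⟩ : twoJ2) ∈ G)
      ?_ ?_ ?_ ?_ hf
    · intro f hf
      obtain ⟨i, rfl⟩ := exists_rho hf
      exact psi_rho_mem i
    · have : (⟨1, Subgroup.one_mem _⟩ : twoJ2) = 1 := rfl
      show psi (⟨1, Subgroup.one_mem _⟩ : twoJ2) ∈ G
      rw [this, map_one]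
      exact Subgroup.one_mem G
    · intro f g hf hg ihf ihg
      have : (⟨f * g, Subgroup.mul_mem _ hf hg⟩ : twoJ2) = ⟨f, hf⟩ * ⟨g, hg⟩ := rfl
      rw [this, map_mul]
      exact Subgroup.mul_mem _ ihf ihg
    · intro f hf ihf
      have : (⟨f⁻¹, Subgroup.inv_mem _ hf⟩ : twoJ2) = (⟨f, hf⟩ : twoJ2)⁻¹ := rfl
      rw [this, map_inv]
      exact Subgroup.inv_mem _ ihf
  exact key f hf

theorem range_psi : psi.range = G := by
  apply le_antisymm
  · rintro _ ⟨g, rfl⟩
    exact psi_mem g
  · unfold G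
    rw [Subgroup.closure_le]
    intro g hg
    rcases hg with rfl | rfl
    · exact ⟨x1L, rfl⟩
    · exact ⟨x2L, rfl⟩

theorem index_center : (Subgroup.center twoJ2).index = 604800 := by
  rw [← ker_psi, Subgroup.index_ker, range_psi, card_G]

theorem card_twoJ2 : Nat.card twoJ2 = 1209600 := by
  rw [← Subgroup.card_mul_index (Subgroup.center twoJ2), card_center, index_center]

theorem card_J2 : Nat.card J2 = 604800 := by
  show Nat.card (twoJ2 ⧸ Subgroup.center twoJ2) = 604800
  rw [← Subgroup.index_eq_card, index_center]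

/-- the Hall-Janko group is isomorphic to the permutation group on the reflections -/
noncomputable def j2Equiv : J2 ≃* G :=
  ((QuotientGroup.quotientMulEquivOfEq ker_psi.symm).trans
    (QuotientGroup.quotientKerEquivRange psi)).trans (MulEquiv.subgroupCongr range_psi)

/-- the reflection group is transitive on the reflections -/
theorem conj_transitive (p q : Fin 315) :
    ∃ g : twoJ2, g * rhoE p.val p.isLt * g⁻¹ = rhoE q.val q.isLt := by
  refine ⟨eL (nodeOf q) * (eL (nodeOf p))⁻¹, ?_⟩
  rw [← rho_conj p, ← rho_conj q]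
  group

end Cfsg.Agent.Helper29.J2G
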