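import Mathlib
import Cfsg.Prelude.Def_KGroupFacts
import Cfsg.Agent.Lib.Helper29.J2GMain

/-!
# The reflection group is a stem extension of the Hall-Janko group with kernel of order two
-/

set_option autoImplicit false

namespace Cfsg.Agent.Helper29.CoverJ2

open Quaternion Cfsg Cfsg.Spor
open scoped commutatorElement
open Cfsg.Agent.Helper26 Cfsg.Agent.Helper29.PP9 Cfsg.Agent.Helper29.J2D
  Cfsg.Agent.Helper29.J2C Cfsg.Agent.Helper29.J2K Cfsg.Agent.Helper29.J2
  Cfsg.Agent.Helper29.J2G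

/-- a lattice vector is the multiple `u * repN j` -/
def IsMul (x : icoLeech) (u : Ic) (j : ℕ) : Prop :=
  (x : Fin 3 → ℍ[ℝ]) = fun t => toH u * toV (repN j) t

/-- the effect of a reflection on a multiple of a representative -/
theorem step {a P T : ℕ} (ha : a < 315) (hall : allB 315 (tabOK a P T) = true)
    {x : icoLeech} {u : Ic} {j : ℕ} (hu : u.IsIco) (hj : j < 315) (hx : IsMul x u j) :
    IsMul (rho ⟨a, ha⟩ x) (Ic.mul u (unitN (ent7 T j))) (PP9.ent P j) ∧
      (Ic.mul u (unitN (ent7 T j))).IsIco ∧ PP9.ent P j < 315 := by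
  have hjt := allB_true hall j hj
  unfold tabOK at hjt
  rw [Bool.and_eq_true, Bool.and_eq_true] at hjt
  obtain ⟨⟨h1, h2⟩, h3⟩ := hjt
  have h1 := blt_lt h1
  have h2 := blt_lt h2
  have hu' := unitsL_unit _ (unitN_mem h2)
  have hs := tabChk_spec (repN_lat ha) (repN_lat hj) (repN_lat h1) hu'.1 h3
  rw [toV_lmul hu'.1 (repN_lat h1)] at hs
  refine ⟨?_, Ic.isIco_mul hu hu'.1, h1⟩
  have ex : x = lsmul ⟨toH u, toH_mem hu⟩ (vecOf (repN j) (repN_lat hj)) := by
    apply Subtype.ext
    rw [hx]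
    rfl
  have hlin : IsLin (rho ⟨a, ha⟩) := twoJ2_le_linSub (rho_mem ⟨a, ha⟩)
  unfold IsMul
  rw [ex, hlin.smul]
  funext t
  rw [lsmul_apply]
  have e2 : ((rho ⟨a, ha⟩ (vecOf (repN j) (repN_lat hj)) : icoLeech) : Fin 3 → ℍ[ℝ]) =
      qrefl (toV (repN a)) (toV (repN j)) :=
    reflOf_apply (repN_lat ha) (repN_n16 ha) _
  rw [e2, hs, toH_mul' hu hu'.1, mul_assoc]

/-! ### The four generating reflections -/

/-- the indices of the four reflections -/
def RI (a : ℕ) : ℕ := cond (Nat.beq a 0) 0 (cond (Nat.beq a 1) 165 (cond (Nat.beq a 2) 19 63))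

/-- their permutation tables -/
def TP (a : ℕ) : ℕ := cond (Nat.beq a 0) GP0 (cond (Nat.beq a 1) GP1 (cond (Nat.beq a 2) GP2 GP3))

/-- their unit tables -/
def TU (a : ℕ) : ℕ := cond (Nat.beq a 0) UT0 (cond (Nat.beq a 1) UT1 (cond (Nat.beq a 2) UT2 UT3))

theorem RI_lt (a : ℕ) : RI a < 315 := by
  unfold RI
  cases Nat.beq a 0 <;> cases Nat.beq a 1 <;> cases Nat.beq a 2 <;> decide

theorem tab_all (a : ℕ) : allB 315 (tabOK (RI a) (TP a) (TU a)) = true := by
  unfold RI TP TU
  cases Nat.beq a 0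
  · cases Nat.beq a 1
    · cases Nat.beq a 2
      · exact tab_chk3
      · exact tab_chk2
    · exact tab_chk1
  · exact tab_chk0

/-- the reflections as elements of the reflection group -/
noncomputable def rG (a : ℕ) : twoJ2 := rhoE (RI a) (RI_lt a)

theorem val_rG (a : ℕ) : val (psi (rG a)) = d315 (TP a) := psi_rho_val (RI_lt a) (tab_all a)

/-- the product of a word in the four reflections -/
noncomputable def prodW : List ℕ → twoJ2
  | [] => 1
  | a :: w => rG a * prodW w

/-- its code -/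
def codeW : List ℕ → ℕ
  | [] => pid 315
  | a :: w => pmF (TP a) (codeW w)

theorem val_prodW (w : List ℕ) : val (psi (prodW w)) = d315 (codeW w) := by
  induction w with
  | nil =>
    show val (psi 1) = d315 (pid 315)
    rw [map_one, map_one, d_one]
  | cons a w ih =>
    show val (psi (rG a * prodW w)) = d315 (pmF (TP a) (codeW w))
    rw [map_mul, map_mul, val_rG, ih, pmF_eq, d_mul]

theorem prodW_append (w w' : List ℕ) : prodW (w ++ w') = prodW w * prodW w' := by
  induction w with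
  | nil => show prodW w' = 1 * prodW w'; rw [one_mul]
  | cons a w ih =>
    show rG a * prodW (w ++ w') = rG a * prodW w * prodW w'
    rw [ih, mul_assoc]

/-- the step of the evaluation -/
def stepS (a : ℕ) (s : Ic × ℕ) : Ic × ℕ :=
  (Ic.mul s.1 (unitN (ent7 (TU a) s.2)), PP9.ent (TP a) s.2)

/-- the evaluation of a word at a multiple of a representative -/
def evalS : List ℕ → Ic × ℕ → Ic × ℕ
  | [], s => s
  | a :: w, s => stepS a (evalS w s)

theorem eval_spec (w : List ℕ) {x : icoLeech} {u : Ic} {j : ℕ} (hu : u.IsIco) (hj : j < 315)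
    (hx : IsMul x u j) :
    IsMul ((prodW w : Equiv.Perm icoLeech) x) (evalS w (u, j)).1 (evalS w (u, j)).2 ∧
      (evalS w (u, j)).1.IsIco ∧ (evalS w (u, j)).2 < 315 := by
  induction w with
  | nil => exact ⟨hx, hu, hj⟩
  | cons a w ih =>
    obtain ⟨h1, h2, h3⟩ := ih
    exact step (RI_lt a) (tab_all a) h2 h3 h1

/-! ### The element of order four -/

/-- the word -/
def gw : List ℕ := [3, 1, 0, 2, 3, 2, 1, 3, 0, 2]

theorem gw_code : Nat.beq (codeW (gw ++ gw)) (pid 315) = true := by decide +kernel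

theorem gw_eval : (Ic.beq (evalS (gw ++ gw) (ONE, 314)).1 (Ic.neg ONE) &&
    Nat.beq (evalS (gw ++ gw) (ONE, 314)).2 314) = true := by decide +kernel

theorem two_ne_neg_two : (2 : ℍ[ℝ]) ≠ -1 * 2 := by
  intro h2
  have h5 := congrArg (fun q : ℍ[ℝ] => q.re) h2
  have e : (2 : ℍ[ℝ]) = ((2 : ℝ) : ℍ[ℝ]) := by norm_cast
  rw [e] at h5
  simp only [neg_mul, one_mul, Quaternion.re_neg, Quaternion.re_coe] at h5
  norm_num at h5

theorem isIco_ONE : ONE.IsIco := (unitsL_unit ONE (by decide)).1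

theorem isMul_E0 : IsMul (vecOf (repN 314) (repN_lat (by norm_num))) ONE 314 := by
  unfold IsMul
  funext t
  rw [toH_ONE, one_mul]
  rfl

/-- the square of the element is the central involution -/
theorem prodW_sq : prodW gw * prodW gw = negEl := by
  rw [← prodW_append]
  have hpsi : psi (prodW (gw ++ gw)) = 1 := by
    apply val_inj
    rw [val_prodW, Nat.eq_of_beq_eq_true gw_code, d_one, map_one]
  have hcen : prodW (gw ++ gw) ∈ Subgroup.center twoJ2 := by
    rw [← ker_psi]
    exact hpsi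
  rcases center_cases _ hcen with h | h
  · exfalso
    obtain ⟨h1, -, -⟩ := eval_spec (gw ++ gw) isIco_ONE (by norm_num) isMul_E0
    have hev := gw_eval
    rw [Bool.and_eq_true, Ic.beq_iff] at hev
    rw [hev.1, Nat.eq_of_beq_eq_true hev.2, h] at h1
    unfold IsMul at h1
    have h2 := congrFun h1 0
    have h3 : ((((1 : twoJ2) : Equiv.Perm icoLeech) (vecOf (repN 314) (repN_lat (by norm_num))) :
        icoLeech) : Fin 3 → ℍ[ℝ]) 0 = toV (repN 314) 0 := rfl
    rw [h3, toH_neg, toH_ONE, toV_E0] at h2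
    have h4 : ((![2, 0, 0] : Fin 3 → ℍ[ℝ]) 0) = 2 := rfl
    rw [h4] at h2
    exact two_ne_neg_two h2
  · exact h

theorem rho_mul_self (i : Fin 315) : rho i * rho i = 1 := by
  ext x : 1
  show rho i (rho i x) = x
  unfold rho reflOf
  rw [dif_pos ⟨repN_lat i.isLt, repN_n16 i.isLt⟩]
  exact (reflPerm _ _).symm_apply_apply x

theorem rG_mul_self (a : ℕ) : rG a * rG a = 1 := by
  apply Subtype.ext
  exact rho_mul_self ⟨RI a, RI_lt a⟩

/-- the product of two reflections is a commutator -/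
theorem rG_mul_mem (a b : ℕ) : rG a * rG b ∈ commutator twoJ2 := by
  obtain ⟨g, hg⟩ := conj_transitive ⟨RI a, RI_lt a⟩ ⟨RI b, RI_lt b⟩
  have hinv : (rG a)⁻¹ = rG a := inv_eq_of_mul_eq_one_right (rG_mul_self a)
  have e : rG a * rG b = ⁅rG a, g⁆ := by
    rw [commutatorElement_def, hinv]
    have : rG b = g * rG a * g⁻¹ := hg.symm
    rw [this]
    group
  rw [e, commutator_def]
  exact Subgroup.commutator_mem_commutator (Subgroup.mem_top _) (Subgroup.mem_top _)

theorem prodW_gw_mem : prodW gw ∈ commutator twoJ2 := by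
  have e : prodW gw = (rG 3 * rG 1) * ((rG 0 * rG 2) * ((rG 3 * rG 2) * ((rG 1 * rG 3) *
      (rG 0 * rG 2)))) := by
    show rG 3 * (rG 1 * (rG 0 * (rG 2 * (rG 3 * (rG 2 * (rG 1 * (rG 3 * (rG 0 * (rG 2 * 1))))))))) = _
    group
  rw [e]
  exact Subgroup.mul_mem _ (rG_mul_mem 3 1) (Subgroup.mul_mem _ (rG_mul_mem 0 2)
    (Subgroup.mul_mem _ (rG_mul_mem 3 2) (Subgroup.mul_mem _ (rG_mul_mem 1 3) (rG_mul_mem 0 2))))

theorem negEl_mem_commutator : negEl ∈ commutator twoJ2 := by
  rw [← prodW_sq]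
  exact Subgroup.mul_mem _ prodW_gw_mem prodW_gw_mem

/-! ### The stem extension -/

/-- the quotient map -/
noncomputable def covHom : twoJ2 →* J2 := QuotientGroup.mk' (Subgroup.center twoJ2)

theorem ker_covHom : covHom.ker = Subgroup.center twoJ2 := QuotientGroup.ker_mk' _

theorem covHom_stem : Cfsg.IsStemExtension covHom := by
  refine ⟨QuotientGroup.mk'_surjective _, ?_, ?_⟩
  · rw [ker_covHom]
  · rw [ker_covHom]
    intro g hg
    rcases center_cases g hg with rfl | rfl
    · exact Subgroup.one_mem _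
    · exact negEl_mem_commutator

theorem ker_equiv : Nonempty (covHom.ker ≃* Multiplicative (ZMod 2)) := by
  have : Fact (Nat.Prime 2) := ⟨Nat.prime_two⟩
  have hc : Nat.card covHom.ker = 2 := by rw [ker_covHom]; exact card_center
  have h1 : IsCyclic covHom.ker := isCyclic_of_prime_card hc
  have h2 : Nat.card (Multiplicative (ZMod 2)) = 2 := by
    rw [Nat.card_eq_fintype_card]
    rfl
  exact ⟨mulEquivOfCyclicCardEq (by rw [hc, h2])⟩

theorem finite_twoJ2 : Finite ↥twoJ2 :=
  Nat.finite_of_card_ne_zero (by rw [card_twoJ2]; norm_num)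

/-- existence of a stem extension with kernel of order two -/
theorem exists_stem : ∃ (Γ : Type) (_ : Group Γ) (_ : Finite Γ) (σ : Γ →* J2),
    Cfsg.IsStemExtension σ ∧ Nonempty (σ.ker ≃* Multiplicative (ZMod 2)) :=
  ⟨↥twoJ2, inferInstance, finite_twoJ2, covHom, covHom_stem, ker_equiv⟩

end Cfsg.Agent.Helper29.CoverJ2
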