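import Mathlib
import Cfsg.Agent.Lib.Helper29.StemSplit2
import Cfsg.Prelude.Def_KGroupFacts

set_option autoImplicit false

namespace Cfsg.Agent.Helper29.StemQuot

open Cfsg.Agent.Helper29.StemSylow Cfsg.Agent.Helper29.StemSplit
open scoped commutatorElement

variable {Γ : Type*} [Group Γ] {G : Type*} [Group G]

/-- if `s` swaps `e₁` and `e₂`, the product `e₁ e₂` is a commutator in the centralizer of `s`
times an element `t` whose lifts commute with the lifts of `s`, then the lifts of `e₁` and `e₂`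
commute -/
theorem lift_comm_of_swap (σ : Γ →* G) (hK : σ.ker ≤ Subgroup.center Γ) (a b x p q : Γ)
    (hab : a * b = b * a) (ha2 : σ a * σ a = 1)
    (hap : σ a * σ p = σ p * σ a) (haq : σ a * σ q = σ q * σ a)
    (hrel : σ x * (σ a * σ x * (σ a)⁻¹) = ⁅σ p, σ q⁆ * σ b) :
    x * (a * x * a⁻¹) = (a * x * a⁻¹) * x := by
  -- `a ^ 2` is central
  have ha2K : a * a ∈ σ.ker := by rw [MonoidHom.mem_ker, map_mul]; exact ha2
  have ca2 := central_comm σ hK ha2K
  -- `a` commutes with the commutator of the lifts of `p` and `q`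
  obtain ⟨κp, hκp, ep⟩ := exists_ker_mul σ (a * p * a⁻¹) p (by
    rw [map_mul, map_mul, map_inv, hap]; group)
  obtain ⟨κq, hκq, eq⟩ := exists_ker_mul σ (a * q * a⁻¹) q (by
    rw [map_mul, map_mul, map_inv, haq]; group)
  have hapq : a * ⁅p, q⁆ * a⁻¹ = ⁅p, q⁆ := by
    rw [conjugate_commutatorElement, ep, eq, comm_central_left (central_comm σ hK hκp),
      comm_central_right (central_comm σ hK hκq)]
  have hapq' : a * ⁅p, q⁆ = ⁅p, q⁆ * a := by
    calc a * ⁅p, q⁆ = (a * ⁅p, q⁆ * a⁻¹) * a := by group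
      _ = ⁅p, q⁆ * a := by rw [hapq]
  -- the product of the lifts
  obtain ⟨κ, hκ, ef⟩ := exists_ker_mul σ (x * (a * x * a⁻¹)) (⁅p, q⁆ * b) (by
    rw [map_mul, map_mul, map_mul, map_inv, map_mul, map_commutatorElement]; exact hrel)
  have cκ := central_comm σ hK hκ
  -- it commutes with `a`
  have hfa : (x * (a * x * a⁻¹)) * a = a * (x * (a * x * a⁻¹)) := by
    rw [ef]
    calc ⁅p, q⁆ * b * κ * a = ⁅p, q⁆ * b * (κ * a) := by group
      _ = ⁅p, q⁆ * b * (a * κ) := by rw [cκ a]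
      _ = ⁅p, q⁆ * (b * a) * κ := by group
      _ = ⁅p, q⁆ * (a * b) * κ := by rw [hab]
      _ = (⁅p, q⁆ * a) * b * κ := by group
      _ = (a * ⁅p, q⁆) * b * κ := by rw [hapq']
      _ = a * (⁅p, q⁆ * b * κ) := by group
  -- it commutes with `x * a`
  have hw : (x * a) * (x * a) = (x * (a * x * a⁻¹)) * (a * a) := by group
  have hfw : (x * (a * x * a⁻¹)) * (x * a) = (x * a) * (x * (a * x * a⁻¹)) := by
    have e1 : x * (a * x * a⁻¹) = (x * a) * (x * a) * (a * a)⁻¹ := by rw [hw]; group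
    have c' : ∀ g : Γ, g * (a * a)⁻¹ = (a * a)⁻¹ * g := by
      intro g
      have := ca2 g
      calc g * (a * a)⁻¹ = (a * a)⁻¹ * ((a * a) * g) * (a * a)⁻¹ := by group
        _ = (a * a)⁻¹ * (g * (a * a)) * (a * a)⁻¹ := by rw [← this]
        _ = (a * a)⁻¹ * g := by group
    rw [e1]
    calc (x * a) * (x * a) * (a * a)⁻¹ * (x * a)
        = (x * a) * (x * a) * ((a * a)⁻¹ * (x * a)) := by group
      _ = (x * a) * (x * a) * ((x * a) * (a * a)⁻¹) := by rw [c' (x * a)]
      _ = (x * a) * ((x * a) * (x * a) * (a * a)⁻¹) := by group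
  -- hence with `x`
  have hfx : (x * (a * x * a⁻¹)) * x = x * (x * (a * x * a⁻¹)) := by
    calc (x * (a * x * a⁻¹)) * x = (x * (a * x * a⁻¹)) * (x * a) * a⁻¹ := by group
      _ = (x * a) * (x * (a * x * a⁻¹)) * a⁻¹ := by rw [hfw]
      _ = x * ((a * (x * (a * x * a⁻¹))) * a⁻¹) := by group
      _ = x * (((x * (a * x * a⁻¹)) * a) * a⁻¹) := by rw [hfa]
      _ = x * (x * (a * x * a⁻¹)) := by group
  have := mul_left_cancel (a := x) (by
    calc x * ((a * x * a⁻¹) * x) = (x * (a * x * a⁻¹)) * x := by group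
      _ = x * (x * (a * x * a⁻¹)) := hfx)
  exact this.symm

universe u v

/-- if the kernel of every stem extension in which the lifts of two given commuting elements
commute is trivial, then the kernel of a stem extension is generated by the commutator of
such lifts -/
theorem ker_eq_zpowers {Γ : Type u} [Group Γ] [Finite Γ] {G : Type v} [Group G]
    (σ : Γ →* G) (hσ : Cfsg.IsStemExtension σ) (a b : Γ) (hab : σ a * σ b = σ b * σ a)
    (H : ∀ (Γ' : Type u) [Group Γ'] [Finite Γ'] (σ' : Γ' →* G), Cfsg.IsStemExtension σ' →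
      (∃ a' b', σ' a' = σ a ∧ σ' b' = σ b ∧ a' * b' = b' * a') → σ'.ker = ⊥) :
    σ.ker = Subgroup.zpowers ⁅a, b⁆ := by
  obtain ⟨hs, hK, hK'⟩ := hσ
  have hγK : ⁅a, b⁆ ∈ σ.ker := by
    rw [MonoidHom.mem_ker, map_commutatorElement, commutatorElement_def, hab]
    group
  have cγ := central_comm σ hK hγK
  have hNle : Subgroup.zpowers ⁅a, b⁆ ≤ σ.ker := by
    rw [Subgroup.zpowers_le]
    exact hγK
  have hNn : (Subgroup.zpowers ⁅a, b⁆).Normal := by
    constructor
    intro n hn g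
    have hc : n ∈ Subgroup.center Γ := hK (hNle hn)
    have := Subgroup.mem_center_iff.1 hc g
    have e : g * n * g⁻¹ = n := by rw [this]; group
    rw [e]
    exact hn
  obtain ⟨N, hN⟩ : ∃ N : Subgroup Γ, N = Subgroup.zpowers ⁅a, b⁆ := ⟨_, rfl⟩
  rw [← hN] at hNle hNn ⊢
  have hker := H (Γ ⧸ N) (QuotientGroup.lift N σ hNle) ?_ ?_
  · apply le_antisymm _ hNle
    intro x hx
    have h1 : (QuotientGroup.mk x : Γ ⧸ N) ∈ (QuotientGroup.lift N σ hNle).ker := by
      rw [MonoidHom.mem_ker, QuotientGroup.lift_mk]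
      exact hx
    rw [hker, Subgroup.mem_bot, QuotientGroup.eq_one_iff] at h1
    exact h1
  · refine ⟨?_, ?_, ?_⟩
    · intro g
      obtain ⟨x, hx⟩ := hs g
      exact ⟨QuotientGroup.mk x, by rw [QuotientGroup.lift_mk]; exact hx⟩
    · intro y hy
      obtain ⟨x, rfl⟩ := QuotientGroup.mk_surjective y
      rw [MonoidHom.mem_ker, QuotientGroup.lift_mk] at hy
      have hc : x ∈ Subgroup.center Γ := hK hy
      rw [Subgroup.mem_center_iff]
      intro w
      obtain ⟨w', rfl⟩ := QuotientGroup.mk_surjective w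
      rw [← QuotientGroup.mk_mul, ← QuotientGroup.mk_mul, Subgroup.mem_center_iff.1 hc w']
    · intro y hy
      obtain ⟨x, rfl⟩ := QuotientGroup.mk_surjective y
      rw [MonoidHom.mem_ker, QuotientGroup.lift_mk] at hy
      have hc : x ∈ commutator Γ := hK' hy
      have h1 : (commutator Γ).map (QuotientGroup.mk' N) ≤ commutator (Γ ⧸ N) := by
        rw [commutator_def, commutator_def, Subgroup.map_commutator]
        exact Subgroup.commutator_mono le_top le_top
      exact h1 ⟨x, hc, rfl⟩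
  · refine ⟨QuotientGroup.mk a, QuotientGroup.mk b, ?_, ?_, ?_⟩
    · rw [QuotientGroup.lift_mk]
    · rw [QuotientGroup.lift_mk]
    · rw [← QuotientGroup.mk_mul, ← QuotientGroup.mk_mul, QuotientGroup.eq]
      have e : (a * b)⁻¹ * (b * a) = (b * a)⁻¹ * ⁅a, b⁆⁻¹ * (b * a) := by
        rw [commutatorElement_def]; group
      rw [e]
      have h2 : (b * a)⁻¹ * ⁅a, b⁆⁻¹ * (b * a) = ⁅a, b⁆⁻¹ := by
        have := cγ (b * a)
        calc (b * a)⁻¹ * ⁅a, b⁆⁻¹ * (b * a) = ((b * a)⁻¹ * ⁅a, b⁆ * (b * a))⁻¹ := by group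
          _ = ((b * a)⁻¹ * ((b * a) * ⁅a, b⁆))⁻¹ := by rw [mul_assoc, ← this]
          _ = ⁅a, b⁆⁻¹ := by group
      rw [h2, hN]
      exact Subgroup.inv_mem _ (Subgroup.mem_zpowers _)

/-- the square of the commutator of lifts of commuting elements, one of which is an
involution, is trivial -/
theorem comm_sq_eq_one {Γ : Type u} [Group Γ] {G : Type v} [Group G]
    (σ : Γ →* G) (hK : σ.ker ≤ Subgroup.center Γ) (a b : Γ) (hab : σ a * σ b = σ b * σ a)
    (ha2 : σ a * σ a = 1) : ⁅a, b⁆ * ⁅a, b⁆ = 1 := by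
  have hγK : ⁅a, b⁆ ∈ σ.ker := by
    rw [MonoidHom.mem_ker, map_commutatorElement, commutatorElement_def, hab]
    group
  have cγ := central_comm σ hK hγK
  have ha2K : a * a ∈ σ.ker := by rw [MonoidHom.mem_ker, map_mul]; exact ha2
  have ca2 := central_comm σ hK ha2K
  have e := comm_mul_left_of_central a a b cγ
  rw [← e, commutatorElement_def, ← ca2 b]
  group

end Cfsg.Agent.Helper29.StemQuot
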