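import Mathlib
import Cfsg.Agent.Lib.Helper29.StemOdd

/-!
# Two more local lemmas for stem extensions

* lifts of `a` and of a commutator of two elements of the centralizer of `a` commute;
* a `3`-group of order `3 ^ 5` and class three generated by two elements.
-/

set_option autoImplicit false

namespace Cfsg.Agent.Helper29.StemThree

open Cfsg.Agent.Helper29.StemSylow Cfsg.Agent.Helper29.StemSplit Cfsg.Agent.Helper29.StemRank
  Cfsg.Agent.Helper29.StemTwo Cfsg.Agent.Helper29.StemOdd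
open scoped commutatorElement

variable {Γ : Type*} [Group Γ] {G : Type*} [Group G]

/-- lifts of `a` and of `u⁻¹ t u t⁻¹`, with `t` and `u` centralizing `a`, commute -/
theorem comm_lift_of_comm (σ : Γ →* G) (hK : σ.ker ≤ Subgroup.center Γ) (x y T U : Γ)
    (ht : σ T * σ x = σ x * σ T) (hu : σ U * σ x = σ x * σ U)
    (hy : σ y = (σ U)⁻¹ * σ T * σ U * (σ T)⁻¹) : x * y = y * x := by
  have kc : ∀ {κ : Γ}, σ κ = 1 → κ ∈ Subgroup.center Γ := fun h => hK ((MonoidHom.mem_ker).2 h)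
  obtain ⟨y₂, hy₂⟩ : ∃ y₂, y₂ = U⁻¹ * T * U * T⁻¹ := ⟨_, rfl⟩
  obtain ⟨κ, hκ, rfl⟩ := exists_ker_mul σ y y₂ (by
    rw [hy, hy₂, map_mul, map_mul, map_mul, map_inv, map_inv])
  have cκ := central_comm σ hK hκ
  -- the commutator of `x` and `U` is central
  have hc : ⁅x, U⁆ ∈ Subgroup.center Γ := kc (by
    rw [map_commutatorElement, commutatorElement_def, ← hu]; group)
  obtain ⟨z, hz, e1⟩ := exists_ker_mul σ (T * x * T⁻¹) x (by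
    rw [map_mul, map_mul, map_inv, ht]; group)
  have cz := central_comm σ hK hz
  have e2 : T * U * T⁻¹ = U * y₂ := by rw [hy₂]; group
  have h1 : T * ⁅x, U⁆ * T⁻¹ = ⁅x, U⁆ := conj_central hc T
  have h2 : T * ⁅x, U⁆ * T⁻¹ = ⁅x, U⁆ * (U * ⁅x, y₂⁆ * U⁻¹) := by
    rw [conjugate_commutatorElement, e1, e2, comm_central_left cz]
    simp only [commutatorElement_def]; group
  have h3 : U * ⁅x, y₂⁆ * U⁻¹ = 1 := by
    have := h1.symm.trans h2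
    exact (mul_eq_left).1 this.symm
  have h4 : ⁅x, y₂⁆ = 1 := by
    have : ⁅x, y₂⁆ = U⁻¹ * (U * ⁅x, y₂⁆ * U⁻¹) * U := by group
    rw [this, h3]; group
  have h5 : x * y₂ = y₂ * x := commutatorElement_eq_one_iff_mul_comm.1 h4
  calc x * (y₂ * κ) = (x * y₂) * κ := by group
    _ = (y₂ * x) * κ := by rw [h5]
    _ = y₂ * (x * κ) := by group
    _ = y₂ * (κ * x) := by rw [cκ x]
    _ = y₂ * κ * x := by group

/-- elements of the group generated by three commuting elements -/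
theorem mem_closure_triple {x y z : Γ} (hxy : Commute x y) (hxz : Commute x z) (hyz : Commute y z)
    (g : Γ) (hg : g ∈ Subgroup.closure ({x, y, z} : Set Γ)) :
    ∃ i j k : ℤ, g = x ^ i * y ^ j * z ^ k := by
  induction hg using Subgroup.closure_induction with
  | mem s hs =>
    simp only [Set.mem_insert_iff, Set.mem_singleton_iff] at hs
    rcases hs with rfl | rfl | rfl
    · exact ⟨1, 0, 0, by simp⟩
    · exact ⟨0, 1, 0, by simp⟩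
    · exact ⟨0, 0, 1, by simp⟩
  | one => exact ⟨0, 0, 0, by simp⟩
  | mul a b _ _ iha ihb =>
    obtain ⟨i, j, k, rfl⟩ := iha
    obtain ⟨i', j', k', rfl⟩ := ihb
    refine ⟨i + i', j + j', k + k', ?_⟩
    have c1 : Commute (z ^ k) (x ^ i') := (hxz.zpow_zpow i' k).symm
    have c2 : Commute (z ^ k) (y ^ j') := (hyz.zpow_zpow j' k).symm
    have c3 : Commute (y ^ j) (x ^ i') := (hxy.zpow_zpow i' j).symm
    calc x ^ i * y ^ j * z ^ k * (x ^ i' * y ^ j' * z ^ k')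
        = x ^ i * y ^ j * (z ^ k * x ^ i') * y ^ j' * z ^ k' := by group
      _ = x ^ i * y ^ j * (x ^ i' * z ^ k) * y ^ j' * z ^ k' := by rw [c1.eq]
      _ = x ^ i * (y ^ j * x ^ i') * (z ^ k * y ^ j') * z ^ k' := by group
      _ = x ^ i * (x ^ i' * y ^ j) * (y ^ j' * z ^ k) * z ^ k' := by rw [c3.eq, c2.eq]
      _ = x ^ (i + i') * y ^ (j + j') * z ^ (k + k') := by
        rw [zpow_add, zpow_add, zpow_add]; group
  | inv a _ ih =>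
    obtain ⟨i, j, k, rfl⟩ := ih
    refine ⟨-i, -j, -k, ?_⟩
    have c1 : Commute (x ^ i) (y ^ j) := hxy.zpow_zpow i j
    have c2 : Commute (x ^ i) (z ^ k) := hxz.zpow_zpow i k
    have c3 : Commute (y ^ j) (z ^ k) := hyz.zpow_zpow j k
    rw [mul_inv_rev, mul_inv_rev, zpow_neg, zpow_neg, zpow_neg]
    have c4 : Commute (z ^ k)⁻¹ ((y ^ j)⁻¹ * (x ^ i)⁻¹) :=
      (c3.symm.inv_inv).mul_right (c2.symm.inv_inv)
    rw [c4.eq, (c1.symm.inv_inv).eq]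

/-- reduction of an integer power of an element of order dividing three -/
theorem zpow_eq_pow_mod_three {x : Γ} (h : x ^ 3 = 1) (i : ℤ) :
    ∃ n : Fin 3, x ^ i = x ^ (n : ℕ) := by
  have h0 : 0 ≤ i % 3 := Int.emod_nonneg i (by norm_num)
  have h3 : i % 3 < 3 := Int.emod_lt_of_pos i (by norm_num)
  refine ⟨⟨(i % 3).toNat, by omega⟩, ?_⟩
  have hz : x ^ (3 : ℤ) = 1 := by rw [zpow_ofNat]; exact h
  conv_lhs => rw [← Int.mul_ediv_add_emod i 3, zpow_add, zpow_mul, hz, one_zpow, one_mul]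
  rw [← zpow_natCast]
  congr 1
  exact (Int.toNat_of_nonneg h0).symm

/-- the commutator with a cube, when the commutator of the element with the commutator
commutes with both -/
theorem comm_cube_left (x y : Γ) (h1 : x * ⁅x, ⁅x, y⁆⁆ = ⁅x, ⁅x, y⁆⁆ * x)
    (h2 : ⁅x, y⁆ * ⁅x, ⁅x, y⁆⁆ = ⁅x, ⁅x, y⁆⁆ * ⁅x, y⁆) :
    ⁅x ^ 3, y⁆ = ⁅x, ⁅x, y⁆⁆ ^ 3 * ⁅x, y⁆ ^ 3 := by
  obtain ⟨c, hc⟩ : ∃ c, c = ⁅x, y⁆ := ⟨_, rfl⟩
  obtain ⟨u, hu⟩ : ∃ u, u = ⁅x, c⁆ := ⟨_, rfl⟩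
  rw [← hc] at h1 h2 ⊢
  rw [← hu] at h1 h2 ⊢
  have e0 : ⁅x ^ 3, y⁆ = (x * (x * c * x⁻¹) * x⁻¹) * (x * c * x⁻¹) * c := by
    rw [hc]; simp only [commutatorElement_def, pow_succ, pow_zero, one_mul]; group
  have e1 : x * c * x⁻¹ = u * c := by rw [hu, commutatorElement_def]; group
  have e2 : x * (u * c) * x⁻¹ = u * (u * c) := by
    calc x * (u * c) * x⁻¹ = (x * u) * c * x⁻¹ := by group
      _ = (u * x) * c * x⁻¹ := by rw [h1]
      _ = u * (x * c * x⁻¹) := by group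
      _ = u * (u * c) := by rw [e1]
  rw [e0, e1, e2]
  have hcu : Commute c u := h2
  calc u * (u * c) * (u * c) * c = u * u * (c * u) * c * c := by group
    _ = u * u * (u * c) * c * c := by rw [hcu.eq]
    _ = u ^ 3 * c ^ 3 := by simp only [pow_succ, pow_zero, one_mul]; group

/-- **A group of order `3 ^ 5`.** Downstairs `d₁`, `d₂` generate a group in which, with
`e = ⁅d₁, d₂⁆`, `a₁ = ⁅e, d₁⁆`, `a₂ = ⁅e, d₂⁆`, the elements `a₁`, `a₂` are central,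
`d₁ ^ 3 = a₂`, `d₂ ^ 3 = a₁⁻¹`, `(d₁ d₂) ^ 3 = a₁ a₂⁻¹`, `e ^ 3 = 1` and the `27` products
`e ^ i a₁ ^ j a₂ ^ k` are distinct. If some lifts of `d₁` and `a₁` commute, the commutator
subgroup of the preimage meets the kernel trivially. -/
theorem local_three (σ : Γ →* G) (hK : σ.ker ≤ Subgroup.center Γ) (d₁ d₂ : G)
    (h11 : ⁅⁅d₁, d₂⁆, d₁⁆ * d₁ = d₁ * ⁅⁅d₁, d₂⁆, d₁⁆)
    (h12 : ⁅⁅d₁, d₂⁆, d₁⁆ * d₂ = d₂ * ⁅⁅d₁, d₂⁆, d₁⁆)
    (h21 : ⁅⁅d₁, d₂⁆, d₂⁆ * d₁ = d₁ * ⁅⁅d₁, d₂⁆, d₂⁆)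
    (h22 : ⁅⁅d₁, d₂⁆, d₂⁆ * d₂ = d₂ * ⁅⁅d₁, d₂⁆, d₂⁆)
    (hd1 : d₁ ^ 3 = ⁅⁅d₁, d₂⁆, d₂⁆) (hd2 : d₂ ^ 3 = ⁅⁅d₁, d₂⁆, d₁⁆⁻¹)
    (hd12 : (d₁ * d₂) ^ 3 = ⁅⁅d₁, d₂⁆, d₁⁆ * ⁅⁅d₁, d₂⁆, d₂⁆⁻¹)
    (he3 : ⁅d₁, d₂⁆ ^ 3 = 1)
    (hinj : ∀ i j k : Fin 3, ⁅d₁, d₂⁆ ^ (i : ℕ) * ⁅⁅d₁, d₂⁆, d₁⁆ ^ (j : ℕ) *
      ⁅⁅d₁, d₂⁆, d₂⁆ ^ (k : ℕ) = 1 → i = 0 ∧ j = 0 ∧ k = 0)
    (hl1 : ∃ X₁, σ X₁ = d₁) (hl2 : ∃ X₂, σ X₂ = d₂)
    (hc : ∃ x z : Γ, σ x = d₁ ∧ σ z = ⁅⁅d₁, d₂⁆, d₁⁆ ∧ x * z = z * x) :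
    ∀ k ∈ ⁅(Subgroup.closure {d₁, d₂}).comap σ, (Subgroup.closure {d₁, d₂}).comap σ⁆,
      k ∈ σ.ker → k = 1 := by
  have kc : ∀ {κ : Γ}, σ κ = 1 → κ ∈ Subgroup.center Γ := fun h => hK ((MonoidHom.mem_ker).2 h)
  obtain ⟨X₁, hX₁⟩ := hl1
  obtain ⟨X₂, hX₂⟩ := hl2
  obtain ⟨E, hE⟩ : ∃ E, E = ⁅X₁, X₂⁆ := ⟨_, rfl⟩
  obtain ⟨Z₁, hZ₁⟩ : ∃ Z₁, Z₁ = ⁅E, X₁⁆ := ⟨_, rfl⟩
  obtain ⟨Z₂, hZ₂⟩ : ∃ Z₂, Z₂ = ⁅E, X₂⁆ := ⟨_, rfl⟩
  have hσE : σ E = ⁅d₁, d₂⁆ := by rw [hE, map_commutatorElement, hX₁, hX₂]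
  have hσZ₁ : σ Z₁ = ⁅⁅d₁, d₂⁆, d₁⁆ := by rw [hZ₁, map_commutatorElement, hσE, hX₁]
  have hσZ₂ : σ Z₂ = ⁅⁅d₁, d₂⁆, d₂⁆ := by rw [hZ₂, map_commutatorElement, hσE, hX₂]
  -- Step 1: `X₁` commutes with `Z₂`, `X₂` commutes with `Z₁`
  have c12 : X₁ * Z₂ = Z₂ * X₁ := by
    obtain ⟨μ, hμ, e⟩ := exists_ker_mul σ Z₂ (X₁ ^ 3) (by rw [hσZ₂, map_pow, hX₁, hd1])
    have cμ := central_comm σ hK hμ
    rw [e]
    calc X₁ * (X₁ ^ 3 * μ) = X₁ ^ 3 * (X₁ * μ) := by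
          simp only [pow_succ, pow_zero, one_mul]; group
      _ = X₁ ^ 3 * (μ * X₁) := by rw [cμ X₁]
      _ = X₁ ^ 3 * μ * X₁ := by group
  have c21 : X₂ * Z₁ = Z₁ * X₂ := by
    obtain ⟨μ, hμ, e⟩ := exists_ker_mul σ Z₁ (X₂ ^ 3)⁻¹ (by
      rw [hσZ₁, map_inv, map_pow, hX₂, hd2, inv_inv])
    have cμ := central_comm σ hK hμ
    rw [e]
    calc X₂ * ((X₂ ^ 3)⁻¹ * μ) = (X₂ ^ 3)⁻¹ * (X₂ * μ) := by
          simp only [pow_succ, pow_zero, one_mul]; group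
      _ = (X₂ ^ 3)⁻¹ * (μ * X₂) := by rw [cμ X₂]
      _ = (X₂ ^ 3)⁻¹ * μ * X₂ := by group
  -- Step 2: the hypothesis
  have c11 : X₁ * Z₁ = Z₁ * X₁ := by
    obtain ⟨x, z, hx, hz, hxz⟩ := hc
    obtain ⟨κ₁, hκ₁, rfl⟩ := exists_ker_mul σ x X₁ (by rw [hx, hX₁])
    obtain ⟨κ₂, hκ₂, rfl⟩ := exists_ker_mul σ z Z₁ (by rw [hz, hσZ₁])
    have c1 := central_comm σ hK hκ₁
    have c2 := central_comm σ hK hκ₂
    have h1 : X₁ * κ₁ * (Z₁ * κ₂) = (X₁ * Z₁) * (κ₁ * κ₂) := by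
      calc X₁ * κ₁ * (Z₁ * κ₂) = X₁ * (κ₁ * Z₁) * κ₂ := by group
        _ = X₁ * (Z₁ * κ₁) * κ₂ := by rw [c1 Z₁]
        _ = (X₁ * Z₁) * (κ₁ * κ₂) := by group
    have h2 : Z₁ * κ₂ * (X₁ * κ₁) = (Z₁ * X₁) * (κ₁ * κ₂) := by
      calc Z₁ * κ₂ * (X₁ * κ₁) = Z₁ * (κ₂ * X₁) * κ₁ := by group
        _ = Z₁ * (X₁ * κ₂) * κ₁ := by rw [c2 X₁]
        _ = Z₁ * X₁ * (κ₂ * κ₁) := by group
        _ = Z₁ * X₁ * (κ₁ * κ₂) := by rw [c2 κ₁]
    rw [h1, h2] at hxz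
    exact mul_right_cancel hxz
  -- Step 3: `X₂` commutes with `Z₂`
  have c22 : X₂ * Z₂ = Z₂ * X₂ := by
    obtain ⟨μ, hμ, e⟩ := exists_ker_mul σ ((X₁ * X₂) ^ 3) (Z₁ * Z₂⁻¹) (by
      rw [map_pow, map_mul, hX₁, hX₂, hd12, map_mul, map_inv, hσZ₁, hσZ₂])
    have cμ := central_comm σ hK hμ
    have hW : (X₁ * X₂) * (X₁ * X₂) ^ 3 = (X₁ * X₂) ^ 3 * (X₁ * X₂) := by
      rw [← pow_succ', ← pow_succ]
    rw [e] at hW
    have hW' : (X₁ * X₂) * (Z₁ * Z₂⁻¹) = (Z₁ * Z₂⁻¹) * (X₁ * X₂) := by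
      have h1 : X₁ * X₂ * (Z₁ * Z₂⁻¹ * μ) = (X₁ * X₂ * (Z₁ * Z₂⁻¹)) * μ := by group
      have h2 : Z₁ * Z₂⁻¹ * μ * (X₁ * X₂) = (Z₁ * Z₂⁻¹ * (X₁ * X₂)) * μ := by
        calc Z₁ * Z₂⁻¹ * μ * (X₁ * X₂) = Z₁ * Z₂⁻¹ * (μ * (X₁ * X₂)) := by group
          _ = Z₁ * Z₂⁻¹ * ((X₁ * X₂) * μ) := by rw [← cμ (X₁ * X₂)]
          _ = (Z₁ * Z₂⁻¹ * (X₁ * X₂)) * μ := by group
      rw [h1, h2] at hW
      exact mul_right_cancel hW
    have k12 : Commute X₁ Z₂ := c12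
    have k21 : Commute X₂ Z₁ := c21
    have k11 : Commute X₁ Z₁ := c11
    have hL : (X₁ * X₂) * (Z₁ * Z₂⁻¹) = Z₁ * X₁ * (X₂ * Z₂⁻¹) := by
      calc (X₁ * X₂) * (Z₁ * Z₂⁻¹) = X₁ * (X₂ * Z₁) * Z₂⁻¹ := by group
        _ = X₁ * (Z₁ * X₂) * Z₂⁻¹ := by rw [k21.eq]
        _ = (X₁ * Z₁) * X₂ * Z₂⁻¹ := by group
        _ = (Z₁ * X₁) * X₂ * Z₂⁻¹ := by rw [k11.eq]
        _ = Z₁ * X₁ * (X₂ * Z₂⁻¹) := by group
    have hR : (Z₁ * Z₂⁻¹) * (X₁ * X₂) = Z₁ * X₁ * (Z₂⁻¹ * X₂) := by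
      calc (Z₁ * Z₂⁻¹) * (X₁ * X₂) = Z₁ * (Z₂⁻¹ * X₁) * X₂ := by group
        _ = Z₁ * (X₁ * Z₂⁻¹) * X₂ := by rw [(k12.inv_right).eq]
        _ = Z₁ * X₁ * (Z₂⁻¹ * X₂) := by group
    rw [hL, hR] at hW'
    have h3 : X₂ * Z₂⁻¹ = Z₂⁻¹ * X₂ := mul_left_cancel hW'
    have h4 : Commute X₂ Z₂⁻¹ := h3
    exact (inv_inv Z₂ ▸ h4.inv_right).eq
  have k11 : Commute X₁ Z₁ := c11
  have k12 : Commute X₁ Z₂ := c12
  have k21 : Commute X₂ Z₁ := c21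
  have k22 : Commute X₂ Z₂ := c22
  -- `Z₁`, `Z₂` commute with `E` and with each other
  have kE1 : Commute Z₁ E := by
    rw [hE]; exact comm_commutator k11.symm.eq k21.symm.eq
  have kE2 : Commute Z₂ E := by
    rw [hE]; exact comm_commutator k12.symm.eq k22.symm.eq
  have kZ : Commute Z₁ Z₂ := by
    rw [hZ₂]; exact comm_commutator kE1.eq k21.symm.eq
  -- Step 4: orders
  have hE3K : E ^ 3 ∈ Subgroup.center Γ := kc (by rw [map_pow, hσE, he3])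
  have hZ₁3 : Z₁ ^ 3 = 1 := by
    rw [hZ₁, ← comm_pow_left_of_comm E X₁ (by rw [← hZ₁]; exact kE1.symm.eq) 3,
      commutatorElement_def, ← central_comm' hE3K X₁]
    group
  have hZ₂3 : Z₂ ^ 3 = 1 := by
    rw [hZ₂, ← comm_pow_left_of_comm E X₂ (by rw [← hZ₂]; exact kE2.symm.eq) 3,
      commutatorElement_def, ← central_comm' hE3K X₂]
    group
  -- Step 5: `E ^ 3 = 1`
  have hXE : ⁅X₁, E⁆ = Z₁⁻¹ := by rw [hZ₁, commutatorElement_inv]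
  have hE3 : E ^ 3 = 1 := by
    have h1 : ⁅X₁ ^ 3, X₂⁆ = ⁅X₁, ⁅X₁, X₂⁆⁆ ^ 3 * ⁅X₁, X₂⁆ ^ 3 := by
      apply comm_cube_left
      · rw [← hE, hXE]; exact (k11.inv_right).eq
      · rw [← hE, hXE]; exact (kE1.symm.inv_right).eq
    rw [← hE, hXE, inv_pow, hZ₁3, inv_one, one_mul] at h1
    rw [← h1]
    obtain ⟨μ, hμ, e⟩ := exists_ker_mul σ (X₁ ^ 3) Z₂ (by rw [hσZ₂, map_pow, hX₁, hd1])
    have cμ := central_comm σ hK hμ
    rw [e, comm_central_left cμ]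
    exact commutatorElement_eq_one_iff_mul_comm.2 k22.symm.eq
  -- Step 6: the normal subgroup
  obtain ⟨N, hN⟩ : ∃ N : Subgroup Γ, N = Subgroup.closure ({E, Z₁, Z₂} : Set Γ) := ⟨_, rfl⟩
  have hEN : E ∈ N := by rw [hN]; exact Subgroup.subset_closure (by simp)
  have hZ₁N : Z₁ ∈ N := by rw [hN]; exact Subgroup.subset_closure (by simp)
  have hZ₂N : Z₂ ∈ N := by rw [hN]; exact Subgroup.subset_closure (by simp)
  have conjE1 : X₁ * E * X₁⁻¹ = Z₁⁻¹ * E := by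
    rw [← hXE, commutatorElement_def]; group
  have conjE1' : X₁⁻¹ * E * X₁ = Z₁ * E := by
    have : E = X₁⁻¹ * (Z₁⁻¹ * E) * X₁ := by rw [← conjE1]; group
    calc X₁⁻¹ * E * X₁ = X₁⁻¹ * (Z₁ * (Z₁⁻¹ * E)) * X₁ := by group
      _ = (X₁⁻¹ * Z₁) * (Z₁⁻¹ * E) * X₁ := by group
      _ = (Z₁ * X₁⁻¹) * (Z₁⁻¹ * E) * X₁ := by rw [(k11.symm.inv_right).eq]
      _ = Z₁ * (X₁⁻¹ * (Z₁⁻¹ * E) * X₁) := by group
      _ = Z₁ * E := by rw [← this]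
  have hXE2 : ⁅X₂, E⁆ = Z₂⁻¹ := by rw [hZ₂, commutatorElement_inv]
  have conjE2 : X₂ * E * X₂⁻¹ = Z₂⁻¹ * E := by
    rw [← hXE2, commutatorElement_def]; group
  have conjE2' : X₂⁻¹ * E * X₂ = Z₂ * E := by
    have : E = X₂⁻¹ * (Z₂⁻¹ * E) * X₂ := by rw [← conjE2]; group
    calc X₂⁻¹ * E * X₂ = X₂⁻¹ * (Z₂ * (Z₂⁻¹ * E)) * X₂ := by group
      _ = (X₂⁻¹ * Z₂) * (Z₂⁻¹ * E) * X₂ := by group
      _ = (Z₂ * X₂⁻¹) * (Z₂⁻¹ * E) * X₂ := by rw [(k22.symm.inv_right).eq]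
      _ = Z₂ * (X₂⁻¹ * (Z₂⁻¹ * E) * X₂) := by group
      _ = Z₂ * E := by rw [← this]
  have conj_fix : ∀ {s z : Γ}, Commute s z → s * z * s⁻¹ = z ∧ s⁻¹ * z * s = z := by
    intro s z h
    constructor
    · rw [h.eq]; group
    · rw [mul_assoc, ← h.eq]; group
  obtain ⟨M, hM⟩ : ∃ M : Set Γ, M = {X₁, X₂} ∪ (Subgroup.center Γ : Set Γ) := ⟨_, rfl⟩
  have hnorm : ∀ s ∈ M, ∀ n ∈ N, s * n * s⁻¹ ∈ N ∧ s⁻¹ * n * s ∈ N := by
    intro s hs n hn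
    rw [hM] at hs
    rcases hs with hs | hs
    · simp only [Set.mem_insert_iff, Set.mem_singleton_iff] at hs
      rcases hs with rfl | rfl
      · constructor
        · rw [hN] at hn ⊢
          apply conj_mem_closure _ _ _ n hn
          intro g hg
          simp only [Set.mem_insert_iff, Set.mem_singleton_iff] at hg
          rcases hg with rfl | rfl | rfl
          · rw [conjE1, ← hN]; exact N.mul_mem (N.inv_mem hZ₁N) hEN
          · rw [(conj_fix k11).1, ← hN]; exact hZ₁N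
          · rw [(conj_fix k12).1, ← hN]; exact hZ₂N
        · rw [hN] at hn ⊢
          have := conj_mem_closure ({E, Z₁, Z₂} : Set Γ) s⁻¹ ?_ n hn
          · rw [inv_inv] at this; exact this
          intro g hg
          rw [inv_inv]
          simp only [Set.mem_insert_iff, Set.mem_singleton_iff] at hg
          rcases hg with rfl | rfl | rfl
          · rw [conjE1', ← hN]; exact N.mul_mem hZ₁N hEN
          · rw [(conj_fix k11).2, ← hN]; exact hZ₁N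
          · rw [(conj_fix k12).2, ← hN]; exact hZ₂N
      · constructor
        · rw [hN] at hn ⊢
          apply conj_mem_closure _ _ _ n hn
          intro g hg
          simp only [Set.mem_insert_iff, Set.mem_singleton_iff] at hg
          rcases hg with rfl | rfl | rfl
          · rw [conjE2, ← hN]; exact N.mul_mem (N.inv_mem hZ₂N) hEN
          · rw [(conj_fix k21).1, ← hN]; exact hZ₁N
          · rw [(conj_fix k22).1, ← hN]; exact hZ₂N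
        · rw [hN] at hn ⊢
          have := conj_mem_closure ({E, Z₁, Z₂} : Set Γ) s⁻¹ ?_ n hn
          · rw [inv_inv] at this; exact this
          intro g hg
          rw [inv_inv]
          simp only [Set.mem_insert_iff, Set.mem_singleton_iff] at hg
          rcases hg with rfl | rfl | rfl
          · rw [conjE2', ← hN]; exact N.mul_mem hZ₂N hEN
          · rw [(conj_fix k21).2, ← hN]; exact hZ₁N
          · rw [(conj_fix k22).2, ← hN]; exact hZ₂N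
    · have hs' := central_comm' hs
      constructor
      · rw [← hs' n]
        have : n * s * s⁻¹ = n := by group
        rw [this]; exact hn
      · have : s⁻¹ * n * s = n := by
          rw [mul_assoc, hs' n]; group
        rw [this]; exact hn
  have hcomm : ∀ s ∈ M, ∀ t ∈ M, ⁅s, t⁆ ∈ N := by
    have hone : ∀ a b : Γ, a * b = b * a → ⁅a, b⁆ ∈ N := by
      intro a b h
      rw [commutatorElement_eq_one_iff_mul_comm.2 h]
      exact N.one_mem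
    intro s hs t ht
    rw [hM] at hs ht
    rcases ht with ht | ht
    · rcases hs with hs | hs
      · simp only [Set.mem_insert_iff, Set.mem_singleton_iff] at hs ht
        rcases hs with rfl | rfl <;> rcases ht with rfl | rfl
        · exact hone _ _ rfl
        · rw [← hE]; exact hEN
        · rw [← commutatorElement_inv, ← hE]; exact N.inv_mem hEN
        · exact hone _ _ rfl
      · exact hone _ _ (central_comm' hs t).symm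
    · exact hone _ _ (central_comm' ht s)
  have hle : (Subgroup.closure ({d₁, d₂} : Set G)).comap σ ≤ Subgroup.closure M := by
    refine le_trans (comap_closure_le σ _ ?_) ?_
    · intro s hs
      simp only [Set.mem_insert_iff, Set.mem_singleton_iff] at hs
      rcases hs with rfl | rfl
      · exact ⟨X₁, hX₁⟩
      · exact ⟨X₂, hX₂⟩
    · rw [Subgroup.closure_le]
      intro s hs
      have hcen' : ∀ κ ∈ σ.ker, κ ∈ Subgroup.closure M := fun κ hκ =>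
        Subgroup.subset_closure (by rw [hM]; exact Or.inr (hK hκ))
      rcases hs with hs | hs
      · have hs' : σ s ∈ ({d₁, d₂} : Set G) := hs
        simp only [Set.mem_insert_iff, Set.mem_singleton_iff] at hs'
        rcases hs' with h | h
        · obtain ⟨κ, hκ, rfl⟩ := exists_ker_mul σ s X₁ (by rw [h, hX₁])
          exact Subgroup.mul_mem _ (Subgroup.subset_closure (by rw [hM]; simp)) (hcen' κ hκ)
        · obtain ⟨κ, hκ, rfl⟩ := exists_ker_mul σ s X₂ (by rw [h, hX₂])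
          exact Subgroup.mul_mem _ (Subgroup.subset_closure (by rw [hM]; simp)) (hcen' κ hκ)
      · exact hcen' s hs
  have hfin : ⁅Subgroup.closure M, Subgroup.closure M⁆ ≤ N :=
    commutator_closure_le_of_normal M N hnorm hcomm
  intro k hk hkK
  have hkN : k ∈ N := hfin (Subgroup.commutator_mono hle hle hk)
  rw [hN] at hkN
  obtain ⟨i, j, l, rfl⟩ := mem_closure_triple kE1.symm kE2.symm kZ k hkN
  obtain ⟨i', hi'⟩ := zpow_eq_pow_mod_three hE3 i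
  obtain ⟨j', hj'⟩ := zpow_eq_pow_mod_three hZ₁3 j
  obtain ⟨l', hl'⟩ := zpow_eq_pow_mod_three hZ₂3 l
  rw [hi', hj', hl'] at hkK ⊢
  have h1 := (MonoidHom.mem_ker).1 hkK
  rw [map_mul, map_mul, map_pow, map_pow, map_pow, hσE, hσZ₁, hσZ₂] at h1
  obtain ⟨r1, r2, r3⟩ := hinj i' j' l' h1
  rw [r1, r2, r3]
  simp

end Cfsg.Agent.Helper29.StemThree
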