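import Mathlib
import Cfsg.Agent.Lib.Helper29.J3SchD3
import Cfsg.Agent.Lib.Helper29.J3SchD2
import Cfsg.Agent.Lib.Helper29.StemThree
import Cfsg.Agent.Lib.Helper29.StemQuot

/-!
# The kernel of a stem extension of the third Janko group has order at most three
-/

set_option autoImplicit false
set_option linter.unusedSectionVars false

namespace Cfsg.Agent.Helper29.SchurJ3

open Cfsg
open scoped commutatorElement
open Cfsg.Agent.Helper26 Cfsg.Agent.Helper26.J3G
open Cfsg.Agent.Helper29.StemSylow Cfsg.Agent.Helper29.StemSplit Cfsg.Agent.Helper29.StemRank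
  Cfsg.Agent.Helper29.StemTwo Cfsg.Agent.Helper29.StemOdd Cfsg.Agent.Helper29.StemThree
  Cfsg.Agent.Helper29.J3W Cfsg.Agent.Helper29.J3Sch

universe u v

variable {F : Type v} [Field F] {A : Type u} [Group A] [Finite A] (S : Setup F A)

/-- the class of a pair -/
noncomputable def g (p : ℕ × ℕ) : Q S := qd S [p]

theorem qd_prod (l : List (ℕ × ℕ)) : qd S l = (l.map (g S)).prod := by
  induction l with
  | nil => rfl
  | cons p l ih => rw [qd_cons, ih, List.map_cons, List.prod_cons]; rfl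

theorem rel {l r : List (ℕ × ℕ)} (h : relOK l r = true) :
    (l.map (g S)).prod = (r.map (g S)).prod := by
  rw [← qd_prod, ← qd_prod]; exact qd_eq S h

theorem rel2 {a b c d : ℕ × ℕ} (h : relOK [a, b] [c, d] = true) :
    g S a * g S b = g S c * g S d := by
  have := rel S h
  simpa only [List.map_cons, List.map_nil, List.prod_cons, List.prod_nil, mul_one] using this

theorem rel20 {a b : ℕ × ℕ} (h : relOK [a, b] [] = true) : g S a * g S b = 1 := by
  have := rel S h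
  simpa only [List.map_cons, List.map_nil, List.prod_cons, List.prod_nil, mul_one] using this

theorem rel30 {a b c : ℕ × ℕ} (h : relOK [a, b, c] [] = true) : g S a * (g S b * g S c) = 1 := by
  have := rel S h
  simpa only [List.map_cons, List.map_nil, List.prod_cons, List.prod_nil, mul_one] using this

theorem rel23 {a b c d e : ℕ × ℕ} (h : relOK [a, b] [c, d, e] = true) :
    g S a * g S b = g S c * (g S d * g S e) := by
  have := rel S h
  simpa only [List.map_cons, List.map_nil, List.prod_cons, List.prod_nil, mul_one] using this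

theorem inv_of_rel {a b : ℕ × ℕ} (h : relOK [a, b] [] = true) : (g S a)⁻¹ = g S b :=
  inv_eq_of_mul_eq_one_right (rel20 S h)

theorem comm_of_rel {G : Type*} [Group G] {a b v : G} (h : a * b = v * (b * a)) : ⁅a, b⁆ = v := by
  rw [commutatorElement_def, h]; group

theorem conj_of_rel {G : Type*} [Group G] {t a b : G} (h : t * a = b * t) : t * a * t⁻¹ = b := by
  rw [h]; group

theorem card_Q : Nat.card (Q S) = 50232960 := S.card_quot

instance : Finite (Q S) := Nat.finite_of_card_ne_zero (by rw [card_Q]; norm_num)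

/-! ### The prime three -/

theorem h_ep : ⁅g S p_d1, g S p_d2⁆ = g S p_ep := comm_of_rel (rel23 S r_ep)
theorem h_a1 : ⁅g S p_ep, g S p_d1⁆ = g S p_a1 := comm_of_rel (rel23 S r_a1)
theorem h_a2 : ⁅g S p_ep, g S p_d2⁆ = g S p_a2 := comm_of_rel (rel23 S r_a2)

theorem pow3 (x : Q S) : x ^ 3 = x * (x * x) := by
  rw [pow_succ, pow_two, mul_assoc]

theorem h_d1c : g S p_d1 ^ 3 = g S p_a2 := by
  have := rel S r_d1c
  simp only [List.map_cons, List.map_nil, List.prod_cons, List.prod_nil, mul_one] at this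
  rw [pow3]; exact this

theorem h_d2c : g S p_d2 ^ 3 = (g S p_a1)⁻¹ := by
  have := rel S r_d2c
  simp only [List.map_cons, List.map_nil, List.prod_cons, List.prod_nil, mul_one] at this
  rw [pow3, inv_of_rel S r_a1i]; exact this

theorem h_d12c : (g S p_d1 * g S p_d2) ^ 3 = g S p_a1 * (g S p_a2)⁻¹ := by
  have := rel S r_d12c
  simp only [List.map_cons, List.map_nil, List.prod_cons, List.prod_nil, mul_one] at this
  rw [pow3, inv_of_rel S r_a2i, ← this]
  simp only [mul_assoc]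

theorem h_ep3 : g S p_ep ^ 3 = 1 := by
  rw [pow3]; exact rel30 S r_ep3

theorem h_a13 : g S p_a1 ^ 3 = 1 := by
  rw [pow3]; exact rel30 S r_a13

theorem qd_rep (n : ℕ) (p : ℕ × ℕ) : qd S (rep n p) = g S p ^ n := by
  induction n with
  | zero => rw [pow_zero]; rfl
  | succ n ih =>
    have : rep (n + 1) p = p :: rep n p := List.replicate_succ
    rw [this, qd_cons, ih, pow_succ']
    rfl

theorem h_inj3 : ∀ i j k : Fin 3, g S p_ep ^ (i : ℕ) * g S p_a1 ^ (j : ℕ) *
    g S p_a2 ^ (k : ℕ) = 1 → i = 0 ∧ j = 0 ∧ k = 0 := by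
  intro i j k h
  by_contra hne
  have h1 := qd_ne S (inj3 i j k hne)
  rw [qd_append, qd_append, qd_rep, qd_rep, qd_rep] at h1
  exact h1 h

/-- the Sylow subgroup -/
noncomputable def Q3 : Subgroup (Q S) := Subgroup.closure {g S p_d1, g S p_d2}

theorem gset3 : D3.gset S = {g S p_d1, g S p_d2} := by
  ext x
  constructor
  · rintro ⟨s, hs, rfl⟩
    have hs' : s < 2 := hs
    interval_cases s
    · left; rfl
    · right; rfl
  · intro hx
    simp only [Set.mem_insert_iff, Set.mem_singleton_iff] at hx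
    rcases hx with rfl | rfl
    · exact ⟨0, by decide, rfl⟩
    · exact ⟨1, by decide, rfl⟩

theorem len_D3 : D3.tab.length = 243 := by decide +kernel

theorem card_Q3 : Nat.card (Q3 S) = 243 := by
  unfold Q3
  rw [← gset3, D3.card_closure S D3_ok]
  exact len_D3

theorem not_dvd_index_Q3 : ¬ 3 ∣ (Q3 S).index := by
  have h := Subgroup.card_mul_index (Q3 S)
  rw [card_Q3, card_Q] at h
  omega

theorem local3 (Γ : Type*) [Group Γ] (σ : Γ →* Q S) (hs : Function.Surjective σ)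
    (hK : σ.ker ≤ Subgroup.center Γ)
    (hc : ∃ x z : Γ, σ x = g S p_d1 ∧ σ z = g S p_a1 ∧ x * z = z * x) :
    ∃ P : Subgroup (Q S), ¬ 3 ∣ P.index ∧
      ∀ k ∈ ⁅P.comap σ, P.comap σ⁆, k ∈ σ.ker → k = 1 := by
  refine ⟨Q3 S, not_dvd_index_Q3 S, ?_⟩
  unfold Q3
  apply local_three σ hK (g S p_d1) (g S p_d2)
  · rw [h_ep, h_a1]; exact rel2 S r_a1d1
  · rw [h_ep, h_a1]; exact rel2 S r_a1d2
  · rw [h_ep, h_a2]; exact rel2 S r_a2d1
  · rw [h_ep, h_a2]; exact rel2 S r_a2d2
  · rw [h_ep, h_a2]; exact h_d1c S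
  · rw [h_ep, h_a1]; exact h_d2c S
  · rw [h_ep, h_a1, h_a2]; exact h_d12c S
  · rw [h_ep]; exact h_ep3 S
  · rw [h_ep, h_a1, h_a2]; exact h_inj3 S
  · exact hs _
  · exact hs _
  · rw [h_ep, h_a1]; exact hc

/-! ### The prime two -/

theorem h_th3 : g S p_th * g S p_th * g S p_th = 1 := by
  rw [mul_assoc]; exact rel30 S r_th3

theorem h_w2 : g S p_w * g S p_w = 1 := rel20 S r_w2

theorem h_thw : g S p_th * g S p_w = g S p_w * g S p_th := rel2 S r_thw

theorem h_x2 : g S p_th * g S p_x1 * (g S p_th)⁻¹ = g S p_x2 := conj_of_rel (rel2 S r_thx1)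
theorem h_x3 : g S p_th * g S p_x2 * (g S p_th)⁻¹ = g S p_x3 := conj_of_rel (rel2 S r_thx2)
theorem h_y1 : g S p_w * g S p_x1 * (g S p_w)⁻¹ = g S p_y1 := conj_of_rel (rel2 S r_wx1)
theorem h_y2 : g S p_w * g S p_x2 * (g S p_w)⁻¹ = g S p_y2 := conj_of_rel (rel2 S r_wx2)
theorem h_y3 : g S p_w * g S p_x3 * (g S p_w)⁻¹ = g S p_y3 := conj_of_rel (rel2 S r_wx3)

theorem h_x11 : g S p_x1 * g S p_x1 = 1 := rel20 S r_x1sq

theorem h_x23 : g S p_x2 * (g S p_x3)⁻¹ = g S p_x1 := by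
  have h := rel S r_x2eq
  simp only [List.map_cons, List.map_nil, List.prod_cons, List.prod_nil, mul_one] at h
  rw [h]; group

theorem h_c0 : ⁅g S p_x1, g S p_y1⁆ = g S p_v0 := comm_of_rel (rel23 S r_c0)
theorem h_c1 : ⁅g S p_x2, g S p_y1⁆ = g S p_v1 := comm_of_rel (rel23 S r_c1)
theorem h_c2 : ⁅g S p_x3, g S p_y1⁆ = g S p_v2 := comm_of_rel (rel23 S r_c2)

theorem h_cen : ∀ a ∈ ({g S p_x1, g S p_x2, g S p_x3} : Set (Q S)),
    ∀ k ∈ ({g S p_x1, g S p_x2, g S p_x3, g S p_y1, g S p_y2, g S p_y3, g S p_th} : Set (Q S)),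
      ⁅a, g S p_y1⁆ * k = k * ⁅a, g S p_y1⁆ := by
  intro a ha k hg
  simp only [Set.mem_insert_iff, Set.mem_singleton_iff] at ha hg
  rcases ha with rfl | rfl | rfl
  · rw [h_c0]
    rcases hg with rfl | rfl | rfl | rfl | rfl | rfl | rfl
    · exact rel2 S r_cen_v0_x1
    · exact rel2 S r_cen_v0_x2
    · exact rel2 S r_cen_v0_x3
    · exact rel2 S r_cen_v0_y1
    · exact rel2 S r_cen_v0_y2
    · exact rel2 S r_cen_v0_y3
    · exact rel2 S r_cen_v0_th
  · rw [h_c1]
    rcases hg with rfl | rfl | rfl | rfl | rfl | rfl | rfl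
    · exact rel2 S r_cen_v1_x1
    · exact rel2 S r_cen_v1_x2
    · exact rel2 S r_cen_v1_x3
    · exact rel2 S r_cen_v1_y1
    · exact rel2 S r_cen_v1_y2
    · exact rel2 S r_cen_v1_y3
    · exact rel2 S r_cen_v1_th
  · rw [h_c2]
    rcases hg with rfl | rfl | rfl | rfl | rfl | rfl | rfl
    · exact rel2 S r_cen_v2_x1
    · exact rel2 S r_cen_v2_x2
    · exact rel2 S r_cen_v2_x3
    · exact rel2 S r_cen_v2_y1
    · exact rel2 S r_cen_v2_y2
    · exact rel2 S r_cen_v2_y3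
    · exact rel2 S r_cen_v2_th

theorem qd_cond (e : Bool) (p : ℕ × ℕ) : qd S (cond e [p] []) = cond e (g S p) 1 := by
  cases e
  · rfl
  · rfl

theorem h_inj2 : ∀ e1 e2 e3 e4 e5 e6 : Bool, (cond e1 (g S p_x1) 1) * ((cond e2 (g S p_x2) 1) *
    ((cond e3 (g S p_y1) 1) * ((cond e4 (g S p_y2) 1) * ((cond e5 ⁅g S p_x1, g S p_y1⁆ 1) *
      (cond e6 ⁅g S p_x2, g S p_y1⁆ 1))))) = 1 →
      e1 = false ∧ e2 = false ∧ e3 = false ∧ e4 = false ∧ e5 = false ∧ e6 = false := by
  intro e1 e2 e3 e4 e5 e6 h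
  rw [h_c0, h_c1] at h
  by_contra hne
  have hor : (e1 || e2 || e3 || e4 || e5 || e6) = true := by
    revert hne
    cases e1 <;> cases e2 <;> cases e3 <;> cases e4 <;> cases e5 <;> cases e6 <;> simp
  have h1 := qd_ne S (inj2 e1 e2 e3 e4 e5 e6 hor)
  unfold nfW at h1
  simp only [qd_append, qd_cond] at h1
  exact h1 h

/-- the local subgroup of order 384 -/
noncomputable def Q2 : Subgroup (Q S) := Subgroup.closure {g S p_x1, g S p_th, g S p_w}

theorem gset2 : D2.gset S = {g S p_x1, g S p_th, g S p_w} := by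
  ext x
  constructor
  · rintro ⟨s, hs, rfl⟩
    have hs' : s < 3 := hs
    interval_cases s
    · left; rfl
    · right; left; rfl
    · right; right; rfl
  · intro hx
    simp only [Set.mem_insert_iff, Set.mem_singleton_iff] at hx
    rcases hx with rfl | rfl | rfl
    · exact ⟨0, by decide, rfl⟩
    · exact ⟨1, by decide, rfl⟩
    · exact ⟨2, by decide, rfl⟩

theorem len_D2 : D2.tab.length = 384 := by decide +kernel

theorem card_Q2 : Nat.card (Q2 S) = 384 := by
  unfold Q2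
  rw [← gset2, D2.card_closure S D2_ok]
  exact len_D2

theorem not_dvd_index_Q2 : ¬ 2 ∣ (Q2 S).index := by
  have h := Subgroup.card_mul_index (Q2 S)
  rw [card_Q2, card_Q] at h
  omega

theorem local2 (Γ : Type*) [Group Γ] (σ : Γ →* Q S) (hs : Function.Surjective σ)
    (hK : σ.ker ≤ Subgroup.center Γ) :
    ∃ P : Subgroup (Q S), ¬ 2 ∣ P.index ∧
      ∀ k ∈ ⁅P.comap σ, P.comap σ⁆, k ∈ σ.ker → k = 1 := by
  refine ⟨Q2 S, not_dvd_index_Q2 S, ?_⟩
  unfold Q2
  obtain ⟨X, hX⟩ := hs (g S p_x1)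
  obtain ⟨Y, hY⟩ := hs (g S p_x2)
  obtain ⟨T, hT⟩ := hs (g S p_t)
  obtain ⟨U, hU⟩ := hs (g S p_u)
  have hXY : X * Y = Y * X := by
    apply comm_lift_of_comm σ hK X Y T U
    · rw [hT, hX]; exact rel2 S r_tx1
    · rw [hU, hX]; exact rel2 S r_ux1
    · rw [hY, hU, hT]
      have h := rel S r_tu
      simp only [List.map_cons, List.map_nil, List.prod_cons, List.prod_nil, mul_one] at h
      have : g S p_x2 = (g S p_u)⁻¹ * (g S p_u * (g S p_x2 * g S p_t)) * (g S p_t)⁻¹ := by group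
      rw [this, h]; group
  exact local_H σ hK (g S p_th) (g S p_w) (g S p_x1) (g S p_x2) (g S p_x3) (g S p_y1) (g S p_y2)
    (g S p_y3) (h_th3 S) (h_w2 S) (h_thw S) (h_x2 S) (h_x3 S) (h_y1 S) (h_y2 S) (h_y3 S)
    (h_x11 S) (h_x23 S) (h_cen S) (h_inj2 S) (hs _) (hs _) ⟨X, Y, hX, hY, hXY⟩

/-! ### The kernel of a stem extension -/

theorem not_sq_dvd (p : ℕ) (hp : p.Prime) (h2 : p ≠ 2) (h3 : p ≠ 3) :
    ¬ p ^ 2 ∣ 50232960 := by
  intro h
  have h5 : p ∣ 50232960 := dvd_trans (dvd_pow_self p (by norm_num)) h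
  have hfac : (50232960 : ℕ) = 2 ^ 7 * 3 ^ 5 * 5 * 17 * 19 := by norm_num
  have hcases : p = 5 ∨ p = 17 ∨ p = 19 := by
    rw [hfac] at h5
    rcases (Nat.Prime.dvd_mul hp).1 h5 with h5 | h5
    · rcases (Nat.Prime.dvd_mul hp).1 h5 with h5 | h5
      · rcases (Nat.Prime.dvd_mul hp).1 h5 with h5 | h5
        · rcases (Nat.Prime.dvd_mul hp).1 h5 with h5 | h5
          · exact absurd ((Nat.prime_dvd_prime_iff_eq hp Nat.prime_two).1
              (hp.dvd_of_dvd_pow h5)) h2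
          · exact absurd ((Nat.prime_dvd_prime_iff_eq hp Nat.prime_three).1
              (hp.dvd_of_dvd_pow h5)) h3
        · left; exact (Nat.prime_dvd_prime_iff_eq hp (by norm_num)).1 h5
      · right; left; exact (Nat.prime_dvd_prime_iff_eq hp (by norm_num)).1 h5
    · right; right; exact (Nat.prime_dvd_prime_iff_eq hp (by norm_num)).1 h5
  have e5 : ¬ (5 : ℕ) ^ 2 ∣ 50232960 := by norm_num
  have e17 : ¬ (17 : ℕ) ^ 2 ∣ 50232960 := by norm_num
  have e19 : ¬ (19 : ℕ) ^ 2 ∣ 50232960 := by norm_num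
  rcases hcases with h' | h' | h'
  · rw [h'] at h; exact e5 h
  · rw [h'] at h; exact e17 h
  · rw [h'] at h; exact e19 h

/-- a finite stem extension in which lifts of the two elements commute is an isomorphism -/
theorem ker_eq_bot_of_comm (Γ : Type*) [Group Γ] [Finite Γ] (σ : Γ →* Q S)
    (hσ : Cfsg.IsStemExtension σ)
    (hc : ∃ a b : Γ, σ a = g S p_d1 ∧ σ b = g S p_a1 ∧ a * b = b * a) : σ.ker = ⊥ := by
  obtain ⟨hs, hK, hK'⟩ := hσ
  apply ker_eq_bot_of_local σ hs hK hK'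
  intro p hp
  by_cases h2 : p = 2
  · subst h2
    exact local2 S Γ σ hs hK
  by_cases h3 : p = 3
  · subst h3
    exact local3 S Γ σ hs hK hc
  · apply local_of_not_sq_dvd σ hs hK p hp
    rw [card_Q]
    exact not_sq_dvd p hp h2 h3

theorem d1_a1 : g S p_d1 * g S p_a1 = g S p_a1 * g S p_d1 := (rel2 S r_a1d1).symm

/-- the kernel of a finite stem extension is generated by an element of order at most three -/
theorem ker_eq_zpowers (Γ : Type u) [Group Γ] [Finite Γ] (σ : Γ →* Q S)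
    (hσ : Cfsg.IsStemExtension σ) : ∃ γ : Γ, γ ^ 3 = 1 ∧ σ.ker = Subgroup.zpowers γ := by
  obtain ⟨a, ha⟩ := hσ.1 (g S p_a1)
  obtain ⟨b, hb⟩ := hσ.1 (g S p_d1)
  have hab : σ a * σ b = σ b * σ a := by rw [ha, hb]; exact (d1_a1 S).symm
  have hcK : ⁅a, b⁆ ∈ σ.ker := by
    rw [MonoidHom.mem_ker, map_commutatorElement, commutatorElement_def, hab]; group
  have cc := central_comm σ hσ.2.1 hcK
  have ha3 : a ^ 3 ∈ σ.ker := by rw [MonoidHom.mem_ker, map_pow, ha]; exact h_a13 S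
  refine ⟨⁅a, b⁆, ?_, ?_⟩
  · rw [← comm_pow_left_of_comm a b (cc a), commutatorElement_def,
      ← central_comm σ hσ.2.1 ha3 b]
    group
  · apply StemQuot.ker_eq_zpowers σ hσ a b hab
    intro Γ' _ _ σ' hσ' hc
    rw [ha, hb] at hc
    obtain ⟨a', b', h1, h2, h3⟩ := hc
    exact ker_eq_bot_of_comm S Γ' σ' hσ' ⟨b', a', h2, h1, h3.symm⟩

end Cfsg.Agent.Helper29.SchurJ3
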