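import Mathlib
import Cfsg.Agent.Lib.Helper29.SchurJ3

/-!
# The triple cover of the third Janko group is a stem extension
-/

set_option autoImplicit false
set_option linter.unusedSectionVars false

namespace Cfsg.Agent.Helper29.CoverJ3

open Cfsg
open Cfsg.Agent.Helper26 Cfsg.Agent.Helper26.J3G Cfsg.Agent.Helper29.J3W

universe u v

variable {F : Type v} [Field F] {A : Type u} [Group A] [Finite A] (S : Setup F A)

/-- the group generated by elements of orders 3, 17 with product of order 19 is perfect -/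
theorem commutator_eq_top : commutator S.G = ⊤ := by
  obtain ⟨x, hx⟩ : ∃ x, x = Abelianization.of S.a' := ⟨_, rfl⟩
  obtain ⟨y, hy⟩ : ∃ y, y = Abelianization.of S.b' := ⟨_, rfl⟩
  have hx3 : x ^ 3 = 1 := by rw [hx, ← map_pow, S.a'_pow, map_one]
  have hy17 : y ^ 17 = 1 := by rw [hy, ← map_pow, S.b'_pow, map_one]
  have hxy : (x * y) ^ 19 = 1 := by rw [hx, hy, ← map_mul, ← map_pow, S.ab'_pow, map_one]
  rw [mul_pow] at hxy
  have h1 : x ^ 19 = x := by
    calc x ^ 19 = (x ^ 3) ^ 6 * x := by rw [← pow_mul, ← pow_succ]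
      _ = x := by rw [hx3, one_pow, one_mul]
  have h2 : y ^ 19 = y ^ 2 := by
    calc y ^ 19 = y ^ 17 * y ^ 2 := by rw [← pow_add]
      _ = y ^ 2 := by rw [hy17, one_mul]
  rw [h1, h2] at hxy
  have h3 : x = (y ^ 2)⁻¹ := eq_inv_of_mul_eq_one_left hxy
  have h4 : y ^ 6 = 1 := by
    have : ((y ^ 2)⁻¹) ^ 3 = 1 := by rw [← h3]; exact hx3
    rw [inv_pow, inv_eq_one, ← pow_mul] at this
    exact this
  have hy1 : y = 1 := by
    calc y = (y ^ 6) ^ 3 * (y ^ 17)⁻¹ := by
          rw [← pow_mul, eq_mul_inv_iff_mul_eq, ← pow_succ']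
      _ = 1 := by rw [h4, hy17]; simp
  have hx1 : x = 1 := by rw [h3, hy1]; simp
  have ha : S.a' ∈ commutator S.G := by
    rw [← Abelianization.ker_of, MonoidHom.mem_ker, ← hx, hx1]
  have hb : S.b' ∈ commutator S.G := by
    rw [← Abelianization.ker_of, MonoidHom.mem_ker, ← hy, hy1]
  rw [eq_top_iff, ← S.closure_ab', Subgroup.closure_le]
  intro g hg
  simp only [Set.mem_insert_iff, Set.mem_singleton_iff] at hg
  rcases hg with rfl | rfl
  · exact ha
  · exact hb

/-- the triple cover is a stem extension with kernel of order three -/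
theorem exists_stem : ∃ (Γ : Type u) (_ : Group Γ) (_ : Finite Γ) (σ : Γ →* Q S),
    Cfsg.IsStemExtension σ ∧ Nonempty (σ.ker ≃* Multiplicative (ZMod 3)) := by
  refine ⟨S.G, inferInstance, inferInstance, QuotientGroup.mk' (Subgroup.center S.G), ?_, ?_⟩
  · refine ⟨QuotientGroup.mk'_surjective _, ?_, ?_⟩
    · rw [QuotientGroup.ker_mk']
    · rw [commutator_eq_top]; exact le_top
  · rw [QuotientGroup.ker_mk']
    have hcyc : IsCyclic (Subgroup.center S.G) := by
      rw [S.center_eq]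
      infer_instance
    have hcard : Nat.card (Subgroup.center S.G) = 3 := S.card_center
    have e := zmodCyclicMulEquiv hcyc
    rw [hcard] at e
    exact ⟨e.symm⟩

/-- the Schur multiplier of the central quotient is cyclic of order three -/
theorem hasMult : Cfsg.HasCyclicSchurMultiplier (Q S) 3 := by
  refine ⟨exists_stem S, ?_⟩
  intro Γ _ _ σ hσ
  obtain ⟨γ, hγ3, hker⟩ := Cfsg.Agent.Helper29.SchurJ3.ker_eq_zpowers S Γ σ hσ
  have hγK : γ ∈ σ.ker := by rw [hker]; exact Subgroup.mem_zpowers γ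
  obtain ⟨γ', hγ'⟩ : ∃ γ' : σ.ker, γ' = ⟨γ, hγK⟩ := ⟨_, rfl⟩
  have hγ'3 : γ' ^ 3 = 1 := by
    rw [hγ']
    exact Subtype.ext hγ3
  obtain ⟨f, hf⟩ : ∃ f : ℤ →+ Additive σ.ker, f = zmultiplesHom _ (Additive.ofMul γ') := ⟨_, rfl⟩
  have hf1 : ∀ k : ℤ, f k = Additive.ofMul (γ' ^ k) := by
    intro k
    rw [hf, zmultiplesHom_apply, ofMul_zpow]
  have hf2 : f (3 : ℕ) = 0 := by
    have h := hf1 3
    rw [zpow_ofNat, hγ'3] at h
    exact h
  refine ⟨AddMonoidHom.toMultiplicativeLeft (ZMod.lift 3 ⟨f, hf2⟩), ?_⟩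
  intro x
  have hx : (x : Γ) ∈ Subgroup.zpowers γ := by rw [← hker]; exact x.2
  obtain ⟨k, hk⟩ := Subgroup.mem_zpowers_iff.1 hx
  refine ⟨Multiplicative.ofAdd ((k : ℤ) : ZMod 3), ?_⟩
  rw [AddMonoidHom.coe_toMultiplicativeLeft]
  show Additive.toMul ((ZMod.lift 3 ⟨f, hf2⟩) ((k : ℤ) : ZMod 3)) = x
  rw [ZMod.lift_coe, hf1]
  apply Subtype.ext
  rw [toMul_ofMul, Subgroup.coe_zpow, hγ']
  exact hk

end Cfsg.Agent.Helper29.CoverJ3
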