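import Mathlib
import Cfsg.Agent.Lib.Helper29.StemSplit2
import Cfsg.Agent.Lib.Helper29.SchurM23
import Cfsg.Agent.Lib.Helper29.FusM24
import Cfsg.Agent.Lib.Helper29.SchurM24a

set_option autoImplicit false
open Cfsg

namespace Cfsg.Agent.Helper29.SchurM24

open Cfsg.Agent.Helper27 Cfsg.Agent.Helper29 Cfsg.Agent.Helper29.M24
open Cfsg.Agent.Helper29.FusCert Cfsg.Agent.Helper29.Syl2 Cfsg.Agent.Helper29.FusPt
open Cfsg.Agent.Helper29.FusM24 (ctx coreN)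
open Cfsg.Agent.Helper29.StemSylow Cfsg.Agent.Helper29.StemSplit
open Cfsg.Agent.Helper29.SchurM11 (weq evalW_eq_of_weq evalW_eq_of_eqC)
open Cfsg.Agent.Helper29.SchurM23 (mO grp6_fix mem_grp6 normalizes_grp6 conj_of_weq evalW_single
  evalW_pair level6 invNorm fixO mem_grp6_of_fixO)
open Cfsg.Agent.S0358 (idx)
open scoped Pointwise


/-! ### The prime two -/

theorem local2 (Γ : Type) [Group Γ] [Finite Γ] (σ : Γ →* ↥M24)
    (hs : Function.Surjective σ) (hK : σ.ker ≤ Subgroup.center Γ) :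
    ∀ k ∈ ⁅(P0.subgroupOf M24).comap σ, (P0.subgroupOf M24).comap σ⁆, k ∈ σ.ker → k = 1 := by
  obtain ⟨τ, hτ⟩ : ∃ τ : Γ →* Equiv.Perm GolayPt, τ = (Subgroup.subtype _).comp σ := ⟨_, rfl⟩
  have hτa : ∀ a, τ a = (σ a : Equiv.Perm GolayPt) := by
    intro a
    rw [hτ]
    rfl
  have hker : τ.ker = σ.ker := by
    ext a
    rw [MonoidHom.mem_ker, MonoidHom.mem_ker, hτa]
    constructor
    · intro h
      exact Subtype.ext h
    · intro h
      rw [h]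
      rfl
  have hKτ : τ.ker ≤ Subgroup.center Γ := hker ▸ hK
  have hlift : ∀ g ∈ M24, ∃ a, τ a = g := by
    intro g hg
    obtain ⟨a, ha⟩ := hs ⟨g, hg⟩
    exact ⟨a, by rw [hτa, ha]⟩
  have hcomap : (P0.subgroupOf M24).comap σ = P0.comap τ := by
    ext a
    rw [Subgroup.mem_comap, Subgroup.mem_comap, Subgroup.mem_subgroupOf, hτa]
  rw [hcomap, ← hker]
  have hE := E_abelian τ hKτ hlift
  -- the element of order three
  obtain ⟨z, hz0⟩ := hlift Z (evalW_mem_M24 Wz z_ok.1)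
  have hz : ∀ u ∈ E, τ z * u * (τ z)⁻¹ ∈ E := by
    rw [hz0]
    exact Z_norm
  have hfpf : ∀ u ∈ E, τ z * u * (τ z)⁻¹ = u → u = 1 := by
    rw [hz0]
    exact Z_fpf
  have hER : ∀ u ∈ E, ∃ a, τ a = u := fun u hu => hlift u (E_le_M24 hu)
  have hDn : ∀ d ∈ D.comap τ, ∀ e ∈ fpfCompl τ E z hE hz,
      d * e * d⁻¹ ∈ fpfCompl τ E z hE hz := by
    intro d hd e he
    have hdD : τ d ∈ D := hd
    obtain ⟨hdQ, hdN⟩ := Subgroup.mem_inf.1 hdD
    have hdn : ∀ u ∈ E, τ d * u * (τ d)⁻¹ ∈ E := D_norm (τ d) hdD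
    rcases hdN with h | h
    · exact conj_mem_fpfCompl' τ E z hE hz hKτ hER hfpf d z hdn hz rfl
        (by rw [hz0]; exact h) e he
    · refine conj_mem_fpfCompl' τ E z hE hz hKτ hER hfpf d z⁻¹ hdn ?_ ?_ ?_ e he
      · rw [map_inv, hz0]
        exact Zi_norm
      · rw [map_inv]
        group
      · rw [map_inv, hz0]
        exact h
  -- the complement
  obtain ⟨r, hr⟩ := hlift R (P0_le_M24 R_mem.1)
  obtain ⟨s, hs'⟩ := hlift S (P0_le_M24 S_mem.1)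
  obtain ⟨t, ht⟩ := hlift T (P0_le_M24 T_mem.1)
  obtain ⟨g1, hg1⟩ := hlift _ (evalW_mem_M24 Wgsr2 g_ok.1.1)
  obtain ⟨g2, hg2⟩ := hlift _ (evalW_mem_M24 Wgts g_ok.2.2.1.1)
  obtain ⟨g3, hg3⟩ := hlift _ (evalW_mem_M24 Wgtsp g_ok.2.2.2.2.1.1)
  have hconjE : ∀ (g u v : Γ), τ g * τ u * (τ g)⁻¹ ∈ E → τ g * τ v * (τ g)⁻¹ ∈ E →
      u * v = v * u := by
    intro g u v h1 h2
    have hu : g * u * g⁻¹ ∈ E.comap τ := by
      rw [Subgroup.mem_comap, map_mul, map_mul, map_inv]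
      exact h1
    have hv : g * v * g⁻¹ ∈ E.comap τ := by
      rw [Subgroup.mem_comap, map_mul, map_mul, map_inv]
      exact h2
    have h3 := hE _ hu _ hv
    have e1 : g * u * g⁻¹ * (g * v * g⁻¹) = g * (u * v) * g⁻¹ := by group
    have e2 : g * v * g⁻¹ * (g * u * g⁻¹) = g * (v * u) * g⁻¹ := by group
    rw [e1, e2] at h3
    exact mul_left_cancel (mul_right_cancel h3)
  have hcomm : s * r ^ 2 = r ^ 2 * s := by
    apply hconjE g1 s (r ^ 2)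
    · rw [hg1, hs']
      exact gsr2_S
    · rw [hg1, map_pow, hr]
      exact gsr2_R2
  have hts : t * s = s * t := by
    apply hconjE g2 t s
    · rw [hg2, ht]
      exact gts_T
    · rw [hg2, hs']
      exact gts_S
  have htrs : t * (r * s) = (r * s) * t := by
    apply hconjE g3 t (r * s)
    · rw [hg3, ht]
      exact gtsp_T
    · rw [hg3, map_mul, hr, hs']
      exact gtsp_RS
  have htr : t * r = r * t := by
    have e1 : t * r = t * (r * s) * s⁻¹ := by group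
    rw [e1, htrs]
    have e2 : r * s * t * s⁻¹ = r * (s * t) * s⁻¹ := by group
    rw [e2, ← hts]
    group
  have hDc : ∀ c ∈ ⁅D.comap τ, D.comap τ⁆, τ c ∈ E → c = 1 := by
    apply Cfsg.Agent.Helper29.StemSplit.comm_dihedral_c τ hKτ (D.comap τ) r s t htr hts ?_ hcomm
      ?_ E ?_
    · rw [hr, hs']
      exact S_R
    · intro u hu
      obtain ⟨i, k, hi⟩ := D_struct (τ u) hu
      refine ⟨(i : ℤ), (k : ℤ), ?_⟩
      rw [hr, hs', ht, zpow_natCast, zpow_natCast]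
      exact hi
    · rw [hr]
      exact R2_not_mem
  exact comm_inf_ker_of_split τ E z hE hz hKτ hER hfpf D P0 hDn hDc P_struct

/-! ### The prime three -/

def X3 : Equiv.Perm GolayPt := evalW We3
def Y3 : Equiv.Perm GolayPt := evalW Wc3
def U3 : Equiv.Perm GolayPt := evalW Wd3
def V3 : Equiv.Perm GolayPt := evalW Wz3
def N3 : Equiv.Perm GolayPt := evalW Wn3

theorem p3_ok : Repr cc3 Wc3 ∧ Repr ce3 We3 ∧ Repr cd3 Wd3 ∧ Repr cz3 Wz3 ∧ Repr cn3 Wn3 := by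
  decide +kernel

theorem pow3_of_weq (W : List ℕ) (h : weq (FusCert.powW W 3) [] = true) : evalW W ^ 3 = 1 := by
  have h1 := evalW_eq_of_weq (FusCert.powW W 3) [] h
  rw [FusCert.evalW_powW, evalW_nil] at h1
  exact h1

theorem inv_conj_of_weq (Wn Wy : List ℕ) (h : weq (Wy ++ (Wn ++ Wy)) Wn = true) :
    evalW Wn * evalW Wy * (evalW Wn)⁻¹ = (evalW Wy)⁻¹ := by
  have h1 := evalW_eq_of_weq (Wy ++ (Wn ++ Wy)) Wn h
  rw [evalW_append, evalW_append] at h1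
  have h2 : evalW Wn * evalW Wy = (evalW Wy)⁻¹ * evalW Wn := by
    rw [eq_inv_mul_iff_mul_eq]
    exact h1
  rw [h2]
  group

set_option maxRecDepth 100000 in
theorem X3_pow3_check : weq (FusCert.powW We3 3) [] = true := by decide +kernel

set_option maxRecDepth 100000 in
theorem Y3_pow3_check : weq (FusCert.powW Wc3 3) [] = true := by decide +kernel

set_option maxRecDepth 100000 in
theorem U3_pow3_check : weq (FusCert.powW Wd3 3) [] = true := by decide +kernel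

set_option maxRecDepth 100000 in
theorem X3_Y3_check : weq (We3 ++ Wc3) (Wc3 ++ We3) = true := by decide +kernel

set_option maxRecDepth 100000 in
theorem N3_X3_check : weq (Wn3 ++ We3) (We3 ++ Wn3) = true := by decide +kernel

set_option maxRecDepth 100000 in
theorem N3_Y3_check : weq (Wc3 ++ (Wn3 ++ Wc3)) Wn3 = true := by decide +kernel

set_option maxRecDepth 100000 in
theorem V3_X3_check : weq (We3 ++ (Wz3 ++ We3)) Wz3 = true := by decide +kernel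

set_option maxRecDepth 100000 in
theorem V3_Y3_check : weq (Wc3 ++ (Wz3 ++ Wc3)) Wz3 = true := by decide +kernel

set_option maxRecDepth 100000 in
theorem U3_Y3_check : weq (Wd3 ++ Wc3) (Wc3 ++ Wd3) = true := by decide +kernel

set_option maxRecDepth 100000 in
theorem U3_X3_check : weq (Wd3 ++ We3) ((We3 ++ Wc3) ++ Wd3) = true := by decide +kernel

set_option maxRecDepth 100000 in
theorem U3_V3_check : weq (Wd3 ++ Wz3) (Wz3 ++ Wd3) = true := by decide +kernel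

theorem X3_pow3 : X3 ^ 3 = 1 := pow3_of_weq We3 X3_pow3_check

theorem Y3_pow3 : Y3 ^ 3 = 1 := pow3_of_weq Wc3 Y3_pow3_check

theorem U3_pow3 : U3 ^ 3 = 1 := pow3_of_weq Wd3 U3_pow3_check

theorem X3_Y3 : X3 * Y3 = Y3 * X3 := by
  have h := evalW_eq_of_weq (We3 ++ Wc3) (Wc3 ++ We3) X3_Y3_check
  rw [evalW_append, evalW_append] at h
  exact h

theorem N3_X3 : N3 * X3 * N3⁻¹ = X3 := conj_of_weq Wn3 We3 We3 N3_X3_check

theorem N3_Y3 : N3 * Y3 * N3⁻¹ = Y3⁻¹ := inv_conj_of_weq Wn3 Wc3 N3_Y3_check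

theorem V3_X3 : V3 * X3 * V3⁻¹ = X3⁻¹ := inv_conj_of_weq Wz3 We3 V3_X3_check

theorem V3_Y3 : V3 * Y3 * V3⁻¹ = Y3⁻¹ := inv_conj_of_weq Wz3 Wc3 V3_Y3_check

theorem U3_Y3 : U3 * Y3 * U3⁻¹ = Y3 := conj_of_weq Wd3 Wc3 Wc3 U3_Y3_check

theorem U3_X3 : U3 * X3 * U3⁻¹ = X3 * Y3 := by
  have h := conj_of_weq Wd3 We3 (We3 ++ Wc3) U3_X3_check
  rw [evalW_append] at h
  exact h

theorem U3_V3 : U3 * V3 * U3⁻¹ = V3 := conj_of_weq Wd3 Wz3 Wz3 U3_V3_check

theorem X3_ne : X3 ≠ 1 :=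
  FusPt.evalW_ne_one We3 ce3 p3_ok.2.1 2 (by norm_num) (by decide +kernel)

theorem Y3_ne : Y3 ≠ 1 :=
  FusPt.evalW_ne_one Wc3 cc3 p3_ok.1 2 (by norm_num) (by decide +kernel)

theorem Y3_ne_X3 : Y3 ≠ X3 := by
  intro e
  have h := eqC_of_evalW_eq cc3 ce3 Wc3 We3 p3_ok.1 p3_ok.2.1 e
  revert h
  decide +kernel

theorem Y3_ne_X3sq : Y3 ≠ X3 ^ 2 := by
  intro e
  have e' : evalW Wc3 = evalW (We3 ++ We3) := by
    rw [evalW_append, ← pow_two]
    exact e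
  have h := eqC_of_evalW_eq cc3 (compF ce3 ce3) Wc3 (We3 ++ We3) p3_ok.1
    (repr_compF _ _ _ _ p3_ok.2.1 p3_ok.2.1) e'
  revert h
  decide +kernel

def xG : ↥M24 := ⟨X3, evalW_mem_M24 We3 p3_ok.2.1.1⟩
def yG : ↥M24 := ⟨Y3, evalW_mem_M24 Wc3 p3_ok.1.1⟩
def uG : ↥M24 := ⟨U3, evalW_mem_M24 Wd3 p3_ok.2.2.1.1⟩
def vG : ↥M24 := ⟨V3, evalW_mem_M24 Wz3 p3_ok.2.2.2.1.1⟩
def nG : ↥M24 := ⟨N3, evalW_mem_M24 Wn3 p3_ok.2.2.2.2.1⟩

theorem hxyG : Commute xG yG := Subtype.ext X3_Y3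

theorem xG_pow3 : xG ^ 3 = 1 := Subtype.ext X3_pow3
theorem yG_pow3 : yG ^ 3 = 1 := Subtype.ext Y3_pow3
theorem uG_pow3 : uG ^ 3 = 1 := Subtype.ext U3_pow3
theorem nG_xG : nG * xG * nG⁻¹ = xG := Subtype.ext N3_X3
theorem nG_yG : nG * yG * nG⁻¹ = yG⁻¹ := Subtype.ext N3_Y3
theorem vG_xG : vG * xG * vG⁻¹ = xG⁻¹ := Subtype.ext V3_X3
theorem vG_yG : vG * yG * vG⁻¹ = yG⁻¹ := Subtype.ext V3_Y3
theorem uG_yG : uG * yG * uG⁻¹ = yG := Subtype.ext U3_Y3
theorem uG_xG : uG * xG * uG⁻¹ = xG * yG := Subtype.ext U3_X3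
theorem uG_vG : uG * vG * uG⁻¹ = vG := Subtype.ext U3_V3
theorem yG_ne : yG ≠ 1 := fun h => Y3_ne (congrArg Subtype.val h)
theorem xG_ne : xG ≠ 1 := fun h => X3_ne (congrArg Subtype.val h)

/-- the elementary abelian subgroup of order nine -/
def E3 : Subgroup ↥M24 := pairSubgroup xG yG hxyG

/-- the cyclic complement -/
def D3 : Subgroup ↥M24 := Subgroup.zpowers uG

theorem E3_pgroup : IsPGroup 3 E3 ∧ 3 ^ 2 ∣ Nat.card E3 :=
  nine_dvd_card_pair xG yG hxyG xG_pow3 yG_pow3 xG_ne yG_ne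
    (fun h => Y3_ne_X3 (congrArg Subtype.val h)) (fun h => Y3_ne_X3sq (congrArg Subtype.val h))

theorem D3_pgroup : IsPGroup 3 D3 := by
  intro g
  refine ⟨1, ?_⟩
  obtain ⟨i, hi⟩ := Subgroup.mem_zpowers_iff.1 g.2
  apply Subtype.ext
  rw [pow_one, Subgroup.coe_pow, ← hi, ← zpow_natCast, ← zpow_mul, mul_comm, zpow_mul,
    zpow_natCast, uG_pow3, one_zpow]
  rfl

theorem conj_pair {G : Type*} [Group G] (g x y : G) (i j : ℤ) :
    g * (x ^ i * y ^ j) * g⁻¹ = (g * x * g⁻¹) ^ i * (g * y * g⁻¹) ^ j := by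
  rw [conj_zpow, conj_zpow]
  group

theorem conj3 {G : Type*} [Group G] (g w : G) :
    g * (g * (g * w * g⁻¹) * g⁻¹) * g⁻¹ = g ^ 3 * w * (g ^ 3)⁻¹ := by
  simp only [pow_succ, pow_zero, one_mul, mul_inv_rev, mul_assoc]

theorem uG_conj (w : ↥M24) (hw : w ∈ E3) : uG * w * uG⁻¹ ∈ E3 := by
  obtain ⟨i, j, rfl⟩ := hw
  refine ⟨i, i + j, ?_⟩
  rw [conj_pair, uG_xG, uG_yG, hxyG.mul_zpow, zpow_add, mul_assoc]

theorem uG_normalizer : uG ∈ Subgroup.normalizer (E3 : Set ↥M24) := by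
  rw [Subgroup.mem_normalizer_iff]
  intro w
  constructor
  · exact uG_conj w
  · intro h
    have h2 := uG_conj _ (uG_conj _ h)
    rw [conj3, uG_pow3, one_mul, inv_one, mul_one] at h2
    exact h2

theorem D3_le : D3 ≤ Subgroup.normalizer (E3 : Set ↥M24) := by
  unfold D3
  rw [Subgroup.zpowers_le]
  exact uG_normalizer

theorem uG_not_mem : uG ∉ E3 := by
  rintro ⟨i, j, h⟩
  have hc : Commute uG xG := by
    rw [h]
    exact ((Commute.refl xG).zpow_left i).mul_left ((hxyG.symm).zpow_left j)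
  have h1 : uG * xG * uG⁻¹ = xG := by
    rw [hc.eq]
    group
  rw [uG_xG] at h1
  exact yG_ne (mul_eq_left.1 h1)

theorem vG_inv (w : ↥M24) (hw : w ∈ E3) : vG * w * vG⁻¹ = w⁻¹ := by
  obtain ⟨i, j, rfl⟩ := hw
  rw [conj_pair, vG_xG, vG_yG, inv_zpow, inv_zpow, ← mul_inv_rev, (hxyG.zpow_zpow i j).eq]

theorem not_dvd_card : ¬ 3 ^ (2 + 2) ∣ Nat.card ↥M24 := by
  rw [card_M24]
  decide

theorem local3 (Γ : Type) [Group Γ] [Finite Γ] (σ : Γ →* ↥M24)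
    (hs : Function.Surjective σ) (hK : σ.ker ≤ Subgroup.center Γ) :
    ∃ Q : Subgroup ↥M24, ¬ 3 ∣ Q.index ∧
      ∀ k ∈ ⁅Q.comap σ, Q.comap σ⁆, k ∈ σ.ker → k = 1 := by
  have : Fact (Nat.Prime 3) := ⟨Nat.prime_three⟩
  have hP3 : IsPGroup 3 (E3 ⊔ D3 : Subgroup ↥M24) :=
    IsPGroup.to_sup_of_normal_left' E3_pgroup.1 D3_pgroup D3_le
  refine ⟨E3 ⊔ D3, ?_, ?_⟩
  · exact not_dvd_index_of_lt 3 E3 (E3 ⊔ D3) hP3 le_sup_left
      ⟨uG, Subgroup.mem_sup_right (Subgroup.mem_zpowers uG), uG_not_mem⟩ 2 E3_pgroup.2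
      not_dvd_card
  obtain ⟨x, hx⟩ := hs xG
  obtain ⟨y, hy⟩ := hs yG
  obtain ⟨n, hn⟩ := hs nG
  obtain ⟨z, hz0⟩ := hs vG
  obtain ⟨d, hd0⟩ := hs uG
  have hb := comm_eq_bot_of_three σ hK (E3.comap σ) x y n
    (by rw [hx]; exact xG_pow3)
    (by rw [hx, hy]; exact hxyG.eq)
    (by rw [hx, hn]; exact nG_xG)
    (by rw [hy, hn]; exact nG_yG)
    (by
      intro u hu
      obtain ⟨i, j, hij⟩ := (mem_pairSubgroup xG yG hxyG (σ u)).1 hu
      exact ⟨i, j, by rw [hx, hy]; exact hij⟩)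
  have hE : ∀ u ∈ E3.comap σ, ∀ v ∈ E3.comap σ, u * v = v * u := by
    intro u hu v hv
    have h1 := Subgroup.commutator_eq_bot_iff_le_centralizer.1 hb
    exact (Subgroup.mem_centralizer_iff.1 (h1 hv) u hu)
  have hz : ∀ u ∈ E3, σ z * u * (σ z)⁻¹ ∈ E3 := by
    intro u hu
    rw [hz0, vG_inv u hu]
    exact Subgroup.inv_mem _ hu
  have hfpf : ∀ u ∈ E3, σ z * u * (σ z)⁻¹ = u → u = 1 := by
    intro u hu h
    rw [hz0, vG_inv u hu] at h
    have h2 : u ^ 2 = 1 := by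
      rw [pow_two]
      exact inv_mul_eq_one.2 h
    obtain ⟨k, hk⟩ := E3_pgroup.1 ⟨u, hu⟩
    have hk' : u ^ (3 ^ k) = 1 := by
      have := congrArg Subtype.val hk
      simpa using this
    obtain ⟨m, hm⟩ : Odd (3 ^ k) := Odd.pow (by decide)
    rw [hm, pow_succ, pow_mul, h2, one_pow, one_mul] at hk'
    exact hk'
  have hER : ∀ u ∈ E3, ∃ a, σ a = u := fun u _ => hs u
  have hDn : ∀ d' ∈ D3.comap σ, ∀ e ∈ fpfCompl σ E3 z hE hz,
      d' * e * d'⁻¹ ∈ fpfCompl σ E3 z hE hz := by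
    intro d' hd' e he
    have hdD : σ d' ∈ D3 := hd'
    obtain ⟨i, hi⟩ := Subgroup.mem_zpowers_iff.1 hdD
    have hdn : ∀ w ∈ E3, σ d' * w * (σ d')⁻¹ ∈ E3 := by
      intro w hw
      exact (Subgroup.mem_normalizer_iff.1 (D3_le hdD) w).1 hw
    have hdz : σ d' * σ z * (σ d')⁻¹ = σ z := by
      rw [hz0, ← hi]
      have hc : Commute uG vG := by
        have := uG_vG
        exact mul_inv_eq_iff_eq_mul.1 this
      exact mul_inv_eq_iff_eq_mul.2 (hc.zpow_left i).eq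
    exact conj_mem_fpfCompl' σ E3 z hE hz hK hER hfpf d' z hdn hz rfl hdz e he
  have hDc : ∀ c ∈ ⁅D3.comap σ, D3.comap σ⁆, σ c ∈ E3 → c = 1 := by
    have hb2 := comm_eq_bot_of_cyclic σ hK (D3.comap σ) d (fun u hu => by
      obtain ⟨i, hi⟩ := Subgroup.mem_zpowers_iff.1 (show σ u ∈ D3 from hu)
      exact ⟨i, by rw [hd0]; exact hi.symm⟩)
    intro c hc _
    rw [hb2] at hc
    exact Subgroup.mem_bot.1 hc
  have hP : ∀ g ∈ (E3 ⊔ D3 : Subgroup ↥M24), ∃ e ∈ E3, ∃ d ∈ D3, g = e * d := by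
    intro g hg
    have h1 : g ∈ ((E3 ⊔ D3 : Subgroup ↥M24) : Set ↥M24) := hg
    rw [Subgroup.coe_mul_of_right_le_normalizer_left E3 D3 D3_le] at h1
    obtain ⟨e, he, d', hd', rfl⟩ := Set.mem_mul.1 h1
    exact ⟨e, he, d', hd', rfl⟩
  exact comm_inf_ker_of_split σ E3 z hE hz hK hER hfpf D3 (E3 ⊔ D3) hDn hDc hP

/-! ### The kernel of a stem extension -/

theorem not_sq_dvd (p : ℕ) (hp : p.Prime) (h2 : p ≠ 2) (h3 : p ≠ 3) :
    ¬ p ^ 2 ∣ 244823040 := by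
  intro hd
  have h1 : p ∣ 2 ^ 10 * 3 ^ 3 * 5 * 7 * 11 * 23 := (dvd_pow_self p (by norm_num)).trans hd
  have hfin : ∀ q : ℕ, q.Prime → p ∣ q → ¬ q ^ 2 ∣ 244823040 → False := by
    intro q hq hpq hn
    have := (Nat.prime_dvd_prime_iff_eq hp hq).1 hpq
    subst this
    exact hn hd
  rcases (Nat.Prime.dvd_mul hp).1 h1 with h | h
  · rcases (Nat.Prime.dvd_mul hp).1 h with h | h
    · rcases (Nat.Prime.dvd_mul hp).1 h with h | h
      · rcases (Nat.Prime.dvd_mul hp).1 h with h | h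
        · rcases (Nat.Prime.dvd_mul hp).1 h with h | h
          · exact h2 ((Nat.prime_dvd_prime_iff_eq hp Nat.prime_two).1 (hp.dvd_of_dvd_pow h))
          · exact h3 ((Nat.prime_dvd_prime_iff_eq hp Nat.prime_three).1 (hp.dvd_of_dvd_pow h))
        · exact hfin 5 Nat.prime_five h (by decide)
      · exact hfin 7 (by norm_num) h (by decide)
    · exact hfin 11 (by norm_num) h (by decide)
  · exact hfin 23 (by norm_num) h (by decide)

/-- every finite stem extension of the Mathieu group of degree 24 is an isomorphism -/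
theorem ker_eq_bot (Γ : Type) [Group Γ] [Finite Γ] (σ : Γ →* ↥M24)
    (hσ : Cfsg.IsStemExtension σ) : σ.ker = ⊥ := by
  obtain ⟨hs, hK, hK'⟩ := hσ
  apply ker_eq_bot_of_local σ hs hK hK'
  intro p hp
  by_cases h2 : p = 2
  · subst h2
    have : Fact (Nat.Prime 2) := ⟨Nat.prime_two⟩
    obtain ⟨S, hS⟩ := sylow2
    refine ⟨S, S.not_dvd_index, ?_⟩
    rw [hS]
    exact local2 Γ σ hs hK
  by_cases h3 : p = 3
  · subst h3
    exact local3 Γ σ hs hK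
  · apply local_of_not_sq_dvd σ hs hK p hp
    rw [card_M24]
    exact not_sq_dvd p hp h2 h3

end Cfsg.Agent.Helper29.SchurM24
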