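import Mathlib
import Cfsg.Agent.Lib.Helper29.SchurM24
import Cfsg.Agent.Lib.Helper29.FusM12
import Cfsg.Agent.Lib.Helper29.StemQuot
import Cfsg.Agent.Lib.Helper29.M12Simple

set_option autoImplicit false
open Cfsg

namespace Cfsg.Agent.Helper29.SchurM12

open Cfsg.Agent.Helper27 Cfsg.Agent.Helper29 Cfsg.Agent.Helper29.M24
open Cfsg.Agent.Helper29.FusCert Cfsg.Agent.Helper29.Syl2 Cfsg.Agent.Helper29.FusPt
open Cfsg.Agent.Helper29.FusM12 (Q12 gt qt QL ctx coreN mem_M12_of)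
open Cfsg.Agent.Helper29.StemSylow Cfsg.Agent.Helper29.StemSplit Cfsg.Agent.Helper29.StemQuot
open Cfsg.Agent.Helper29.SchurM11 (weq evalW_eq_of_weq evalW_eq_of_eqC)
open Cfsg.Agent.Helper29.SchurM23 (conj_of_weq invNorm)
open Cfsg.Agent.Helper29.SchurM24 (closure_sub_list inv_of_weq)
open Cfsg.Agent.S0358 (idx)
open scoped Pointwise commutatorElement

/-! ### Explicit elements -/

def We1 : List ℕ := [0, 0, 2, 0, 1, 0, 2, 3, 2, 2, 3, 6, 6, 8, 12]

def ce1 : ℕ := 845755151323099078642595053107782658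

def Ws : List ℕ := [2, 0, 0, 2, 0, 1, 2, 0, 0, 2, 0, 3, 2, 2, 2, 3, 4, 5]

def cs : ℕ := 443555035375197669244276617455731785

def Wt : List ℕ := [0, 0, 2, 0, 1, 2, 2, 0, 2, 0, 2, 2, 5, 4, 4, 5, 4, 7, 6, 6, 12]

def ct : ℕ := 855744892923190261161248295127426049

def Wz : List ℕ := [2, 2, 1, 0, 1, 0, 0, 2, 0, 0, 2, 3, 2, 2, 3, 5, 4, 4, 4, 4, 5, 7, 7, 6, 12, 11, 9]

def cz : ℕ := 736229445276314819985010181810430384

def Wp : List ℕ := [6, 11, 10]

def cp : ℕ := 970254902120350598020240965873371168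

def Wq : List ℕ := [2, 1, 0, 1, 2, 0, 5, 4, 5, 4, 7, 8, 8, 9]

def cq : ℕ := 603834352726305146050458997352438275

def Wx3 : List ℕ := [1, 0, 1, 2, 2, 0, 2, 0, 2, 2, 4, 4, 4, 5, 7, 6, 7, 11, 9]

def cx3 : ℕ := 928554840276789377001633674306915622

def Wy3 : List ℕ := [0, 0, 3, 3, 2, 4, 5, 4, 8, 12, 11, 10]

def cy3 : ℕ := 984167860661803650488007467100046338

def Wu3 : List ℕ := [6, 7, 8, 8, 9]

def cu3 : ℕ := 984534996141977609297800625156032544

def Wn3 : List ℕ := [0, 2, 3, 4, 5, 7, 6, 7, 11, 10]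

def cn3 : ℕ := 984573615201180725592165913404213249

def Wv3 : List ℕ := [1, 0, 0, 1, 2, 3, 2, 2, 5, 4, 5, 4, 7, 6, 6, 7, 6, 10]

def cv3 : ℕ := 485907730253662375403897019285636160

theorem reprs2 : Repr ce1 We1 ∧ Repr cs Ws ∧ Repr ct Wt ∧ Repr cz Wz ∧ Repr cp Wp ∧ Repr cq Wq := by
  decide +kernel

theorem gts2 : gt ce1 = true ∧ gt cs = true ∧ gt ct = true ∧ gt cz = true ∧ gt cp = true ∧
    gt cq = true := by decide +kernel

def E1 : Equiv.Perm GolayPt := evalW We1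
def S : Equiv.Perm GolayPt := evalW Ws
def T : Equiv.Perm GolayPt := evalW Wt
def Z : Equiv.Perm GolayPt := evalW Wz
def Pp : Equiv.Perm GolayPt := evalW Wp
def Qq : Equiv.Perm GolayPt := evalW Wq

def We2 : List ℕ := Ws ++ (We1 ++ Ws)

def ce2 : ℕ := compF cs (compF ce1 cs)

theorem e2_ok : Repr ce2 We2 :=
  repr_compF _ _ _ _ reprs2.2.1 (repr_compF _ _ _ _ reprs2.1 reprs2.2.1)

def E2 : Equiv.Perm GolayPt := evalW We2

theorem S_check : weq (Ws ++ Ws) [] = true := by decide +kernel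
theorem T_check : weq (Wt ++ Wt) [] = true := by decide +kernel

theorem S_inv : S⁻¹ = S := (inv_of_weq Ws Ws S_check).symm
theorem T_inv : T⁻¹ = T := (inv_of_weq Wt Wt T_check).symm

theorem S_sq : S * S = 1 := by
  have := S_inv
  calc S * S = S⁻¹ * S := by rw [this]
    _ = 1 := inv_mul_cancel S

theorem T_sq : T * T = 1 := by
  have := T_inv
  calc T * T = T⁻¹ * T := by rw [this]
    _ = 1 := inv_mul_cancel T

theorem E2_eq : E2 = S * E1 * S⁻¹ := by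
  unfold E2 We2
  rw [evalW_append, evalW_append, S_inv, mul_assoc]
  rfl

theorem ST_check : weq (Ws ++ Wt) (Wt ++ Ws) = true := by decide +kernel

theorem S_T : S * T = T * S := by
  have h := evalW_eq_of_weq _ _ ST_check
  rw [evalW_append, evalW_append] at h
  exact h

theorem SP_check : weq (Ws ++ Wp) (Wp ++ Ws) = true := by decide +kernel

theorem S_P : S * Pp = Pp * S := by
  have h := evalW_eq_of_weq _ _ SP_check
  rw [evalW_append, evalW_append] at h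
  exact h

theorem SQ_check : weq (Ws ++ Wq) (Wq ++ Ws) = true := by decide +kernel

theorem S_Q : S * Qq = Qq * S := by
  have h := evalW_eq_of_weq _ _ SQ_check
  rw [evalW_append, evalW_append] at h
  exact h

/-- the inverses of `p` and `q` -/
theorem P_check : weq (Wp ++ Wp) [] = true := by decide +kernel

def Wqi : List ℕ := FusCert.powW Wq 5

theorem Q_check : weq (Wq ++ Wqi) [] = true := by decide +kernel

theorem P_inv : Pp⁻¹ = Pp := (inv_of_weq Wp Wp P_check).symm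
theorem Q_inv : Qq⁻¹ = evalW Wqi := (inv_of_weq Wq Wqi Q_check).symm

theorem rel_check : weq (We1 ++ We2) (Wp ++ (Wq ++ (Wp ++ (Wqi ++ Wt)))) = true := by
  decide +kernel

theorem rel : E1 * (S * E1 * S⁻¹) = ⁅Pp, Qq⁆ * T := by
  have h := evalW_eq_of_weq _ _ rel_check
  rw [evalW_append, evalW_append, evalW_append, evalW_append, evalW_append, ← Q_inv] at h
  rw [← E2_eq, commutatorElement_def]
  have hp : (evalW Wp)⁻¹ = evalW Wp := P_inv
  show evalW We1 * evalW We2 = evalW Wp * evalW Wq * (evalW Wp)⁻¹ * (evalW Wq)⁻¹ * evalW Wt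
  rw [h, hp]
  simp only [mul_assoc]
  rfl

/-! ### The homocyclic subgroup -/

def SE : Set (Equiv.Perm GolayPt) := {E1, E2}

def E : Subgroup (Equiv.Perm GolayPt) := Subgroup.closure SE

def EL : List (List ℕ × ℕ) := (List.range 4).flatMap fun i => (List.range 4).map fun j =>
  (FusCert.powW We1 i ++ FusCert.powW We2 j, compF (powC ce1 i) (powC ce2 j))

theorem E1_mem : E1 ∈ E := Subgroup.subset_closure (by simp [SE])
theorem E2_mem : E2 ∈ E := Subgroup.subset_closure (by simp [SE])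

theorem EL_spec : ∀ q ∈ EL, Repr q.2 q.1 ∧ evalW q.1 ∈ E := by
  intro q hq
  unfold EL at hq
  rw [List.mem_flatMap] at hq
  obtain ⟨i, -, hq⟩ := hq
  rw [List.mem_map] at hq
  obtain ⟨j, -, rfl⟩ := hq
  have hr2 : Repr (compF (powC ce1 i) (powC ce2 j)) (FusCert.powW We1 i ++ FusCert.powW We2 j) :=
    repr_compF _ _ _ _ (repr_powC ce1 We1 reprs2.1 i) (repr_powC ce2 We2 e2_ok j)
  dsimp only
  refine ⟨hr2, ?_⟩
  rw [evalW_append, FusCert.evalW_powW, FusCert.evalW_powW]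
  exact Subgroup.mul_mem _ (Subgroup.pow_mem _ E1_mem i) (Subgroup.pow_mem _ E2_mem j)

theorem EL_gens : ([ce1, ce2].all fun g => EL.any fun q => eqC g q.2) = true := by decide +kernel

theorem EL_one : (EL.any fun q => eqC q.2 cId) = true := by decide +kernel

theorem EL_mul : (EL.all fun p => EL.all fun q => EL.any fun r =>
    eqC (compF p.2 q.2) r.2) = true := by decide +kernel

theorem EL_inv : (EL.all fun p => EL.any fun q => eqC (compF p.2 q.2) cId) = true := by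
  decide +kernel

theorem E_sub (u : Equiv.Perm GolayPt) (hu : u ∈ E) : ∃ q ∈ EL, u = evalW q.1 := by
  refine closure_sub_list SE EL (fun q hq => (EL_spec q hq).1) ?_ EL_one EL_mul EL_inv u hu
  intro s hs
  have hg := EL_gens
  simp only [List.all_cons, List.all_nil, Bool.and_true, Bool.and_eq_true] at hg
  simp only [SE, Set.mem_insert_iff, Set.mem_singleton_iff] at hs
  rcases hs with rfl | rfl
  · obtain ⟨q, hq, h⟩ := List.any_eq_true.1 hg.1
    exact ⟨q, hq, evalW_eq_of_eqC _ _ _ _ reprs2.1 (EL_spec q hq).1 h⟩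
  · obtain ⟨q, hq, h⟩ := List.any_eq_true.1 hg.2
    exact ⟨q, hq, evalW_eq_of_eqC _ _ _ _ e2_ok (EL_spec q hq).1 h⟩

theorem mem_E_of_code (W : List ℕ) (c : ℕ) (hr : Repr c W)
    (h : (EL.any fun q => eqC c q.2) = true) : evalW W ∈ E := by
  obtain ⟨q, hq, h1⟩ := List.any_eq_true.1 h
  rw [evalW_eq_of_eqC _ _ _ _ hr (EL_spec q hq).1 h1]
  exact (EL_spec q hq).2

/-- conjugation by the permutation with packed action `cg` maps the generators into the list -/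
def fwdCheck (cg cgi : ℕ) : Bool :=
  [ce1, ce2].all fun g => EL.any fun q => eqC (compF cg (compF g cgi)) q.2

theorem fwd_of_check (Wg Wgi : List ℕ) (cg cgi : ℕ) (hg : Repr cg Wg) (hgi : Repr cgi Wgi)
    (hinv : evalW Wgi = (evalW Wg)⁻¹) (h : fwdCheck cg cgi = true) (u : Equiv.Perm GolayPt)
    (hu : u ∈ E) : evalW Wg * u * (evalW Wg)⁻¹ ∈ E := by
  apply conj_mem_closure SE (evalW Wg) _ u hu
  unfold fwdCheck at h
  simp only [List.all_cons, List.all_nil, Bool.and_true, Bool.and_eq_true] at h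
  intro s hs
  simp only [SE, Set.mem_insert_iff, Set.mem_singleton_iff] at hs
  rcases hs with rfl | rfl
  · have h2 := mem_E_of_code (Wg ++ (We1 ++ Wgi)) _
      (repr_compF _ _ _ _ hg (repr_compF _ _ _ _ reprs2.1 hgi)) h.1
    rw [evalW_append, evalW_append, hinv, ← mul_assoc] at h2
    exact h2
  · have h2 := mem_E_of_code (Wg ++ (We2 ++ Wgi)) _
      (repr_compF _ _ _ _ hg (repr_compF _ _ _ _ e2_ok hgi)) h.2
    rw [evalW_append, evalW_append, hinv, ← mul_assoc] at h2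
    exact h2

def Wzi : List ℕ := Wz ++ Wz

def czi : ℕ := compF cz cz

theorem zi_ok : Repr czi Wzi := repr_compF _ _ _ _ reprs2.2.2.2.1 reprs2.2.2.2.1

theorem Zi_check : weq (Wz ++ Wzi) [] = true := by decide +kernel

theorem Zi_eq : evalW Wzi = Z⁻¹ := inv_of_weq Wz Wzi Zi_check

theorem Z_fwd : fwdCheck cz czi = true := by decide +kernel

theorem Z_norm (u : Equiv.Perm GolayPt) (hu : u ∈ E) : Z * u * Z⁻¹ ∈ E :=
  fwd_of_check Wz Wzi cz czi reprs2.2.2.2.1 zi_ok Zi_eq Z_fwd u hu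

theorem Zi_fwd : fwdCheck czi cz = true := by decide +kernel

theorem Zi_norm (u : Equiv.Perm GolayPt) (hu : u ∈ E) : Z⁻¹ * u * Z⁻¹⁻¹ ∈ E := by
  have h := fwd_of_check Wzi Wz czi cz zi_ok reprs2.2.2.2.1 (by rw [Zi_eq, inv_inv]; rfl)
    Zi_fwd u hu
  rw [Zi_eq] at h
  exact h

theorem Z_fpf_check : (EL.all fun q => !(eqC (compF cz q.2) (compF q.2 cz)) || eqC q.2 cId) = true := by
  decide +kernel

theorem Z_fpf (u : Equiv.Perm GolayPt) (hu : u ∈ E) (h : Z * u * Z⁻¹ = u) : u = 1 := by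
  obtain ⟨q, hq, rfl⟩ := E_sub u hu
  have hr := (EL_spec q hq).1
  have h1 := List.all_eq_true.1 Z_fpf_check q hq
  have h2 : eqC (compF cz q.2) (compF q.2 cz) = true := by
    apply eqC_of_evalW_eq _ _ (Wz ++ q.1) (q.1 ++ Wz) (repr_compF _ _ _ _ reprs2.2.2.2.1 hr)
      (repr_compF _ _ _ _ hr reprs2.2.2.2.1)
    rw [evalW_append, evalW_append]
    exact mul_inv_eq_iff_eq_mul.1 h
  rw [h2, Bool.not_true, Bool.false_or] at h1
  rw [evalW_eq_of_eqC _ _ _ _ hr repr_cId h1, evalW_nil]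

theorem S_fwd : fwdCheck cs cs = true := by decide +kernel
theorem T_fwd : fwdCheck ct ct = true := by decide +kernel

theorem S_norm (u : Equiv.Perm GolayPt) (hu : u ∈ E) : S * u * S⁻¹ ∈ E :=
  fwd_of_check Ws Ws cs cs reprs2.2.1 reprs2.2.1 S_inv.symm S_fwd u hu

theorem T_norm (u : Equiv.Perm GolayPt) (hu : u ∈ E) : T * u * T⁻¹ ∈ E :=
  fwd_of_check Wt Wt ct ct reprs2.2.2.1 reprs2.2.2.1 T_inv.symm T_fwd u hu

theorem E_le_M12 : E ≤ Cfsg.Spor.M12 := by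
  unfold E
  rw [Subgroup.closure_le]
  intro s hs
  simp only [SE, Set.mem_insert_iff, Set.mem_singleton_iff] at hs
  rcases hs with rfl | rfl
  · exact mem_M12_of We1 ce1 reprs2.1 gts2.1
  · rw [E2_eq]
    have h1 := mem_M12_of We1 ce1 reprs2.1 gts2.1
    have h2 := mem_M12_of Ws cs reprs2.2.1 gts2.2.1
    exact Subgroup.mul_mem _ (Subgroup.mul_mem _ h2 h1) (Subgroup.inv_mem _ h2)

/-! ### The complement -/

def SD : Set (Equiv.Perm GolayPt) := {S, T}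

def D : Subgroup (Equiv.Perm GolayPt) := Subgroup.closure SD

theorem SZ_check : weq (Ws ++ Wz) (Wzi ++ Ws) = true := by decide +kernel
theorem TZ_check : weq (Wt ++ Wz) (Wz ++ Wt) = true := by decide +kernel

theorem S_Z : S * Z * S⁻¹ = Z⁻¹ := by
  rw [← Zi_eq]
  exact conj_of_weq Ws Wz Wzi SZ_check

theorem T_Z : T * Z * T⁻¹ = Z := conj_of_weq Wt Wz Wz TZ_check

/-- the elements normalizing `E` -/
def normE : Subgroup (Equiv.Perm GolayPt) where
  carrier := {g | (∀ u ∈ E, g * u * g⁻¹ ∈ E) ∧ ∀ u ∈ E, g⁻¹ * u * g ∈ E}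
  mul_mem' := by
    rintro g h ⟨hg1, hg2⟩ ⟨hh1, hh2⟩
    refine ⟨fun u hu => ?_, fun u hu => ?_⟩
    · have := hg1 _ (hh1 u hu)
      have e : g * h * u * (g * h)⁻¹ = g * (h * u * h⁻¹) * g⁻¹ := by group
      rw [e]; exact this
    · have := hh2 _ (hg2 u hu)
      have e : (g * h)⁻¹ * u * (g * h) = h⁻¹ * (g⁻¹ * u * g) * h := by group
      rw [e]; exact this
  one_mem' := ⟨fun u hu => by simpa using hu, fun u hu => by simpa using hu⟩
  inv_mem' := by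
    rintro g ⟨hg1, hg2⟩
    refine ⟨fun u hu => ?_, fun u hu => ?_⟩
    · have := hg2 u hu
      rw [inv_inv]; exact this
    · have := hg1 u hu
      rw [inv_inv]; exact this

theorem D_le : D ≤ normE ⊓ invNorm Z := by
  unfold D
  rw [Subgroup.closure_le]
  intro s hs
  simp only [SD, Set.mem_insert_iff, Set.mem_singleton_iff] at hs
  rcases hs with rfl | rfl
  · refine Subgroup.mem_inf.2 ⟨⟨S_norm, fun u hu => ?_⟩, Or.inr S_Z⟩
    have := S_norm u hu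
    rw [S_inv] at this ⊢
    exact this
  · refine Subgroup.mem_inf.2 ⟨⟨T_norm, fun u hu => ?_⟩, Or.inl T_Z⟩
    have := T_norm u hu
    rw [T_inv] at this ⊢
    exact this

theorem D_norm (d : Equiv.Perm GolayPt) (hd : d ∈ D) : ∀ u ∈ E, d * u * d⁻¹ ∈ E :=
  (Subgroup.mem_inf.1 (D_le hd)).1.1

theorem D_inv (d : Equiv.Perm GolayPt) (hd : d ∈ D) : d * Z * d⁻¹ = Z ∨ d * Z * d⁻¹ = Z⁻¹ :=
  (Subgroup.mem_inf.1 (D_le hd)).2

def DL : List (List ℕ × ℕ) := [([], cId), (Ws, cs), (Wt, ct), (Ws ++ Wt, compF cs ct)]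

theorem DL_spec : ∀ d ∈ DL, Repr d.2 d.1 ∧ evalW d.1 ∈ D := by
  have hS : S ∈ D := Subgroup.subset_closure (by simp [SD])
  have hT : T ∈ D := Subgroup.subset_closure (by simp [SD])
  intro d hd
  simp only [DL, List.mem_cons, List.not_mem_nil, or_false] at hd
  rcases hd with rfl | rfl | rfl | rfl
  · exact ⟨repr_cId, by rw [evalW_nil]; exact Subgroup.one_mem _⟩
  · exact ⟨reprs2.2.1, hS⟩
  · exact ⟨reprs2.2.2.1, hT⟩
  · have hr2 : Repr (compF cs ct) (Ws ++ Wt) := repr_compF _ _ _ _ reprs2.2.1 reprs2.2.2.1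
    refine ⟨hr2, ?_⟩
    rw [evalW_append]
    exact Subgroup.mul_mem _ hS hT

/-- the list of the products -/
def PL : List (List ℕ × ℕ) := EL.flatMap fun e => DL.map fun d => (e.1 ++ d.1, compF e.2 d.2)

set_option maxRecDepth 100000 in
set_option maxHeartbeats 0 in
theorem PL_check : (QL.all fun q => PL.any fun r => eqC q.2 r.2) = true := by decide +kernel

theorem PL_spec : ∀ r ∈ PL, Repr r.2 r.1 ∧ ∃ e ∈ E, ∃ d ∈ D, evalW r.1 = e * d := by
  intro r hrm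
  unfold PL at hrm
  rw [List.mem_flatMap] at hrm
  obtain ⟨e, he, hrm⟩ := hrm
  rw [List.mem_map] at hrm
  obtain ⟨d, hd, rfl⟩ := hrm
  have he' := EL_spec e he
  have hd' := DL_spec d hd
  have hr2 : Repr (compF e.2 d.2) (e.1 ++ d.1) := repr_compF _ _ _ _ he'.1 hd'.1
  dsimp only
  refine ⟨hr2, evalW e.1, he'.2, evalW d.1, hd'.2, ?_⟩
  rw [evalW_append]

theorem P_struct (g : Equiv.Perm GolayPt) (hg : g ∈ Q12) : ∃ e ∈ E, ∃ d ∈ D, g = e * d := by
  obtain ⟨q, hq, hr, rfl⟩ := ctx.hQL g hg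
  have h1 := List.all_eq_true.1 PL_check q hq
  obtain ⟨r, hrm, h2⟩ := List.any_eq_true.1 h1
  obtain ⟨hr2, e, he, d, hd, h3⟩ := PL_spec r hrm
  refine ⟨e, he, d, hd, ?_⟩
  rw [← h3]
  exact evalW_eq_of_eqC _ _ _ _ hr hr2 h2

/-! ### The order and the simplicity of the group -/

theorem map_stab : (MulAction.stabilizer M24 Cfsg.Spor.squareDodecad).map M24.subtype =
    Cfsg.Spor.M12 := by
  ext g
  rw [Subgroup.mem_map]
  constructor
  · rintro ⟨⟨g', hg'⟩, hk, rfl⟩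
    refine Subgroup.mem_inf.2 ⟨hg', ?_⟩
    exact MulAction.mem_stabilizer_iff.2 (MulAction.mem_stabilizer_iff.1 hk)
  · intro hg
    obtain ⟨hM24, hsD⟩ := Subgroup.mem_inf.1 hg
    refine ⟨⟨g, hM24⟩, ?_, rfl⟩
    exact MulAction.mem_stabilizer_iff.2 (MulAction.mem_stabilizer_iff.1 hsD)

theorem card_M12 : Nat.card ↥Cfsg.Spor.M12 = 95040 := by
  rw [← map_stab, Subgroup.card_map_of_injective (Subgroup.subtype_injective _)]
  exact (card_orbit_stab Cfsg.Spor.squareDodecad SchurM11.squareDodecad_mem).2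

/-- the stabilizer in the big group is the group of degree twelve -/
noncomputable def stabEquiv :
    ↥(MulAction.stabilizer M24 Cfsg.Spor.squareDodecad) ≃* ↥Cfsg.Spor.M12 :=
  ((MulAction.stabilizer M24 Cfsg.Spor.squareDodecad).equivMapOfInjective M24.subtype
    (Subgroup.subtype_injective _)).trans (MulEquiv.subgroupCongr map_stab)

theorem simple_M12 : IsSimpleGroup ↥Cfsg.Spor.M12 := by
  have h := stab_dodecad_simple Cfsg.Spor.squareDodecad SchurM11.squareDodecad_mem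
  exact stabEquiv.symm.isSimpleGroup

def sG : ↥Cfsg.Spor.M12 := ⟨S, mem_M12_of Ws cs reprs2.2.1 gts2.2.1⟩
def tG : ↥Cfsg.Spor.M12 := ⟨T, mem_M12_of Wt ct reprs2.2.2.1 gts2.2.2.1⟩
def zG : ↥Cfsg.Spor.M12 := ⟨Z, mem_M12_of Wz cz reprs2.2.2.2.1 gts2.2.2.2.1⟩

theorem Z_ne_check : ((List.range 24).any fun x => !Nat.beq (appF cz x) x) = true := by
  decide +kernel

theorem Z_ne : Z ≠ 1 := by
  have h2 := Z_ne_check
  rw [List.any_eq_true] at h2
  obtain ⟨x, hx, hne⟩ := h2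
  rw [List.mem_range] at hx
  refine FusPt.evalW_ne_one Wz cz reprs2.2.2.2.1 x hx ?_
  intro e
  rw [e, Nat.beq_refl] at hne
  exact absurd hne (by decide)

theorem Z_pow3 : Z ^ 3 = 1 := by
  have h : Z * Z⁻¹ = 1 := mul_inv_cancel Z
  rw [← Zi_eq] at h
  unfold Wzi at h
  rw [evalW_append] at h
  rw [pow_succ, pow_two]
  rw [mul_assoc]
  exact h

theorem perfect_M12 : commutator ↥Cfsg.Spor.M12 = ⊤ := by
  have := simple_M12
  have hn : (commutator ↥Cfsg.Spor.M12).Normal := by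
    rw [commutator_def]
    infer_instance
  rcases hn.eq_bot_or_eq_top with h | h
  · exfalso
    -- the group is not abelian
    have hc : ⁅sG, zG⁆ ∈ commutator ↥Cfsg.Spor.M12 :=
      Subgroup.commutator_mem_commutator (Subgroup.mem_top _) (Subgroup.mem_top _)
    rw [h, Subgroup.mem_bot, commutatorElement_eq_one_iff_mul_comm] at hc
    have h1 : S * Z = Z * S := congrArg Subtype.val hc
    have h2 : S * Z * S⁻¹ = Z := by rw [h1]; group
    rw [S_Z] at h2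
    -- `Z⁻¹ = Z` and `Z ^ 3 = 1` give `Z = 1`
    have h3 : Z * Z = 1 := by
      calc Z * Z = Z⁻¹ * Z := by rw [h2]
        _ = 1 := inv_mul_cancel Z
    have h4 := Z_pow3
    rw [pow_succ, pow_two, h3, one_mul] at h4
    exact Z_ne h4
  · exact h

/-! ### The prime two -/

theorem sylow2 : ∃ P : Sylow 2 ↥Cfsg.Spor.M12,
    (P : Subgroup ↥Cfsg.Spor.M12) = Q12.subgroupOf Cfsg.Spor.M12 := by
  have : Fact (Nat.Prime 2) := ⟨Nat.prime_two⟩
  apply exists_sylow_eq_of_selfNormalizing 2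
  · intro g
    refine ⟨3, ?_⟩
    apply Subtype.ext
    apply Subtype.ext
    have := ctx.hpow g.1.1 (Subgroup.mem_subgroupOf.1 g.2)
    simpa using this
  · intro n hn
    rw [Subgroup.mem_subgroupOf]
    apply coreN _ n.2
    intro x hx
    have := hn ⟨x, ctx.hQG hx⟩ (Subgroup.mem_subgroupOf.2 hx)
    rw [Subgroup.mem_subgroupOf] at this
    exact this

theorem local2 (Γ : Type) [Group Γ] [Finite Γ] (σ : Γ →* ↥Cfsg.Spor.M12)
    (hs : Function.Surjective σ) (hK : σ.ker ≤ Subgroup.center Γ)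
    (hc : ∃ a b : Γ, σ a = sG ∧ σ b = tG ∧ a * b = b * a) :
    ∀ k ∈ ⁅(Q12.subgroupOf Cfsg.Spor.M12).comap σ, (Q12.subgroupOf Cfsg.Spor.M12).comap σ⁆,
      k ∈ σ.ker → k = 1 := by
  obtain ⟨τ, hτ⟩ : ∃ τ : Γ →* Equiv.Perm GolayPt, τ = (Subgroup.subtype _).comp σ := ⟨_, rfl⟩
  have hτa : ∀ a, τ a = (σ a : Equiv.Perm GolayPt) := by
    intro a
    rw [hτ]
    rfl
  have hker : τ.ker = σ.ker := by
    ext a
    rw [MonoidHom.mem_ker, MonoidHom.mem_ker, hτa]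
    constructor
    · intro h
      exact Subtype.ext h
    · intro h
      rw [h]
      rfl
  have hKτ : τ.ker ≤ Subgroup.center Γ := hker ▸ hK
  have hlift : ∀ g ∈ Cfsg.Spor.M12, ∃ a, τ a = g := by
    intro g hg
    obtain ⟨a, ha⟩ := hs ⟨g, hg⟩
    exact ⟨a, by rw [hτa, ha]⟩
  have hcomap : (Q12.subgroupOf Cfsg.Spor.M12).comap σ = Q12.comap τ := by
    ext a
    rw [Subgroup.mem_comap, Subgroup.mem_comap, Subgroup.mem_subgroupOf, hτa]
  rw [hcomap, ← hker]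
  obtain ⟨a, b, ha, hb, hab⟩ := hc
  have hτS : τ a = S := by rw [hτa, ha]; rfl
  have hτT : τ b = T := by rw [hτa, hb]; rfl
  obtain ⟨x, hx⟩ := hlift E1 (mem_M12_of We1 ce1 reprs2.1 gts2.1)
  obtain ⟨p, hp⟩ := hlift Pp (mem_M12_of Wp cp reprs2.2.2.2.2.1 gts2.2.2.2.2.1)
  obtain ⟨q, hq⟩ := hlift Qq (mem_M12_of Wq cq reprs2.2.2.2.2.2 gts2.2.2.2.2.2)
  -- the lifts of the generators of `E` commute
  have hx12 : x * (a * x * a⁻¹) = (a * x * a⁻¹) * x := by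
    apply lift_comm_of_swap τ hKτ a b x p q hab
    · rw [hτS]; exact S_sq
    · rw [hτS, hp]; exact S_P
    · rw [hτS, hq]; exact S_Q
    · rw [hτS, hτT, hx, hp, hq]; exact rel
  have hx2 : τ (a * x * a⁻¹) = E2 := by
    rw [map_mul, map_mul, map_inv, hτS, hx, E2_eq]
  have hE : ∀ u ∈ E.comap τ, ∀ v ∈ E.comap τ, u * v = v * u := by
    apply comm_comap_closure τ hKτ SE
    intro s hs' t ht
    simp only [SE, Set.mem_insert_iff, Set.mem_singleton_iff] at hs' ht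
    rcases hs' with rfl | rfl <;> rcases ht with rfl | rfl
    · exact ⟨x, x, hx, hx, rfl⟩
    · exact ⟨x, a * x * a⁻¹, hx, hx2, hx12⟩
    · exact ⟨a * x * a⁻¹, x, hx2, hx, hx12.symm⟩
    · exact ⟨a * x * a⁻¹, a * x * a⁻¹, hx2, hx2, rfl⟩
  -- the element of order three
  obtain ⟨z, hz0⟩ := hlift Z (mem_M12_of Wz cz reprs2.2.2.2.1 gts2.2.2.2.1)
  have hz : ∀ u ∈ E, τ z * u * (τ z)⁻¹ ∈ E := by
    rw [hz0]
    exact Z_norm
  have hfpf : ∀ u ∈ E, τ z * u * (τ z)⁻¹ = u → u = 1 := by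
    rw [hz0]
    exact Z_fpf
  have hER : ∀ u ∈ E, ∃ a, τ a = u := fun u hu => hlift u (E_le_M12 hu)
  have hDn : ∀ d ∈ D.comap τ, ∀ e ∈ fpfCompl τ E z hE hz,
      d * e * d⁻¹ ∈ fpfCompl τ E z hE hz := by
    intro d hd e he
    have hdD : τ d ∈ D := hd
    have hdn : ∀ u ∈ E, τ d * u * (τ d)⁻¹ ∈ E := D_norm (τ d) hdD
    rcases D_inv (τ d) hdD with h | h
    · exact conj_mem_fpfCompl' τ E z hE hz hKτ hER hfpf d z hdn hz rfl
        (by rw [hz0]; exact h) e he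
    · refine conj_mem_fpfCompl' τ E z hE hz hKτ hER hfpf d z⁻¹ hdn ?_ ?_ ?_ e he
      · rw [map_inv, hz0]
        exact Zi_norm
      · rw [map_inv]
        group
      · rw [map_inv, hz0]
        exact h
  have hD : ∀ u ∈ D.comap τ, ∀ v ∈ D.comap τ, u * v = v * u := by
    apply comm_comap_closure τ hKτ SD
    intro s hs' t ht
    simp only [SD, Set.mem_insert_iff, Set.mem_singleton_iff] at hs' ht
    rcases hs' with rfl | rfl <;> rcases ht with rfl | rfl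
    · exact ⟨a, a, hτS, hτS, rfl⟩
    · exact ⟨a, b, hτS, hτT, hab⟩
    · exact ⟨b, a, hτT, hτS, hab.symm⟩
    · exact ⟨b, b, hτT, hτT, rfl⟩
  have hDc : ∀ c ∈ ⁅D.comap τ, D.comap τ⁆, τ c ∈ E → c = 1 := by
    intro c hc _
    have hb : ⁅D.comap τ, D.comap τ⁆ = ⊥ := by
      rw [Subgroup.commutator_eq_bot_iff_le_centralizer]
      intro u hu
      rw [Subgroup.mem_centralizer_iff]
      intro v hv
      exact hD v hv u hu
    rw [hb] at hc
    exact Subgroup.mem_bot.1 hc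
  exact comm_inf_ker_of_split τ E z hE hz hKτ hER hfpf D Q12 hDn hDc P_struct

/-! ### The prime three -/

theorem reprs3 : Repr cx3 Wx3 ∧ Repr cy3 Wy3 ∧ Repr cu3 Wu3 ∧ Repr cn3 Wn3 ∧ Repr cv3 Wv3 := by
  decide +kernel

theorem gts3 : gt cx3 = true ∧ gt cy3 = true ∧ gt cu3 = true ∧ gt cn3 = true ∧ gt cv3 = true := by
  decide +kernel

def X3 : Equiv.Perm GolayPt := evalW Wx3
def Y3 : Equiv.Perm GolayPt := evalW Wy3
def U3 : Equiv.Perm GolayPt := evalW Wu3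
def N3 : Equiv.Perm GolayPt := evalW Wn3
def V3 : Equiv.Perm GolayPt := evalW Wv3

set_option maxRecDepth 100000 in
theorem X3_pow3_check : weq (FusCert.powW Wx3 3) [] = true := by decide +kernel
set_option maxRecDepth 100000 in
theorem Y3_pow3_check : weq (FusCert.powW Wy3 3) [] = true := by decide +kernel
set_option maxRecDepth 100000 in
theorem U3_pow3_check : weq (FusCert.powW Wu3 3) [] = true := by decide +kernel
set_option maxRecDepth 100000 in
theorem X3_Y3_check : weq (Wx3 ++ Wy3) (Wy3 ++ Wx3) = true := by decide +kernel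
set_option maxRecDepth 100000 in
theorem N3_X3_check : weq (Wn3 ++ Wx3) (Wx3 ++ Wn3) = true := by decide +kernel
set_option maxRecDepth 100000 in
theorem N3_Y3_check : weq (Wy3 ++ (Wn3 ++ Wy3)) Wn3 = true := by decide +kernel
set_option maxRecDepth 100000 in
theorem V3_X3_check : weq (Wx3 ++ (Wv3 ++ Wx3)) Wv3 = true := by decide +kernel
set_option maxRecDepth 100000 in
theorem V3_Y3_check : weq (Wy3 ++ (Wv3 ++ Wy3)) Wv3 = true := by decide +kernel
set_option maxRecDepth 100000 in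
theorem U3_Y3_check : weq (Wu3 ++ Wy3) (Wy3 ++ Wu3) = true := by decide +kernel
set_option maxRecDepth 100000 in
theorem U3_X3_check : weq (Wu3 ++ Wx3) ((Wx3 ++ Wy3) ++ Wu3) = true := by decide +kernel
set_option maxRecDepth 100000 in
theorem U3_V3_check : weq (Wu3 ++ Wv3) (Wv3 ++ Wu3) = true := by decide +kernel

theorem X3_pow3 : X3 ^ 3 = 1 := SchurM24.pow3_of_weq Wx3 X3_pow3_check
theorem Y3_pow3 : Y3 ^ 3 = 1 := SchurM24.pow3_of_weq Wy3 Y3_pow3_check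
theorem U3_pow3 : U3 ^ 3 = 1 := SchurM24.pow3_of_weq Wu3 U3_pow3_check

theorem X3_Y3 : X3 * Y3 = Y3 * X3 := by
  have h := evalW_eq_of_weq (Wx3 ++ Wy3) (Wy3 ++ Wx3) X3_Y3_check
  rw [evalW_append, evalW_append] at h
  exact h

theorem N3_X3 : N3 * X3 * N3⁻¹ = X3 := conj_of_weq Wn3 Wx3 Wx3 N3_X3_check
theorem N3_Y3 : N3 * Y3 * N3⁻¹ = Y3⁻¹ := SchurM24.inv_conj_of_weq Wn3 Wy3 N3_Y3_check
theorem V3_X3 : V3 * X3 * V3⁻¹ = X3⁻¹ := SchurM24.inv_conj_of_weq Wv3 Wx3 V3_X3_check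
theorem V3_Y3 : V3 * Y3 * V3⁻¹ = Y3⁻¹ := SchurM24.inv_conj_of_weq Wv3 Wy3 V3_Y3_check
theorem U3_Y3 : U3 * Y3 * U3⁻¹ = Y3 := conj_of_weq Wu3 Wy3 Wy3 U3_Y3_check

theorem U3_X3 : U3 * X3 * U3⁻¹ = X3 * Y3 := by
  have h := conj_of_weq Wu3 Wx3 (Wx3 ++ Wy3) U3_X3_check
  rw [evalW_append] at h
  exact h

theorem U3_V3 : U3 * V3 * U3⁻¹ = V3 := conj_of_weq Wu3 Wv3 Wv3 U3_V3_check

theorem X3_ne : X3 ≠ 1 :=
  FusPt.evalW_ne_one Wx3 cx3 reprs3.1 0 (by norm_num) (by decide +kernel)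

theorem Y3_ne : Y3 ≠ 1 :=
  FusPt.evalW_ne_one Wy3 cy3 reprs3.2.1 0 (by norm_num) (by decide +kernel)

theorem Y3_ne_X3 : Y3 ≠ X3 := by
  intro e
  have h := eqC_of_evalW_eq cy3 cx3 Wy3 Wx3 reprs3.2.1 reprs3.1 e
  revert h
  decide +kernel

theorem Y3_ne_X3sq : Y3 ≠ X3 ^ 2 := by
  intro e
  have e' : evalW Wy3 = evalW (Wx3 ++ Wx3) := by
    rw [evalW_append, ← pow_two]
    exact e
  have h := eqC_of_evalW_eq cy3 (compF cx3 cx3) Wy3 (Wx3 ++ Wx3) reprs3.2.1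
    (repr_compF _ _ _ _ reprs3.1 reprs3.1) e'
  revert h
  decide +kernel

def xG : ↥Cfsg.Spor.M12 := ⟨X3, mem_M12_of Wx3 cx3 reprs3.1 gts3.1⟩
def yG : ↥Cfsg.Spor.M12 := ⟨Y3, mem_M12_of Wy3 cy3 reprs3.2.1 gts3.2.1⟩
def uG : ↥Cfsg.Spor.M12 := ⟨U3, mem_M12_of Wu3 cu3 reprs3.2.2.1 gts3.2.2.1⟩
def nG : ↥Cfsg.Spor.M12 := ⟨N3, mem_M12_of Wn3 cn3 reprs3.2.2.2.1 gts3.2.2.2.1⟩
def vG : ↥Cfsg.Spor.M12 := ⟨V3, mem_M12_of Wv3 cv3 reprs3.2.2.2.2 gts3.2.2.2.2⟩

theorem hxyG : Commute xG yG := Subtype.ext X3_Y3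

theorem xG_pow3 : xG ^ 3 = 1 := Subtype.ext X3_pow3
theorem yG_pow3 : yG ^ 3 = 1 := Subtype.ext Y3_pow3
theorem uG_pow3 : uG ^ 3 = 1 := Subtype.ext U3_pow3
theorem nG_xG : nG * xG * nG⁻¹ = xG := Subtype.ext N3_X3
theorem nG_yG : nG * yG * nG⁻¹ = yG⁻¹ := Subtype.ext N3_Y3
theorem vG_xG : vG * xG * vG⁻¹ = xG⁻¹ := Subtype.ext V3_X3
theorem vG_yG : vG * yG * vG⁻¹ = yG⁻¹ := Subtype.ext V3_Y3
theorem uG_yG : uG * yG * uG⁻¹ = yG := Subtype.ext U3_Y3
theorem uG_xG : uG * xG * uG⁻¹ = xG * yG := Subtype.ext U3_X3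
theorem uG_vG : uG * vG * uG⁻¹ = vG := Subtype.ext U3_V3
theorem yG_ne : yG ≠ 1 := fun h => Y3_ne (congrArg Subtype.val h)
theorem xG_ne : xG ≠ 1 := fun h => X3_ne (congrArg Subtype.val h)

/-- the elementary abelian subgroup of order nine -/
def E3 : Subgroup ↥Cfsg.Spor.M12 := pairSubgroup xG yG hxyG

/-- the cyclic complement -/
def D3 : Subgroup ↥Cfsg.Spor.M12 := Subgroup.zpowers uG

theorem E3_pgroup : IsPGroup 3 E3 ∧ 3 ^ 2 ∣ Nat.card E3 :=
  nine_dvd_card_pair xG yG hxyG xG_pow3 yG_pow3 xG_ne yG_ne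
    (fun h => Y3_ne_X3 (congrArg Subtype.val h)) (fun h => Y3_ne_X3sq (congrArg Subtype.val h))

theorem D3_pgroup : IsPGroup 3 D3 := by
  intro g
  refine ⟨1, ?_⟩
  obtain ⟨i, hi⟩ := Subgroup.mem_zpowers_iff.1 g.2
  apply Subtype.ext
  rw [pow_one, Subgroup.coe_pow, ← hi, ← zpow_natCast, ← zpow_mul, mul_comm, zpow_mul,
    zpow_natCast, uG_pow3, one_zpow]
  rfl

theorem uG_conj (w : ↥Cfsg.Spor.M12) (hw : w ∈ E3) : uG * w * uG⁻¹ ∈ E3 := by
  obtain ⟨i, j, rfl⟩ := hw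
  refine ⟨i, i + j, ?_⟩
  rw [SchurM24.conj_pair, uG_xG, uG_yG, hxyG.mul_zpow, zpow_add, mul_assoc]

theorem uG_normalizer : uG ∈ Subgroup.normalizer (E3 : Set ↥Cfsg.Spor.M12) := by
  rw [Subgroup.mem_normalizer_iff]
  intro w
  constructor
  · exact uG_conj w
  · intro h
    have h2 := uG_conj _ (uG_conj _ h)
    rw [SchurM24.conj3, uG_pow3, one_mul, inv_one, mul_one] at h2
    exact h2

theorem D3_le : D3 ≤ Subgroup.normalizer (E3 : Set ↥Cfsg.Spor.M12) := by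
  unfold D3
  rw [Subgroup.zpowers_le]
  exact uG_normalizer

theorem uG_not_mem : uG ∉ E3 := by
  rintro ⟨i, j, h⟩
  have hc : Commute uG xG := by
    rw [h]
    exact ((Commute.refl xG).zpow_left i).mul_left ((hxyG.symm).zpow_left j)
  have h1 : uG * xG * uG⁻¹ = xG := by
    rw [hc.eq]
    group
  rw [uG_xG] at h1
  exact yG_ne (mul_eq_left.1 h1)

theorem vG_inv (w : ↥Cfsg.Spor.M12) (hw : w ∈ E3) : vG * w * vG⁻¹ = w⁻¹ := by
  obtain ⟨i, j, rfl⟩ := hw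
  rw [SchurM24.conj_pair, vG_xG, vG_yG, inv_zpow, inv_zpow, ← mul_inv_rev,
    (hxyG.zpow_zpow i j).eq]

theorem not_dvd_card : ¬ 3 ^ (2 + 2) ∣ Nat.card ↥Cfsg.Spor.M12 := by
  rw [card_M12]
  decide

theorem local3 (Γ : Type) [Group Γ] [Finite Γ] (σ : Γ →* ↥Cfsg.Spor.M12)
    (hs : Function.Surjective σ) (hK : σ.ker ≤ Subgroup.center Γ) :
    ∃ Q : Subgroup ↥Cfsg.Spor.M12, ¬ 3 ∣ Q.index ∧
      ∀ k ∈ ⁅Q.comap σ, Q.comap σ⁆, k ∈ σ.ker → k = 1 := by
  have : Fact (Nat.Prime 3) := ⟨Nat.prime_three⟩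
  have hP3 : IsPGroup 3 (E3 ⊔ D3 : Subgroup ↥Cfsg.Spor.M12) :=
    IsPGroup.to_sup_of_normal_left' E3_pgroup.1 D3_pgroup D3_le
  refine ⟨E3 ⊔ D3, ?_, ?_⟩
  · exact not_dvd_index_of_lt 3 E3 (E3 ⊔ D3) hP3 le_sup_left
      ⟨uG, Subgroup.mem_sup_right (Subgroup.mem_zpowers uG), uG_not_mem⟩ 2 E3_pgroup.2
      not_dvd_card
  obtain ⟨x, hx⟩ := hs xG
  obtain ⟨y, hy⟩ := hs yG
  obtain ⟨n, hn⟩ := hs nG
  obtain ⟨z, hz0⟩ := hs vG
  obtain ⟨d, hd0⟩ := hs uG
  have hb := comm_eq_bot_of_three σ hK (E3.comap σ) x y n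
    (by rw [hx]; exact xG_pow3)
    (by rw [hx, hy]; exact hxyG.eq)
    (by rw [hx, hn]; exact nG_xG)
    (by rw [hy, hn]; exact nG_yG)
    (by
      intro u hu
      obtain ⟨i, j, hij⟩ := (mem_pairSubgroup xG yG hxyG (σ u)).1 hu
      exact ⟨i, j, by rw [hx, hy]; exact hij⟩)
  have hE : ∀ u ∈ E3.comap σ, ∀ v ∈ E3.comap σ, u * v = v * u := by
    intro u hu v hv
    have h1 := Subgroup.commutator_eq_bot_iff_le_centralizer.1 hb
    exact (Subgroup.mem_centralizer_iff.1 (h1 hv) u hu)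
  have hz : ∀ u ∈ E3, σ z * u * (σ z)⁻¹ ∈ E3 := by
    intro u hu
    rw [hz0, vG_inv u hu]
    exact Subgroup.inv_mem _ hu
  have hfpf : ∀ u ∈ E3, σ z * u * (σ z)⁻¹ = u → u = 1 := by
    intro u hu h
    rw [hz0, vG_inv u hu] at h
    have h2 : u ^ 2 = 1 := by
      rw [pow_two]
      exact inv_mul_eq_one.2 h
    obtain ⟨k, hk⟩ := E3_pgroup.1 ⟨u, hu⟩
    have hk' : u ^ (3 ^ k) = 1 := by
      have := congrArg Subtype.val hk
      simpa using this
    obtain ⟨m, hm⟩ : Odd (3 ^ k) := Odd.pow (by decide)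
    rw [hm, pow_succ, pow_mul, h2, one_pow, one_mul] at hk'
    exact hk'
  have hER : ∀ u ∈ E3, ∃ a, σ a = u := fun u _ => hs u
  have hDn : ∀ d' ∈ D3.comap σ, ∀ e ∈ fpfCompl σ E3 z hE hz,
      d' * e * d'⁻¹ ∈ fpfCompl σ E3 z hE hz := by
    intro d' hd' e he
    have hdD : σ d' ∈ D3 := hd'
    obtain ⟨i, hi⟩ := Subgroup.mem_zpowers_iff.1 hdD
    have hdn : ∀ w ∈ E3, σ d' * w * (σ d')⁻¹ ∈ E3 := by
      intro w hw
      exact (Subgroup.mem_normalizer_iff.1 (D3_le hdD) w).1 hw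
    have hdz : σ d' * σ z * (σ d')⁻¹ = σ z := by
      rw [hz0, ← hi]
      have hc : Commute uG vG := by
        have := uG_vG
        exact mul_inv_eq_iff_eq_mul.1 this
      exact mul_inv_eq_iff_eq_mul.2 (hc.zpow_left i).eq
    exact conj_mem_fpfCompl' σ E3 z hE hz hK hER hfpf d' z hdn hz rfl hdz e he
  have hDc : ∀ c ∈ ⁅D3.comap σ, D3.comap σ⁆, σ c ∈ E3 → c = 1 := by
    have hb2 := comm_eq_bot_of_cyclic σ hK (D3.comap σ) d (fun u hu => by
      obtain ⟨i, hi⟩ := Subgroup.mem_zpowers_iff.1 (show σ u ∈ D3 from hu)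
      exact ⟨i, by rw [hd0]; exact hi.symm⟩)
    intro c hc _
    rw [hb2] at hc
    exact Subgroup.mem_bot.1 hc
  have hP : ∀ g ∈ (E3 ⊔ D3 : Subgroup ↥Cfsg.Spor.M12), ∃ e ∈ E3, ∃ d ∈ D3, g = e * d := by
    intro g hg
    have h1 : g ∈ ((E3 ⊔ D3 : Subgroup ↥Cfsg.Spor.M12) : Set ↥Cfsg.Spor.M12) := hg
    rw [Subgroup.coe_mul_of_right_le_normalizer_left E3 D3 D3_le] at h1
    obtain ⟨e, he, d', hd', rfl⟩ := Set.mem_mul.1 h1
    exact ⟨e, he, d', hd', rfl⟩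
  exact comm_inf_ker_of_split σ E3 z hE hz hK hER hfpf D3 (E3 ⊔ D3) hDn hDc hP

/-! ### The kernel of a stem extension -/

theorem not_sq_dvd (p : ℕ) (hp : p.Prime) (h2 : p ≠ 2) (h3 : p ≠ 3) : ¬ p ^ 2 ∣ 95040 := by
  intro hd
  have h1 : p ∣ 2 ^ 6 * 3 ^ 3 * 5 * 11 := (dvd_pow_self p (by norm_num)).trans hd
  rcases (Nat.Prime.dvd_mul hp).1 h1 with h | h
  · rcases (Nat.Prime.dvd_mul hp).1 h with h | h
    · rcases (Nat.Prime.dvd_mul hp).1 h with h | h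
      · exact h2 ((Nat.prime_dvd_prime_iff_eq hp Nat.prime_two).1 (hp.dvd_of_dvd_pow h))
      · exact h3 ((Nat.prime_dvd_prime_iff_eq hp Nat.prime_three).1 (hp.dvd_of_dvd_pow h))
    · have := (Nat.prime_dvd_prime_iff_eq hp Nat.prime_five).1 h
      subst this
      revert hd
      decide
  · have := (Nat.prime_dvd_prime_iff_eq hp (by norm_num : Nat.Prime 11)).1 h
    subst this
    revert hd
    decide

/-- a finite stem extension in which lifts of `s` and `t` commute is an isomorphism -/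
theorem ker_eq_bot_of_comm (Γ : Type) [Group Γ] [Finite Γ] (σ : Γ →* ↥Cfsg.Spor.M12)
    (hσ : Cfsg.IsStemExtension σ)
    (hc : ∃ a b : Γ, σ a = sG ∧ σ b = tG ∧ a * b = b * a) : σ.ker = ⊥ := by
  obtain ⟨hs, hK, hK'⟩ := hσ
  apply ker_eq_bot_of_local σ hs hK hK'
  intro p hp
  by_cases h2 : p = 2
  · subst h2
    have : Fact (Nat.Prime 2) := ⟨Nat.prime_two⟩
    obtain ⟨P, hP⟩ := sylow2
    refine ⟨P, P.not_dvd_index, ?_⟩
    rw [hP]
    exact local2 Γ σ hs hK hc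
  by_cases h3 : p = 3
  · subst h3
    exact local3 Γ σ hs hK
  · apply local_of_not_sq_dvd σ hs hK p hp
    rw [card_M12]
    exact not_sq_dvd p hp h2 h3

theorem sG_tG : sG * tG = tG * sG := Subtype.ext S_T

theorem sG_sq : sG * sG = 1 := Subtype.ext S_sq

/-- the kernel of a finite stem extension is generated by an element of order at most two -/
theorem ker_eq_zpowers (Γ : Type) [Group Γ] [Finite Γ] (σ : Γ →* ↥Cfsg.Spor.M12)
    (hσ : Cfsg.IsStemExtension σ) : ∃ γ : Γ, γ * γ = 1 ∧ σ.ker = Subgroup.zpowers γ := by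
  obtain ⟨a, ha⟩ := hσ.1 sG
  obtain ⟨b, hb⟩ := hσ.1 tG
  have hab : σ a * σ b = σ b * σ a := by rw [ha, hb]; exact sG_tG
  refine ⟨⁅a, b⁆, comm_sq_eq_one σ hσ.2.1 a b hab (by rw [ha]; exact sG_sq), ?_⟩
  apply StemQuot.ker_eq_zpowers σ hσ a b hab
  intro Γ' _ _ σ' hσ' hc
  rw [ha, hb] at hc
  exact ker_eq_bot_of_comm Γ' σ' hσ' hc
end Cfsg.Agent.Helper29.SchurM12
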