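import Mathlib
import Cfsg.Agent.Lib.Helper17.DblAlt3
import Cfsg.Agent.Lib.Helper29.SchurM12

set_option autoImplicit false
open Cfsg

namespace Cfsg.Agent.Helper29.CoverM12

open Cfsg.Agent.Helper27 Cfsg.Agent.Helper29 Cfsg.Agent.Helper29.M24
open Cfsg.Agent.Helper29.FusCert Cfsg.Agent.Helper29.FusPt
open Cfsg.Agent.Helper29.FusM12 (Dsq sqD mem_stab_D)
open Cfsg.Agent.Helper29.SchurM12
open Cfsg.Agent.Helper17.DblAlt
open Cfsg.Agent.S0358 (idx)
open scoped Pointwise commutatorElement

/-! ### Products of anticommuting involutions -/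

section ring

variable {R : Type*} [Ring R]

theorem sq_pair {a b : R} (ha : a * a = 1) (hb : b * b = 1) (hab : a * b = -(b * a)) :
    (a * b) * (a * b) = -1 := by
  calc (a * b) * (a * b) = a * (b * a) * b := by simp only [mul_assoc]
    _ = a * (-(a * b)) * b := by rw [hab, neg_neg]
    _ = -((a * a) * (b * b)) := by simp only [mul_neg, neg_mul, mul_assoc]
    _ = -1 := by rw [ha, hb, one_mul]

theorem comm_pair {a b c : R} (hac : a * c = -(c * a)) (hbc : b * c = -(c * b)) :
    (a * b) * c = c * (a * b) := by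
  calc (a * b) * c = a * (b * c) := mul_assoc _ _ _
    _ = a * (-(c * b)) := by rw [hbc]
    _ = -((a * c) * b) := by simp only [mul_neg, mul_assoc]
    _ = -((-(c * a)) * b) := by rw [hac]
    _ = c * (a * b) := by simp only [neg_mul, neg_neg, mul_assoc]

theorem comm_pair_pair {a b c d : R} (hac : a * c = -(c * a)) (hbc : b * c = -(c * b))
    (had : a * d = -(d * a)) (hbd : b * d = -(d * b)) :
    (a * b) * (c * d) = (c * d) * (a * b) := by
  calc (a * b) * (c * d) = ((a * b) * c) * d := (mul_assoc _ _ _).symm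
    _ = (c * (a * b)) * d := by rw [comm_pair hac hbc]
    _ = c * ((a * b) * d) := mul_assoc _ _ _
    _ = c * (d * (a * b)) := by rw [comm_pair had hbd]
    _ = (c * d) * (a * b) := (mul_assoc _ _ _).symm

theorem sq_six {a b c d e f : R} (ha : a * a = 1) (hb : b * b = 1) (hc : c * c = 1)
    (hd : d * d = 1) (he : e * e = 1) (hf : f * f = 1)
    (hab : a * b = -(b * a)) (hac : a * c = -(c * a)) (had : a * d = -(d * a))
    (hae : a * e = -(e * a)) (haf : a * f = -(f * a)) (hbc : b * c = -(c * b))
    (hbd : b * d = -(d * b)) (hbe : b * e = -(e * b)) (hbf : b * f = -(f * b))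
    (hcd : c * d = -(d * c)) (hce : c * e = -(e * c)) (hcf : c * f = -(f * c))
    (hde : d * e = -(e * d)) (hdf : d * f = -(f * d)) (hef : e * f = -(f * e)) :
    ((a * b) * (c * d) * (e * f)) * ((a * b) * (c * d) * (e * f)) = -1 := by
  have hA := sq_pair ha hb hab
  have hB := sq_pair hc hd hcd
  have hC := sq_pair he hf hef
  have hAB := comm_pair_pair hac hbc had hbd
  have hAC := comm_pair_pair hae hbe haf hbf
  have hBC := comm_pair_pair hce hde hcf hdf
  calc ((a * b) * (c * d) * (e * f)) * ((a * b) * (c * d) * (e * f))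
      = (a * b) * (c * d) * ((e * f) * (a * b)) * ((c * d) * (e * f)) := by
        simp only [mul_assoc]
    _ = (a * b) * (c * d) * ((a * b) * (e * f)) * ((c * d) * (e * f)) := by rw [hAC]
    _ = (a * b) * ((c * d) * (a * b)) * ((e * f) * (c * d)) * (e * f) := by
        simp only [mul_assoc]
    _ = (a * b) * ((a * b) * (c * d)) * ((c * d) * (e * f)) * (e * f) := by rw [hAB, hBC]
    _ = ((a * b) * (a * b)) * ((c * d) * (c * d)) * ((e * f) * (e * f)) := by
        simp only [mul_assoc]
    _ = -1 := by rw [hA, hB, hC]; simp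

end ring


/-! ### The action on the twelve points of the dodecad -/

/-- the twelve points, by index -/
def pt (k : Fin 12) : ℕ := ![0, 1, 2, 3, 4, 6, 8, 9, 12, 13, 16, 18] k

/-- the position of a point in the dodecad -/
def pos (x : ℕ) : Fin 12 :=
  if x = 1 then 1 else if x = 2 then 2 else if x = 3 then 3 else if x = 4 then 4
  else if x = 6 then 5 else if x = 8 then 6 else if x = 9 then 7 else if x = 12 then 8
  else if x = 13 then 9 else if x = 16 then 10 else if x = 18 then 11 else 0

theorem pos_pt : ∀ k : Fin 12, pos (pt k) = k := by decide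

theorem pt_lt : ∀ k : Fin 12, pt k < 24 := by decide

theorem pt_bit : ∀ k : Fin 12, Dsq.testBit (pt k) = true := by decide

theorem pt_pos : ∀ x : Fin 24, Dsq.testBit x.val = true → pt (pos x.val) = x.val := by decide

theorem dec_pt_mem (k : Fin 12) : dec (pt k) ∈ maskSet Dsq :=
  (mem_maskSet_idx Dsq (pt k) (pt_lt k)).2 (pt_bit k)

theorem maps_D (g : Equiv.Perm GolayPt) (hg : g ∈ Cfsg.Spor.M12) (p : GolayPt)
    (hp : p ∈ maskSet Dsq) : g p ∈ maskSet Dsq := by
  have h := (mem_stab_D g).1 (Subgroup.mem_inf.1 hg).2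
  rw [← h]
  exact Finset.smul_mem_smul_finset hp

/-- the action of a permutation on the positions -/
def actF (g : Equiv.Perm GolayPt) (k : Fin 12) : Fin 12 := pos (idx (g (dec (pt k))))

theorem dec_pt_actF (g : Equiv.Perm GolayPt) (hg : g ∈ Cfsg.Spor.M12) (k : Fin 12) :
    dec (pt (actF g k)) = g (dec (pt k)) := by
  have h1 := maps_D g hg _ (dec_pt_mem k)
  rw [mem_maskSet] at h1
  unfold actF
  have h2 := pt_pos ⟨idx (g (dec (pt k))), M24.idx_lt _⟩ h1
  simp only at h2
  rw [h2, dec_idx]

theorem actF_mul (g h : Equiv.Perm GolayPt) (hh : h ∈ Cfsg.Spor.M12) (k : Fin 12) :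
    actF (g * h) k = actF g (actF h k) := by
  have h1 : actF g (actF h k) = pos (idx (g (dec (pt (actF h k))))) := rfl
  rw [h1, dec_pt_actF h hh k]
  rfl

theorem actF_one (k : Fin 12) : actF 1 k = k := by
  unfold actF
  rw [Equiv.Perm.one_apply, idx_dec ⟨pt k, pt_lt k⟩]
  exact pos_pt k

/-- the action as a permutation -/
def actP (g : ↥Cfsg.Spor.M12) : Equiv.Perm (Fin 12) where
  toFun := actF g.1
  invFun := actF (g⁻¹).1
  left_inv := by
    intro k
    rw [← actF_mul _ _ g.2]
    have : (g⁻¹).1 * g.1 = 1 := by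
      rw [← Subgroup.coe_mul, inv_mul_cancel]; rfl
    rw [this, actF_one]
  right_inv := by
    intro k
    rw [← actF_mul _ _ (g⁻¹).2]
    have : g.1 * (g⁻¹).1 = 1 := by
      rw [← Subgroup.coe_mul, mul_inv_cancel]; rfl
    rw [this, actF_one]

/-- the action as a homomorphism -/
def actHom : ↥Cfsg.Spor.M12 →* Equiv.Perm (Fin 12) where
  toFun := actP
  map_one' := by
    ext k
    show (actF (1 : Equiv.Perm GolayPt) k : ℕ) = _
    rw [actF_one]
    rfl
  map_mul' := by
    intro g h
    ext k
    show (actF (g.1 * h.1) k : ℕ) = (actF g.1 (actF h.1 k) : ℕ)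
    rw [actF_mul _ _ h.2]

theorem actHom_apply (g : ↥Cfsg.Spor.M12) (k : Fin 12) : actHom g k = actF g.1 k := rfl

theorem actHom_injective : Function.Injective actHom := by
  rw [injective_iff_map_eq_one]
  intro g hg
  apply Subtype.ext
  apply eq_one_of_fix_dodecad Cfsg.Spor.squareDodecad SchurM11.squareDodecad_mem g.1
    (Subgroup.mem_inf.1 g.2).1
  intro x hx
  rw [sqD, mem_maskSet] at hx
  -- the point `x` is one of the twelve points
  have h1 := pt_pos ⟨idx x, M24.idx_lt x⟩ hx
  simp only at h1
  have h2 : x = dec (pt (pos (idx x))) := by rw [h1, dec_idx]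
  have h3 := dec_pt_actF g.1 g.2 (pos (idx x))
  have h4 : actF g.1 (pos (idx x)) = pos (idx x) := by
    rw [← actHom_apply, hg]
    rfl
  rw [h4, ← h2] at h3
  exact h3.symm

theorem sign_actHom (g : ↥Cfsg.Spor.M12) : Equiv.Perm.sign (actHom g) = 1 := by
  have h1 := Abelianization.commutator_subset_ker ((Equiv.Perm.sign).comp actHom)
  rw [perfect_M12] at h1
  have h2 := h1 (Subgroup.mem_top g)
  exact h2

/-- the action on the twelve points, with values in the alternating group -/
def altHom : ↥Cfsg.Spor.M12 →* alternatingGroup (Fin 12) :=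
  MonoidHom.codRestrict actHom (alternatingGroup (Fin 12))
    (fun g => Equiv.Perm.mem_alternatingGroup.2 (sign_actHom g))

theorem altHom_injective : Function.Injective altHom := by
  intro g h e
  apply actHom_injective
  exact congrArg Subtype.val e

/-! ### Squares in a double cover of a perfect group -/

theorem sq_mem_commutator {Γ G : Type*} [Group Γ] [Group G] (σ : Γ →* G)
    (hs : Function.Surjective σ) (hperf : commutator G = ⊤) (z : Γ)
    (hker : σ.ker = Subgroup.zpowers z) (hz2 : z * z = 1) (hzc : ∀ g : Γ, g * z = z * g)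
    (x : Γ) : x * x ∈ commutator Γ := by
  have hmap : (commutator Γ).map σ = ⊤ := by
    rw [commutator_def, Subgroup.map_commutator, ← MonoidHom.range_eq_map,
      MonoidHom.range_eq_top.2 hs, ← commutator_def, hperf]
  have h1 : σ x ∈ (commutator Γ).map σ := by rw [hmap]; exact Subgroup.mem_top _
  obtain ⟨c, hc, hcx⟩ := h1
  have h2 : c⁻¹ * x ∈ σ.ker := by
    rw [MonoidHom.mem_ker, map_mul, map_inv, hcx, inv_mul_cancel]
  rw [hker] at h2
  obtain ⟨k, hk⟩ := Subgroup.mem_zpowers_iff.1 h2
  have hx : x = c * z ^ k := by rw [hk]; group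
  have hzk : ∀ g : Γ, g * z ^ k = z ^ k * g := by
    intro g
    have : Commute g z := hzc g
    exact (this.zpow_right k).eq
  have hzk2 : z ^ k * z ^ k = 1 := by
    rw [← zpow_add]
    have : z ^ (k + k) = (z * z) ^ k := by
      rw [← two_mul, zpow_mul, zpow_two]
    rw [this, hz2, one_zpow]
  have : x * x = c * c := by
    rw [hx]
    calc c * z ^ k * (c * z ^ k) = c * (z ^ k * c) * z ^ k := by group
      _ = c * (c * z ^ k) * z ^ k := by rw [hzk c]
      _ = c * c * (z ^ k * z ^ k) := by group
      _ = c * c := by rw [hzk2, mul_one]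
  rw [this]
  exact Subgroup.mul_mem _ hc hc

/-! ### The double cover -/

theorem finite_Gam (n : ℕ) : Finite (Gam n) := by
  have hiso : Nonempty (Gam n ⧸ (rho n).ker ≃* alternatingGroup (Fin n)) :=
    ⟨QuotientGroup.quotientKerEquivOfSurjective (rho n) (rho_surjective n)⟩
  obtain ⟨f⟩ := hiso
  have h1 : Finite (Gam n ⧸ (rho n).ker) := Finite.of_equiv _ f.symm.toEquiv
  have h2 : Finite ((rho n).ker) := by
    rw [ker_rho]
    apply Nat.finite_of_card_ne_zero
    rw [Nat.card_zpowers, orderOf_zG]
    norm_num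
  exact Finite.of_equiv _ (Subgroup.groupEquivQuotientProdSubgroup (s := (rho n).ker)).symm

/-- the cover -/
noncomputable def Cov : Subgroup (Gam 12) := (altHom.range).comap (rho 12)

noncomputable instance : Finite ↥Cov := by
  have := finite_Gam 12
  infer_instance

/-- the group of degree twelve as a subgroup of the alternating group -/
noncomputable def altEquiv : ↥Cfsg.Spor.M12 ≃* altHom.range :=
  MonoidHom.ofInjective altHom_injective

/-- the covering map -/
noncomputable def covHom : ↥Cov →* ↥Cfsg.Spor.M12 :=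
  altEquiv.symm.toMonoidHom.comp ((rho 12).subgroupComap altHom.range)

theorem altHom_covHom (x : ↥Cov) : altHom (covHom x) = rho 12 x.1 := by
  have h := altEquiv.apply_symm_apply ((rho 12).subgroupComap altHom.range x)
  have h2 := congrArg Subtype.val h
  rw [show ((altEquiv (altEquiv.symm ((rho 12).subgroupComap altHom.range x)) : altHom.range) :
    alternatingGroup (Fin 12)) = altHom (altEquiv.symm ((rho 12).subgroupComap altHom.range x))
    from MonoidHom.ofInjective_apply altHom_injective] at h2
  exact h2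

theorem covHom_surjective : Function.Surjective covHom := by
  intro m
  obtain ⟨p, hp⟩ := rho_surjective 12 (altHom m)
  have hpC : p ∈ Cov := by
    show rho 12 p ∈ altHom.range
    rw [hp]
    exact ⟨m, rfl⟩
  refine ⟨⟨p, hpC⟩, ?_⟩
  apply altHom_injective
  rw [altHom_covHom, hp]

theorem mem_ker_covHom (x : ↥Cov) : x ∈ covHom.ker ↔ rho 12 x.1 = 1 := by
  rw [MonoidHom.mem_ker, ← altHom_covHom]
  constructor
  · intro h
    rw [h, map_one]
  · intro h
    apply altHom_injective
    rw [h, map_one]

/-- the central involution of the cover -/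
noncomputable def zC : ↥Cov := ⟨zG 12, by
  show rho 12 (zG 12) ∈ altHom.range
  have hz : rho 12 (zG 12) = 1 := Subtype.ext rfl
  rw [hz]
  exact Subgroup.one_mem _⟩

theorem zC_mul_self : zC * zC = 1 := Subtype.ext (zG_mul_self 12)

theorem zC_comm (g : ↥Cov) : g * zC = zC * g := Subtype.ext (zG_comm 12 g.1)

theorem zC_ne_one : zC ≠ 1 := fun h => zG_ne_one 12 (congrArg Subtype.val h)

theorem orderOf_zC : orderOf zC = 2 := by
  have : Fact (Nat.Prime 2) := ⟨Nat.prime_two⟩
  apply orderOf_eq_prime
  · rw [pow_two, zC_mul_self]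
  · exact zC_ne_one

theorem ker_covHom : covHom.ker = Subgroup.zpowers zC := by
  ext x
  rw [mem_ker_covHom, ← MonoidHom.mem_ker, ker_rho, Subgroup.mem_zpowers_iff,
    Subgroup.mem_zpowers_iff]
  constructor
  · rintro ⟨k, hk⟩
    exact ⟨k, Subtype.ext (by rw [Subgroup.coe_zpow]; exact hk)⟩
  · rintro ⟨k, hk⟩
    refine ⟨k, ?_⟩
    have := congrArg Subtype.val hk
    rw [Subgroup.coe_zpow] at this
    exact this

/-! ### The lift of a fixed point free involution -/

theorem h07 : (0 : Fin 12) ≠ 7 := by decide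
theorem h12 : (1 : Fin 12) ≠ 2 := by decide
theorem h38 : (3 : Fin 12) ≠ 8 := by decide
theorem h49 : (4 : Fin 12) ≠ 9 := by decide
theorem h5a : (5 : Fin 12) ≠ 10 := by decide
theorem h6b : (6 : Fin 12) ≠ 11 := by decide

noncomputable def g1 : Gam 12 := ⟨_, tt_mem 12 h07 h12⟩
noncomputable def g2 : Gam 12 := ⟨_, tt_mem 12 h38 h49⟩
noncomputable def g3 : Gam 12 := ⟨_, tt_mem 12 h5a h6b⟩

/-- the lift -/
noncomputable def wG : Gam 12 := g1 * g2 * g3

/-- the permutation of the twelve points induced by `S` -/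
def piS : Equiv.Perm (Fin 12) :=
  Equiv.swap 0 7 * Equiv.swap 1 2 * (Equiv.swap 3 8 * Equiv.swap 4 9) *
    (Equiv.swap 5 10 * Equiv.swap 6 11)

theorem wG_snd : wG.1.2 = piS := rfl

theorem wG_fst : ((wG.1.1 : (Cl 12)ˣ) : Cl 12) =
    (t 12 0 7 * t 12 1 2) * (t 12 3 8 * t 12 4 9) * (t 12 5 10 * t 12 6 11) := rfl

theorem piS_check : ∀ k : Fin 12, pos (appW Ws (pt k)) = piS k := by decide

theorem actHom_sG : actHom sG = piS := by
  ext k
  rw [actHom_apply, ← piS_check k]
  show (actF S k : ℕ) = _
  unfold actF S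
  rw [idx_evalW Ws reprs2.2.1.1, idx_dec ⟨pt k, pt_lt k⟩]

theorem wG_mul_self : wG * wG = zG 12 := by
  have hfst : (wG * wG).1.1 = (zG 12).1.1 := by
    apply Units.ext
    show ((wG.1.1 : (Cl 12)ˣ) : Cl 12) * ((wG.1.1 : (Cl 12)ˣ) : Cl 12) = -1
    rw [wG_fst]
    exact sq_six (t_mul_t 12 h07) (t_mul_t 12 h12) (t_mul_t 12 h38) (t_mul_t 12 h49)
      (t_mul_t 12 h5a) (t_mul_t 12 h6b)
      (t_anticomm 12 (by decide) (by decide) (by decide) (by decide))
      (t_anticomm 12 (by decide) (by decide) (by decide) (by decide))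
      (t_anticomm 12 (by decide) (by decide) (by decide) (by decide))
      (t_anticomm 12 (by decide) (by decide) (by decide) (by decide))
      (t_anticomm 12 (by decide) (by decide) (by decide) (by decide))
      (t_anticomm 12 (by decide) (by decide) (by decide) (by decide))
      (t_anticomm 12 (by decide) (by decide) (by decide) (by decide))
      (t_anticomm 12 (by decide) (by decide) (by decide) (by decide))
      (t_anticomm 12 (by decide) (by decide) (by decide) (by decide))
      (t_anticomm 12 (by decide) (by decide) (by decide) (by decide))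
      (t_anticomm 12 (by decide) (by decide) (by decide) (by decide))
      (t_anticomm 12 (by decide) (by decide) (by decide) (by decide))
      (t_anticomm 12 (by decide) (by decide) (by decide) (by decide))
      (t_anticomm 12 (by decide) (by decide) (by decide) (by decide))
      (t_anticomm 12 (by decide) (by decide) (by decide) (by decide))
  apply Subtype.ext
  apply Prod.ext hfst
  exact snd_eq_of_fst_eq 12 (wG * wG).2 (zG 12).2 hfst

theorem wG_mem : wG ∈ Cov := by
  show rho 12 wG ∈ altHom.range
  refine ⟨sG, ?_⟩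
  apply Subtype.ext
  show actHom sG = wG.1.2
  rw [actHom_sG, wG_snd]

/-- the lift in the cover -/
noncomputable def wC : ↥Cov := ⟨wG, wG_mem⟩

theorem wC_mul_self : wC * wC = zC := Subtype.ext wG_mul_self

theorem zC_mem_commutator : zC ∈ commutator ↥Cov := by
  rw [← wC_mul_self]
  exact sq_mem_commutator covHom covHom_surjective perfect_M12 zC ker_covHom zC_mul_self
    zC_comm wC

theorem covHom_stem : Cfsg.IsStemExtension covHom := by
  refine ⟨covHom_surjective, ?_, ?_⟩
  · rw [ker_covHom, Subgroup.zpowers_le, Subgroup.mem_center_iff]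
    exact zC_comm
  · rw [ker_covHom, Subgroup.zpowers_le]
    exact zC_mem_commutator

theorem card_ker_covHom : Nat.card covHom.ker = 2 := by
  rw [ker_covHom, Nat.card_zpowers, orderOf_zC]

theorem ker_equiv : Nonempty (covHom.ker ≃* Multiplicative (ZMod 2)) := by
  have : Fact (Nat.Prime 2) := ⟨Nat.prime_two⟩
  have h1 : IsCyclic covHom.ker := isCyclic_of_prime_card card_ker_covHom
  have h2 : Nat.card (Multiplicative (ZMod 2)) = 2 := by
    rw [Nat.card_eq_fintype_card]
    rfl
  exact ⟨mulEquivOfCyclicCardEq (by rw [card_ker_covHom, h2])⟩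

/-- existence of a stem extension with kernel of order two -/
theorem exists_stem : ∃ (Γ : Type) (_ : Group Γ) (_ : Finite Γ) (σ : Γ →* ↥Cfsg.Spor.M12),
    Cfsg.IsStemExtension σ ∧ Nonempty (σ.ker ≃* Multiplicative (ZMod 2)) :=
  ⟨↥Cov, inferInstance, inferInstance, covHom, covHom_stem, ker_equiv⟩

end Cfsg.Agent.Helper29.CoverM12
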