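import Mathlib
import Cfsg.Agent.Lib.Helper29.HSOutGen

set_option autoImplicit false

/-! General lemma for the outer automorphism group of the Fischer group Fi23: the Sylow
argument for an element of order eleven which is conjugate to its square. -/

namespace Cfsg.Agent.Helper29.Fi3G

open Cfsg.Agent.Helper29.HSXG

variable {G : Type*} [Group G] [Finite G]

/-- automorphisms move an element of order eleven generating a Sylow subgroup, and conjugate
to its square, to a conjugate of it -/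
theorem exists_conj_eq_of_eleven_sq (x n : G) (hx : x ^ 11 = 1) (hx1 : x ≠ 1)
    (h121 : ¬ 121 ∣ Nat.card G) (hn : n * x * n⁻¹ = x ^ 2) (φ : MulAut G) :
    ∃ g : G, g * φ x * g⁻¹ = x := by
  have : Fact (Nat.Prime 11) := ⟨by norm_num⟩
  have h11 : Nat.Prime 11 := by norm_num
  have ho : orderOf x = 11 := orderOf_eq_prime hx hx1
  have hcard : Nat.card (Subgroup.zpowers x) = 11 ^ 1 := by
    rw [Nat.card_zpowers, ho, pow_one]
  have hidx : ¬ 11 ∣ (Subgroup.zpowers x).index := by
    intro hd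
    apply h121
    rw [← Subgroup.card_mul_index (Subgroup.zpowers x), hcard, pow_one]
    exact Nat.mul_dvd_mul_left 11 hd
  obtain ⟨P, hP⟩ := exists_sylow_eq 11 (Subgroup.zpowers x) 1 hcard hidx
  have hφ11 : (φ x) ^ 11 = 1 := by rw [← map_pow, hx, map_one]
  have hQ : IsPGroup 11 (Subgroup.zpowers (φ x)) := by
    intro q
    refine ⟨1, ?_⟩
    obtain ⟨q, hq⟩ := q
    obtain ⟨j, rfl⟩ := Subgroup.mem_zpowers_iff.1 hq
    apply Subtype.ext
    show ((φ x) ^ j) ^ 11 ^ 1 = 1
    rw [pow_one, ← zpow_natCast, ← zpow_mul, mul_comm, zpow_mul, zpow_natCast, hφ11, one_zpow]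
  obtain ⟨g, hg⟩ := exists_conj_le 11 P (Subgroup.zpowers (φ x)) hQ
  have hmem : g * φ x * g⁻¹ ∈ Subgroup.zpowers x := by
    rw [← hP]
    exact hg _ (Subgroup.mem_zpowers _)
  obtain ⟨k, hk⟩ := Subgroup.mem_zpowers_iff.1 hmem
  have hk' : x ^ (k % 11).toNat = g * φ x * g⁻¹ := by
    rw [← hk, ← zpow_natCast, Int.toNat_of_nonneg (Int.emod_nonneg k (by norm_num))]
    have := zpow_mod_orderOf x k
    rw [ho] at this
    exact this
  have hlt : (k % 11).toNat < 11 := by
    have := Int.emod_lt_of_pos k (show (0 : ℤ) < 11 by norm_num)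
    omega
  have hne : (k % 11).toNat ≠ 0 := by
    intro h0
    rw [h0, pow_zero] at hk'
    have h1 : φ x = 1 := by
      have : g * φ x * g⁻¹ = 1 := hk'.symm
      have h2 : φ x = g⁻¹ * (g * φ x * g⁻¹) * g := by group
      rw [h2, this]
      group
    exact hx1 (φ.injective (h1.trans (map_one φ).symm))
  obtain ⟨j, hj⟩ : ∃ j : ℕ, 2 ^ j % 11 = (k % 11).toNat := by
    generalize (k % 11).toNat = m at hlt hne
    interval_cases m
    · exact absurd rfl hne
    · exact ⟨0, by norm_num⟩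
    · exact ⟨1, by norm_num⟩
    · exact ⟨8, by norm_num⟩
    · exact ⟨2, by norm_num⟩
    · exact ⟨4, by norm_num⟩
    · exact ⟨9, by norm_num⟩
    · exact ⟨7, by norm_num⟩
    · exact ⟨3, by norm_num⟩
    · exact ⟨6, by norm_num⟩
    · exact ⟨5, by norm_num⟩
  have hc := conj_pow_eq n x 2 hn j
  refine ⟨(n ^ j)⁻¹ * g, ?_⟩
  have e : (n ^ j)⁻¹ * g * φ x * ((n ^ j)⁻¹ * g)⁻¹ = (n ^ j)⁻¹ * (g * φ x * g⁻¹) * n ^ j := by
    group
  rw [e, ← hk']
  have hpow : x ^ (2 ^ j) = x ^ (k % 11).toNat := by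
    rw [← hj]
    have := pow_mod_orderOf x (2 ^ j)
    rw [ho] at this
    exact this.symm
  rw [← hpow, ← hc]
  group

end Cfsg.Agent.Helper29.Fi3G
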