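import Mathlib
import Cfsg.Agent.Lib.Helper29.PermW

set_option autoImplicit false

/-! Permutations of `Fin n` given by functions on the natural numbers, in practice by tables stored
as binary search trees of small packed chunks: tools, words, straight-line programs. The chunks
keep the intermediate numbers of the kernel evaluation small. -/

namespace Cfsg.Agent.Helper29.PT

open Cfsg.Agent.Helper29.HSP (tg force force_eq allBelow allBelow_iff cnt card_filter_eq_cnt)
open Cfsg.Agent.Helper29.PW (elF elF_stable)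

/-- a binary search tree of packed chunks -/
inductive Tr : Type
  | leaf (c : ℕ) : Tr
  | node (k : ℕ) (l r : Tr) : Tr

/-- entry `p` of the table: the leaves are chunks of `2 ^ s` entries of `b` bits each, the nodes
compare the index with their key -/
noncomputable def Tr.get (b s : ℕ) (t : Tr) : ℕ → ℕ :=
  Tr.rec (motive := fun _ => ℕ → ℕ) (fun c p => tg c b (Nat.land p (2 ^ s - 1)))
    (fun k _ _ ihl ihr p => cond (Nat.blt p k) (ihl p) (ihr p)) t

variable (n : ℕ)

/-- a function and the function of the inverse -/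
def validF (f fi : ℕ → ℕ) : Bool :=
  allBelow n fun y => Nat.blt (f y) n && Nat.blt (fi y) n &&
    Nat.beq (fi (f y)) y && Nat.beq (f (fi y)) y

theorem validF_spec {f fi : ℕ → ℕ} (h : validF n f fi = true) (y : ℕ) (hy : y < n) :
    f y < n ∧ fi y < n ∧ fi (f y) = y ∧ f (fi y) = y := by
  unfold validF at h
  rw [allBelow_iff] at h
  have h1 := h y hy
  rw [Bool.and_eq_true, Bool.and_eq_true, Bool.and_eq_true] at h1
  exact ⟨Eq.mp Nat.blt_eq h1.1.1.1, Eq.mp Nat.blt_eq h1.1.1.2, Nat.eq_of_beq_eq_true h1.1.2,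
    Nat.eq_of_beq_eq_true h1.2⟩

/-- the permutation with function `f` and inverse function `fi` (the identity if they are bad) -/
noncomputable def fP [NeZero n] (f fi : ℕ → ℕ) : Equiv.Perm (Fin n) :=
  if h : validF n f fi = true then
    { toFun := fun u => ⟨f u.val % n, Nat.mod_lt _ (Nat.pos_of_neZero n)⟩
      invFun := fun u => ⟨fi u.val % n, Nat.mod_lt _ (Nat.pos_of_neZero n)⟩
      left_inv := by
        intro u
        obtain ⟨h1, _, h3, _⟩ := validF_spec n h u.val u.2
        apply Fin.ext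
        show fi (f u.val % n) % n = u.val
        rw [Nat.mod_eq_of_lt h1, h3, Nat.mod_eq_of_lt u.2]
      right_inv := by
        intro u
        obtain ⟨_, h2, _, h4⟩ := validF_spec n h u.val u.2
        apply Fin.ext
        show f (fi u.val % n) % n = u.val
        rw [Nat.mod_eq_of_lt h2, h4, Nat.mod_eq_of_lt u.2] }
  else 1

/-- the permutation acts as the function says -/
def ActsF (g : Equiv.Perm (Fin n)) (f : ℕ → ℕ) : Prop := ∀ u : Fin n, (g u).val = f u.val

variable {n}

theorem acts_fP [NeZero n] {f fi : ℕ → ℕ} (h : validF n f fi = true) :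
    ActsF n (fP n f fi) f := by
  intro u
  unfold fP
  rw [dif_pos h]
  show f u.val % n = f u.val
  exact Nat.mod_eq_of_lt (validF_spec n h u.val u.2).1

theorem acts_fP_inv [NeZero n] {f fi : ℕ → ℕ} (h : validF n f fi = true) :
    ActsF n (fP n f fi)⁻¹ fi := by
  intro u
  unfold fP
  rw [dif_pos h]
  show fi u.val % n = fi u.val
  exact Nat.mod_eq_of_lt (validF_spec n h u.val u.2).2.1

theorem actsF_mul {g h : Equiv.Perm (Fin n)} {a b c : ℕ → ℕ} (hg : ActsF n g a)
    (hh : ActsF n h b) (hc : ∀ y < n, c y = a (b y)) : ActsF n (g * h) c := by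
  intro u
  show (g (h u)).val = c u.val
  rw [hg, hh, hc u.val u.2]

theorem eq_of_actsF {g h : Equiv.Perm (Fin n)} {f : ℕ → ℕ} (hg : ActsF n g f)
    (hh : ActsF n h f) : g = h := by
  apply Equiv.ext
  intro u
  apply Fin.ext
  rw [hg, hh]

theorem eq_of_actsF' {g h : Equiv.Perm (Fin n)} {a b : ℕ → ℕ} (hg : ActsF n g a)
    (hh : ActsF n h b) (hab : ∀ y < n, a y = b y) : g = h := by
  apply Equiv.ext
  intro u
  apply Fin.ext
  rw [hg, hh, hab u.val u.2]

theorem actsF_one {f : ℕ → ℕ} (h : ∀ y < n, f y = y) : ActsF n 1 f := by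
  intro u
  show u.val = f u.val
  rw [h u.val u.2]

/-! ### Words over an alphabet of functions -/

/-- pointwise evaluation of a word over the alphabet `fl` -/
def appF (fl : ℕ → ℕ → ℕ) : List ℕ → ℕ → ℕ
  | [], y => y
  | l :: t, y => fl l (appF fl t y)

theorem appF_append (fl : ℕ → ℕ → ℕ) (w v : List ℕ) (y : ℕ) :
    appF fl (w ++ v) y = appF fl w (appF fl v y) := by
  induction w with
  | nil => rfl
  | cons l t ih => simp only [List.cons_append, appF, ih]

theorem prodF_apply_of (fl : ℕ → ℕ → ℕ) (ge : ℕ → Equiv.Perm (Fin n)) (w : List ℕ)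
    (hw : ∀ l ∈ w, ActsF n (ge l) (fl l)) (u : Fin n) :
    ((w.map ge).prod u).val = appF fl w u.val := by
  induction w with
  | nil => rfl
  | cons l t ih =>
    rw [List.map_cons, List.prod_cons]
    show (ge l ((t.map ge).prod u)).val = _
    rw [hw l List.mem_cons_self, ih (fun l' hl' => hw l' (List.mem_cons_of_mem _ hl'))]
    rfl

variable (n) in
/-- the function `f` represents the word `w` in the letters below `K` -/
def reprF (fl : ℕ → ℕ → ℕ) (K : ℕ) (f : ℕ → ℕ) (w : List ℕ) : Bool :=
  (w.all fun l => Nat.blt l K) && allBelow n fun y => Nat.beq (f y) (appF fl w y)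

theorem letters_of_reprF {fl : ℕ → ℕ → ℕ} {K : ℕ} {f : ℕ → ℕ} {w : List ℕ}
    (h : reprF n fl K f w = true) : ∀ l ∈ w, l < K := by
  unfold reprF at h
  rw [Bool.and_eq_true, List.all_eq_true] at h
  intro l hl
  exact Eq.mp Nat.blt_eq (h.1 l hl)

theorem acts_of_reprF (fl : ℕ → ℕ → ℕ) (K : ℕ) (ge : ℕ → Equiv.Perm (Fin n))
    (hge : ∀ l < K, ActsF n (ge l) (fl l)) {f : ℕ → ℕ} {w : List ℕ}
    (h : reprF n fl K f w = true) : ActsF n ((w.map ge).prod) f := by
  intro u
  rw [prodF_apply_of fl ge w (fun l hl => hge l (letters_of_reprF h l hl)) u]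
  unfold reprF at h
  rw [Bool.and_eq_true, allBelow_iff] at h
  exact (Nat.eq_of_beq_eq_true (h.2 u.val u.2)).symm

variable (n) in
/-- two words agree -/
def weqF (fl : ℕ → ℕ → ℕ) (w v : List ℕ) : Bool :=
  allBelow n fun y => Nat.beq (appF fl w y) (appF fl v y)

theorem prod_eq_of_weqF (fl : ℕ → ℕ → ℕ) (ge : ℕ → Equiv.Perm (Fin n)) (w v : List ℕ)
    (hw : ∀ l ∈ w, ActsF n (ge l) (fl l)) (hv : ∀ l ∈ v, ActsF n (ge l) (fl l))
    (h : weqF n fl w v = true) : (w.map ge).prod = (v.map ge).prod := by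
  apply Equiv.ext
  intro u
  apply Fin.ext
  rw [prodF_apply_of fl ge w hw u, prodF_apply_of fl ge v hv u]
  unfold weqF at h
  rw [allBelow_iff] at h
  exact Nat.eq_of_beq_eq_true (h u.val u.2)

/-! ### Elements given by a straight-line program -/

variable (n) in
/-- the check of the step `j` of the program -/
def slpOKF (fl : ℕ → ℕ → ℕ) (WL : List (List ℕ)) (k0 j : ℕ) : Bool :=
  ((WL.getD j []).all fun l => Nat.blt l (k0 + j)) &&
    allBelow n fun y => Nat.beq (fl (k0 + j) y) (appF fl (WL.getD j []) y)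

theorem elF_specF {fl : ℕ → ℕ → ℕ} {WL : List (List ℕ)} {ge0 : ℕ → Equiv.Perm (Fin n)}
    {k0 : ℕ} (G : Subgroup (Equiv.Perm (Fin n)))
    (h0 : ∀ l < k0, ActsF n (ge0 l) (fl l) ∧ ge0 l ∈ G) (m : ℕ)
    (hchk : ∀ j < m, slpOKF n fl WL k0 j = true) :
    ∀ j ≤ m, ∀ l < k0 + j, ActsF n (elF WL ge0 k0 j l) (fl l) ∧ elF WL ge0 k0 j l ∈ G := by
  intro j
  induction j with
  | zero =>
    intro _ l hl
    exact h0 l (by omega)
  | succ j ih =>
    intro hj l hl
    have ih' := ih (by omega)
    show ActsF n (if l = k0 + j then _ else elF WL ge0 k0 j l) _ ∧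
      (if l = k0 + j then _ else elF WL ge0 k0 j l) ∈ G
    by_cases h : l = k0 + j
    · rw [if_pos h]
      have hc := hchk j (by omega)
      unfold slpOKF at hc
      rw [Bool.and_eq_true, List.all_eq_true, allBelow_iff] at hc
      have hlt : ∀ l' ∈ WL.getD j [], l' < k0 + j := fun l' hl' => Eq.mp Nat.blt_eq (hc.1 l' hl')
      constructor
      · intro u
        rw [prodF_apply_of fl (elF WL ge0 k0 j) (WL.getD j [])
          (fun l' hl' => (ih' l' (hlt l' hl')).1) u, h]
        exact (Nat.eq_of_beq_eq_true (hc.2 u.val u.2)).symm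
      · apply Subgroup.list_prod_mem
        intro x hx
        obtain ⟨l', hl', rfl⟩ := List.mem_map.1 hx
        exact (ih' l' (hlt l' hl')).2
    · rw [if_neg h]
      exact ih' l (by omega)

/-! ### Counting with an accumulator -/

/-- counting with a boolean predicate, with an accumulator -/
def cntA (p : ℕ → Bool) (n : ℕ) : ℕ → ℕ :=
  Nat.rec (motive := fun _ => ℕ → ℕ) (fun a => a)
    (fun k ih a => force (a + (p k).toNat) ih) n

theorem cntA_eq (p : ℕ → Bool) (n a : ℕ) : cntA p n a = a + cnt p n := by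
  induction n generalizing a with
  | zero => rfl
  | succ n ih =>
    have e : cntA p (n + 1) a = force (a + (p n).toNat) (cntA p n) := rfl
    rw [e, force_eq, ih, cnt]
    omega

theorem card_filter_eq_cntA (p : ℕ → Bool) (n : ℕ) :
    (Finset.univ.filter (fun u : Fin n => p u.val = true)).card = cntA p n 0 := by
  rw [card_filter_eq_cnt, cntA_eq, zero_add]

/-! ### Checks split into blocks -/

/-- the check of the block `blk` of `bs` points -/
def blkOK (n bs : ℕ) (P : ℕ → Bool) (blk : ℕ) : Bool :=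
  allBelow bs fun i => force (bs * blk + i) fun y => Nat.ble n y || P y

theorem all_of_blocks (n bs nb : ℕ) (hn : n ≤ bs * nb) (P : ℕ → Bool)
    (h : ∀ blk < nb, blkOK n bs P blk = true) : ∀ y < n, P y = true := by
  intro y hy
  have hbs : 0 < bs := by
    rcases Nat.eq_zero_or_pos bs with h0 | h0
    · rw [h0, Nat.zero_mul] at hn
      omega
    · exact h0
  have h1 : y / bs < nb := by
    rw [Nat.div_lt_iff_lt_mul hbs]
    calc y < n := hy
      _ ≤ bs * nb := hn
      _ = nb * bs := Nat.mul_comm _ _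
  have h2 := h (y / bs) h1
  unfold blkOK at h2
  rw [allBelow_iff] at h2
  have h3 := h2 (y % bs) (Nat.mod_lt _ hbs)
  rw [force_eq, Nat.div_add_mod, Bool.or_eq_true] at h3
  rcases h3 with h3 | h3
  · have : n ≤ y := Nat.le_of_ble_eq_true h3
    omega
  · exact h3

/-- iterate a function -/
def iterF (f : ℕ → ℕ) (m : ℕ) (p : ℕ) : ℕ := Nat.rec (motive := fun _ => ℕ) p (fun _ r => f r) m

theorem iterF_succ (f : ℕ → ℕ) (m p : ℕ) : iterF f (m + 1) p = f (iterF f m p) := rfl

theorem actsF_pow {n : ℕ} {g : Equiv.Perm (Fin n)} {f : ℕ → ℕ} (hg : ActsF n g f) (m : ℕ) :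
    ActsF n (g ^ m) (iterF f m) := by
  induction m with
  | zero =>
    intro u
    rfl
  | succ m ih =>
    intro u
    rw [pow_succ', Equiv.Perm.mul_apply, hg, ih u, iterF_succ]

theorem pow_eq_one_of_iterF {n : ℕ} {g : Equiv.Perm (Fin n)} {f : ℕ → ℕ} (hg : ActsF n g f)
    (m : ℕ) (h : ∀ y < n, iterF f m y = y) : g ^ m = 1 := by
  apply Equiv.ext
  intro u
  apply Fin.ext
  rw [actsF_pow hg m u, h u.val u.2]
  rfl

end Cfsg.Agent.Helper29.PT
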