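import Mathlib
import Cfsg.Agent.Lib.Helper29.PermT
import Cfsg.Agent.Lib.Helper29.Fi3DataA

set_option autoImplicit false

/-! The Fischer group Fi23 on 31671 points: the check functions for the generators and the
relators. -/

namespace Cfsg.Agent.Helper29.Fi3M

open Cfsg.Agent.Helper29.HSP (tg force force_eq allBelow allBelow_iff)
open Cfsg.Agent.Helper29.PT

/-- the action of the generator `l` -/
def fG (l : ℕ) : ℕ → ℕ := tg (Fi3D.PC.getD l 0) 15
/-- the action of the spider word -/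
def fSP : ℕ → ℕ := tg Fi3D.SPC 15
/-- the action of the second word -/
def fE7 : ℕ → ℕ := tg Fi3D.E7C 15

/-- the spider word -/
def SPW : List ℕ := [3, 2, 1, 3, 4, 5, 3, 8, 9]
/-- the second word -/
def E7W : List ℕ := [0, 1, 2, 3, 4, 5, 8]

/-- the labels as a table -/
def labT : List ℕ :=
  [1, 3, 2, 2, 2, 2, 2, 2, 2, 2,
   3, 1, 3, 2, 2, 2, 2, 2, 2, 2,
   2, 3, 1, 3, 2, 2, 2, 2, 2, 2,
   2, 2, 3, 1, 3, 2, 2, 2, 3, 2,
   2, 2, 2, 3, 1, 3, 2, 2, 2, 2,
   2, 2, 2, 2, 3, 1, 3, 2, 2, 2,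
   2, 2, 2, 2, 2, 3, 1, 3, 2, 2,
   2, 2, 2, 2, 2, 2, 3, 1, 2, 2,
   2, 2, 2, 3, 2, 2, 2, 2, 1, 3,
   2, 2, 2, 2, 2, 2, 2, 2, 3, 1]

/-- a word repeated -/
def repW (w : List ℕ) : ℕ → List ℕ
  | 0 => []
  | m + 1 => w ++ repW w m

/-- the generator `k` is an involution of the points: the check at a point -/
def invP (k y : ℕ) : Bool := force (fG k y) fun v => Nat.blt v 31671 && Nat.beq (fG k v) y

/-- the relation of the generators `i` and `j`: the check at a point -/
def coxP (i j y : ℕ) : Bool :=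
  Nat.beq (appF fG (repW [i, j] (labT.getD (10 * i + j) 0)) y) y

/-- the spider word: the check at a point -/
def spP (y : ℕ) : Bool := Nat.beq (fSP y) (appF fG SPW y)
/-- the tenth power of the spider word: the check at a point -/
def sp10P (y : ℕ) : Bool := Nat.beq (iterF fSP 10 y) y
/-- the second word: the check at a point -/
def e7P (y : ℕ) : Bool := Nat.beq (fE7 y) (appF fG E7W y)
/-- the ninth power of the second word: the check at a point -/
def e79P (y : ℕ) : Bool := Nat.beq (iterF fE7 9 y) y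

end Cfsg.Agent.Helper29.Fi3M
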