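import Mathlib
import Cfsg.Agent.Lib.Helper29.Fi3MDefs
import Cfsg.Agent.Lib.Helper29.Fi3DataB
import Cfsg.Agent.Lib.Helper29.Fi3DataC
import Cfsg.Agent.Lib.Helper29.Fi3DataD

set_option autoImplicit false

/-! The Fischer group Fi23 on 31671 points: an element of order eleven, a straight-line program
for a strong generating set, the transversal words, the class of 3-transpositions given by the
points, and the check functions. -/

namespace Cfsg.Agent.Helper29.Fi3

open Cfsg.Agent.Helper29.HSP (tg force force_eq allBelow allBelow_iff)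
open Cfsg.Agent.Helper29.PT
open Cfsg.Agent.Helper29.PW (unpackW)
open Cfsg.Agent.Helper29.Fi3M Cfsg.Agent.Helper29.Fi3D

/-- the action of the letter `l` of the program -/
def f2 (l : ℕ) : ℕ → ℕ := tg (CL2.getD l 0) 15
/-- the action of the inverse of the letter `l` -/
def f2i (l : ℕ) : ℕ → ℕ := tg (CL2I.getD l 0) 15
/-- the word of the element of order eleven -/
def XW : List ℕ := [2, 6, 4, 0, 1, 3, 8, 9, 2, 3, 5, 2, 6, 4, 0, 1, 3, 8, 9, 2, 3, 5]
/-- the action of the element of order eleven -/
def X : ℕ → ℕ := f2 0
/-- the action of the second generator -/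
def Y : ℕ → ℕ := f2 1
/-- the action of the central involution of the point stabiliser -/
def Z0 : ℕ → ℕ := f2 11
/-- the action of the power `k` of the element of order eleven -/
def xpw (k p : ℕ) : ℕ := iterF X k p
/-- the base points -/
def bv (k : ℕ) : ℕ := basePts.getD k 0
/-- the entry of the table of transversal words -/
def twE (k q : ℕ) : ℕ := tg (TWL.getD k 0) 29 q
/-- the orbits -/
def OMb (k q : ℕ) : Bool := Nat.testBit (twE k q) 28
/-- the word of an entry -/
def uw (e : ℕ) : List ℕ := unpackW 4 7 (Nat.land e (2 ^ 28 - 1))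
/-- the transversal words -/
def TW (k q : ℕ) : List ℕ := uw (twE k q)
/-- the action of the inverse of a word -/
def appFI : List ℕ → ℕ → ℕ
  | [], p => p
  | l :: t, p => appFI t (f2i l p)
/-- the action of the transposition of the point with entry `e` -/
def tAppE (e q : ℕ) : ℕ := appF f2 (uw e) (Z0 (appFI (uw e) q))
/-- the action of the transposition of the point `p` -/
def tApp (p q : ℕ) : ℕ := tAppE (twE 0 p) q
/-- the entry of the second fixed point -/
def EP0 : ℕ := 270999957
/-- the word of the second fixed point -/
def UP0 : List ℕ := [4, 8, 0, 1, 6, 1]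
/-- the representatives of the orbits of the element of order eleven -/
def rp (r : ℕ) : ℕ := tg REPS 15 r

/-! ### The checks at a point -/

/-- the element of order eleven is the word -/
def xrP (y : ℕ) : Bool := Nat.beq (X y) (appF fG XW y)

/-- the step `j` of the program -/
def slpP (j y : ℕ) : Bool := Nat.beq (f2 (2 + j) y) (appF f2 (WL2.getD j []) y)

/-- the inverse of the letter `l` -/
def invsP (l y : ℕ) : Bool :=
  force (f2 l y) fun a => force (f2i l y) fun b =>
    Nat.blt a 31671 && Nat.blt b 31671 && Nat.beq (f2i l a) y && Nat.beq (f2 l b) y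

/-- the transversal word of the point `q` at the level `k` -/
def twP (k q : ℕ) : Bool :=
  force (twE k q) fun e => !(Nat.testBit e 28) ||
    (((uw e).all fun l => Nat.blt l 13 && (Nat.beq k 0 || !(Nat.beq l 1))) &&
      Nat.beq (appF f2 (uw e) (bv k)) q &&
        allBelow k fun j => Nat.beq (appF f2 (uw e) (bv j)) (bv j))

/-- the orbit of the point `p` under the element of order eleven -/
def orbP (p : ℕ) : Bool :=
  force (tg ORBT 16 p) fun e => Nat.blt (e / 16) NR && Nat.blt (e % 16) 11 &&
    Nat.blt (rp (e / 16)) 31671 && Nat.beq (xpw (e % 16) (rp (e / 16))) p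

/-- the fixed points of the element of order eleven -/
def fixxP (p : ℕ) : Bool := Nat.beq p 0 || Nat.beq p P0p || !(Nat.beq (X p) p)

/-- one syllable-word applied to a point: the rightmost syllable first -/
def iterW (f : ℕ → ℕ) : List ℕ → ℕ → ℕ
  | [], v => v
  | e :: E, v => xpw e (f (iterW f E v))

/-- iterate -/
def iterN (f : ℕ → ℕ) (E : List ℕ) (m v : ℕ) : ℕ :=
  Nat.rec (motive := fun _ => ℕ) v (fun _ r => iterW f E r) m

/-- a witness `h = 32768 * k + p`: the relation `k` fails at the point `p` for the function `f` -/
def witOK (R : List (List ℕ × ℕ)) (f : ℕ → ℕ) (h : ℕ) : Bool :=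
  Nat.blt (h / 32768) R.length && Nat.blt (h % 32768) 31671 &&
    !(Nat.beq (iterN f (R.getD (h / 32768) ([], 0)).1
      (R.getD (h / 32768) ([], 0)).2 (h % 32768)) (h % 32768))

/-- the filter -/
def filtP (r : ℕ) : Bool :=
  Nat.blt r NSV || force (twE 0 (rp r)) fun e => witOK RL (tAppE e) (tg FHP 17 r)

/-- the relations of the generators on the base -/
def relsB : List (List ℕ × ℕ) → Bool
  | [] => true
  | r :: R => (allBelow 8 fun k => Nat.beq (iterN Y r.1 r.2 (bv k)) (bv k)) && relsB R

/-- the normalising element -/
def nOK : Bool :=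
  (Wn.all fun l => Nat.blt l 13) &&
    allBelow 8 fun k => Nat.beq (appF f2 Wn (X (bv k))) (X (X (appF f2 Wn (bv k))))

/-- the base: the fixed point, six points of a cycle, and one more point -/
def bxOK : Bool :=
  Nat.beq (bv 0) 0 && Nat.beq (X 0) 0 && Nat.beq (X P0p) P0p &&
    (allBelow 5 fun k => Nat.beq (X (bv (k + 1))) (bv (k + 2))) && Nat.blt P0p 31671 &&
      Nat.blt PY 31671 && OMb 0 PY && OMb 0 P0p && OMb 0 0 && Nat.beq (twE 0 P0p) EP0 &&
        Nat.beq (twE 0 0) (2 ^ 28)

/-- the product of the two commuting transpositions is not a transposition -/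
def zzP (p : ℕ) : Bool :=
  force (twE 0 p) fun e => force (tg ZZW 15 p) fun w =>
    Nat.blt w 31671 && !(Nat.beq (tAppE e w) (Z0 (tAppE EP0 w)))

/-- the second generator is the transposition of its point, on the base -/
def yOK : Bool := allBelow 8 fun k => Nat.beq (Y (bv k)) (tApp PY (bv k))

/-- the letters fixing the first base point commute with the central involution, on the base -/
def zcOK : Bool :=
  allBelow 13 fun l => Nat.beq l 1 || allBelow 8 fun k =>
    Nat.beq (f2 l (Z0 (bv k))) (Z0 (f2 l (bv k)))

/-- the three elements move points -/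
def movOK : Bool := !(Nat.beq (X 1) 1) && !(Nat.beq (Y 0) 0) && !(Nat.beq (Z0 1) 1)

/-- all points are in the first orbit -/
def om0P (q : ℕ) : Bool := OMb 0 q

/-- the eleventh power of the element of order eleven, on the base -/
def x11OK : Bool := allBelow 8 fun k => Nat.beq (xpw 11 (bv k)) (bv k)

/-- the first four representatives are the images of the point of the second generator under the
four involutions of the centraliser; the second commuting transposition fixes the first base
point and differs from the first one -/
def svOK : Bool :=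
  Nat.beq (rp 0) PY && Nat.beq (rp 1) (Z0 PY) && Nat.beq (rp 2) (tAppE EP0 PY) &&
    Nat.beq (rp 3) (Z0 (tAppE EP0 PY)) && Nat.beq (tAppE EP0 0) 0 &&
      !(Nat.beq (Z0 1) (tAppE EP0 1)) && Nat.beq NSV 4

/-! ### The centraliser of the element of order eleven -/

/-- no element of the group maps the first base point as the word `w0` does, the second one to
`q`, and commutes with the element of order eleven: the sifting fails at one of the levels -/
def siftFail (w0 : List ℕ) (q : ℕ) : Bool :=
  force (appFI w0 q) fun c1 => !(OMb 1 c1) ||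
  force (appFI (TW 1 c1) (appFI w0 (xpw 1 q))) fun c2 => !(OMb 2 c2) ||
  force (appFI (TW 2 c2) (appFI (TW 1 c1) (appFI w0 (xpw 2 q)))) fun c3 => !(OMb 3 c3) ||
  force (appFI (TW 3 c3) (appFI (TW 2 c2) (appFI (TW 1 c1) (appFI w0 (xpw 3 q))))) fun c4 =>
    !(OMb 4 c4) ||
  force (appFI (TW 4 c4) (appFI (TW 3 c3) (appFI (TW 2 c2) (appFI (TW 1 c1)
    (appFI w0 (xpw 4 q)))))) fun c5 => !(OMb 5 c5) ||
  force (appFI (TW 5 c5) (appFI (TW 4 c4) (appFI (TW 3 c3) (appFI (TW 2 c2) (appFI (TW 1 c1)
    (appFI w0 (xpw 5 q))))))) fun c6 => !(OMb 6 c6)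

/-- the power `f` of the second commuting transposition at a point -/
def zpPow (f p : ℕ) : ℕ := cond (Nat.beq f 0) p (tAppE EP0 p)

/-- an element fixing the first base point, commuting with the element of order eleven and
mapping the second base point to `q`: either excluded by sifting or one of the listed ones -/
def cq0P (q : ℕ) : Bool :=
  siftFail [] q ||
    force (tg CQP 5 q) fun h => !(Nat.beq h 0) && Nat.blt h 23 &&
      Nat.beq (xpw ((h - 1) / 2) (zpPow ((h - 1) % 2) (bv 1))) q

/-- an element mapping the first base point to the second fixed point does not commute with the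
element of order eleven -/
def cq1P (q : ℕ) : Bool := siftFail UP0 q

end Cfsg.Agent.Helper29.Fi3
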