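import Mathlib
import Cfsg.Agent.Lib.Helper29.Fi3Defs

set_option autoImplicit false
set_option Elab.async false

/-! Kernel checks for the Fischer group Fi23 on 31671 points (generated). -/

namespace Cfsg.Agent.Helper29.Fi3

open Cfsg.Agent.Helper29.HSP (tg force force_eq allBelow allBelow_iff)
open Cfsg.Agent.Helper29.PT
open Cfsg.Agent.Helper29.PW (unpackW)
open Cfsg.Agent.Helper29.Fi3M Cfsg.Agent.Helper29.Fi3D

set_option maxRecDepth 100000 in
theorem cq1_chk_b0 : blkOK 31671 2640 (cq1P) 0 = true := by decide +kernel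

set_option maxRecDepth 100000 in
theorem cq1_chk_b1 : blkOK 31671 2640 (cq1P) 1 = true := by decide +kernel

set_option maxRecDepth 100000 in
theorem cq1_chk_b2 : blkOK 31671 2640 (cq1P) 2 = true := by decide +kernel

set_option maxRecDepth 100000 in
theorem cq1_chk_b3 : blkOK 31671 2640 (cq1P) 3 = true := by decide +kernel

set_option maxRecDepth 100000 in
theorem cq1_chk_b4 : blkOK 31671 2640 (cq1P) 4 = true := by decide +kernel

set_option maxRecDepth 100000 in
theorem cq1_chk_b5 : blkOK 31671 2640 (cq1P) 5 = true := by decide +kernel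

set_option maxRecDepth 100000 in
theorem cq1_chk_b6 : blkOK 31671 2640 (cq1P) 6 = true := by decide +kernel

set_option maxRecDepth 100000 in
theorem cq1_chk_b7 : blkOK 31671 2640 (cq1P) 7 = true := by decide +kernel

set_option maxRecDepth 100000 in
theorem cq1_chk_b8 : blkOK 31671 2640 (cq1P) 8 = true := by decide +kernel

set_option maxRecDepth 100000 in
theorem cq1_chk_b9 : blkOK 31671 2640 (cq1P) 9 = true := by decide +kernel

set_option maxRecDepth 100000 in
theorem cq1_chk_b10 : blkOK 31671 2640 (cq1P) 10 = true := by decide +kernel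

set_option maxRecDepth 100000 in
theorem cq1_chk_b11 : blkOK 31671 2640 (cq1P) 11 = true := by decide +kernel

theorem cq1_chk : ∀ y < 31671, (cq1P) y = true := by
  apply all_of_blocks 31671 2640 12 (by norm_num)
  intro blk hblk
  interval_cases blk
  · exact cq1_chk_b0
  · exact cq1_chk_b1
  · exact cq1_chk_b2
  · exact cq1_chk_b3
  · exact cq1_chk_b4
  · exact cq1_chk_b5
  · exact cq1_chk_b6
  · exact cq1_chk_b7
  · exact cq1_chk_b8
  · exact cq1_chk_b9
  · exact cq1_chk_b10
  · exact cq1_chk_b11


end Cfsg.Agent.Helper29.Fi3
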