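import Mathlib
import Cfsg.Agent.Lib.Helper29.Fi3Defs

set_option autoImplicit false
set_option Elab.async false

/-! Kernel checks for the Fischer group Fi23 on 31671 points (generated). -/

namespace Cfsg.Agent.Helper29.Fi3

open Cfsg.Agent.Helper29.HSP (tg force force_eq allBelow allBelow_iff)
open Cfsg.Agent.Helper29.PT
open Cfsg.Agent.Helper29.PW (unpackW)
open Cfsg.Agent.Helper29.Fi3M Cfsg.Agent.Helper29.Fi3D

set_option maxRecDepth 100000 in
theorem filt_chk0_b0 : blkOK 2881 100 (filtP) 0 = true := by decide +kernel

set_option maxRecDepth 100000 in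
theorem filt_chk0_b1 : blkOK 2881 100 (filtP) 1 = true := by decide +kernel

set_option maxRecDepth 100000 in
theorem filt_chk0_b2 : blkOK 2881 100 (filtP) 2 = true := by decide +kernel

set_option maxRecDepth 100000 in
theorem filt_chk0_b3 : blkOK 2881 100 (filtP) 3 = true := by decide +kernel

set_option maxRecDepth 100000 in
theorem filt_chk0_b4 : blkOK 2881 100 (filtP) 4 = true := by decide +kernel

set_option maxRecDepth 100000 in
theorem filt_chk0_b5 : blkOK 2881 100 (filtP) 5 = true := by decide +kernel

set_option maxRecDepth 100000 in
theorem filt_chk0_b6 : blkOK 2881 100 (filtP) 6 = true := by decide +kernel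

set_option maxRecDepth 100000 in
theorem filt_chk0_b7 : blkOK 2881 100 (filtP) 7 = true := by decide +kernel

set_option maxRecDepth 100000 in
theorem filt_chk0_b8 : blkOK 2881 100 (filtP) 8 = true := by decide +kernel

set_option maxRecDepth 100000 in
theorem filt_chk0_b9 : blkOK 2881 100 (filtP) 9 = true := by decide +kernel

set_option maxRecDepth 100000 in
theorem filt_chk0_b10 : blkOK 2881 100 (filtP) 10 = true := by decide +kernel

set_option maxRecDepth 100000 in
theorem filt_chk0_b11 : blkOK 2881 100 (filtP) 11 = true := by decide +kernel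

set_option maxRecDepth 100000 in
theorem filt_chk0_b12 : blkOK 2881 100 (filtP) 12 = true := by decide +kernel

set_option maxRecDepth 100000 in
theorem filt_chk0_b13 : blkOK 2881 100 (filtP) 13 = true := by decide +kernel

set_option maxRecDepth 100000 in
theorem filt_chk0_b14 : blkOK 2881 100 (filtP) 14 = true := by decide +kernel

set_option maxRecDepth 100000 in
theorem filt_chk0_b15 : blkOK 2881 100 (filtP) 15 = true := by decide +kernel

set_option maxRecDepth 100000 in
theorem filt_chk0_b16 : blkOK 2881 100 (filtP) 16 = true := by decide +kernel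

set_option maxRecDepth 100000 in
theorem filt_chk0_b17 : blkOK 2881 100 (filtP) 17 = true := by decide +kernel

set_option maxRecDepth 100000 in
theorem filt_chk0_b18 : blkOK 2881 100 (filtP) 18 = true := by decide +kernel

set_option maxRecDepth 100000 in
theorem filt_chk0_b19 : blkOK 2881 100 (filtP) 19 = true := by decide +kernel

set_option maxRecDepth 100000 in
theorem filt_chk0_b20 : blkOK 2881 100 (filtP) 20 = true := by decide +kernel

set_option maxRecDepth 100000 in
theorem filt_chk0_b21 : blkOK 2881 100 (filtP) 21 = true := by decide +kernel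

set_option maxRecDepth 100000 in
theorem filt_chk0_b22 : blkOK 2881 100 (filtP) 22 = true := by decide +kernel

set_option maxRecDepth 100000 in
theorem filt_chk0_b23 : blkOK 2881 100 (filtP) 23 = true := by decide +kernel

set_option maxRecDepth 100000 in
theorem filt_chk0_b24 : blkOK 2881 100 (filtP) 24 = true := by decide +kernel

set_option maxRecDepth 100000 in
theorem filt_chk0_b25 : blkOK 2881 100 (filtP) 25 = true := by decide +kernel

set_option maxRecDepth 100000 in
theorem filt_chk0_b26 : blkOK 2881 100 (filtP) 26 = true := by decide +kernel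

set_option maxRecDepth 100000 in
theorem filt_chk0_b27 : blkOK 2881 100 (filtP) 27 = true := by decide +kernel

set_option maxRecDepth 100000 in
theorem filt_chk0_b28 : blkOK 2881 100 (filtP) 28 = true := by decide +kernel

theorem filt_chk0 : ∀ y < 2881, (filtP) y = true := by
  apply all_of_blocks 2881 100 29 (by norm_num)
  intro blk hblk
  interval_cases blk
  · exact filt_chk0_b0
  · exact filt_chk0_b1
  · exact filt_chk0_b2
  · exact filt_chk0_b3
  · exact filt_chk0_b4
  · exact filt_chk0_b5
  · exact filt_chk0_b6
  · exact filt_chk0_b7
  · exact filt_chk0_b8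
  · exact filt_chk0_b9
  · exact filt_chk0_b10
  · exact filt_chk0_b11
  · exact filt_chk0_b12
  · exact filt_chk0_b13
  · exact filt_chk0_b14
  · exact filt_chk0_b15
  · exact filt_chk0_b16
  · exact filt_chk0_b17
  · exact filt_chk0_b18
  · exact filt_chk0_b19
  · exact filt_chk0_b20
  · exact filt_chk0_b21
  · exact filt_chk0_b22
  · exact filt_chk0_b23
  · exact filt_chk0_b24
  · exact filt_chk0_b25
  · exact filt_chk0_b26
  · exact filt_chk0_b27
  · exact filt_chk0_b28


end Cfsg.Agent.Helper29.Fi3
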