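import Mathlib
import Cfsg.Agent.Lib.Helper29.Fi3Defs

set_option autoImplicit false
set_option Elab.async false

/-! Kernel checks for the Fischer group Fi23 on 31671 points (generated). -/

namespace Cfsg.Agent.Helper29.Fi3

open Cfsg.Agent.Helper29.HSP (tg force force_eq allBelow allBelow_iff)
open Cfsg.Agent.Helper29.PT
open Cfsg.Agent.Helper29.PW (unpackW)
open Cfsg.Agent.Helper29.Fi3M Cfsg.Agent.Helper29.Fi3D

set_option maxRecDepth 100000 in
theorem om_chk_0 : cntA (fun q => OMb 0 q) 31671 0 = 31671 := by decide +kernel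

set_option maxRecDepth 100000 in
theorem om_chk_1 : cntA (fun q => OMb 1 q) 31671 0 = 3510 := by decide +kernel

set_option maxRecDepth 100000 in
theorem om_chk_2 : cntA (fun q => OMb 2 q) 31671 0 = 2816 := by decide +kernel

set_option maxRecDepth 100000 in
theorem om_chk_3 : cntA (fun q => OMb 3 q) 31671 0 = 1680 := by decide +kernel

set_option maxRecDepth 100000 in
theorem om_chk_4 : cntA (fun q => OMb 4 q) 31671 0 = 243 := by decide +kernel

set_option maxRecDepth 100000 in
theorem om_chk_5 : cntA (fun q => OMb 5 q) 31671 0 = 16 := by decide +kernel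

set_option maxRecDepth 100000 in
theorem om_chk_6 : cntA (fun q => OMb 6 q) 31671 0 = 1 := by decide +kernel

set_option maxRecDepth 100000 in
theorem om_chk_7 : cntA (fun q => OMb 7 q) 31671 0 = 2 := by decide +kernel


end Cfsg.Agent.Helper29.Fi3
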