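import Mathlib
import Cfsg.Agent.Lib.Helper29.Fi3Defs

set_option autoImplicit false
set_option Elab.async false

/-! Kernel checks for the Fischer group Fi23 on 31671 points (generated). -/

namespace Cfsg.Agent.Helper29.Fi3

open Cfsg.Agent.Helper29.HSP (tg force force_eq allBelow allBelow_iff)
open Cfsg.Agent.Helper29.PT
open Cfsg.Agent.Helper29.PW (unpackW)
open Cfsg.Agent.Helper29.Fi3M Cfsg.Agent.Helper29.Fi3D

set_option maxRecDepth 100000 in
theorem orb_chk_b0 : blkOK 31671 10557 (orbP) 0 = true := by decide +kernel

set_option maxRecDepth 100000 in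
theorem orb_chk_b1 : blkOK 31671 10557 (orbP) 1 = true := by decide +kernel

set_option maxRecDepth 100000 in
theorem orb_chk_b2 : blkOK 31671 10557 (orbP) 2 = true := by decide +kernel

theorem orb_chk : ∀ y < 31671, (orbP) y = true := by
  apply all_of_blocks 31671 10557 3 (by norm_num)
  intro blk hblk
  interval_cases blk
  · exact orb_chk_b0
  · exact orb_chk_b1
  · exact orb_chk_b2

set_option maxRecDepth 100000 in
theorem fixx_chk0_b0 : blkOK 31671 31671 (fixxP) 0 = true := by decide +kernel

theorem fixx_chk0 : ∀ y < 31671, (fixxP) y = true := by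
  apply all_of_blocks 31671 31671 1 (by norm_num)
  intro blk hblk
  interval_cases blk
  · exact fixx_chk0_b0

set_option maxRecDepth 100000 in
theorem om0_chk_b0 : blkOK 31671 31671 (om0P) 0 = true := by decide +kernel

theorem om0_chk : ∀ y < 31671, (om0P) y = true := by
  apply all_of_blocks 31671 31671 1 (by norm_num)
  intro blk hblk
  interval_cases blk
  · exact om0_chk_b0


end Cfsg.Agent.Helper29.Fi3
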