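import Mathlib
import Cfsg.Agent.Lib.Helper29.Fi3Defs

set_option autoImplicit false
set_option Elab.async false

/-! Kernel checks for the Fischer group Fi23 on 31671 points (generated). -/

namespace Cfsg.Agent.Helper29.Fi3

open Cfsg.Agent.Helper29.HSP (tg force force_eq allBelow allBelow_iff)
open Cfsg.Agent.Helper29.PT
open Cfsg.Agent.Helper29.PW (unpackW)
open Cfsg.Agent.Helper29.Fi3M Cfsg.Agent.Helper29.Fi3D

set_option maxRecDepth 100000 in
theorem n_chk : nOK = true := by decide +kernel

set_option maxRecDepth 100000 in
theorem bx_chk : bxOK = true := by decide +kernel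

set_option maxRecDepth 100000 in
theorem y_chk : yOK = true := by decide +kernel

set_option maxRecDepth 100000 in
theorem zc_chk : zcOK = true := by decide +kernel

set_option maxRecDepth 100000 in
theorem mov_chk : movOK = true := by decide +kernel

set_option maxRecDepth 100000 in
theorem x11_chk : x11OK = true := by decide +kernel

set_option maxRecDepth 100000 in
theorem sv_chk : svOK = true := by decide +kernel

set_option maxRecDepth 100000 in
theorem rels_chk : relsB RL = true := by decide +kernel

theorem slp_letters : ∀ j < 11, ((WL2.getD j []).all fun l => Nat.blt l (2 + j)) = true := by decide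

theorem up0_eq : uw EP0 = UP0 := by decide +kernel


end Cfsg.Agent.Helper29.Fi3
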