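import Mathlib
import Cfsg.Agent.Lib.Helper29.Fi3Defs

set_option autoImplicit false
set_option Elab.async false

/-! Kernel checks for the Fischer group Fi23 on 31671 points (generated). -/

namespace Cfsg.Agent.Helper29.Fi3

open Cfsg.Agent.Helper29.HSP (tg force force_eq allBelow allBelow_iff)
open Cfsg.Agent.Helper29.PT
open Cfsg.Agent.Helper29.PW (unpackW)
open Cfsg.Agent.Helper29.Fi3M Cfsg.Agent.Helper29.Fi3D

set_option maxRecDepth 100000 in
theorem tw_chk_0_b0 : blkOK 31671 7918 (twP 0) 0 = true := by decide +kernel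

set_option maxRecDepth 100000 in
theorem tw_chk_0_b1 : blkOK 31671 7918 (twP 0) 1 = true := by decide +kernel

set_option maxRecDepth 100000 in
theorem tw_chk_0_b2 : blkOK 31671 7918 (twP 0) 2 = true := by decide +kernel

set_option maxRecDepth 100000 in
theorem tw_chk_0_b3 : blkOK 31671 7918 (twP 0) 3 = true := by decide +kernel

theorem tw_chk_0 : ∀ y < 31671, (twP 0) y = true := by
  apply all_of_blocks 31671 7918 4 (by norm_num)
  intro blk hblk
  interval_cases blk
  · exact tw_chk_0_b0
  · exact tw_chk_0_b1
  · exact tw_chk_0_b2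
  · exact tw_chk_0_b3


end Cfsg.Agent.Helper29.Fi3
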