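import Mathlib
import Cfsg.Agent.Lib.Helper29.Fi3Defs

set_option autoImplicit false
set_option Elab.async false

/-! Kernel checks for the Fischer group Fi23 on 31671 points (generated). -/

namespace Cfsg.Agent.Helper29.Fi3

open Cfsg.Agent.Helper29.HSP (tg force force_eq allBelow allBelow_iff)
open Cfsg.Agent.Helper29.PT
open Cfsg.Agent.Helper29.PW (unpackW)
open Cfsg.Agent.Helper29.Fi3M Cfsg.Agent.Helper29.Fi3D

set_option maxRecDepth 100000 in
theorem tw_chk_1_b0 : blkOK 31671 15836 (twP 1) 0 = true := by decide +kernel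

set_option maxRecDepth 100000 in
theorem tw_chk_1_b1 : blkOK 31671 15836 (twP 1) 1 = true := by decide +kernel

theorem tw_chk_1 : ∀ y < 31671, (twP 1) y = true := by
  apply all_of_blocks 31671 15836 2 (by norm_num)
  intro blk hblk
  interval_cases blk
  · exact tw_chk_1_b0
  · exact tw_chk_1_b1

set_option maxRecDepth 100000 in
theorem tw_chk_2_b0 : blkOK 31671 15836 (twP 2) 0 = true := by decide +kernel

set_option maxRecDepth 100000 in
theorem tw_chk_2_b1 : blkOK 31671 15836 (twP 2) 1 = true := by decide +kernel

theorem tw_chk_2 : ∀ y < 31671, (twP 2) y = true := by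
  apply all_of_blocks 31671 15836 2 (by norm_num)
  intro blk hblk
  interval_cases blk
  · exact tw_chk_2_b0
  · exact tw_chk_2_b1

set_option maxRecDepth 100000 in
theorem tw_chk_3_b0 : blkOK 31671 15836 (twP 3) 0 = true := by decide +kernel

set_option maxRecDepth 100000 in
theorem tw_chk_3_b1 : blkOK 31671 15836 (twP 3) 1 = true := by decide +kernel

theorem tw_chk_3 : ∀ y < 31671, (twP 3) y = true := by
  apply all_of_blocks 31671 15836 2 (by norm_num)
  intro blk hblk
  interval_cases blk
  · exact tw_chk_3_b0
  · exact tw_chk_3_b1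

set_option maxRecDepth 100000 in
theorem tw_chk_4_b0 : blkOK 31671 15836 (twP 4) 0 = true := by decide +kernel

set_option maxRecDepth 100000 in
theorem tw_chk_4_b1 : blkOK 31671 15836 (twP 4) 1 = true := by decide +kernel

theorem tw_chk_4 : ∀ y < 31671, (twP 4) y = true := by
  apply all_of_blocks 31671 15836 2 (by norm_num)
  intro blk hblk
  interval_cases blk
  · exact tw_chk_4_b0
  · exact tw_chk_4_b1

set_option maxRecDepth 100000 in
theorem tw_chk_5_b0 : blkOK 31671 15836 (twP 5) 0 = true := by decide +kernel

set_option maxRecDepth 100000 in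
theorem tw_chk_5_b1 : blkOK 31671 15836 (twP 5) 1 = true := by decide +kernel

theorem tw_chk_5 : ∀ y < 31671, (twP 5) y = true := by
  apply all_of_blocks 31671 15836 2 (by norm_num)
  intro blk hblk
  interval_cases blk
  · exact tw_chk_5_b0
  · exact tw_chk_5_b1

set_option maxRecDepth 100000 in
theorem tw_chk_6_b0 : blkOK 31671 15836 (twP 6) 0 = true := by decide +kernel

set_option maxRecDepth 100000 in
theorem tw_chk_6_b1 : blkOK 31671 15836 (twP 6) 1 = true := by decide +kernel

theorem tw_chk_6 : ∀ y < 31671, (twP 6) y = true := by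
  apply all_of_blocks 31671 15836 2 (by norm_num)
  intro blk hblk
  interval_cases blk
  · exact tw_chk_6_b0
  · exact tw_chk_6_b1

set_option maxRecDepth 100000 in
theorem tw_chk_7_b0 : blkOK 31671 15836 (twP 7) 0 = true := by decide +kernel

set_option maxRecDepth 100000 in
theorem tw_chk_7_b1 : blkOK 31671 15836 (twP 7) 1 = true := by decide +kernel

theorem tw_chk_7 : ∀ y < 31671, (twP 7) y = true := by
  apply all_of_blocks 31671 15836 2 (by norm_num)
  intro blk hblk
  interval_cases blk
  · exact tw_chk_7_b0
  · exact tw_chk_7_b1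


end Cfsg.Agent.Helper29.Fi3
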