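import Mathlib
import Cfsg.Agent.Lib.Helper29.Fi3ChkC0
import Cfsg.Agent.Lib.Helper29.Fi3ChkC1
import Cfsg.Agent.Lib.Helper29.Fi3ChkF
import Cfsg.Agent.Lib.Helper29.Fi3ChkI0
import Cfsg.Agent.Lib.Helper29.Fi3ChkI1
import Cfsg.Agent.Lib.Helper29.Fi3ChkI2
import Cfsg.Agent.Lib.Helper29.Fi3ChkL0
import Cfsg.Agent.Lib.Helper29.Fi3ChkL1
import Cfsg.Agent.Lib.Helper29.Fi3ChkL10
import Cfsg.Agent.Lib.Helper29.Fi3ChkL2
import Cfsg.Agent.Lib.Helper29.Fi3ChkL3
import Cfsg.Agent.Lib.Helper29.Fi3ChkL4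
import Cfsg.Agent.Lib.Helper29.Fi3ChkL5
import Cfsg.Agent.Lib.Helper29.Fi3ChkL6
import Cfsg.Agent.Lib.Helper29.Fi3ChkL7
import Cfsg.Agent.Lib.Helper29.Fi3ChkL8
import Cfsg.Agent.Lib.Helper29.Fi3ChkL9
import Cfsg.Agent.Lib.Helper29.Fi3ChkO
import Cfsg.Agent.Lib.Helper29.Fi3ChkP
import Cfsg.Agent.Lib.Helper29.Fi3ChkS
import Cfsg.Agent.Lib.Helper29.Fi3ChkT0
import Cfsg.Agent.Lib.Helper29.Fi3ChkT1
import Cfsg.Agent.Lib.Helper29.Fi3ChkX
import Cfsg.Agent.Lib.Helper29.Fi3ChkZ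

set_option autoImplicit false

/-! Kernel checks for the Fischer group Fi23 on 31671 points, collected (generated). -/

namespace Cfsg.Agent.Helper29.Fi3

open Cfsg.Agent.Helper29.HSP (tg force force_eq allBelow allBelow_iff)
open Cfsg.Agent.Helper29.PT
open Cfsg.Agent.Helper29.PW (unpackW)
open Cfsg.Agent.Helper29.Fi3M Cfsg.Agent.Helper29.Fi3D

theorem slp_chk : ∀ j < 11, ∀ y < 31671, slpP j y = true := by
  intro j hj
  interval_cases j
  · exact slp_chk_0
  · exact slp_chk_1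
  · exact slp_chk_2
  · exact slp_chk_3
  · exact slp_chk_4
  · exact slp_chk_5
  · exact slp_chk_6
  · exact slp_chk_7
  · exact slp_chk_8
  · exact slp_chk_9
  · exact slp_chk_10

theorem invs_chk : ∀ l < 13, ∀ y < 31671, invsP l y = true := by
  intro l hl
  interval_cases l
  · exact invs_chk_0
  · exact invs_chk_1
  · exact invs_chk_2
  · exact invs_chk_3
  · exact invs_chk_4
  · exact invs_chk_5
  · exact invs_chk_6
  · exact invs_chk_7
  · exact invs_chk_8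
  · exact invs_chk_9
  · exact invs_chk_10
  · exact invs_chk_11
  · exact invs_chk_12

theorem tw_chk : ∀ k < 8, ∀ q < 31671, twP k q = true := by
  intro k hk
  interval_cases k
  · exact tw_chk_0
  · exact tw_chk_1
  · exact tw_chk_2
  · exact tw_chk_3
  · exact tw_chk_4
  · exact tw_chk_5
  · exact tw_chk_6
  · exact tw_chk_7

theorem om_chk : ∀ k < 8, cntA (fun q => OMb k q) 31671 0 = sizes.getD k 0 := by
  intro k hk
  interval_cases k
  · exact om_chk_0
  · exact om_chk_1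
  · exact om_chk_2
  · exact om_chk_3
  · exact om_chk_4
  · exact om_chk_5
  · exact om_chk_6
  · exact om_chk_7

end Cfsg.Agent.Helper29.Fi3
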