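import Mathlib
import Cfsg.Agent.Lib.Helper29.Fi3MDefs

set_option autoImplicit false
set_option Elab.async false

/-! Kernel checks for the Fischer group Fi23 on 31671 points (generated). -/

namespace Cfsg.Agent.Helper29.Fi3M

open Cfsg.Agent.Helper29.HSP (tg force force_eq allBelow allBelow_iff)
open Cfsg.Agent.Helper29.PT

set_option maxRecDepth 100000 in
theorem inv_chk_0_b0 : blkOK 31671 31671 (invP 0) 0 = true := by decide +kernel

theorem inv_chk_0 : ∀ y < 31671, (invP 0) y = true := by
  apply all_of_blocks 31671 31671 1 (by norm_num)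
  intro blk hblk
  interval_cases blk
  · exact inv_chk_0_b0

set_option maxRecDepth 100000 in
theorem inv_chk_1_b0 : blkOK 31671 31671 (invP 1) 0 = true := by decide +kernel

theorem inv_chk_1 : ∀ y < 31671, (invP 1) y = true := by
  apply all_of_blocks 31671 31671 1 (by norm_num)
  intro blk hblk
  interval_cases blk
  · exact inv_chk_1_b0

set_option maxRecDepth 100000 in
theorem inv_chk_2_b0 : blkOK 31671 31671 (invP 2) 0 = true := by decide +kernel

theorem inv_chk_2 : ∀ y < 31671, (invP 2) y = true := by
  apply all_of_blocks 31671 31671 1 (by norm_num)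
  intro blk hblk
  interval_cases blk
  · exact inv_chk_2_b0

set_option maxRecDepth 100000 in
theorem inv_chk_3_b0 : blkOK 31671 31671 (invP 3) 0 = true := by decide +kernel

theorem inv_chk_3 : ∀ y < 31671, (invP 3) y = true := by
  apply all_of_blocks 31671 31671 1 (by norm_num)
  intro blk hblk
  interval_cases blk
  · exact inv_chk_3_b0

set_option maxRecDepth 100000 in
theorem inv_chk_4_b0 : blkOK 31671 31671 (invP 4) 0 = true := by decide +kernel

theorem inv_chk_4 : ∀ y < 31671, (invP 4) y = true := by
  apply all_of_blocks 31671 31671 1 (by norm_num)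
  intro blk hblk
  interval_cases blk
  · exact inv_chk_4_b0

set_option maxRecDepth 100000 in
theorem inv_chk_5_b0 : blkOK 31671 31671 (invP 5) 0 = true := by decide +kernel

theorem inv_chk_5 : ∀ y < 31671, (invP 5) y = true := by
  apply all_of_blocks 31671 31671 1 (by norm_num)
  intro blk hblk
  interval_cases blk
  · exact inv_chk_5_b0

set_option maxRecDepth 100000 in
theorem inv_chk_6_b0 : blkOK 31671 31671 (invP 6) 0 = true := by decide +kernel

theorem inv_chk_6 : ∀ y < 31671, (invP 6) y = true := by
  apply all_of_blocks 31671 31671 1 (by norm_num)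
  intro blk hblk
  interval_cases blk
  · exact inv_chk_6_b0

set_option maxRecDepth 100000 in
theorem inv_chk_7_b0 : blkOK 31671 31671 (invP 7) 0 = true := by decide +kernel

theorem inv_chk_7 : ∀ y < 31671, (invP 7) y = true := by
  apply all_of_blocks 31671 31671 1 (by norm_num)
  intro blk hblk
  interval_cases blk
  · exact inv_chk_7_b0

set_option maxRecDepth 100000 in
theorem inv_chk_8_b0 : blkOK 31671 31671 (invP 8) 0 = true := by decide +kernel

theorem inv_chk_8 : ∀ y < 31671, (invP 8) y = true := by
  apply all_of_blocks 31671 31671 1 (by norm_num)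
  intro blk hblk
  interval_cases blk
  · exact inv_chk_8_b0

set_option maxRecDepth 100000 in
theorem inv_chk_9_b0 : blkOK 31671 31671 (invP 9) 0 = true := by decide +kernel

theorem inv_chk_9 : ∀ y < 31671, (invP 9) y = true := by
  apply all_of_blocks 31671 31671 1 (by norm_num)
  intro blk hblk
  interval_cases blk
  · exact inv_chk_9_b0

set_option maxRecDepth 100000 in
theorem sp_chk_b0 : blkOK 31671 7918 (spP) 0 = true := by decide +kernel

set_option maxRecDepth 100000 in
theorem sp_chk_b1 : blkOK 31671 7918 (spP) 1 = true := by decide +kernel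

set_option maxRecDepth 100000 in
theorem sp_chk_b2 : blkOK 31671 7918 (spP) 2 = true := by decide +kernel

set_option maxRecDepth 100000 in
theorem sp_chk_b3 : blkOK 31671 7918 (spP) 3 = true := by decide +kernel

theorem sp_chk : ∀ y < 31671, (spP) y = true := by
  apply all_of_blocks 31671 7918 4 (by norm_num)
  intro blk hblk
  interval_cases blk
  · exact sp_chk_b0
  · exact sp_chk_b1
  · exact sp_chk_b2
  · exact sp_chk_b3

set_option maxRecDepth 100000 in
theorem sp10_chk_b0 : blkOK 31671 7918 (sp10P) 0 = true := by decide +kernel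

set_option maxRecDepth 100000 in
theorem sp10_chk_b1 : blkOK 31671 7918 (sp10P) 1 = true := by decide +kernel

set_option maxRecDepth 100000 in
theorem sp10_chk_b2 : blkOK 31671 7918 (sp10P) 2 = true := by decide +kernel

set_option maxRecDepth 100000 in
theorem sp10_chk_b3 : blkOK 31671 7918 (sp10P) 3 = true := by decide +kernel

theorem sp10_chk : ∀ y < 31671, (sp10P) y = true := by
  apply all_of_blocks 31671 7918 4 (by norm_num)
  intro blk hblk
  interval_cases blk
  · exact sp10_chk_b0
  · exact sp10_chk_b1
  · exact sp10_chk_b2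
  · exact sp10_chk_b3

set_option maxRecDepth 100000 in
theorem e7_chk_b0 : blkOK 31671 7918 (e7P) 0 = true := by decide +kernel

set_option maxRecDepth 100000 in
theorem e7_chk_b1 : blkOK 31671 7918 (e7P) 1 = true := by decide +kernel

set_option maxRecDepth 100000 in
theorem e7_chk_b2 : blkOK 31671 7918 (e7P) 2 = true := by decide +kernel

set_option maxRecDepth 100000 in
theorem e7_chk_b3 : blkOK 31671 7918 (e7P) 3 = true := by decide +kernel

theorem e7_chk : ∀ y < 31671, (e7P) y = true := by
  apply all_of_blocks 31671 7918 4 (by norm_num)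
  intro blk hblk
  interval_cases blk
  · exact e7_chk_b0
  · exact e7_chk_b1
  · exact e7_chk_b2
  · exact e7_chk_b3

set_option maxRecDepth 100000 in
theorem e79_chk_b0 : blkOK 31671 7918 (e79P) 0 = true := by decide +kernel

set_option maxRecDepth 100000 in
theorem e79_chk_b1 : blkOK 31671 7918 (e79P) 1 = true := by decide +kernel

set_option maxRecDepth 100000 in
theorem e79_chk_b2 : blkOK 31671 7918 (e79P) 2 = true := by decide +kernel

set_option maxRecDepth 100000 in
theorem e79_chk_b3 : blkOK 31671 7918 (e79P) 3 = true := by decide +kernel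

theorem e79_chk : ∀ y < 31671, (e79P) y = true := by
  apply all_of_blocks 31671 7918 4 (by norm_num)
  intro blk hblk
  interval_cases blk
  · exact e79_chk_b0
  · exact e79_chk_b1
  · exact e79_chk_b2
  · exact e79_chk_b3

theorem inv_chk : ∀ k < 10, ∀ y < 31671, invP k y = true := by
  intro k hk
  interval_cases k
  · exact inv_chk_0
  · exact inv_chk_1
  · exact inv_chk_2
  · exact inv_chk_3
  · exact inv_chk_4
  · exact inv_chk_5
  · exact inv_chk_6
  · exact inv_chk_7
  · exact inv_chk_8
  · exact inv_chk_9

end Cfsg.Agent.Helper29.Fi3M
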