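import Mathlib
import Cfsg.Agent.Lib.Helper29.Fi3MDefs

set_option autoImplicit false
set_option Elab.async false

/-! Kernel checks for the Fischer group Fi23 on 31671 points (generated). -/

namespace Cfsg.Agent.Helper29.Fi3M

open Cfsg.Agent.Helper29.HSP (tg force force_eq allBelow allBelow_iff)
open Cfsg.Agent.Helper29.PT

set_option maxRecDepth 100000 in
theorem cox_chk_0_1_b0 : blkOK 31671 10557 (coxP 0 1) 0 = true := by decide +kernel

set_option maxRecDepth 100000 in
theorem cox_chk_0_1_b1 : blkOK 31671 10557 (coxP 0 1) 1 = true := by decide +kernel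

set_option maxRecDepth 100000 in
theorem cox_chk_0_1_b2 : blkOK 31671 10557 (coxP 0 1) 2 = true := by decide +kernel

theorem cox_chk_0_1 : ∀ y < 31671, (coxP 0 1) y = true := by
  apply all_of_blocks 31671 10557 3 (by norm_num)
  intro blk hblk
  interval_cases blk
  · exact cox_chk_0_1_b0
  · exact cox_chk_0_1_b1
  · exact cox_chk_0_1_b2

set_option maxRecDepth 100000 in
theorem cox_chk_0_4_b0 : blkOK 31671 15836 (coxP 0 4) 0 = true := by decide +kernel

set_option maxRecDepth 100000 in
theorem cox_chk_0_4_b1 : blkOK 31671 15836 (coxP 0 4) 1 = true := by decide +kernel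

theorem cox_chk_0_4 : ∀ y < 31671, (coxP 0 4) y = true := by
  apply all_of_blocks 31671 15836 2 (by norm_num)
  intro blk hblk
  interval_cases blk
  · exact cox_chk_0_4_b0
  · exact cox_chk_0_4_b1

set_option maxRecDepth 100000 in
theorem cox_chk_0_7_b0 : blkOK 31671 15836 (coxP 0 7) 0 = true := by decide +kernel

set_option maxRecDepth 100000 in
theorem cox_chk_0_7_b1 : blkOK 31671 15836 (coxP 0 7) 1 = true := by decide +kernel

theorem cox_chk_0_7 : ∀ y < 31671, (coxP 0 7) y = true := by
  apply all_of_blocks 31671 15836 2 (by norm_num)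
  intro blk hblk
  interval_cases blk
  · exact cox_chk_0_7_b0
  · exact cox_chk_0_7_b1

set_option maxRecDepth 100000 in
theorem cox_chk_1_2_b0 : blkOK 31671 10557 (coxP 1 2) 0 = true := by decide +kernel

set_option maxRecDepth 100000 in
theorem cox_chk_1_2_b1 : blkOK 31671 10557 (coxP 1 2) 1 = true := by decide +kernel

set_option maxRecDepth 100000 in
theorem cox_chk_1_2_b2 : blkOK 31671 10557 (coxP 1 2) 2 = true := by decide +kernel

theorem cox_chk_1_2 : ∀ y < 31671, (coxP 1 2) y = true := by
  apply all_of_blocks 31671 10557 3 (by norm_num)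
  intro blk hblk
  interval_cases blk
  · exact cox_chk_1_2_b0
  · exact cox_chk_1_2_b1
  · exact cox_chk_1_2_b2

set_option maxRecDepth 100000 in
theorem cox_chk_1_5_b0 : blkOK 31671 15836 (coxP 1 5) 0 = true := by decide +kernel

set_option maxRecDepth 100000 in
theorem cox_chk_1_5_b1 : blkOK 31671 15836 (coxP 1 5) 1 = true := by decide +kernel

theorem cox_chk_1_5 : ∀ y < 31671, (coxP 1 5) y = true := by
  apply all_of_blocks 31671 15836 2 (by norm_num)
  intro blk hblk
  interval_cases blk
  · exact cox_chk_1_5_b0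
  · exact cox_chk_1_5_b1

set_option maxRecDepth 100000 in
theorem cox_chk_1_8_b0 : blkOK 31671 15836 (coxP 1 8) 0 = true := by decide +kernel

set_option maxRecDepth 100000 in
theorem cox_chk_1_8_b1 : blkOK 31671 15836 (coxP 1 8) 1 = true := by decide +kernel

theorem cox_chk_1_8 : ∀ y < 31671, (coxP 1 8) y = true := by
  apply all_of_blocks 31671 15836 2 (by norm_num)
  intro blk hblk
  interval_cases blk
  · exact cox_chk_1_8_b0
  · exact cox_chk_1_8_b1

set_option maxRecDepth 100000 in
theorem cox_chk_2_4_b0 : blkOK 31671 15836 (coxP 2 4) 0 = true := by decide +kernel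

set_option maxRecDepth 100000 in
theorem cox_chk_2_4_b1 : blkOK 31671 15836 (coxP 2 4) 1 = true := by decide +kernel

theorem cox_chk_2_4 : ∀ y < 31671, (coxP 2 4) y = true := by
  apply all_of_blocks 31671 15836 2 (by norm_num)
  intro blk hblk
  interval_cases blk
  · exact cox_chk_2_4_b0
  · exact cox_chk_2_4_b1

set_option maxRecDepth 100000 in
theorem cox_chk_2_7_b0 : blkOK 31671 15836 (coxP 2 7) 0 = true := by decide +kernel

set_option maxRecDepth 100000 in
theorem cox_chk_2_7_b1 : blkOK 31671 15836 (coxP 2 7) 1 = true := by decide +kernel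

theorem cox_chk_2_7 : ∀ y < 31671, (coxP 2 7) y = true := by
  apply all_of_blocks 31671 15836 2 (by norm_num)
  intro blk hblk
  interval_cases blk
  · exact cox_chk_2_7_b0
  · exact cox_chk_2_7_b1

set_option maxRecDepth 100000 in
theorem cox_chk_3_4_b0 : blkOK 31671 10557 (coxP 3 4) 0 = true := by decide +kernel

set_option maxRecDepth 100000 in
theorem cox_chk_3_4_b1 : blkOK 31671 10557 (coxP 3 4) 1 = true := by decide +kernel

set_option maxRecDepth 100000 in
theorem cox_chk_3_4_b2 : blkOK 31671 10557 (coxP 3 4) 2 = true := by decide +kernel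

theorem cox_chk_3_4 : ∀ y < 31671, (coxP 3 4) y = true := by
  apply all_of_blocks 31671 10557 3 (by norm_num)
  intro blk hblk
  interval_cases blk
  · exact cox_chk_3_4_b0
  · exact cox_chk_3_4_b1
  · exact cox_chk_3_4_b2

set_option maxRecDepth 100000 in
theorem cox_chk_3_7_b0 : blkOK 31671 15836 (coxP 3 7) 0 = true := by decide +kernel

set_option maxRecDepth 100000 in
theorem cox_chk_3_7_b1 : blkOK 31671 15836 (coxP 3 7) 1 = true := by decide +kernel

theorem cox_chk_3_7 : ∀ y < 31671, (coxP 3 7) y = true := by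
  apply all_of_blocks 31671 15836 2 (by norm_num)
  intro blk hblk
  interval_cases blk
  · exact cox_chk_3_7_b0
  · exact cox_chk_3_7_b1

set_option maxRecDepth 100000 in
theorem cox_chk_4_5_b0 : blkOK 31671 10557 (coxP 4 5) 0 = true := by decide +kernel

set_option maxRecDepth 100000 in
theorem cox_chk_4_5_b1 : blkOK 31671 10557 (coxP 4 5) 1 = true := by decide +kernel

set_option maxRecDepth 100000 in
theorem cox_chk_4_5_b2 : blkOK 31671 10557 (coxP 4 5) 2 = true := by decide +kernel

theorem cox_chk_4_5 : ∀ y < 31671, (coxP 4 5) y = true := by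
  apply all_of_blocks 31671 10557 3 (by norm_num)
  intro blk hblk
  interval_cases blk
  · exact cox_chk_4_5_b0
  · exact cox_chk_4_5_b1
  · exact cox_chk_4_5_b2

set_option maxRecDepth 100000 in
theorem cox_chk_4_8_b0 : blkOK 31671 15836 (coxP 4 8) 0 = true := by decide +kernel

set_option maxRecDepth 100000 in
theorem cox_chk_4_8_b1 : blkOK 31671 15836 (coxP 4 8) 1 = true := by decide +kernel

theorem cox_chk_4_8 : ∀ y < 31671, (coxP 4 8) y = true := by
  apply all_of_blocks 31671 15836 2 (by norm_num)
  intro blk hblk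
  interval_cases blk
  · exact cox_chk_4_8_b0
  · exact cox_chk_4_8_b1

set_option maxRecDepth 100000 in
theorem cox_chk_5_7_b0 : blkOK 31671 15836 (coxP 5 7) 0 = true := by decide +kernel

set_option maxRecDepth 100000 in
theorem cox_chk_5_7_b1 : blkOK 31671 15836 (coxP 5 7) 1 = true := by decide +kernel

theorem cox_chk_5_7 : ∀ y < 31671, (coxP 5 7) y = true := by
  apply all_of_blocks 31671 15836 2 (by norm_num)
  intro blk hblk
  interval_cases blk
  · exact cox_chk_5_7_b0
  · exact cox_chk_5_7_b1

set_option maxRecDepth 100000 in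
theorem cox_chk_6_7_b0 : blkOK 31671 10557 (coxP 6 7) 0 = true := by decide +kernel

set_option maxRecDepth 100000 in
theorem cox_chk_6_7_b1 : blkOK 31671 10557 (coxP 6 7) 1 = true := by decide +kernel

set_option maxRecDepth 100000 in
theorem cox_chk_6_7_b2 : blkOK 31671 10557 (coxP 6 7) 2 = true := by decide +kernel

theorem cox_chk_6_7 : ∀ y < 31671, (coxP 6 7) y = true := by
  apply all_of_blocks 31671 10557 3 (by norm_num)
  intro blk hblk
  interval_cases blk
  · exact cox_chk_6_7_b0
  · exact cox_chk_6_7_b1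
  · exact cox_chk_6_7_b2

set_option maxRecDepth 100000 in
theorem cox_chk_7_8_b0 : blkOK 31671 15836 (coxP 7 8) 0 = true := by decide +kernel

set_option maxRecDepth 100000 in
theorem cox_chk_7_8_b1 : blkOK 31671 15836 (coxP 7 8) 1 = true := by decide +kernel

theorem cox_chk_7_8 : ∀ y < 31671, (coxP 7 8) y = true := by
  apply all_of_blocks 31671 15836 2 (by norm_num)
  intro blk hblk
  interval_cases blk
  · exact cox_chk_7_8_b0
  · exact cox_chk_7_8_b1


end Cfsg.Agent.Helper29.Fi3M
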