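import Mathlib
import Cfsg.Agent.Lib.Helper29.Fi3MDefs

set_option autoImplicit false
set_option Elab.async false

/-! Kernel checks for the Fischer group Fi23 on 31671 points (generated). -/

namespace Cfsg.Agent.Helper29.Fi3M

open Cfsg.Agent.Helper29.HSP (tg force force_eq allBelow allBelow_iff)
open Cfsg.Agent.Helper29.PT

set_option maxRecDepth 100000 in
theorem cox_chk_0_2_b0 : blkOK 31671 15836 (coxP 0 2) 0 = true := by decide +kernel

set_option maxRecDepth 100000 in
theorem cox_chk_0_2_b1 : blkOK 31671 15836 (coxP 0 2) 1 = true := by decide +kernel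

theorem cox_chk_0_2 : ∀ y < 31671, (coxP 0 2) y = true := by
  apply all_of_blocks 31671 15836 2 (by norm_num)
  intro blk hblk
  interval_cases blk
  · exact cox_chk_0_2_b0
  · exact cox_chk_0_2_b1

set_option maxRecDepth 100000 in
theorem cox_chk_0_5_b0 : blkOK 31671 15836 (coxP 0 5) 0 = true := by decide +kernel

set_option maxRecDepth 100000 in
theorem cox_chk_0_5_b1 : blkOK 31671 15836 (coxP 0 5) 1 = true := by decide +kernel

theorem cox_chk_0_5 : ∀ y < 31671, (coxP 0 5) y = true := by
  apply all_of_blocks 31671 15836 2 (by norm_num)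
  intro blk hblk
  interval_cases blk
  · exact cox_chk_0_5_b0
  · exact cox_chk_0_5_b1

set_option maxRecDepth 100000 in
theorem cox_chk_0_8_b0 : blkOK 31671 15836 (coxP 0 8) 0 = true := by decide +kernel

set_option maxRecDepth 100000 in
theorem cox_chk_0_8_b1 : blkOK 31671 15836 (coxP 0 8) 1 = true := by decide +kernel

theorem cox_chk_0_8 : ∀ y < 31671, (coxP 0 8) y = true := by
  apply all_of_blocks 31671 15836 2 (by norm_num)
  intro blk hblk
  interval_cases blk
  · exact cox_chk_0_8_b0
  · exact cox_chk_0_8_b1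

set_option maxRecDepth 100000 in
theorem cox_chk_1_3_b0 : blkOK 31671 15836 (coxP 1 3) 0 = true := by decide +kernel

set_option maxRecDepth 100000 in
theorem cox_chk_1_3_b1 : blkOK 31671 15836 (coxP 1 3) 1 = true := by decide +kernel

theorem cox_chk_1_3 : ∀ y < 31671, (coxP 1 3) y = true := by
  apply all_of_blocks 31671 15836 2 (by norm_num)
  intro blk hblk
  interval_cases blk
  · exact cox_chk_1_3_b0
  · exact cox_chk_1_3_b1

set_option maxRecDepth 100000 in
theorem cox_chk_1_6_b0 : blkOK 31671 15836 (coxP 1 6) 0 = true := by decide +kernel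

set_option maxRecDepth 100000 in
theorem cox_chk_1_6_b1 : blkOK 31671 15836 (coxP 1 6) 1 = true := by decide +kernel

theorem cox_chk_1_6 : ∀ y < 31671, (coxP 1 6) y = true := by
  apply all_of_blocks 31671 15836 2 (by norm_num)
  intro blk hblk
  interval_cases blk
  · exact cox_chk_1_6_b0
  · exact cox_chk_1_6_b1

set_option maxRecDepth 100000 in
theorem cox_chk_1_9_b0 : blkOK 31671 15836 (coxP 1 9) 0 = true := by decide +kernel

set_option maxRecDepth 100000 in
theorem cox_chk_1_9_b1 : blkOK 31671 15836 (coxP 1 9) 1 = true := by decide +kernel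

theorem cox_chk_1_9 : ∀ y < 31671, (coxP 1 9) y = true := by
  apply all_of_blocks 31671 15836 2 (by norm_num)
  intro blk hblk
  interval_cases blk
  · exact cox_chk_1_9_b0
  · exact cox_chk_1_9_b1

set_option maxRecDepth 100000 in
theorem cox_chk_2_5_b0 : blkOK 31671 15836 (coxP 2 5) 0 = true := by decide +kernel

set_option maxRecDepth 100000 in
theorem cox_chk_2_5_b1 : blkOK 31671 15836 (coxP 2 5) 1 = true := by decide +kernel

theorem cox_chk_2_5 : ∀ y < 31671, (coxP 2 5) y = true := by
  apply all_of_blocks 31671 15836 2 (by norm_num)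
  intro blk hblk
  interval_cases blk
  · exact cox_chk_2_5_b0
  · exact cox_chk_2_5_b1

set_option maxRecDepth 100000 in
theorem cox_chk_2_8_b0 : blkOK 31671 15836 (coxP 2 8) 0 = true := by decide +kernel

set_option maxRecDepth 100000 in
theorem cox_chk_2_8_b1 : blkOK 31671 15836 (coxP 2 8) 1 = true := by decide +kernel

theorem cox_chk_2_8 : ∀ y < 31671, (coxP 2 8) y = true := by
  apply all_of_blocks 31671 15836 2 (by norm_num)
  intro blk hblk
  interval_cases blk
  · exact cox_chk_2_8_b0
  · exact cox_chk_2_8_b1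

set_option maxRecDepth 100000 in
theorem cox_chk_3_5_b0 : blkOK 31671 15836 (coxP 3 5) 0 = true := by decide +kernel

set_option maxRecDepth 100000 in
theorem cox_chk_3_5_b1 : blkOK 31671 15836 (coxP 3 5) 1 = true := by decide +kernel

theorem cox_chk_3_5 : ∀ y < 31671, (coxP 3 5) y = true := by
  apply all_of_blocks 31671 15836 2 (by norm_num)
  intro blk hblk
  interval_cases blk
  · exact cox_chk_3_5_b0
  · exact cox_chk_3_5_b1

set_option maxRecDepth 100000 in
theorem cox_chk_3_8_b0 : blkOK 31671 10557 (coxP 3 8) 0 = true := by decide +kernel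

set_option maxRecDepth 100000 in
theorem cox_chk_3_8_b1 : blkOK 31671 10557 (coxP 3 8) 1 = true := by decide +kernel

set_option maxRecDepth 100000 in
theorem cox_chk_3_8_b2 : blkOK 31671 10557 (coxP 3 8) 2 = true := by decide +kernel

theorem cox_chk_3_8 : ∀ y < 31671, (coxP 3 8) y = true := by
  apply all_of_blocks 31671 10557 3 (by norm_num)
  intro blk hblk
  interval_cases blk
  · exact cox_chk_3_8_b0
  · exact cox_chk_3_8_b1
  · exact cox_chk_3_8_b2

set_option maxRecDepth 100000 in
theorem cox_chk_4_6_b0 : blkOK 31671 15836 (coxP 4 6) 0 = true := by decide +kernel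

set_option maxRecDepth 100000 in
theorem cox_chk_4_6_b1 : blkOK 31671 15836 (coxP 4 6) 1 = true := by decide +kernel

theorem cox_chk_4_6 : ∀ y < 31671, (coxP 4 6) y = true := by
  apply all_of_blocks 31671 15836 2 (by norm_num)
  intro blk hblk
  interval_cases blk
  · exact cox_chk_4_6_b0
  · exact cox_chk_4_6_b1

set_option maxRecDepth 100000 in
theorem cox_chk_4_9_b0 : blkOK 31671 15836 (coxP 4 9) 0 = true := by decide +kernel

set_option maxRecDepth 100000 in
theorem cox_chk_4_9_b1 : blkOK 31671 15836 (coxP 4 9) 1 = true := by decide +kernel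

theorem cox_chk_4_9 : ∀ y < 31671, (coxP 4 9) y = true := by
  apply all_of_blocks 31671 15836 2 (by norm_num)
  intro blk hblk
  interval_cases blk
  · exact cox_chk_4_9_b0
  · exact cox_chk_4_9_b1

set_option maxRecDepth 100000 in
theorem cox_chk_5_8_b0 : blkOK 31671 15836 (coxP 5 8) 0 = true := by decide +kernel

set_option maxRecDepth 100000 in
theorem cox_chk_5_8_b1 : blkOK 31671 15836 (coxP 5 8) 1 = true := by decide +kernel

theorem cox_chk_5_8 : ∀ y < 31671, (coxP 5 8) y = true := by
  apply all_of_blocks 31671 15836 2 (by norm_num)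
  intro blk hblk
  interval_cases blk
  · exact cox_chk_5_8_b0
  · exact cox_chk_5_8_b1

set_option maxRecDepth 100000 in
theorem cox_chk_6_8_b0 : blkOK 31671 15836 (coxP 6 8) 0 = true := by decide +kernel

set_option maxRecDepth 100000 in
theorem cox_chk_6_8_b1 : blkOK 31671 15836 (coxP 6 8) 1 = true := by decide +kernel

theorem cox_chk_6_8 : ∀ y < 31671, (coxP 6 8) y = true := by
  apply all_of_blocks 31671 15836 2 (by norm_num)
  intro blk hblk
  interval_cases blk
  · exact cox_chk_6_8_b0
  · exact cox_chk_6_8_b1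

set_option maxRecDepth 100000 in
theorem cox_chk_7_9_b0 : blkOK 31671 15836 (coxP 7 9) 0 = true := by decide +kernel

set_option maxRecDepth 100000 in
theorem cox_chk_7_9_b1 : blkOK 31671 15836 (coxP 7 9) 1 = true := by decide +kernel

theorem cox_chk_7_9 : ∀ y < 31671, (coxP 7 9) y = true := by
  apply all_of_blocks 31671 15836 2 (by norm_num)
  intro blk hblk
  interval_cases blk
  · exact cox_chk_7_9_b0
  · exact cox_chk_7_9_b1


end Cfsg.Agent.Helper29.Fi3M
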