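import Mathlib
import Cfsg.Agent.Lib.Helper29.Fi3MDefs

set_option autoImplicit false
set_option Elab.async false

/-! Kernel checks for the Fischer group Fi23 on 31671 points (generated). -/

namespace Cfsg.Agent.Helper29.Fi3M

open Cfsg.Agent.Helper29.HSP (tg force force_eq allBelow allBelow_iff)
open Cfsg.Agent.Helper29.PT

set_option maxRecDepth 100000 in
theorem cox_chk_0_3_b0 : blkOK 31671 15836 (coxP 0 3) 0 = true := by decide +kernel

set_option maxRecDepth 100000 in
theorem cox_chk_0_3_b1 : blkOK 31671 15836 (coxP 0 3) 1 = true := by decide +kernel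

theorem cox_chk_0_3 : ∀ y < 31671, (coxP 0 3) y = true := by
  apply all_of_blocks 31671 15836 2 (by norm_num)
  intro blk hblk
  interval_cases blk
  · exact cox_chk_0_3_b0
  · exact cox_chk_0_3_b1

set_option maxRecDepth 100000 in
theorem cox_chk_0_6_b0 : blkOK 31671 15836 (coxP 0 6) 0 = true := by decide +kernel

set_option maxRecDepth 100000 in
theorem cox_chk_0_6_b1 : blkOK 31671 15836 (coxP 0 6) 1 = true := by decide +kernel

theorem cox_chk_0_6 : ∀ y < 31671, (coxP 0 6) y = true := by
  apply all_of_blocks 31671 15836 2 (by norm_num)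
  intro blk hblk
  interval_cases blk
  · exact cox_chk_0_6_b0
  · exact cox_chk_0_6_b1

set_option maxRecDepth 100000 in
theorem cox_chk_0_9_b0 : blkOK 31671 15836 (coxP 0 9) 0 = true := by decide +kernel

set_option maxRecDepth 100000 in
theorem cox_chk_0_9_b1 : blkOK 31671 15836 (coxP 0 9) 1 = true := by decide +kernel

theorem cox_chk_0_9 : ∀ y < 31671, (coxP 0 9) y = true := by
  apply all_of_blocks 31671 15836 2 (by norm_num)
  intro blk hblk
  interval_cases blk
  · exact cox_chk_0_9_b0
  · exact cox_chk_0_9_b1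

set_option maxRecDepth 100000 in
theorem cox_chk_1_4_b0 : blkOK 31671 15836 (coxP 1 4) 0 = true := by decide +kernel

set_option maxRecDepth 100000 in
theorem cox_chk_1_4_b1 : blkOK 31671 15836 (coxP 1 4) 1 = true := by decide +kernel

theorem cox_chk_1_4 : ∀ y < 31671, (coxP 1 4) y = true := by
  apply all_of_blocks 31671 15836 2 (by norm_num)
  intro blk hblk
  interval_cases blk
  · exact cox_chk_1_4_b0
  · exact cox_chk_1_4_b1

set_option maxRecDepth 100000 in
theorem cox_chk_1_7_b0 : blkOK 31671 15836 (coxP 1 7) 0 = true := by decide +kernel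

set_option maxRecDepth 100000 in
theorem cox_chk_1_7_b1 : blkOK 31671 15836 (coxP 1 7) 1 = true := by decide +kernel

theorem cox_chk_1_7 : ∀ y < 31671, (coxP 1 7) y = true := by
  apply all_of_blocks 31671 15836 2 (by norm_num)
  intro blk hblk
  interval_cases blk
  · exact cox_chk_1_7_b0
  · exact cox_chk_1_7_b1

set_option maxRecDepth 100000 in
theorem cox_chk_2_3_b0 : blkOK 31671 10557 (coxP 2 3) 0 = true := by decide +kernel

set_option maxRecDepth 100000 in
theorem cox_chk_2_3_b1 : blkOK 31671 10557 (coxP 2 3) 1 = true := by decide +kernel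

set_option maxRecDepth 100000 in
theorem cox_chk_2_3_b2 : blkOK 31671 10557 (coxP 2 3) 2 = true := by decide +kernel

theorem cox_chk_2_3 : ∀ y < 31671, (coxP 2 3) y = true := by
  apply all_of_blocks 31671 10557 3 (by norm_num)
  intro blk hblk
  interval_cases blk
  · exact cox_chk_2_3_b0
  · exact cox_chk_2_3_b1
  · exact cox_chk_2_3_b2

set_option maxRecDepth 100000 in
theorem cox_chk_2_6_b0 : blkOK 31671 15836 (coxP 2 6) 0 = true := by decide +kernel

set_option maxRecDepth 100000 in
theorem cox_chk_2_6_b1 : blkOK 31671 15836 (coxP 2 6) 1 = true := by decide +kernel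

theorem cox_chk_2_6 : ∀ y < 31671, (coxP 2 6) y = true := by
  apply all_of_blocks 31671 15836 2 (by norm_num)
  intro blk hblk
  interval_cases blk
  · exact cox_chk_2_6_b0
  · exact cox_chk_2_6_b1

set_option maxRecDepth 100000 in
theorem cox_chk_2_9_b0 : blkOK 31671 15836 (coxP 2 9) 0 = true := by decide +kernel

set_option maxRecDepth 100000 in
theorem cox_chk_2_9_b1 : blkOK 31671 15836 (coxP 2 9) 1 = true := by decide +kernel

theorem cox_chk_2_9 : ∀ y < 31671, (coxP 2 9) y = true := by
  apply all_of_blocks 31671 15836 2 (by norm_num)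
  intro blk hblk
  interval_cases blk
  · exact cox_chk_2_9_b0
  · exact cox_chk_2_9_b1

set_option maxRecDepth 100000 in
theorem cox_chk_3_6_b0 : blkOK 31671 15836 (coxP 3 6) 0 = true := by decide +kernel

set_option maxRecDepth 100000 in
theorem cox_chk_3_6_b1 : blkOK 31671 15836 (coxP 3 6) 1 = true := by decide +kernel

theorem cox_chk_3_6 : ∀ y < 31671, (coxP 3 6) y = true := by
  apply all_of_blocks 31671 15836 2 (by norm_num)
  intro blk hblk
  interval_cases blk
  · exact cox_chk_3_6_b0
  · exact cox_chk_3_6_b1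

set_option maxRecDepth 100000 in
theorem cox_chk_3_9_b0 : blkOK 31671 15836 (coxP 3 9) 0 = true := by decide +kernel

set_option maxRecDepth 100000 in
theorem cox_chk_3_9_b1 : blkOK 31671 15836 (coxP 3 9) 1 = true := by decide +kernel

theorem cox_chk_3_9 : ∀ y < 31671, (coxP 3 9) y = true := by
  apply all_of_blocks 31671 15836 2 (by norm_num)
  intro blk hblk
  interval_cases blk
  · exact cox_chk_3_9_b0
  · exact cox_chk_3_9_b1

set_option maxRecDepth 100000 in
theorem cox_chk_4_7_b0 : blkOK 31671 15836 (coxP 4 7) 0 = true := by decide +kernel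

set_option maxRecDepth 100000 in
theorem cox_chk_4_7_b1 : blkOK 31671 15836 (coxP 4 7) 1 = true := by decide +kernel

theorem cox_chk_4_7 : ∀ y < 31671, (coxP 4 7) y = true := by
  apply all_of_blocks 31671 15836 2 (by norm_num)
  intro blk hblk
  interval_cases blk
  · exact cox_chk_4_7_b0
  · exact cox_chk_4_7_b1

set_option maxRecDepth 100000 in
theorem cox_chk_5_6_b0 : blkOK 31671 10557 (coxP 5 6) 0 = true := by decide +kernel

set_option maxRecDepth 100000 in
theorem cox_chk_5_6_b1 : blkOK 31671 10557 (coxP 5 6) 1 = true := by decide +kernel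

set_option maxRecDepth 100000 in
theorem cox_chk_5_6_b2 : blkOK 31671 10557 (coxP 5 6) 2 = true := by decide +kernel

theorem cox_chk_5_6 : ∀ y < 31671, (coxP 5 6) y = true := by
  apply all_of_blocks 31671 10557 3 (by norm_num)
  intro blk hblk
  interval_cases blk
  · exact cox_chk_5_6_b0
  · exact cox_chk_5_6_b1
  · exact cox_chk_5_6_b2

set_option maxRecDepth 100000 in
theorem cox_chk_5_9_b0 : blkOK 31671 15836 (coxP 5 9) 0 = true := by decide +kernel

set_option maxRecDepth 100000 in
theorem cox_chk_5_9_b1 : blkOK 31671 15836 (coxP 5 9) 1 = true := by decide +kernel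

theorem cox_chk_5_9 : ∀ y < 31671, (coxP 5 9) y = true := by
  apply all_of_blocks 31671 15836 2 (by norm_num)
  intro blk hblk
  interval_cases blk
  · exact cox_chk_5_9_b0
  · exact cox_chk_5_9_b1

set_option maxRecDepth 100000 in
theorem cox_chk_6_9_b0 : blkOK 31671 15836 (coxP 6 9) 0 = true := by decide +kernel

set_option maxRecDepth 100000 in
theorem cox_chk_6_9_b1 : blkOK 31671 15836 (coxP 6 9) 1 = true := by decide +kernel

theorem cox_chk_6_9 : ∀ y < 31671, (coxP 6 9) y = true := by
  apply all_of_blocks 31671 15836 2 (by norm_num)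
  intro blk hblk
  interval_cases blk
  · exact cox_chk_6_9_b0
  · exact cox_chk_6_9_b1

set_option maxRecDepth 100000 in
theorem cox_chk_8_9_b0 : blkOK 31671 10557 (coxP 8 9) 0 = true := by decide +kernel

set_option maxRecDepth 100000 in
theorem cox_chk_8_9_b1 : blkOK 31671 10557 (coxP 8 9) 1 = true := by decide +kernel

set_option maxRecDepth 100000 in
theorem cox_chk_8_9_b2 : blkOK 31671 10557 (coxP 8 9) 2 = true := by decide +kernel

theorem cox_chk_8_9 : ∀ y < 31671, (coxP 8 9) y = true := by
  apply all_of_blocks 31671 10557 3 (by norm_num)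
  intro blk hblk
  interval_cases blk
  · exact cox_chk_8_9_b0
  · exact cox_chk_8_9_b1
  · exact cox_chk_8_9_b2


end Cfsg.Agent.Helper29.Fi3M
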