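import Mathlib
import Cfsg.Agent.Lib.Helper29.Fi3ChkM0
import Cfsg.Agent.Lib.Helper29.Fi3ChkM1
import Cfsg.Agent.Lib.Helper29.Fi3ChkM2
import Cfsg.Agent.Lib.Helper29.Fi3ChkM3

set_option autoImplicit false
set_option Elab.async false

/-! Kernel checks for the Fischer group Fi23 on 31671 points (generated). -/

namespace Cfsg.Agent.Helper29.Fi3M

open Cfsg.Agent.Helper29.HSP (tg force force_eq allBelow allBelow_iff)
open Cfsg.Agent.Helper29.PT

theorem cox_chk : ∀ i < 10, ∀ j < 10, i < j → ∀ y < 31671, coxP i j y = true := by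
  intro i hi j hj hij
  interval_cases i <;> interval_cases j <;> first | omega | skip
  · exact cox_chk_0_1
  · exact cox_chk_0_2
  · exact cox_chk_0_3
  · exact cox_chk_0_4
  · exact cox_chk_0_5
  · exact cox_chk_0_6
  · exact cox_chk_0_7
  · exact cox_chk_0_8
  · exact cox_chk_0_9
  · exact cox_chk_1_2
  · exact cox_chk_1_3
  · exact cox_chk_1_4
  · exact cox_chk_1_5
  · exact cox_chk_1_6
  · exact cox_chk_1_7
  · exact cox_chk_1_8
  · exact cox_chk_1_9
  · exact cox_chk_2_3
  · exact cox_chk_2_4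
  · exact cox_chk_2_5
  · exact cox_chk_2_6
  · exact cox_chk_2_7
  · exact cox_chk_2_8
  · exact cox_chk_2_9
  · exact cox_chk_3_4
  · exact cox_chk_3_5
  · exact cox_chk_3_6
  · exact cox_chk_3_7
  · exact cox_chk_3_8
  · exact cox_chk_3_9
  · exact cox_chk_4_5
  · exact cox_chk_4_6
  · exact cox_chk_4_7
  · exact cox_chk_4_8
  · exact cox_chk_4_9
  · exact cox_chk_5_6
  · exact cox_chk_5_7
  · exact cox_chk_5_8
  · exact cox_chk_5_9
  · exact cox_chk_6_7
  · exact cox_chk_6_8
  · exact cox_chk_6_9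
  · exact cox_chk_7_8
  · exact cox_chk_7_9
  · exact cox_chk_8_9

end Cfsg.Agent.Helper29.Fi3M
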