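import Mathlib
import Cfsg.Prelude.Def_Spor_Fi23
import Cfsg.Agent.Lib.Helper29.Fi3ChkM
import Cfsg.Agent.S1697

set_option autoImplicit false
open Cfsg

/-! The Fischer group Fi23 on 31671 points: the ten generators of the presentation act by
explicit permutations, and since the presented group is simple the action is faithful. -/

namespace Cfsg.Agent.Helper29.Fi3M

open Cfsg.Agent.Helper29.HSP (tg force force_eq allBelow allBelow_iff)
open Cfsg.Agent.Helper29.PT
open Cfsg.Spor

instance : NeZero 31671 := ⟨by norm_num⟩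

theorem inv_spec (k : ℕ) (hk : k < 10) (y : ℕ) (hy : y < 31671) :
    fG k y < 31671 ∧ fG k (fG k y) = y := by
  have h := inv_chk k hk y hy
  unfold invP at h
  rw [force_eq, Bool.and_eq_true] at h
  exact ⟨Eq.mp Nat.blt_eq h.1, Nat.eq_of_beq_eq_true h.2⟩

theorem valid_gen (k : ℕ) (hk : k < 10) : validF 31671 (fG k) (fG k) = true := by
  unfold validF
  rw [allBelow_iff]
  intro y hy
  obtain ⟨h1, h2⟩ := inv_spec k hk y hy
  rw [Bool.and_eq_true, Bool.and_eq_true, Bool.and_eq_true]
  exact ⟨⟨⟨Eq.mpr Nat.blt_eq h1, Eq.mpr Nat.blt_eq h1⟩, by rw [h2]; exact Nat.beq_refl y⟩,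
    by rw [h2]; exact Nat.beq_refl y⟩

/-- the generators as permutations -/
noncomputable def gp (k : ℕ) : Equiv.Perm (Fin 31671) := fP 31671 (fG k) (fG k)

theorem acts_gp (k : ℕ) (hk : k < 10) : ActsF 31671 (gp k) (fG k) := acts_fP (valid_gen k hk)

theorem acts_gp_inv (k : ℕ) (hk : k < 10) : ActsF 31671 (gp k)⁻¹ (fG k) :=
  acts_fP_inv (valid_gen k hk)

theorem gp_inv (k : ℕ) (hk : k < 10) : (gp k)⁻¹ = gp k :=
  eq_of_actsF (acts_gp_inv k hk) (acts_gp k hk)

theorem gp_sq (k : ℕ) (hk : k < 10) : gp k * gp k = 1 := by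
  have h := gp_inv k hk
  calc gp k * gp k = (gp k)⁻¹ * gp k := by rw [h]
    _ = 1 := inv_mul_cancel _

/-- the explicit group -/
def G31671 : Subgroup (Equiv.Perm (Fin 31671)) := Subgroup.closure {g | ∃ k < 10, gp k = g}

theorem gp_mem (k : ℕ) (hk : k < 10) : gp k ∈ G31671 := Subgroup.subset_closure ⟨k, hk, rfl⟩

/-- the permutation of a word -/
noncomputable def evalW (w : List ℕ) : Equiv.Perm (Fin 31671) := (w.map gp).prod

theorem evalW_mem (w : List ℕ) (hw : ∀ l ∈ w, l < 10) : evalW w ∈ G31671 := by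
  apply Subgroup.list_prod_mem
  intro x hx
  obtain ⟨l, hl, rfl⟩ := List.mem_map.1 hx
  exact gp_mem l (hw l hl)

theorem evalW_apply (w : List ℕ) (hw : ∀ l ∈ w, l < 10) (u : Fin 31671) :
    (evalW w u).val = appF fG w u.val :=
  prodF_apply_of fG gp w (fun l hl => acts_gp l (hw l hl)) u

theorem evalW_append (w v : List ℕ) : evalW (w ++ v) = evalW w * evalW v := by
  unfold evalW
  rw [List.map_append, List.prod_append]

theorem evalW_eq_one (w : List ℕ) (hw : ∀ l ∈ w, l < 10)
    (h : ∀ y < 31671, Nat.beq (appF fG w y) y = true) : evalW w = 1 := by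
  apply Equiv.ext
  intro u
  apply Fin.ext
  rw [evalW_apply w hw u]
  exact Nat.eq_of_beq_eq_true (h u.val u.2)

/-! ### The relators -/

/-- the number of a generator -/
def gidx : Fi23.Gen → ℕ
  | .a => 0
  | .b => 1
  | .c => 2
  | .d => 3
  | .e => 4
  | .f => 5
  | .g => 6
  | .j => 7
  | .h => 8
  | .i => 9

theorem gidx_lt (x : Fi23.Gen) : gidx x < 10 := by cases x <;> decide

/-- the image of a generator -/
noncomputable def gmap (x : Fi23.Gen) : Equiv.Perm (Fin 31671) := gp (gidx x)

theorem lab_eq (x y : Fi23.Gen) :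
    coxLabel Fi23.edges x y = labT.getD (10 * gidx x + gidx y) 0 := by
  cases x <;> cases y <;> decide

theorem evalW_repW (w : List ℕ) (m : ℕ) : evalW (repW w m) = evalW w ^ m := by
  induction m with
  | zero => rfl
  | succ m ih =>
    show evalW (w ++ repW w m) = _
    rw [evalW_append, ih, pow_succ']

theorem repW_letters (w : List ℕ) (hw : ∀ l ∈ w, l < 10) (m : ℕ) : ∀ l ∈ repW w m, l < 10 := by
  induction m with
  | zero => intro l hl; cases hl
  | succ m ih =>
    intro l hl
    change l ∈ w ++ repW w m at hl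
    rcases List.mem_append.1 hl with hl | hl
    · exact hw l hl
    · exact ih l hl

theorem evalW_pair (i j : ℕ) : evalW [i, j] = gp i * gp j := by
  simp only [evalW, List.map_cons, List.map_nil, List.prod_cons, List.prod_nil, mul_one]

theorem labT_symm : ∀ i < 10, ∀ j < 10, labT.getD (10 * i + j) 0 = labT.getD (10 * j + i) 0 := by
  decide

theorem labT_diag : ∀ i < 10, labT.getD (10 * i + i) 0 = 1 := by decide

theorem cox_lt (i j : ℕ) (hi : i < 10) (hj : j < 10) (hij : i < j) :
    (gp i * gp j) ^ labT.getD (10 * i + j) 0 = 1 := by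
  rw [← evalW_pair, ← evalW_repW]
  apply evalW_eq_one _ (repW_letters [i, j] (by
    intro l hl
    simp only [List.mem_cons, List.not_mem_nil, or_false] at hl
    rcases hl with rfl | rfl
    · exact hi
    · exact hj) _)
  intro y hy
  exact cox_chk i hi j hj hij y hy

theorem swap_pow {M : Type*} [Group M] (a b : M) (m : ℕ) (h : (a * b) ^ m = 1) :
    (b * a) ^ m = 1 := by
  have e : b * a = MulAut.conj a⁻¹ (a * b) := by
    rw [MulAut.conj_apply, inv_inv]
    group
  rw [e, ← map_pow, h, map_one]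

theorem cox_all (i j : ℕ) (hi : i < 10) (hj : j < 10) :
    (gp i * gp j) ^ labT.getD (10 * i + j) 0 = 1 := by
  rcases Nat.lt_trichotomy i j with h | h | h
  · exact cox_lt i j hi hj h
  · subst h
    rw [labT_diag i hi, pow_one]
    exact gp_sq i hi
  · rw [labT_symm i hi j hj]
    exact swap_pow _ _ _ (cox_lt j i hj hi h)

theorem cox_rel (x y : Fi23.Gen) : (gmap x * gmap y) ^ coxLabel Fi23.edges x y = 1 := by
  rw [lab_eq]
  exact cox_all _ _ (gidx_lt x) (gidx_lt y)

/-- the spider element -/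
noncomputable def spE : Equiv.Perm (Fin 31671) := evalW SPW

theorem acts_spE : ActsF 31671 spE fSP := by
  intro u
  show (evalW SPW u).val = _
  rw [evalW_apply SPW (by decide) u]
  have h := sp_chk u.val u.2
  exact (Nat.eq_of_beq_eq_true h).symm

theorem extra1 : (gp 3 * gp 2 * gp 1 * gp 3 * gp 4 * gp 5 * gp 3 * gp 8 * gp 9) ^ 10 = 1 := by
  have h := pow_eq_one_of_iterF acts_spE 10 (fun y hy => Nat.eq_of_beq_eq_true (sp10_chk y hy))
  have e : spE = gp 3 * gp 2 * gp 1 * gp 3 * gp 4 * gp 5 * gp 3 * gp 8 * gp 9 := by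
    simp only [spE, SPW, evalW, List.map_cons, List.map_nil, List.prod_cons, List.prod_nil,
      mul_one, mul_assoc]
  rw [e] at h
  exact h

/-- the second element -/
noncomputable def e7E : Equiv.Perm (Fin 31671) := evalW E7W

theorem acts_e7E : ActsF 31671 e7E fE7 := by
  intro u
  show (evalW E7W u).val = _
  rw [evalW_apply E7W (by decide) u]
  have h := e7_chk u.val u.2
  exact (Nat.eq_of_beq_eq_true h).symm

theorem extra2 : (gp 0 * gp 1 * gp 2 * gp 3 * gp 4 * gp 5 * gp 8) ^ 9 = 1 := by
  have h := pow_eq_one_of_iterF acts_e7E 9 (fun y hy => Nat.eq_of_beq_eq_true (e79_chk y hy))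
  have e : e7E = gp 0 * gp 1 * gp 2 * gp 3 * gp 4 * gp 5 * gp 8 := by
    simp only [e7E, E7W, evalW, List.map_cons, List.map_nil, List.prod_cons, List.prod_nil,
      mul_one, mul_assoc]
  rw [e] at h
  exact h

theorem rels_hold : ∀ r ∈ coxRelators Fi23.edges ∪ {r | r ∈ Fi23.extra},
    FreeGroup.lift gmap r = 1 := by
  intro r hr
  rcases hr with hr | hr
  · obtain ⟨x, _, y, _, rfl⟩ := hr
    rw [map_pow, map_mul, FreeGroup.lift_apply_of, FreeGroup.lift_apply_of]
    exact cox_rel x y
  · have hr' : r ∈ Fi23.extra := hr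
    unfold Fi23.extra at hr'
    simp only [List.mem_cons, List.not_mem_nil, or_false] at hr'
    rcases hr' with rfl | rfl
    · simp only [map_mul, map_pow, FreeGroup.lift_apply_of]
      exact extra1
    · simp only [map_mul, map_pow, FreeGroup.lift_apply_of]
      exact extra2

/-- the action of the presented group -/
noncomputable def rho : Fi23 →* Equiv.Perm (Fin 31671) := PresentedGroup.toGroup rels_hold

theorem rho_of (x : Fi23.Gen) : rho (PresentedGroup.of x) = gmap x := PresentedGroup.toGroup.of _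

theorem gp0_ne_one : gp 0 ≠ 1 := by
  intro h
  have h1 := acts_gp 0 (by norm_num) (⟨9, by norm_num⟩ : Fin 31671)
  rw [h] at h1
  revert h1
  show ¬ ((9 : ℕ) = fG 0 9)
  decide +kernel

theorem rho_injective : Function.Injective rho := by
  have hs : IsSimpleGroup Fi23 := Cfsg.Agent.S1697.result.1
  rw [← MonoidHom.ker_eq_bot_iff]
  rcases (MonoidHom.normal_ker rho).eq_bot_or_eq_top with h | h
  · exact h
  · exfalso
    have : (PresentedGroup.of Fi23.Gen.a : Fi23) ∈ rho.ker := by rw [h]; exact Subgroup.mem_top _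
    rw [MonoidHom.mem_ker, rho_of] at this
    exact gp0_ne_one this

theorem range_rho : rho.range = G31671 := by
  rw [MonoidHom.range_eq_map, ← PresentedGroup.closure_range_of, MonoidHom.map_closure]
  unfold G31671
  congr 1
  ext g
  constructor
  · rintro ⟨_, ⟨x, rfl⟩, rfl⟩
    exact ⟨gidx x, gidx_lt x, (rho_of x).symm⟩
  · rintro ⟨k, hk, rfl⟩
    have : ∃ x : Fi23.Gen, gidx x = k := by
      interval_cases k
      · exact ⟨.a, rfl⟩
      · exact ⟨.b, rfl⟩
      · exact ⟨.c, rfl⟩
      · exact ⟨.d, rfl⟩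
      · exact ⟨.e, rfl⟩
      · exact ⟨.f, rfl⟩
      · exact ⟨.g, rfl⟩
      · exact ⟨.j, rfl⟩
      · exact ⟨.h, rfl⟩
      · exact ⟨.i, rfl⟩
    obtain ⟨x, rfl⟩ := this
    exact ⟨PresentedGroup.of x, ⟨x, rfl⟩, rho_of x⟩

/-- the isomorphism of the presented group with the permutation group -/
noncomputable def fiEquiv : Fi23 ≃* ↥G31671 :=
  (MonoidHom.ofInjective rho_injective).trans (MulEquiv.subgroupCongr range_rho)

theorem card_G31671 : Nat.card ↥G31671 = 4089470473293004800 := by
  rw [← Nat.card_congr fiEquiv.toEquiv]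
  exact Cfsg.Agent.S1697.result.2

theorem finite_G31671 : Finite ↥G31671 := inferInstance

attribute [irreducible] gp

end Cfsg.Agent.Helper29.Fi3M
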