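import Mathlib
import Cfsg.Agent.Lib.Helper29.Fi3Chk
import Cfsg.Agent.Lib.Helper29.Fi3Model
import Cfsg.Agent.Lib.Helper29.PermN

set_option autoImplicit false
set_option maxRecDepth 8000
open Cfsg

/-! The Fischer group Fi23 on 31671 points is generated by an element of order eleven and a
3-transposition; a base and a strong generating set. -/

namespace Cfsg.Agent.Helper29.Fi3

open Cfsg.Agent.Helper29.HSP (tg force force_eq allBelow allBelow_iff)
open Cfsg.Agent.Helper29.PT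
open Cfsg.Agent.Helper29.PW (unpackW elF)
open Cfsg.Agent.Helper29.Fi3M Cfsg.Agent.Helper29.Fi3D
open Cfsg.Agent.Helper29.PN (Hst mem_Hst card_step_le)

/-- the permutations -/
abbrev Pm : Type := Equiv.Perm (Fin 31671)

/-- the element of order eleven -/
noncomputable def xP : Pm := evalW XW

/-- the 3-transposition -/
noncomputable def yP : Pm := gp 7

theorem xP_mem : xP ∈ G31671 := evalW_mem _ (by decide)

theorem yP_mem : yP ∈ G31671 := gp_mem 7 (by norm_num)

theorem acts_xP : ActsF 31671 xP X := by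
  intro u
  show (evalW XW u).val = _
  rw [evalW_apply XW (by decide) u]
  exact (Nat.eq_of_beq_eq_true (xr_chk u.val u.2)).symm

theorem Y_eq : Y = fG 7 := by
  unfold Y f2 fG
  rw [yc_eq]

theorem acts_yP : ActsF 31671 yP Y := by
  rw [Y_eq]
  exact acts_gp 7 (by norm_num)

/-- the subgroup generated by the two elements -/
def Gxy : Subgroup Pm := Subgroup.closure {xP, yP}

/-- the two base elements of the program -/
noncomputable def base2 (l : ℕ) : Pm := if l = 0 then xP else yP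

/-- the elements of the program -/
noncomputable def el2 (l : ℕ) : Pm := elF WL2 base2 2 11 l

theorem slpOK_all : ∀ j < 11, slpOKF 31671 f2 WL2 2 j = true := by
  intro j hj
  unfold slpOKF
  rw [Bool.and_eq_true, allBelow_iff]
  exact ⟨slp_letters j hj, fun y hy => slp_chk j hj y hy⟩

theorem el2_spec (l : ℕ) (hl : l < 13) : ActsF 31671 (el2 l) (f2 l) ∧ el2 l ∈ Gxy := by
  have h0 : ∀ l < 2, ActsF 31671 (base2 l) (f2 l) ∧ base2 l ∈ Gxy := by
    intro l hl
    interval_cases l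
    · exact ⟨acts_xP, Subgroup.subset_closure (Or.inl rfl)⟩
    · exact ⟨acts_yP, Subgroup.subset_closure (Or.inr rfl)⟩
  exact elF_specF Gxy h0 11 slpOK_all 11 le_rfl l (by omega)

theorem el2_zero : el2 0 = xP := by
  have h := Cfsg.Agent.Helper29.PW.elF_stable WL2 base2 2 0 11 0 (by norm_num)
  rw [Nat.zero_add] at h
  unfold el2
  rw [h]
  rfl

theorem el2_one : el2 1 = yP := by
  have h := Cfsg.Agent.Helper29.PW.elF_stable WL2 base2 2 0 11 1 (by norm_num)
  rw [Nat.zero_add] at h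
  unfold el2
  rw [h]
  rfl

theorem invs_spec (l : ℕ) (hl : l < 13) (y : ℕ) (hy : y < 31671) :
    f2 l y < 31671 ∧ f2i l y < 31671 ∧ f2i l (f2 l y) = y ∧ f2 l (f2i l y) = y := by
  have h := invs_chk l hl y hy
  unfold invsP at h
  rw [force_eq, force_eq, Bool.and_eq_true, Bool.and_eq_true, Bool.and_eq_true] at h
  exact ⟨Eq.mp Nat.blt_eq h.1.1.1, Eq.mp Nat.blt_eq h.1.1.2, Nat.eq_of_beq_eq_true h.1.2,
    Nat.eq_of_beq_eq_true h.2⟩

theorem acts_el2_inv (l : ℕ) (hl : l < 13) : ActsF 31671 (el2 l)⁻¹ (f2i l) := by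
  have ha := (el2_spec l hl).1
  intro u
  obtain ⟨_, h2, _, h4⟩ := invs_spec l hl u.val u.2
  have e : (el2 l)⁻¹ u = ⟨f2i l u.val, h2⟩ := by
    rw [Equiv.Perm.inv_eq_iff_eq]
    apply Fin.ext
    rw [ha]
    exact h4.symm
  rw [e]

theorem Gxy_le : Gxy ≤ G31671 := by
  unfold Gxy
  rw [Subgroup.closure_le]
  rintro g (rfl | rfl)
  · exact xP_mem
  · exact yP_mem

/-- the permutation of a word -/
noncomputable def evalW2 (w : List ℕ) : Pm := (w.map el2).prod

theorem evalW2_mem_xy (w : List ℕ) (hw : ∀ l ∈ w, l < 13) : evalW2 w ∈ Gxy := by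
  apply Subgroup.list_prod_mem
  intro x hx
  obtain ⟨l, hl, rfl⟩ := List.mem_map.1 hx
  exact (el2_spec l (hw l hl)).2

theorem evalW2_mem (w : List ℕ) (hw : ∀ l ∈ w, l < 13) : evalW2 w ∈ G31671 :=
  Gxy_le (evalW2_mem_xy w hw)

theorem evalW2_apply (w : List ℕ) (hw : ∀ l ∈ w, l < 13) (u : Fin 31671) :
    (evalW2 w u).val = appF f2 w u.val :=
  prodF_apply_of f2 el2 w (fun l hl => (el2_spec l (hw l hl)).1) u

theorem evalW2_cons (l : ℕ) (t : List ℕ) : evalW2 (l :: t) = el2 l * evalW2 t := by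
  unfold evalW2
  rw [List.map_cons, List.prod_cons]

theorem evalW2_inv_apply (w : List ℕ) (hw : ∀ l ∈ w, l < 13) (u : Fin 31671) :
    ((evalW2 w)⁻¹ u).val = appFI w u.val := by
  induction w generalizing u with
  | nil =>
    show ((1 : Pm)⁻¹ u).val = u.val
    rw [inv_one]
    rfl
  | cons l t ih =>
    rw [evalW2_cons, mul_inv_rev, Equiv.Perm.mul_apply,
      ih (fun l' hl' => hw l' (List.mem_cons_of_mem _ hl')),
      acts_el2_inv l (hw l List.mem_cons_self)]
    rfl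

/-! ### The base -/

theorem bv_lt : ∀ k < 8, bv k < 31671 := by decide

/-- the base points -/
def bpt (k : ℕ) : Fin 31671 := ⟨bv k % 31671, Nat.mod_lt _ (by norm_num)⟩

theorem bpt_val (k : ℕ) (hk : k < 8) : (bpt k).val = bv k := Nat.mod_eq_of_lt (bv_lt k hk)

/-- the orbit of the base point `k` -/
def Orb (k : ℕ) : Finset (Fin 31671) :=
  Finset.univ.filter (fun q : Fin 31671 => OMb k q.val = true)

theorem card_Orb (k : ℕ) (hk : k < 8) : (Orb k).card = sizes.getD k 0 := by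
  unfold Orb
  rw [card_filter_eq_cntA (fun q => OMb k q) 31671]
  exact om_chk k hk

theorem tw_spec (k : ℕ) (hk : k < 8) (q : ℕ) (hq : q < 31671) (hm : OMb k q = true) :
    (∀ l ∈ TW k q, l < 13) ∧ (k ≠ 0 → ∀ l ∈ TW k q, l ≠ 1) ∧ appF f2 (TW k q) (bv k) = q ∧
      ∀ j < k, appF f2 (TW k q) (bv j) = bv j := by
  have h := tw_chk k hk q hq
  unfold twP at h
  rw [force_eq] at h
  have hm' : Nat.testBit (twE k q) 28 = true := hm
  rw [hm', Bool.not_true, Bool.false_or, Bool.and_eq_true, Bool.and_eq_true,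
    List.all_eq_true, allBelow_iff] at h
  obtain ⟨⟨h1, h2⟩, h3⟩ := h
  refine ⟨?_, ?_, Nat.eq_of_beq_eq_true h2, fun j hj => Nat.eq_of_beq_eq_true (h3 j hj)⟩
  · intro l hl
    have := h1 l hl
    rw [Bool.and_eq_true] at this
    exact Eq.mp Nat.blt_eq this.1
  · intro hk0 l hl e
    have := h1 l hl
    rw [Bool.and_eq_true, Bool.or_eq_true] at this
    rcases this.2 with h4 | h4
    · exact hk0 (Nat.eq_of_beq_eq_true h4)
    · rw [e] at h4
      exact Bool.noConfusion h4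

/-- the transversal element -/
noncomputable def uE (k q : ℕ) : Pm := evalW2 (TW k q)

theorem uE_spec (k : ℕ) (hk : k < 8) (q : Fin 31671) (hm : OMb k q.val = true) :
    uE k q.val ∈ Gxy ∧ (∀ j < k, uE k q.val (bpt j) = bpt j) ∧ uE k q.val (bpt k) = q := by
  obtain ⟨h1, _, h2, h3⟩ := tw_spec k hk q.val q.2 hm
  refine ⟨evalW2_mem_xy _ h1, fun j hj => ?_, ?_⟩
  · apply Fin.ext
    unfold uE
    rw [evalW2_apply _ h1, bpt_val j (by omega)]
    exact h3 j hj
  · apply Fin.ext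
    unfold uE
    rw [evalW2_apply _ h1, bpt_val k hk]
    exact h2

/-- one step of the chain in a subgroup containing the transversal elements -/
theorem step (H : Subgroup Pm) (k : ℕ) (hk : k < 8)
    (hr : ∀ q : Fin 31671, OMb k q.val = true → uE k q.val ∈ H) :
    sizes.getD k 0 * Nat.card ↥(Hst H bpt (k + 1)) ≤ Nat.card ↥(Hst H bpt k) := by
  rw [← card_Orb k hk]
  apply card_step_le (Hst H bpt k) (bpt k) (Orb k)
  intro q hq
  have hm : OMb k q.val = true := (Finset.mem_filter.1 hq).2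
  obtain ⟨_, h2, h3⟩ := uE_spec k hk q hm
  refine ⟨uE k q.val, ?_, h3⟩
  rw [mem_Hst]
  exact ⟨hr q hm, h2⟩

theorem sizes_val : sizes = [31671, 3510, 2816, 1680, 243, 16, 1, 2] := rfl

theorem steps_xy :
    31671 * Nat.card ↥(Hst Gxy bpt 1) ≤ Nat.card ↥Gxy ∧
    3510 * Nat.card ↥(Hst Gxy bpt 2) ≤ Nat.card ↥(Hst Gxy bpt 1) ∧
    2816 * Nat.card ↥(Hst Gxy bpt 3) ≤ Nat.card ↥(Hst Gxy bpt 2) ∧
    1680 * Nat.card ↥(Hst Gxy bpt 4) ≤ Nat.card ↥(Hst Gxy bpt 3) ∧
    243 * Nat.card ↥(Hst Gxy bpt 5) ≤ Nat.card ↥(Hst Gxy bpt 4) ∧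
    16 * Nat.card ↥(Hst Gxy bpt 6) ≤ Nat.card ↥(Hst Gxy bpt 5) ∧
    1 * Nat.card ↥(Hst Gxy bpt 7) ≤ Nat.card ↥(Hst Gxy bpt 6) ∧
    2 * Nat.card ↥(Hst Gxy bpt 8) ≤ Nat.card ↥(Hst Gxy bpt 7) ∧
    1 ≤ Nat.card ↥(Hst Gxy bpt 8) := by
  have hr : ∀ k < 8, ∀ q : Fin 31671, OMb k q.val = true → uE k q.val ∈ Gxy :=
    fun k hk q hm => (uE_spec k hk q hm).1
  have h0 := step Gxy 0 (by norm_num) (hr 0 (by norm_num))
  have h1 := step Gxy 1 (by norm_num) (hr 1 (by norm_num))
  have h2 := step Gxy 2 (by norm_num) (hr 2 (by norm_num))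
  have h3 := step Gxy 3 (by norm_num) (hr 3 (by norm_num))
  have h4 := step Gxy 4 (by norm_num) (hr 4 (by norm_num))
  have h5 := step Gxy 5 (by norm_num) (hr 5 (by norm_num))
  have h6 := step Gxy 6 (by norm_num) (hr 6 (by norm_num))
  have h7 := step Gxy 7 (by norm_num) (hr 7 (by norm_num))
  have h8 : 1 ≤ Nat.card ↥(Hst Gxy bpt 8) := Nat.card_pos
  simp only [sizes_val, List.getD_cons_zero, List.getD_cons_succ, Nat.reduceAdd, zero_add]
    at h0 h1 h2 h3 h4 h5 h6 h7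
  exact ⟨h0, h1, h2, h3, h4, h5, h6, h7, h8⟩

theorem card_Gxy_le : Nat.card ↥Gxy ≤ 4089470473293004800 := by
  rw [← card_G31671]
  exact Subgroup.card_le_of_le Gxy_le

theorem card_Gxy : Nat.card ↥Gxy = 4089470473293004800 := by
  obtain ⟨h0, h1, h2, h3, h4, h5, h6, h7, h8⟩ := steps_xy
  have hle := card_Gxy_le
  have e : Hst Gxy bpt 0 = Gxy := rfl
  omega

theorem Gxy_eq : Gxy = G31671 := by
  have : Finite ↥G31671 := finite_G31671
  apply Subgroup.eq_of_le_of_card_ge Gxy_le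
  rw [card_Gxy, card_G31671]

/-- the orders of the stabilisers of the chain -/
theorem card_Hst_all : Nat.card ↥(Hst G31671 bpt 8) = 1 ∧ Nat.card ↥(Hst G31671 bpt 7) = 2 ∧
    Nat.card ↥(Hst G31671 bpt 6) = 2 ∧ Nat.card ↥(Hst G31671 bpt 5) = 32 ∧
    Nat.card ↥(Hst G31671 bpt 4) = 7776 ∧ Nat.card ↥(Hst G31671 bpt 3) = 13063680 ∧
    Nat.card ↥(Hst G31671 bpt 2) = 36787322880 ∧
    Nat.card ↥(Hst G31671 bpt 1) = 129123503308800 := by
  rw [← Gxy_eq]
  obtain ⟨h0, h1, h2, h3, h4, h5, h6, h7, h8⟩ := steps_xy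
  have hle := card_Gxy_le
  refine ⟨?_, ?_, ?_, ?_, ?_, ?_, ?_, ?_⟩ <;> omega

/-- the pointwise stabiliser of the base is trivial -/
theorem card_Hst8 : Nat.card ↥(Hst G31671 bpt 8) = 1 := card_Hst_all.1

theorem card_Hst_val (k : ℕ) (hk : k < 9) : Nat.card ↥(Hst G31671 bpt k) =
    ([4089470473293004800, 129123503308800, 36787322880, 13063680, 7776, 32, 2, 2, 1] :
      List ℕ).getD k 0 := by
  obtain ⟨h8, h7, h6, h5, h4, h3, h2, h1⟩ := card_Hst_all
  interval_cases k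
  · exact card_G31671
  · exact h1
  · exact h2
  · exact h3
  · exact h4
  · exact h5
  · exact h6
  · exact h7
  · exact h8

theorem orb_reach (k : ℕ) (hk : k < 8) :
    ∀ q ∈ Orb k, ∃ g ∈ Hst G31671 bpt k, g (bpt k) = q := by
  intro q hq
  have hm : OMb k q.val = true := (Finset.mem_filter.1 hq).2
  obtain ⟨h1, h2, h3⟩ := uE_spec k hk q hm
  refine ⟨uE k q.val, ?_, h3⟩
  rw [mem_Hst]
  exact ⟨Gxy_le h1, h2⟩

/-- the stabiliser of the first `k` base points moves the next one inside its orbit -/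
theorem Hst_orbit (k : ℕ) (hk : k < 8) (h : Pm) (hh : h ∈ Hst G31671 bpt k) :
    h (bpt k) ∈ Orb k := by
  by_contra hq
  have hreach : ∀ q ∈ insert (h (bpt k)) (Orb k), ∃ g ∈ Hst G31671 bpt k, g (bpt k) = q := by
    intro q hq'
    rcases Finset.mem_insert.1 hq' with rfl | hq'
    · exact ⟨h, hh, rfl⟩
    · exact orb_reach k hk q hq'
  have hle := card_step_le (Hst G31671 bpt k) (bpt k) (insert (h (bpt k)) (Orb k)) hreach
  have h4 : Nat.card ↥(Hst G31671 bpt k ⊓
      MulAction.stabilizer (Equiv.Perm (Fin 31671)) (bpt k)) =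
      Nat.card ↥(Hst G31671 bpt (k + 1)) := rfl
  rw [Finset.card_insert_of_notMem hq, card_Orb k hk, h4, card_Hst_val k (by omega),
    card_Hst_val (k + 1) (by omega)] at hle
  interval_cases k <;>
    simp only [sizes_val, List.getD_cons_zero, List.getD_cons_succ, Nat.reduceAdd] at hle <;>
    omega

/-- two elements of the group which agree on the base are equal -/
theorem eq_of_base {g h : Pm} (hg : g ∈ G31671) (hh : h ∈ G31671)
    (hb : ∀ k < 8, g (bpt k) = h (bpt k)) : g = h := by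
  have hm : g⁻¹ * h ∈ Hst G31671 bpt 8 := by
    rw [mem_Hst]
    refine ⟨G31671.mul_mem (G31671.inv_mem hg) hh, fun k hk => ?_⟩
    rw [Equiv.Perm.mul_apply, ← hb k hk]
    simp
  have hone : ∀ x : ↥(Hst G31671 bpt 8), x = 1 := by
    have : Subsingleton ↥(Hst G31671 bpt 8) := (Nat.card_eq_one_iff_unique.1 card_Hst8).1
    intro x
    exact Subsingleton.elim _ _
  have := congrArg Subtype.val (hone ⟨g⁻¹ * h, hm⟩)
  have e : g⁻¹ * h = 1 := this
  calc g = g * (g⁻¹ * h) := by rw [e, mul_one]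
    _ = h := by group

end Cfsg.Agent.Helper29.Fi3
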