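import Mathlib
import Cfsg.Agent.Lib.Helper29.Fi3Base

set_option autoImplicit false
set_option maxRecDepth 8000
open Cfsg

/-! The class of 3-transpositions of the Fischer group Fi23 on 31671 points: the transposition of
a point, conjugation permutes them as the points, the relations of the two generators and the
filter. -/

namespace Cfsg.Agent.Helper29.Fi3

open Cfsg.Agent.Helper29.HSP (tg force force_eq allBelow allBelow_iff)
open Cfsg.Agent.Helper29.PT
open Cfsg.Agent.Helper29.PW (unpackW elF)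
open Cfsg.Agent.Helper29.Fi3M Cfsg.Agent.Helper29.Fi3D
open Cfsg.Agent.Helper29.PN (Hst mem_Hst card_step_le)

/-! ### The checks -/

theorem bx_spec : bv 0 = 0 ∧ X 0 = 0 ∧ X P0p = P0p ∧ (∀ k < 5, X (bv (k + 1)) = bv (k + 2)) ∧
    P0p < 31671 ∧ PY < 31671 ∧ OMb 0 PY = true ∧ OMb 0 P0p = true ∧ OMb 0 0 = true ∧
    twE 0 P0p = EP0 ∧ twE 0 0 = 2 ^ 28 := by
  have h := bx_chk
  unfold bxOK at h
  simp only [Bool.and_eq_true, allBelow_iff] at h
  obtain ⟨⟨⟨⟨⟨⟨⟨⟨⟨⟨h1, h2⟩, h3⟩, h4⟩, h5⟩, h6⟩, h7⟩, h8⟩, h9⟩, h10⟩, h11⟩ := h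
  exact ⟨Nat.eq_of_beq_eq_true h1, Nat.eq_of_beq_eq_true h2, Nat.eq_of_beq_eq_true h3,
    fun k hk => Nat.eq_of_beq_eq_true (h4 k hk), Eq.mp Nat.blt_eq h5, Eq.mp Nat.blt_eq h6,
    h7, h8, h9, Nat.eq_of_beq_eq_true h10, Nat.eq_of_beq_eq_true h11⟩

theorem om0_all (q : ℕ) (hq : q < 31671) : OMb 0 q = true := om0_chk q hq

/-! ### The central involution of the point stabiliser -/

/-- the central involution of the stabiliser of the first base point -/
noncomputable def z0P : Pm := el2 11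

theorem z0P_mem_xy : z0P ∈ Gxy := (el2_spec 11 (by norm_num)).2

theorem z0P_mem : z0P ∈ G31671 := Gxy_le z0P_mem_xy

theorem acts_z0P : ActsF 31671 z0P Z0 := (el2_spec 11 (by norm_num)).1

theorem el2_mem (l : ℕ) (hl : l < 13) : el2 l ∈ G31671 := Gxy_le (el2_spec l hl).2

theorem z0_comm_letter (l : ℕ) (hl : l < 13) (h1 : l ≠ 1) : el2 l * z0P = z0P * el2 l := by
  apply eq_of_base (G31671.mul_mem (el2_mem l hl) z0P_mem) (G31671.mul_mem z0P_mem (el2_mem l hl))
  intro k hk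
  apply Fin.ext
  rw [Equiv.Perm.mul_apply, Equiv.Perm.mul_apply, (el2_spec l hl).1, acts_z0P, acts_z0P,
    (el2_spec l hl).1, bpt_val k hk]
  have h := zc_chk
  unfold zcOK at h
  rw [allBelow_iff] at h
  have h2 := h l hl
  rw [Bool.or_eq_true] at h2
  rcases h2 with h2 | h2
  · exact absurd (Nat.eq_of_beq_eq_true h2) h1
  · rw [allBelow_iff] at h2
    exact Nat.eq_of_beq_eq_true (h2 k hk)

theorem z0_comm_word (w : List ℕ) (hw : ∀ l ∈ w, l < 13) (h1 : ∀ l ∈ w, l ≠ 1) :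
    evalW2 w * z0P = z0P * evalW2 w := by
  induction w with
  | nil =>
    show (1 : Pm) * z0P = z0P * 1
    rw [one_mul, mul_one]
  | cons l t ih =>
    rw [evalW2_cons, mul_assoc, ih (fun l' hl' => hw l' (List.mem_cons_of_mem _ hl'))
      (fun l' hl' => h1 l' (List.mem_cons_of_mem _ hl')), ← mul_assoc,
      z0_comm_letter l (hw l List.mem_cons_self) (h1 l List.mem_cons_self), mul_assoc]

/-- the elements of the group commuting with the central involution -/
def Kz : Subgroup Pm := G31671 ⊓ Subgroup.centralizer {z0P}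

theorem mem_Kz (g : Pm) : g ∈ Kz ↔ g ∈ G31671 ∧ g * z0P = z0P * g := by
  unfold Kz
  rw [Subgroup.mem_inf, Subgroup.mem_centralizer_iff]
  constructor
  · rintro ⟨h1, h2⟩
    exact ⟨h1, (h2 z0P rfl).symm⟩
  · rintro ⟨h1, h2⟩
    refine ⟨h1, fun h hh => ?_⟩
    rw [Set.mem_singleton_iff.1 hh]
    exact h2.symm

theorem uE_mem_Kz (k : ℕ) (hk : k < 8) (hk1 : k ≠ 0) (q : Fin 31671)
    (hm : OMb k q.val = true) : uE k q.val ∈ Kz := by
  obtain ⟨h1, h2, _, _⟩ := tw_spec k hk q.val q.2 hm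
  rw [mem_Kz]
  exact ⟨evalW2_mem _ h1, z0_comm_word _ h1 (h2 hk1)⟩

theorem steps_Kz :
    3510 * Nat.card ↥(Hst Kz bpt 2) ≤ Nat.card ↥(Hst Kz bpt 1) ∧
    2816 * Nat.card ↥(Hst Kz bpt 3) ≤ Nat.card ↥(Hst Kz bpt 2) ∧
    1680 * Nat.card ↥(Hst Kz bpt 4) ≤ Nat.card ↥(Hst Kz bpt 3) ∧
    243 * Nat.card ↥(Hst Kz bpt 5) ≤ Nat.card ↥(Hst Kz bpt 4) ∧
    16 * Nat.card ↥(Hst Kz bpt 6) ≤ Nat.card ↥(Hst Kz bpt 5) ∧
    1 * Nat.card ↥(Hst Kz bpt 7) ≤ Nat.card ↥(Hst Kz bpt 6) ∧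
    2 * Nat.card ↥(Hst Kz bpt 8) ≤ Nat.card ↥(Hst Kz bpt 7) ∧
    1 ≤ Nat.card ↥(Hst Kz bpt 8) := by
  have h1 := step Kz 1 (by norm_num) (uE_mem_Kz 1 (by norm_num) (by norm_num))
  have h2 := step Kz 2 (by norm_num) (uE_mem_Kz 2 (by norm_num) (by norm_num))
  have h3 := step Kz 3 (by norm_num) (uE_mem_Kz 3 (by norm_num) (by norm_num))
  have h4 := step Kz 4 (by norm_num) (uE_mem_Kz 4 (by norm_num) (by norm_num))
  have h5 := step Kz 5 (by norm_num) (uE_mem_Kz 5 (by norm_num) (by norm_num))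
  have h6 := step Kz 6 (by norm_num) (uE_mem_Kz 6 (by norm_num) (by norm_num))
  have h7 := step Kz 7 (by norm_num) (uE_mem_Kz 7 (by norm_num) (by norm_num))
  have h8 : 1 ≤ Nat.card ↥(Hst Kz bpt 8) := Nat.card_pos
  simp only [sizes_val, List.getD_cons_zero, List.getD_cons_succ, Nat.reduceAdd]
    at h1 h2 h3 h4 h5 h6 h7
  exact ⟨h1, h2, h3, h4, h5, h6, h7, h8⟩

theorem Hst_Kz_le : Hst Kz bpt 1 ≤ Hst G31671 bpt 1 := by
  intro g hg
  rw [mem_Hst] at hg ⊢
  exact ⟨((mem_Kz g).1 hg.1).1, hg.2⟩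

theorem Hst_Kz_eq : Hst Kz bpt 1 = Hst G31671 bpt 1 := by
  apply Subgroup.eq_of_le_of_card_ge Hst_Kz_le
  rw [card_Hst_all.2.2.2.2.2.2.2]
  obtain ⟨h1, h2, h3, h4, h5, h6, h7, h8⟩ := steps_Kz
  omega

/-- the stabiliser of the first base point centralises the involution -/
theorem stab_comm (h : Pm) (hh : h ∈ Hst G31671 bpt 1) : h * z0P = z0P * h := by
  rw [← Hst_Kz_eq, mem_Hst] at hh
  exact ((mem_Kz h).1 hh.1).2

/-! ### The transposition of a point -/

/-- the transposition of the point `p` -/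
noncomputable def tP (p : ℕ) : Pm := uE 0 p * z0P * (uE 0 p)⁻¹

theorem uE0_spec (p : Fin 31671) : uE 0 p.val ∈ G31671 ∧ uE 0 p.val (bpt 0) = p := by
  obtain ⟨h1, _, h3⟩ := uE_spec 0 (by norm_num) p (om0_all p.val p.2)
  exact ⟨Gxy_le h1, h3⟩

theorem tP_mem (p : Fin 31671) : tP p.val ∈ G31671 :=
  G31671.mul_mem (G31671.mul_mem (uE0_spec p).1 z0P_mem) (G31671.inv_mem (uE0_spec p).1)

theorem tw0_letters (p : ℕ) (hp : p < 31671) : ∀ l ∈ TW 0 p, l < 13 :=
  (tw_spec 0 (by norm_num) p hp (om0_all p hp)).1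

theorem tP_apply (p : ℕ) (hp : p < 31671) (u : Fin 31671) : (tP p u).val = tApp p u.val := by
  unfold tP uE
  rw [Equiv.Perm.mul_apply, Equiv.Perm.mul_apply, evalW2_apply _ (tw0_letters p hp), acts_z0P,
    evalW2_inv_apply _ (tw0_letters p hp)]
  rfl

/-- conjugation permutes the transpositions as the points -/
theorem conj_tP (g : Pm) (hg : g ∈ G31671) (p : Fin 31671) :
    g * tP p.val * g⁻¹ = tP (g p).val := by
  obtain ⟨hU, hUp⟩ := uE0_spec p
  obtain ⟨hV, hVp⟩ := uE0_spec (g p)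
  have hh : (uE 0 (g p).val)⁻¹ * g * uE 0 p.val ∈ Hst G31671 bpt 1 := by
    rw [mem_Hst]
    refine ⟨G31671.mul_mem (G31671.mul_mem (G31671.inv_mem hV) hg) hU, fun j hj => ?_⟩
    have : j = 0 := by omega
    rw [this, Equiv.Perm.mul_apply, Equiv.Perm.mul_apply, hUp, Equiv.Perm.inv_eq_iff_eq, hVp]
  have hc := stab_comm _ hh
  unfold tP
  generalize uE 0 (g p).val = V at hc ⊢
  generalize uE 0 p.val = U at hc ⊢
  have e1 : g * (U * z0P * U⁻¹) * g⁻¹ =
      V * ((V⁻¹ * g * U) * z0P * (V⁻¹ * g * U)⁻¹) * V⁻¹ := by group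
  have e2 : (V⁻¹ * g * U) * z0P * (V⁻¹ * g * U)⁻¹ = z0P := by
    rw [hc]
    group
  rw [e1, e2]

/-- the class of the transpositions -/
def InL (t : Pm) : Prop := ∃ p : Fin 31671, t = tP p.val

theorem inL_conj (g : Pm) (hg : g ∈ G31671) (t : Pm) (h : InL t) : InL (g * t * g⁻¹) := by
  obtain ⟨p, rfl⟩ := h
  exact ⟨g p, conj_tP g hg p⟩

theorem tw00 : TW 0 0 = [] := by
  unfold TW
  rw [bx_spec.2.2.2.2.2.2.2.2.2.2]
  decide

theorem tP_zero : tP 0 = z0P := by
  unfold tP uE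
  rw [tw00]
  show (1 : Pm) * z0P * (1 : Pm)⁻¹ = z0P
  group

theorem inL_z0 : InL z0P := ⟨⟨0, by norm_num⟩, tP_zero.symm⟩

/-! ### The two generators -/

theorem xpw_eq (k : ℕ) : xpw k = iterF X k := rfl

theorem acts_xpow (k : ℕ) : ActsF 31671 (xP ^ k) (xpw k) := actsF_pow acts_xP k

theorem xpow_mem (j : ℕ) : xP ^ j ∈ G31671 := G31671.pow_mem xP_mem j

theorem xP_pow11 : xP ^ 11 = 1 := by
  apply eq_of_base (xpow_mem 11) G31671.one_mem
  intro k hk
  apply Fin.ext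
  rw [acts_xpow 11, Equiv.Perm.one_apply, bpt_val k hk]
  have h := x11_chk
  unfold x11OK at h
  rw [allBelow_iff] at h
  exact Nat.eq_of_beq_eq_true (h k hk)

theorem mov_spec : X 1 ≠ 1 ∧ Y 0 ≠ 0 ∧ Z0 1 ≠ 1 := by
  have h := mov_chk
  unfold movOK at h
  simp only [Bool.and_eq_true, Bool.not_eq_true'] at h
  refine ⟨fun e => ?_, fun e => ?_, fun e => ?_⟩
  · have := h.1.1
    rw [e, Nat.beq_refl] at this
    exact Bool.noConfusion this
  · have := h.1.2
    rw [e, Nat.beq_refl] at this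
    exact Bool.noConfusion this
  · have := h.2
    rw [e, Nat.beq_refl] at this
    exact Bool.noConfusion this

theorem ne_one_of_moved {g : Pm} {f : ℕ → ℕ} (hg : ActsF 31671 g f) (p : ℕ) (hp : p < 31671)
    (h : f p ≠ p) : g ≠ 1 := by
  intro e
  have h1 := hg ⟨p, hp⟩
  rw [e] at h1
  exact h h1.symm

theorem xP_ne_one : xP ≠ 1 := ne_one_of_moved acts_xP 1 (by norm_num) mov_spec.1

theorem yP_ne_one : yP ≠ 1 := ne_one_of_moved acts_yP 0 (by norm_num) mov_spec.2.1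

theorem z0P_ne_one : z0P ≠ 1 := ne_one_of_moved acts_z0P 1 (by norm_num) mov_spec.2.2

theorem yP_sq : yP * yP = 1 := gp_sq 7 (by norm_num)

theorem yP_inv : yP⁻¹ = yP := gp_inv 7 (by norm_num)

/-- the point of the second generator -/
def pY : Fin 31671 := ⟨PY % 31671, Nat.mod_lt _ (by norm_num)⟩

theorem pY_val : pY.val = PY := Nat.mod_eq_of_lt bx_spec.2.2.2.2.2.1

theorem yP_eq : yP = tP PY := by
  rw [← pY_val]
  apply eq_of_base yP_mem (tP_mem pY)
  intro k hk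
  apply Fin.ext
  rw [acts_yP, tP_apply _ pY.2, pY_val, bpt_val k hk]
  have h := y_chk
  unfold yOK at h
  rw [allBelow_iff] at h
  exact Nat.eq_of_beq_eq_true (h k hk)

theorem inL_y : InL yP := ⟨pY, by rw [pY_val]; exact yP_eq⟩

/-- the orbits of the element of order eleven on the points -/
theorem orb_spec (p : ℕ) (hp : p < 31671) :
    ∃ r < NR, ∃ j < 11, rp r < 31671 ∧ xpw j (rp r) = p := by
  have h := orb_chk p hp
  unfold orbP at h
  rw [force_eq, Bool.and_eq_true, Bool.and_eq_true, Bool.and_eq_true] at h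
  exact ⟨_, Eq.mp Nat.blt_eq h.1.1.1, _, Eq.mp Nat.blt_eq h.1.1.2, Eq.mp Nat.blt_eq h.1.2,
    Nat.eq_of_beq_eq_true h.2⟩

/-- every transposition is the conjugate by a power of the element of order eleven of the
transposition of a representative -/
theorem inL_rep (t : Pm) (h : InL t) :
    ∃ r < NR, ∃ j < 11, rp r < 31671 ∧ (xP ^ j)⁻¹ * t * xP ^ j = tP (rp r) := by
  obtain ⟨p, rfl⟩ := h
  obtain ⟨r, hr, j, hj, hlt, e⟩ := orb_spec p.val p.2
  refine ⟨r, hr, j, hj, hlt, ?_⟩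
  have h1 := conj_tP (xP ^ j) (xpow_mem j) ⟨rp r, hlt⟩
  have h2 : ((xP ^ j) ⟨rp r, hlt⟩).val = p.val := by
    rw [acts_xpow j]
    exact e
  rw [h2] at h1
  rw [← h1]
  group

/-! ### Syllable words and the relations -/

/-- the product of the syllables `x ^ e * t` -/
def relEl {M : Type*} [Monoid M] (x t : M) (E : List ℕ) : M := (E.map fun e => x ^ e * t).prod

theorem map_relEl {M N : Type*} [Monoid M] [Monoid N] (f : M →* N) (x t : M) (E : List ℕ) :
    f (relEl x t E) = relEl (f x) (f t) E := by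
  unfold relEl
  rw [map_list_prod, List.map_map]
  congr 1
  apply List.map_congr_left
  intro e _
  show f (x ^ e * t) = f x ^ e * f t
  rw [map_mul, map_pow]

theorem relEl_mem (t : Pm) (ht : t ∈ G31671) (E : List ℕ) : relEl xP t E ∈ G31671 := by
  unfold relEl
  apply Subgroup.list_prod_mem
  intro g hg
  obtain ⟨e, _, rfl⟩ := List.mem_map.1 hg
  exact G31671.mul_mem (xpow_mem e) ht

theorem iterW_spec (t : Pm) (f : ℕ → ℕ) (ht : ActsF 31671 t f) (E : List ℕ) (u : Fin 31671) :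
    (relEl xP t E u).val = iterW f E u.val := by
  induction E with
  | nil => rfl
  | cons e E ih =>
    have e1 : relEl xP t (e :: E) = xP ^ e * t * relEl xP t E := by
      unfold relEl
      rw [List.map_cons, List.prod_cons]
    rw [e1]
    show ((xP ^ e) (t (relEl xP t E u))).val = xpw e (f (iterW f E u.val))
    rw [acts_xpow e, ht, ih]

theorem iterN_spec (t : Pm) (f : ℕ → ℕ) (ht : ActsF 31671 t f) (E : List ℕ) (m : ℕ)
    (u : Fin 31671) : ((relEl xP t E ^ m) u).val = iterN f E m u.val := by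
  induction m with
  | zero => rfl
  | succ m ih =>
    rw [pow_succ']
    show (relEl xP t E ((relEl xP t E ^ m) u)).val = iterW f E (iterN f E m u.val)
    rw [iterW_spec t f ht, ih]

theorem relsB_iff (R : List (List ℕ × ℕ)) :
    relsB R = true ↔ ∀ r ∈ R, ∀ k < 8, iterN Y r.1 r.2 (bv k) = bv k := by
  induction R with
  | nil => simp [relsB]
  | cons r R ih =>
    rw [relsB, Bool.and_eq_true, ih, allBelow_iff]
    constructor
    · rintro ⟨h1, h2⟩ r' hr'
      rcases List.mem_cons.1 hr' with rfl | hr'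
      · exact fun k hk => Nat.eq_of_beq_eq_true (h1 k hk)
      · exact h2 r' hr'
    · intro h
      refine ⟨fun k hk => ?_, fun r' hr' => h r' (List.mem_cons_of_mem _ hr')⟩
      rw [h r List.mem_cons_self k hk]
      exact Nat.beq_refl _

theorem rel_y : ∀ r ∈ RL, relEl xP yP r.1 ^ r.2 = 1 := by
  intro r hr
  apply eq_of_base (G31671.pow_mem (relEl_mem yP yP_mem r.1) r.2) G31671.one_mem
  intro k hk
  apply Fin.ext
  rw [iterN_spec yP Y acts_yP, Equiv.Perm.one_apply, bpt_val k hk]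
  exact (relsB_iff RL).1 rels_chk r hr k hk

/-- a witness refutes the relations -/
theorem not_rels_of_wit (t : Pm) (f : ℕ → ℕ) (ht : ActsF 31671 t f) (h : ℕ)
    (hw : witOK RL f h = true) (hrel : ∀ r ∈ RL, relEl xP t r.1 ^ r.2 = 1) : False := by
  unfold witOK at hw
  rw [Bool.and_eq_true, Bool.and_eq_true, Bool.not_eq_true'] at hw
  obtain ⟨⟨h1, h2⟩, h3⟩ := hw
  have hk : h / 32768 < RL.length := Eq.mp Nat.blt_eq h1
  have hp : h % 32768 < 31671 := Eq.mp Nat.blt_eq h2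
  have hmem : RL.getD (h / 32768) ([], 0) ∈ RL := by
    rw [List.getD_eq_getElem _ _ hk]
    exact List.getElem_mem hk
  have h4 := iterN_spec t f ht (RL.getD (h / 32768) ([], 0)).1
    (RL.getD (h / 32768) ([], 0)).2 ⟨h % 32768, hp⟩
  rw [hrel _ hmem] at h4
  have h5 : h % 32768 = iterN f (RL.getD (h / 32768) ([], 0)).1
      (RL.getD (h / 32768) ([], 0)).2 (h % 32768) := h4
  rw [← h5, Nat.beq_refl] at h3
  exact Bool.noConfusion h3

/-- the filter: a representative whose transposition satisfies the relations is one of the first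
four -/
theorem filt_spec (r : ℕ) (hr : r < NR) (hlt : rp r < 31671)
    (hrel : ∀ rr ∈ RL, relEl xP (tP (rp r)) rr.1 ^ rr.2 = 1) : r < NSV := by
  have h := filt_chk0 r hr
  unfold filtP at h
  rw [Bool.or_eq_true, force_eq] at h
  rcases h with h | h
  · exact Eq.mp Nat.blt_eq h
  · exact (not_rels_of_wit (tP (rp r)) (tApp (rp r)) (tP_apply (rp r) hlt) _ h hrel).elim

end Cfsg.Agent.Helper29.Fi3
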