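import Mathlib
import Cfsg.Agent.Lib.Helper29.Fi3Cls

set_option autoImplicit false
set_option maxRecDepth 8000
open Cfsg

/-! The centraliser in the Fischer group Fi23 on 31671 points of an element of order eleven has
order forty-four: an element commuting with it permutes its two fixed points and is determined
by the image of one further point up to the central involution of the point stabiliser; all but
twenty-two of the possible images are excluded by sifting through the stabiliser chain. Hence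
the centraliser contains exactly three involutions. -/

namespace Cfsg.Agent.Helper29.Fi3

open Cfsg.Agent.Helper29.HSP (tg force force_eq allBelow allBelow_iff)
open Cfsg.Agent.Helper29.PT
open Cfsg.Agent.Helper29.PW (unpackW elF)
open Cfsg.Agent.Helper29.Fi3M Cfsg.Agent.Helper29.Fi3D
open Cfsg.Agent.Helper29.PN (Hst mem_Hst card_step_le)

/-! ### One step of the sifting -/

theorem sift_step (k : ℕ) (hk : k < 8) (h : Pm) (hh : h ∈ Hst G31671 bpt k) :
    OMb k (h (bpt k)).val = true ∧ (∀ l ∈ TW k (h (bpt k)).val, l < 13) ∧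
      (evalW2 (TW k (h (bpt k)).val))⁻¹ * h ∈ Hst G31671 bpt (k + 1) := by
  have ho := Hst_orbit k hk h hh
  have hbit : OMb k (h (bpt k)).val = true := (Finset.mem_filter.1 ho).2
  obtain ⟨h1, _, h2, h3⟩ := tw_spec k hk (h (bpt k)).val (h (bpt k)).2 hbit
  refine ⟨hbit, h1, ?_⟩
  have hu : evalW2 (TW k (h (bpt k)).val) ∈ Hst G31671 bpt k := by
    rw [mem_Hst]
    refine ⟨evalW2_mem _ h1, fun j hj => ?_⟩
    apply Fin.ext
    rw [evalW2_apply _ h1, bpt_val j (by omega)]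
    exact h3 j hj
  have huk : evalW2 (TW k (h (bpt k)).val) (bpt k) = h (bpt k) := by
    apply Fin.ext
    rw [evalW2_apply _ h1, bpt_val k hk]
    exact h2
  have hprod : (evalW2 (TW k (h (bpt k)).val))⁻¹ * h ∈ Hst G31671 bpt k :=
    (Hst G31671 bpt k).mul_mem ((Hst G31671 bpt k).inv_mem hu) hh
  rw [mem_Hst] at hprod ⊢
  refine ⟨hprod.1, fun j hj => ?_⟩
  rcases Nat.lt_succ_iff_lt_or_eq.1 hj with hj | rfl
  · exact hprod.2 j hj
  · rw [Equiv.Perm.mul_apply, Equiv.Perm.inv_eq_iff_eq]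
    exact huk.symm

/-! ### The facts about the base and the element of order eleven -/

theorem fixx_spec : ∀ p < 31671, X p = p → p = 0 ∨ p = P0p := by
  intro p hp he
  have h := fixx_chk0 p hp
  unfold fixxP at h
  rw [Bool.or_eq_true, Bool.or_eq_true] at h
  rcases h with (h | h) | h
  · exact Or.inl (Nat.eq_of_beq_eq_true h)
  · exact Or.inr (Nat.eq_of_beq_eq_true h)
  · rw [he, Nat.beq_refl] at h
    exact Bool.noConfusion h

theorem bpt0 : bpt 0 = ⟨0, by norm_num⟩ := by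
  apply Fin.ext
  rw [bpt_val 0 (by norm_num), bx_spec.1]

/-- the second fixed point -/
def pP : Fin 31671 := ⟨P0p % 31671, Nat.mod_lt _ (by norm_num)⟩

theorem pP_val : pP.val = P0p := Nat.mod_eq_of_lt bx_spec.2.2.2.2.1

theorem xP_bpt0 : xP (bpt 0) = bpt 0 := by
  apply Fin.ext
  rw [acts_xP, bpt_val 0 (by norm_num), bx_spec.1]
  exact bx_spec.2.1

theorem xpw_succ (k p : ℕ) : xpw (k + 1) p = X (xpw k p) := rfl

theorem xpw_bv (k : ℕ) (hk : k < 6) : xpw k (bv 1) = bv (k + 1) := by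
  induction k with
  | zero => rfl
  | succ k ih =>
    rw [xpw_succ, ih (by omega)]
    exact bx_spec.2.2.2.1 k (by omega)

theorem xpow_bpt (k : ℕ) (hk : k < 6) : (xP ^ k) (bpt 1) = bpt (k + 1) := by
  apply Fin.ext
  rw [acts_xpow k, bpt_val 1 (by norm_num), bpt_val (k + 1) (by omega)]
  exact xpw_bv k hk

/-- an element commuting with `xP` maps the first base point to a fixed point -/
theorem fix_of_comm_x (g : Pm) (hc : g * xP = xP * g) :
    (g (bpt 0)).val = 0 ∨ (g (bpt 0)).val = P0p := by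
  have h1 : xP (g (bpt 0)) = g (bpt 0) := by
    have h2 : (g * xP) (bpt 0) = (xP * g) (bpt 0) := by rw [hc]
    rw [Equiv.Perm.mul_apply, Equiv.Perm.mul_apply, xP_bpt0] at h2
    exact h2.symm
  have h3 := acts_xP (g (bpt 0))
  rw [h1] at h3
  exact fixx_spec _ (g (bpt 0)).2 h3.symm

theorem comm_pow (g : Pm) (hc : g * xP = xP * g) (k : ℕ) : g * xP ^ k = xP ^ k * g := by
  have : Commute g xP := hc
  exact (this.pow_right k).eq

/-- the images of the base points under an element commuting with `xP` -/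
theorem comm_bpt (g : Pm) (hc : g * xP = xP * g) (k : ℕ) (hk : k < 6) :
    g (bpt (k + 1)) = (xP ^ k) (g (bpt 1)) := by
  rw [← xpow_bpt k hk]
  have h2 : (g * xP ^ k) (bpt 1) = (xP ^ k * g) (bpt 1) := by rw [comm_pow g hc k]
  exact h2

theorem comm_bpt_val (g : Pm) (hc : g * xP = xP * g) (k : ℕ) (hk : k < 6) :
    (g (bpt (k + 1))).val = xpw k (g (bpt 1)).val := by
  rw [comm_bpt g hc k hk, acts_xpow k]

/-! ### Sifting an element of the centraliser -/

theorem sift_contra (g : Pm) (hg : g ∈ G31671) (hc : g * xP = xP * g)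
    (hf : siftFail (TW 0 (g (bpt 0)).val) (g (bpt 1)).val = true) : False := by
  -- level 0
  have hg0 : g ∈ Hst G31671 bpt 0 := hg
  obtain ⟨_, hl0, hg1⟩ := sift_step 0 (by norm_num) g hg0
  generalize hw0 : TW 0 (g (bpt 0)).val = w0 at hf hl0 hg1
  generalize hq : (g (bpt 1)).val = q at hf
  unfold siftFail at hf
  rw [force_eq] at hf
  -- level 1
  have e1 : (((evalW2 w0)⁻¹ * g) (bpt 1)).val = appFI w0 q := by
    rw [Equiv.Perm.mul_apply, evalW2_inv_apply _ hl0, hq]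
  obtain ⟨hb1, hl1, hg2⟩ := sift_step 1 (by norm_num) _ hg1
  rw [e1] at hb1 hl1 hg2
  generalize appFI w0 q = c1 at hf hb1 hl1 hg2
  rw [hb1, Bool.not_true, Bool.false_or, force_eq] at hf
  -- level 2
  have e2 : (((evalW2 (TW 1 c1))⁻¹ * ((evalW2 w0)⁻¹ * g)) (bpt 2)).val =
      appFI (TW 1 c1) (appFI w0 (xpw 1 q)) := by
    rw [Equiv.Perm.mul_apply, evalW2_inv_apply _ hl1, Equiv.Perm.mul_apply,
      evalW2_inv_apply _ hl0, comm_bpt_val g hc 1 (by norm_num), hq]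
  obtain ⟨hb2, hl2, hg3⟩ := sift_step 2 (by norm_num) _ hg2
  rw [e2] at hb2 hl2 hg3
  generalize appFI (TW 1 c1) (appFI w0 (xpw 1 q)) = c2 at hf hb2 hl2 hg3
  rw [hb2, Bool.not_true, Bool.false_or, force_eq] at hf
  -- level 3
  have e3 : (((evalW2 (TW 2 c2))⁻¹ * ((evalW2 (TW 1 c1))⁻¹ * ((evalW2 w0)⁻¹ * g)))
      (bpt 3)).val = appFI (TW 2 c2) (appFI (TW 1 c1) (appFI w0 (xpw 2 q))) := by
    rw [Equiv.Perm.mul_apply, evalW2_inv_apply _ hl2, Equiv.Perm.mul_apply,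
      evalW2_inv_apply _ hl1, Equiv.Perm.mul_apply, evalW2_inv_apply _ hl0,
      comm_bpt_val g hc 2 (by norm_num), hq]
  obtain ⟨hb3, hl3, hg4⟩ := sift_step 3 (by norm_num) _ hg3
  rw [e3] at hb3 hl3 hg4
  generalize appFI (TW 2 c2) (appFI (TW 1 c1) (appFI w0 (xpw 2 q))) = c3 at hf hb3 hl3 hg4
  rw [hb3, Bool.not_true, Bool.false_or, force_eq] at hf
  -- level 4
  have e4 : (((evalW2 (TW 3 c3))⁻¹ * ((evalW2 (TW 2 c2))⁻¹ * ((evalW2 (TW 1 c1))⁻¹ *
      ((evalW2 w0)⁻¹ * g)))) (bpt 4)).val =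
      appFI (TW 3 c3) (appFI (TW 2 c2) (appFI (TW 1 c1) (appFI w0 (xpw 3 q)))) := by
    rw [Equiv.Perm.mul_apply, evalW2_inv_apply _ hl3, Equiv.Perm.mul_apply,
      evalW2_inv_apply _ hl2, Equiv.Perm.mul_apply, evalW2_inv_apply _ hl1,
      Equiv.Perm.mul_apply, evalW2_inv_apply _ hl0, comm_bpt_val g hc 3 (by norm_num), hq]
  obtain ⟨hb4, hl4, hg5⟩ := sift_step 4 (by norm_num) _ hg4
  rw [e4] at hb4 hl4 hg5
  generalize appFI (TW 3 c3) (appFI (TW 2 c2) (appFI (TW 1 c1) (appFI w0 (xpw 3 q)))) = c4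
    at hf hb4 hl4 hg5
  rw [hb4, Bool.not_true, Bool.false_or, force_eq] at hf
  -- level 5
  have e5 : (((evalW2 (TW 4 c4))⁻¹ * ((evalW2 (TW 3 c3))⁻¹ * ((evalW2 (TW 2 c2))⁻¹ *
      ((evalW2 (TW 1 c1))⁻¹ * ((evalW2 w0)⁻¹ * g))))) (bpt 5)).val =
      appFI (TW 4 c4) (appFI (TW 3 c3) (appFI (TW 2 c2) (appFI (TW 1 c1)
        (appFI w0 (xpw 4 q))))) := by
    rw [Equiv.Perm.mul_apply, evalW2_inv_apply _ hl4, Equiv.Perm.mul_apply,
      evalW2_inv_apply _ hl3, Equiv.Perm.mul_apply, evalW2_inv_apply _ hl2,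
      Equiv.Perm.mul_apply, evalW2_inv_apply _ hl1, Equiv.Perm.mul_apply,
      evalW2_inv_apply _ hl0, comm_bpt_val g hc 4 (by norm_num), hq]
  obtain ⟨hb5, hl5, hg6⟩ := sift_step 5 (by norm_num) _ hg5
  rw [e5] at hb5 hl5 hg6
  generalize appFI (TW 4 c4) (appFI (TW 3 c3) (appFI (TW 2 c2) (appFI (TW 1 c1)
    (appFI w0 (xpw 4 q))))) = c5 at hf hb5 hl5 hg6
  rw [hb5, Bool.not_true, Bool.false_or, force_eq] at hf
  -- level 6
  have e6 : (((evalW2 (TW 5 c5))⁻¹ * ((evalW2 (TW 4 c4))⁻¹ * ((evalW2 (TW 3 c3))⁻¹ *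
      ((evalW2 (TW 2 c2))⁻¹ * ((evalW2 (TW 1 c1))⁻¹ * ((evalW2 w0)⁻¹ * g)))))) (bpt 6)).val =
      appFI (TW 5 c5) (appFI (TW 4 c4) (appFI (TW 3 c3) (appFI (TW 2 c2) (appFI (TW 1 c1)
        (appFI w0 (xpw 5 q)))))) := by
    rw [Equiv.Perm.mul_apply, evalW2_inv_apply _ hl5, Equiv.Perm.mul_apply,
      evalW2_inv_apply _ hl4, Equiv.Perm.mul_apply, evalW2_inv_apply _ hl3,
      Equiv.Perm.mul_apply, evalW2_inv_apply _ hl2, Equiv.Perm.mul_apply,
      evalW2_inv_apply _ hl1, Equiv.Perm.mul_apply, evalW2_inv_apply _ hl0,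
      comm_bpt_val g hc 5 (by norm_num), hq]
  obtain ⟨hb6, _, _⟩ := sift_step 6 (by norm_num) _ hg6
  rw [e6] at hb6
  rw [hb6] at hf
  exact Bool.noConfusion hf

/-! ### The commuting involutions -/

/-- the second transposition commuting with `xP` -/
noncomputable def zpP : Pm := tP P0p

theorem zpP_mem : zpP ∈ G31671 := by
  have := tP_mem pP
  rw [pP_val] at this
  exact this

theorem tApp_P0p (q : ℕ) : tApp P0p q = tAppE EP0 q := by
  unfold tApp
  rw [bx_spec.2.2.2.2.2.2.2.2.2.1]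

theorem zpP_apply (u : Fin 31671) : (zpP u).val = tAppE EP0 u.val := by
  unfold zpP
  rw [tP_apply P0p bx_spec.2.2.2.2.1 u, tApp_P0p]

theorem sv_spec : rp 0 = PY ∧ rp 1 = Z0 PY ∧ rp 2 = tAppE EP0 PY ∧ rp 3 = Z0 (tAppE EP0 PY) ∧
    tAppE EP0 0 = 0 ∧ Z0 1 ≠ tAppE EP0 1 ∧ NSV = 4 := by
  have h := sv_chk
  unfold svOK at h
  simp only [Bool.and_eq_true, Bool.not_eq_true'] at h
  obtain ⟨⟨⟨⟨⟨⟨h1, h2⟩, h3⟩, h4⟩, h5⟩, h6⟩, h7⟩ := h
  refine ⟨Nat.eq_of_beq_eq_true h1, Nat.eq_of_beq_eq_true h2, Nat.eq_of_beq_eq_true h3,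
    Nat.eq_of_beq_eq_true h4, Nat.eq_of_beq_eq_true h5, fun e => ?_, Nat.eq_of_beq_eq_true h7⟩
  rw [e, Nat.beq_refl] at h6
  exact Bool.noConfusion h6

theorem xP_mem_Hst1 : xP ∈ Hst G31671 bpt 1 := by
  rw [mem_Hst]
  refine ⟨xP_mem, fun j hj => ?_⟩
  have : j = 0 := by omega
  rw [this]
  exact xP_bpt0

theorem z0P_comm : z0P * xP = xP * z0P := (stab_comm xP xP_mem_Hst1).symm

theorem zpP_comm : zpP * xP = xP * zpP := by
  have h := conj_tP xP xP_mem pP
  have e : (xP pP).val = P0p := by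
    rw [acts_xP, pP_val]
    exact bx_spec.2.2.1
  rw [e, pP_val] at h
  have h2 : xP * zpP * xP⁻¹ = zpP := h
  calc zpP * xP = (xP * zpP * xP⁻¹) * xP := by rw [h2]
    _ = xP * zpP := by group

theorem zpP_mem_Hst1 : zpP ∈ Hst G31671 bpt 1 := by
  rw [mem_Hst]
  refine ⟨zpP_mem, fun j hj => ?_⟩
  have : j = 0 := by omega
  rw [this]
  apply Fin.ext
  rw [zpP_apply, bpt_val 0 (by norm_num), bx_spec.1]
  exact sv_spec.2.2.2.2.1

theorem z0_zp_comm : zpP * z0P = z0P * zpP := stab_comm zpP zpP_mem_Hst1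

theorem conj_sq {M : Type*} [Group M] (u z : M) (h : z * z = 1) :
    (u * z * u⁻¹) * (u * z * u⁻¹) = 1 := by
  calc (u * z * u⁻¹) * (u * z * u⁻¹) = u * (z * z) * u⁻¹ := by group
    _ = 1 := by rw [h]; group

theorem z0P_sq : z0P * z0P = 1 := by
  have h := conj_sq (uE 0 PY) z0P
  have e : yP * yP = 1 := yP_sq
  rw [yP_eq] at e
  unfold tP at e
  -- z0P = U⁻¹ * (U * z0P * U⁻¹) * U
  have e2 : z0P * z0P = (uE 0 PY)⁻¹ * ((uE 0 PY * z0P * (uE 0 PY)⁻¹) *
      (uE 0 PY * z0P * (uE 0 PY)⁻¹)) * uE 0 PY := by group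
  rw [e2, e]
  group

theorem tP_sq (p : ℕ) : tP p * tP p = 1 := conj_sq _ _ z0P_sq

theorem tP_ne_one (p : ℕ) : tP p ≠ 1 := by
  intro h
  apply z0P_ne_one
  have e : z0P = (uE 0 p)⁻¹ * tP p * uE 0 p := by
    unfold tP
    group
  rw [e, h]
  group

theorem zpP_sq : zpP * zpP = 1 := tP_sq _

theorem z0P_inv : z0P⁻¹ = z0P := by
  symm
  exact eq_inv_of_mul_eq_one_left z0P_sq

theorem zpP_inv : zpP⁻¹ = zpP := by
  symm
  exact eq_inv_of_mul_eq_one_left zpP_sq

/-- the power `e` of an involution -/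
noncomputable def ipow (z : Pm) (e : ℕ) : Pm := if e = 0 then 1 else z

theorem ipow_mem (z : Pm) (hz : z ∈ G31671) (e : ℕ) : ipow z e ∈ G31671 := by
  unfold ipow
  split_ifs
  · exact G31671.one_mem
  · exact hz

theorem ipow_comm (z : Pm) (hz : z * xP = xP * z) (e : ℕ) : ipow z e * xP = xP * ipow z e := by
  unfold ipow
  split_ifs
  · rw [one_mul, mul_one]
  · exact hz

theorem zp_pow_apply (f : ℕ) (u : Fin 31671) : (ipow zpP f u).val = zpPow f u.val := by
  unfold ipow zpPow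
  by_cases h : f = 0
  · rw [if_pos h, h]
    rfl
  · rw [if_neg h]
    have : Nat.beq f 0 = false := by
      cases hb : Nat.beq f 0 with
      | true => exact absurd (Nat.eq_of_beq_eq_true hb) h
      | false => rfl
    rw [this, cond_false]
    exact zpP_apply u

/-- the central involution fixes the first seven base points -/
def z7OK : Bool := allBelow 7 fun j => Nat.beq (Z0 (bv j)) (bv j)

theorem z7_chk : z7OK = true := by decide +kernel

theorem z0P_mem_Hst7 : z0P ∈ Hst G31671 bpt 7 := by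
  rw [mem_Hst]
  refine ⟨z0P_mem, fun j hj => ?_⟩
  apply Fin.ext
  rw [acts_z0P, bpt_val j (by omega)]
  have h := z7_chk
  unfold z7OK at h
  rw [allBelow_iff] at h
  exact Nat.eq_of_beq_eq_true (h j hj)

/-- the stabiliser of the first seven base points -/
theorem Hst7_cases (h : Pm) (hh : h ∈ Hst G31671 bpt 7) : h = 1 ∨ h = z0P := by
  have hc := card_Hst_all.2.1
  rw [Nat.card_eq_two_iff' (1 : ↥(Hst G31671 bpt 7))] at hc
  obtain ⟨y, _, hy⟩ := hc
  by_cases h1 : h = 1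
  · exact Or.inl h1
  · right
    have e1 : (⟨h, hh⟩ : ↥(Hst G31671 bpt 7)) = y :=
      hy _ (fun e => h1 (congrArg Subtype.val e))
    have e2 : (⟨z0P, z0P_mem_Hst7⟩ : ↥(Hst G31671 bpt 7)) = y :=
      hy _ (fun e => z0P_ne_one (congrArg Subtype.val e))
    exact congrArg Subtype.val (e1.trans e2.symm)

/-! ### The centraliser of the element of order eleven -/

theorem up0_spec : TW 0 P0p = UP0 := by
  unfold TW
  rw [bx_spec.2.2.2.2.2.2.2.2.2.1]
  exact up0_eq

theorem ipow_mem_Hst1 (z : Pm) (hz : z ∈ Hst G31671 bpt 1) (e : ℕ) :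
    ipow z e ∈ Hst G31671 bpt 1 := by
  unfold ipow
  split_ifs
  · exact (Hst G31671 bpt 1).one_mem
  · exact hz

theorem mem_Hst1_of_fix (g : Pm) (hg : g ∈ G31671) (h0 : (g (bpt 0)).val = 0) :
    g ∈ Hst G31671 bpt 1 := by
  rw [mem_Hst]
  refine ⟨hg, fun j hj => ?_⟩
  have : j = 0 := by omega
  rw [this]
  apply Fin.ext
  rw [h0, bpt_val 0 (by norm_num), bx_spec.1]

/-- the centraliser of the element of order eleven -/
theorem cent_cases (g : Pm) (hg : g ∈ G31671) (hc : g * xP = xP * g) :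
    ∃ i < 11, ∃ f < 2, ∃ e < 2, g = xP ^ i * ipow zpP f * ipow z0P e := by
  rcases fix_of_comm_x g hc with h0 | h0
  · have hq := cq0_chk (g (bpt 1)).val (g (bpt 1)).2
    unfold cq0P at hq
    rw [Bool.or_eq_true] at hq
    rcases hq with hq | hq
    · exfalso
      apply sift_contra g hg hc
      rw [h0, tw00]
      exact hq
    · rw [force_eq, Bool.and_eq_true, Bool.and_eq_true] at hq
      obtain ⟨⟨_, hq2⟩, hq3⟩ := hq
      generalize tg CQP 5 (g (bpt 1)).val = h at hq2 hq3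
      have hq2' : h < 23 := Eq.mp Nat.blt_eq hq2
      have hq3' := Nat.eq_of_beq_eq_true hq3
      obtain ⟨i, hi⟩ : ∃ i, i = (h - 1) / 2 := ⟨_, rfl⟩
      obtain ⟨f, hf⟩ : ∃ f, f = (h - 1) % 2 := ⟨_, rfl⟩
      rw [← hi, ← hf] at hq3'
      have hi11 : i < 11 := by omega
      have hf2 : f < 2 := by omega
      have hc1 : xP ^ i * ipow zpP f ∈ Hst G31671 bpt 1 :=
        (Hst G31671 bpt 1).mul_mem ((Hst G31671 bpt 1).pow_mem xP_mem_Hst1 i)
          (ipow_mem_Hst1 zpP zpP_mem_Hst1 f)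
      have hcc : Commute (xP ^ i * ipow zpP f) xP :=
        ((Commute.refl xP).pow_left i).mul_left (ipow_comm zpP zpP_comm f)
      have hg1 : g ∈ Hst G31671 bpt 1 := mem_Hst1_of_fix g hg h0
      have hm1 : (xP ^ i * ipow zpP f)⁻¹ * g ∈ Hst G31671 bpt 1 :=
        (Hst G31671 bpt 1).mul_mem ((Hst G31671 bpt 1).inv_mem hc1) hg1
      have hgc : ((xP ^ i * ipow zpP f)⁻¹ * g) * xP = xP * ((xP ^ i * ipow zpP f)⁻¹ * g) := by
        have h1 : Commute ((xP ^ i * ipow zpP f)⁻¹ * g) xP := hcc.inv_left.mul_left hc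
        exact h1.eq
      have hb1 : ((xP ^ i * ipow zpP f)⁻¹ * g) (bpt 1) = bpt 1 := by
        rw [Equiv.Perm.mul_apply, Equiv.Perm.inv_eq_iff_eq]
        apply Fin.ext
        rw [Equiv.Perm.mul_apply, acts_xpow i, zp_pow_apply f, bpt_val 1 (by norm_num)]
        exact hq3'.symm
      have h7 : (xP ^ i * ipow zpP f)⁻¹ * g ∈ Hst G31671 bpt 7 := by
        rw [mem_Hst] at hm1 ⊢
        refine ⟨hm1.1, fun j hj => ?_⟩
        rcases Nat.eq_zero_or_pos j with rfl | hpos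
        · exact hm1.2 0 (by norm_num)
        · obtain ⟨k, rfl⟩ : ∃ k, j = k + 1 := ⟨j - 1, by omega⟩
          rw [comm_bpt _ hgc k (by omega), hb1, xpow_bpt k (by omega)]
      rcases Hst7_cases _ h7 with e1 | e1
      · refine ⟨i, hi11, f, hf2, 0, by norm_num, ?_⟩
        have : ipow z0P 0 = 1 := if_pos rfl
        rw [this, mul_one]
        calc g = (xP ^ i * ipow zpP f) * ((xP ^ i * ipow zpP f)⁻¹ * g) := by group
          _ = xP ^ i * ipow zpP f := by rw [e1, mul_one]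
      · refine ⟨i, hi11, f, hf2, 1, by norm_num, ?_⟩
        have : ipow z0P 1 = z0P := if_neg (by norm_num)
        rw [this]
        calc g = (xP ^ i * ipow zpP f) * ((xP ^ i * ipow zpP f)⁻¹ * g) := by group
          _ = xP ^ i * ipow zpP f * z0P := by rw [e1]
  · exfalso
    apply sift_contra g hg hc
    rw [h0, up0_spec]
    exact cq1_chk _ (g (bpt 1)).2

end Cfsg.Agent.Helper29.Fi3
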