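import Mathlib
import Cfsg.Agent.Lib.Helper29.Fi3Cen

set_option autoImplicit false
set_option maxRecDepth 8000
open Cfsg

/-! The involutions of the centraliser of an element of order eleven in the Fischer group Fi23
on 31671 points, and the survivors of the filter. -/

namespace Cfsg.Agent.Helper29.Fi3

open Cfsg.Agent.Helper29.HSP (tg force force_eq allBelow allBelow_iff)
open Cfsg.Agent.Helper29.PT
open Cfsg.Agent.Helper29.PW (unpackW elF)
open Cfsg.Agent.Helper29.Fi3M Cfsg.Agent.Helper29.Fi3D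
open Cfsg.Agent.Helper29.PN (Hst mem_Hst card_step_le)

/-! ### The involutions of the centraliser -/

theorem orderOf_xP : orderOf xP = 11 := by
  have : Fact (Nat.Prime 11) := ⟨by norm_num⟩
  exact orderOf_eq_prime xP_pow11 xP_ne_one

theorem sq_mul_of_commute {M : Type*} [Group M] (a b : M) (h : Commute a b) (ha : a * a = 1)
    (hb : b * b = 1) : (a * b) * (a * b) = 1 := by
  calc (a * b) * (a * b) = a * (b * a) * b := by group
    _ = a * (a * b) * b := by rw [h.eq]
    _ = (a * a) * (b * b) := by group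
    _ = 1 := by rw [ha, hb, one_mul]

theorem sq_of_commute {M : Type*} [Group M] (a s : M) (h : Commute a s) (hs : s * s = 1)
    (hg : (a * s) * (a * s) = 1) : a * a = 1 := by
  have e : (a * s) * (a * s) = (a * a) * (s * s) := by
    calc (a * s) * (a * s) = a * (s * a) * s := by group
      _ = a * (a * s) * s := by rw [h.eq]
      _ = (a * a) * (s * s) := by group
  rw [e, hs, mul_one] at hg
  exact hg

theorem ipow_sq (z : Pm) (hz : z * z = 1) (e : ℕ) : ipow z e * ipow z e = 1 := by
  unfold ipow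
  split_ifs
  · rw [one_mul]
  · exact hz

theorem ipow_commute (z w : Pm) (h : Commute z w) (e : ℕ) : Commute (ipow z e) w := by
  unfold ipow
  split_ifs
  · exact Commute.one_left w
  · exact h

theorem ipow_commute_right (z w : Pm) (h : Commute z w) (e : ℕ) : Commute z (ipow w e) :=
  (ipow_commute w z h.symm e).symm

/-- the involutions commuting with the element of order eleven -/
theorem invol_cases (g : Pm) (hg : g ∈ G31671) (hc : g * xP = xP * g) (h2 : g * g = 1)
    (h1 : g ≠ 1) : g = z0P ∨ g = zpP ∨ g = zpP * z0P := by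
  obtain ⟨i, hi, f, _, e, _, rfl⟩ := cent_cases g hg hc
  have hzz : Commute (ipow zpP f) (ipow z0P e) :=
    ipow_commute zpP _ (ipow_commute_right zpP z0P z0_zp_comm e) f
  have hs : (ipow zpP f * ipow z0P e) * (ipow zpP f * ipow z0P e) = 1 :=
    sq_mul_of_commute _ _ hzz (ipow_sq zpP zpP_sq f) (ipow_sq z0P z0P_sq e)
  have hxs : Commute (xP ^ i) (ipow zpP f * ipow z0P e) := by
    have h3 : Commute (ipow zpP f * ipow z0P e) xP :=
      (ipow_commute zpP xP zpP_comm f).mul_left (ipow_commute z0P xP z0P_comm e)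
    exact (h3.pow_right i).symm
  have ea : xP ^ i * ipow zpP f * ipow z0P e = xP ^ i * (ipow zpP f * ipow z0P e) :=
    mul_assoc _ _ _
  rw [ea] at h2 h1 ⊢
  have hx2 : xP ^ i * xP ^ i = 1 := sq_of_commute (xP ^ i) (ipow zpP f * ipow z0P e) hxs hs h2
  rw [← pow_add] at hx2
  have hd : 11 ∣ i + i := by
    rw [← orderOf_xP]
    exact orderOf_dvd_of_pow_eq_one hx2
  have hi0 : i = 0 := by omega
  subst hi0
  rw [pow_zero, one_mul] at h1 ⊢
  have ez : ∀ z : Pm, ∀ k : ℕ, ipow z k = 1 ∨ ipow z k = z := by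
    intro z k
    unfold ipow
    split_ifs
    · exact Or.inl rfl
    · exact Or.inr rfl
  rcases ez zpP f with e1 | e1 <;> rcases ez z0P e with e2 | e2 <;> rw [e1, e2] at h1 ⊢
  · exact absurd (one_mul 1) h1
  · left
    rw [one_mul]
  · right; left
    rw [mul_one]
  · right; right
    rfl

theorem inL_zp : InL zpP := ⟨pP, by rw [pP_val]; rfl⟩

theorem z0P_ne_zpP : z0P ≠ zpP := by
  intro e
  have h1 := acts_z0P ⟨1, by norm_num⟩
  rw [e, zpP_apply] at h1
  exact sv_spec.2.2.2.2.2.1 h1.symm

/-- the product of the two commuting transpositions is not a transposition -/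
theorem zz_not_inL : ¬ InL (zpP * z0P) := by
  rintro ⟨p, hp⟩
  have h := zz_chk0 p.val p.2
  unfold zzP at h
  rw [force_eq, force_eq, Bool.and_eq_true, Bool.not_eq_true'] at h
  obtain ⟨h1, h2⟩ := h
  have hw : tg ZZW 15 p.val < 31671 := Eq.mp Nat.blt_eq h1
  have e1 := tP_apply p.val p.2 ⟨_, hw⟩
  rw [← hp, z0_zp_comm, Equiv.Perm.mul_apply, acts_z0P, zpP_apply] at e1
  unfold tApp at e1
  rw [← e1, Nat.beq_refl] at h2
  exact Bool.noConfusion h2

/-! ### The survivors of the filter -/

theorem tP_conj_y (c : Pm) (hc : c ∈ G31671) : tP (c pY).val = c * yP * c⁻¹ := by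
  rw [← conj_tP c hc pY, pY_val, ← yP_eq]

/-- the transpositions of the first four representatives are conjugates of the second generator
under the centraliser of the first one -/
theorem sv_conj (r : ℕ) (hr : r < NSV) :
    ∃ c ∈ G31671, c * xP = xP * c ∧ tP (rp r) = c * yP * c⁻¹ := by
  obtain ⟨s0, s1, s2, s3, _, _, s7⟩ := sv_spec
  rw [s7] at hr
  interval_cases r
  · refine ⟨1, G31671.one_mem, by rw [one_mul, mul_one], ?_⟩
    rw [s0, one_mul, inv_one, mul_one, yP_eq]
  · refine ⟨z0P, z0P_mem, z0P_comm, ?_⟩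
    rw [← tP_conj_y z0P z0P_mem, acts_z0P, pY_val, s1]
  · refine ⟨zpP, zpP_mem, zpP_comm, ?_⟩
    rw [← tP_conj_y zpP zpP_mem, zpP_apply, pY_val, s2]
  · refine ⟨z0P * zpP, G31671.mul_mem z0P_mem zpP_mem, ?_, ?_⟩
    · have h1 : Commute (z0P * zpP) xP := (show Commute z0P xP from z0P_comm).mul_left zpP_comm
      exact h1.eq
    · rw [← tP_conj_y _ (G31671.mul_mem z0P_mem zpP_mem), Equiv.Perm.mul_apply, acts_z0P,
        zpP_apply, pY_val, s3]

end Cfsg.Agent.Helper29.Fi3
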