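import Mathlib
import Cfsg.Agent.Lib.Helper29.Fi3Inv
import Cfsg.Agent.Lib.Helper29.Fi3Gen
import Cfsg.Agent.Lib.Helper26.AutInner

set_option autoImplicit false
set_option maxRecDepth 8000
open Cfsg

/-! The automorphisms of the Fischer group Fi23 on 31671 points are inner. -/

namespace Cfsg.Agent.Helper29.Fi3

open Cfsg.Agent.Helper29.HSP (tg force force_eq allBelow allBelow_iff)
open Cfsg.Agent.Helper29.PT
open Cfsg.Agent.Helper29.PW (unpackW elF)
open Cfsg.Agent.Helper29.Fi3M Cfsg.Agent.Helper29.Fi3D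
open Cfsg.Agent.Helper29.PN (Hst mem_Hst card_step_le)
open Cfsg.Agent.Helper29.HSXG Cfsg.Agent.Helper29.Fi3G Cfsg.Agent.Helper26

/-! ### The elements -/

/-- the element of order eleven -/
noncomputable def xE : ↥G31671 := ⟨xP, xP_mem⟩
/-- the second generator -/
noncomputable def yE : ↥G31671 := ⟨yP, yP_mem⟩
/-- the central involution of the point stabiliser -/
noncomputable def z0E : ↥G31671 := ⟨z0P, z0P_mem⟩
/-- the second commuting transposition -/
noncomputable def zpE : ↥G31671 := ⟨zpP, zpP_mem⟩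

theorem wn_letters : ∀ l ∈ Wn, l < 13 := by
  have h := n_chk
  unfold nOK at h
  rw [Bool.and_eq_true, List.all_eq_true] at h
  exact fun l hl => Eq.mp Nat.blt_eq (h.1 l hl)

/-- the normalising element -/
noncomputable def nE : ↥G31671 := ⟨evalW2 Wn, evalW2_mem _ wn_letters⟩

theorem xE_pow11 : xE ^ 11 = 1 := by
  apply Subtype.ext
  rw [Subgroup.coe_pow]
  exact xP_pow11

theorem xE_ne_one : xE ≠ 1 := fun h => xP_ne_one (congrArg Subtype.val h)

theorem ext_base {g h : ↥G31671} (hb : ∀ k < 8, g.val (bpt k) = h.val (bpt k)) : g = h :=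
  Subtype.ext (eq_of_base g.2 h.2 hb)

theorem val_mul_apply (a b : ↥G31671) (u : Fin 31671) : (a * b).val u = a.val (b.val u) := rfl

theorem nE_conj : nE * xE * nE⁻¹ = xE ^ 2 := by
  rw [mul_inv_eq_iff_eq_mul]
  apply ext_base
  intro k hk
  apply Fin.ext
  have e : (xE ^ 2).val = xP * xP := by
    rw [Subgroup.coe_pow, pow_two]
    rfl
  have e1 : nE.val = evalW2 Wn := rfl
  have e2 : xE.val = xP := rfl
  rw [val_mul_apply, val_mul_apply, e, e1, e2, evalW2_apply _ wn_letters, acts_xP,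
    Equiv.Perm.mul_apply, acts_xP, acts_xP, evalW2_apply _ wn_letters, bpt_val k hk]
  have h := n_chk
  unfold nOK at h
  rw [Bool.and_eq_true, allBelow_iff] at h
  exact Nat.eq_of_beq_eq_true (h.2 k hk)

theorem not_121_dvd : ¬ 121 ∣ Nat.card ↥G31671 := by
  rw [card_G31671]
  norm_num

/-- every automorphism moves `xE` to a conjugate of it -/
theorem stepA (φ : MulAut ↥G31671) : ∃ g : ↥G31671, (MulAut.conj g * φ) xE = xE := by
  have := finite_G31671
  obtain ⟨g, hg⟩ := exists_conj_eq_of_eleven_sq xE nE xE_pow11 xE_ne_one not_121_dvd nE_conj φ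
  refine ⟨g, ?_⟩
  rw [MulAut.mul_apply, MulAut.conj_apply]
  exact hg

/-! ### The commuting involutions -/

theorem z0E_sq : z0E * z0E = 1 := Subtype.ext z0P_sq

theorem zpE_sq : zpE * zpE = 1 := Subtype.ext zpP_sq

theorem z0E_ne_one : z0E ≠ 1 := fun h => z0P_ne_one (congrArg Subtype.val h)

theorem zpE_ne_one : zpE ≠ 1 := fun h => tP_ne_one P0p (congrArg Subtype.val h)

theorem z0E_comm : z0E * xE = xE * z0E := Subtype.ext z0P_comm

theorem zpE_comm : zpE * xE = xE * zpE := Subtype.ext zpP_comm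

theorem z0E_ne_zpE : z0E ≠ zpE := fun h => z0P_ne_zpP (congrArg Subtype.val h)

/-- the image of an involution commuting with `xE` under an automorphism fixing `xE` -/
theorem image_invol (ψ : MulAut ↥G31671) (hx : ψ xE = xE) (t : ↥G31671) (h2 : t * t = 1)
    (h1 : t ≠ 1) (hc : t * xE = xE * t) :
    (ψ t).val = z0P ∨ (ψ t).val = zpP ∨ (ψ t).val = zpP * z0P := by
  apply invol_cases (ψ t).val (ψ t).2
  · have h : ψ t * ψ xE = ψ xE * ψ t := by rw [← map_mul, ← map_mul, hc]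
    rw [hx] at h
    exact congrArg Subtype.val h
  · have h : ψ t * ψ t = 1 := by rw [← map_mul, h2, map_one]
    exact congrArg Subtype.val h
  · intro h
    have h3 : ψ t = 1 := Subtype.ext h
    exact h1 (ψ.injective (h3.trans (map_one ψ).symm))

theorem coe_conj (a b : ↥G31671) : (a * b * a⁻¹).val = a.val * b.val * (a.val)⁻¹ := rfl

/-- the two commuting transpositions are conjugate -/
theorem zpE_conj : ∃ u : ↥G31671, zpE = u * z0E * u⁻¹ := by
  refine ⟨⟨uE 0 pP.val, (uE0_spec pP).1⟩, ?_⟩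
  apply Subtype.ext
  rw [coe_conj]
  show zpP = uE 0 pP.val * z0P * (uE 0 pP.val)⁻¹
  rw [pP_val]
  rfl

/-- an automorphism fixing `xE` maps the central involution to a transposition -/
theorem image_z0 (ψ : MulAut ↥G31671) (hx : ψ xE = xE) : InL (ψ z0E).val := by
  obtain ⟨u, hu⟩ := zpE_conj
  have hconj : ψ zpE = ψ u * ψ z0E * (ψ u)⁻¹ := by
    rw [hu, map_mul, map_mul, map_inv]
  have hne : (ψ z0E).val ≠ (ψ zpE).val := by
    intro h
    exact z0E_ne_zpE (ψ.injective (Subtype.ext h))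
  rcases image_invol ψ hx z0E z0E_sq z0E_ne_one z0E_comm with h | h | h
  · rw [h]
    exact inL_z0
  · rw [h]
    exact inL_zp
  · exfalso
    rcases image_invol ψ hx zpE zpE_sq zpE_ne_one zpE_comm with h' | h' | h'
    · -- the image of the first one is a conjugate of a transposition
      have e : (ψ z0E).val = ((ψ u)⁻¹).val * (ψ zpE).val * (((ψ u)⁻¹).val)⁻¹ := by
        rw [← coe_conj, hconj]
        congr 1
        group
      rw [h, h'] at e
      apply zz_not_inL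
      rw [e]
      exact inL_conj _ ((ψ u)⁻¹).2 _ inL_z0
    · have e : (ψ z0E).val = ((ψ u)⁻¹).val * (ψ zpE).val * (((ψ u)⁻¹).val)⁻¹ := by
        rw [← coe_conj, hconj]
        congr 1
        group
      rw [h, h'] at e
      apply zz_not_inL
      rw [e]
      exact inL_conj _ ((ψ u)⁻¹).2 _ inL_zp
    · exact hne (h.trans h'.symm)

/-- an automorphism fixing `xE` maps transpositions to transpositions -/
theorem inL_image (ψ : MulAut ↥G31671) (hx : ψ xE = xE) (t : ↥G31671) (ht : InL t.val) :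
    InL (ψ t).val := by
  obtain ⟨p, hp⟩ := ht
  have e1 : t = (⟨uE 0 p.val, (uE0_spec p).1⟩ : ↥G31671) * z0E *
      (⟨uE 0 p.val, (uE0_spec p).1⟩ : ↥G31671)⁻¹ := by
    apply Subtype.ext
    rw [coe_conj, hp]
    rfl
  have e2 : ψ t = ψ ⟨uE 0 p.val, (uE0_spec p).1⟩ * ψ z0E *
      (ψ ⟨uE 0 p.val, (uE0_spec p).1⟩)⁻¹ := by
    rw [e1, map_mul, map_mul, map_inv]
  rw [e2, coe_conj]
  exact inL_conj _ (ψ ⟨uE 0 p.val, (uE0_spec p).1⟩).2 _ (image_z0 ψ hx)

/-! ### The relations -/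

theorem coe_relEl (x t : ↥G31671) (E : List ℕ) : (relEl x t E).val = relEl x.val t.val E :=
  map_relEl G31671.subtype x t E

theorem rel_yE : ∀ r ∈ RL, relEl xE yE r.1 ^ r.2 = 1 := by
  intro r hr
  apply Subtype.ext
  rw [Subgroup.coe_pow, coe_relEl]
  exact rel_y r hr

/-- conjugation by a power of `xE` of a syllable word -/
theorem relEl_conj (j : ℕ) (t : ↥G31671) (E : List ℕ) :
    (xE ^ j)⁻¹ * relEl xE t E * xE ^ j = relEl xE ((xE ^ j)⁻¹ * t * xE ^ j) E := by
  have h := map_relEl (MulAut.conj ((xE ^ j)⁻¹)).toMonoidHom xE t E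
  rw [MulEquiv.coe_toMonoidHom, MulAut.conj_apply, MulAut.conj_apply, MulAut.conj_apply,
    inv_inv] at h
  rw [h]
  congr 1
  have : Commute (xE ^ j) xE := (Commute.refl xE).pow_left j
  calc (xE ^ j)⁻¹ * xE * xE ^ j = (xE ^ j)⁻¹ * (xE * xE ^ j) := by group
    _ = (xE ^ j)⁻¹ * (xE ^ j * xE) := by rw [this.eq]
    _ = xE := by group

theorem pow_conj_one {M : Type*} [Group M] (a b : M) (m : ℕ) (h : b ^ m = 1) :
    (a⁻¹ * b * a) ^ m = 1 := by
  have : a⁻¹ * b * a = MulAut.conj a⁻¹ b := by rw [MulAut.conj_apply, inv_inv]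
  rw [this, ← map_pow, h, map_one]

/-- an automorphism fixing `xE` maps `yE` to a conjugate by an element of the centraliser -/
theorem image_fix (ψ : MulAut ↥G31671) (hx : ψ xE = xE) :
    ∃ c : ↥G31671, c * xE = xE * c ∧ ψ yE = c * yE * c⁻¹ := by
  obtain ⟨r, hr, j, _, hlt, hact⟩ := inL_rep (ψ yE).val (inL_image ψ hx yE inL_y)
  have hval : ((xE ^ j)⁻¹ * ψ yE * xE ^ j).val = (xP ^ j)⁻¹ * (ψ yE).val * xP ^ j := by
    rw [Subgroup.coe_mul, Subgroup.coe_mul, Subgroup.coe_inv, Subgroup.coe_pow]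
    rfl
  have hrel : ∀ rr ∈ RL, relEl xP (tP (rp r)) rr.1 ^ rr.2 = 1 := by
    intro rr hrr
    have h3 : relEl xE (ψ yE) rr.1 ^ rr.2 = 1 := by
      have : relEl xE (ψ yE) rr.1 = ψ (relEl xE yE rr.1) := by
        have := map_relEl ψ.toMonoidHom xE yE rr.1
        rw [MulEquiv.coe_toMonoidHom, hx] at this
        exact this.symm
      rw [this, ← map_pow, rel_yE rr hrr, map_one]
    have h4 := pow_conj_one (xE ^ j) _ rr.2 h3
    rw [relEl_conj] at h4
    have h5 := congrArg Subtype.val h4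
    rw [Subgroup.coe_pow, coe_relEl, hval, hact] at h5
    exact h5
  have hsv := filt_spec r hr hlt hrel
  obtain ⟨c, hcm, hcc, hce⟩ := sv_conj r hsv
  refine ⟨xE ^ j * ⟨c, hcm⟩, ?_, ?_⟩
  · have h1 : Commute (xE ^ j) xE := (Commute.refl xE).pow_left j
    have h2 : Commute (⟨c, hcm⟩ : ↥G31671) xE := Subtype.ext hcc
    exact (h1.mul_left h2).eq
  · have e2 : (xE ^ j)⁻¹ * ψ yE * xE ^ j = (⟨c, hcm⟩ : ↥G31671) * yE * (⟨c, hcm⟩ : ↥G31671)⁻¹ := by
      apply Subtype.ext
      rw [hval, hact, hce]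
      rfl
    calc ψ yE = xE ^ j * ((xE ^ j)⁻¹ * ψ yE * xE ^ j) * (xE ^ j)⁻¹ := by group
      _ = xE ^ j * ((⟨c, hcm⟩ : ↥G31671) * yE * (⟨c, hcm⟩ : ↥G31671)⁻¹) * (xE ^ j)⁻¹ := by rw [e2]
      _ = xE ^ j * ⟨c, hcm⟩ * yE * (xE ^ j * ⟨c, hcm⟩)⁻¹ := by group

/-! ### Generation -/

theorem closure_xy : Subgroup.closure ({xE, yE} : Set ↥G31671) = ⊤ := by
  rw [eq_top_iff]
  intro g _
  have hg : g.val ∈ Gxy := by
    rw [Gxy_eq]
    exact g.2
  unfold Gxy at hg
  have key : ∀ p : Pm, p ∈ Subgroup.closure ({xP, yP} : Set Pm) → ∀ hp : p ∈ G31671,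
      (⟨p, hp⟩ : ↥G31671) ∈ Subgroup.closure ({xE, yE} : Set ↥G31671) := by
    intro p hp
    induction hp using Subgroup.closure_induction with
    | mem x hx =>
      intro hp
      apply Subgroup.subset_closure
      rcases hx with rfl | hx
      · left; rfl
      · right
        rw [Set.mem_singleton_iff] at hx ⊢
        exact Subtype.ext hx
    | one =>
      intro hp
      exact Subgroup.one_mem _
    | mul x y hx' hy' hx hy =>
      intro hp
      have hxm : x ∈ G31671 := Gxy_le hx'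
      have hym : y ∈ G31671 := Gxy_le hy'
      have : (⟨x * y, hp⟩ : ↥G31671) = ⟨x, hxm⟩ * ⟨y, hym⟩ := rfl
      rw [this]
      exact Subgroup.mul_mem _ (hx hxm) (hy hym)
    | inv x hx' hx =>
      intro hp
      have hxm : x ∈ G31671 := Gxy_le hx'
      have : (⟨x⁻¹, hp⟩ : ↥G31671) = (⟨x, hxm⟩ : ↥G31671)⁻¹ := rfl
      rw [this]
      exact Subgroup.inv_mem _ (hx hxm)
  exact key g.val hg g.2

theorem aut_ext {φ ψ : MulAut ↥G31671} (hx : φ xE = ψ xE) (hy : φ yE = ψ yE) : φ = ψ := by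
  have key : φ.toMonoidHom = ψ.toMonoidHom := by
    apply MonoidHom.eq_of_eqOn_dense closure_xy
    rintro x (rfl | rfl)
    · exact hx
    · exact hy
  exact MulEquiv.ext (fun x => DFunLike.congr_fun key x)

/-- an automorphism fixing `xE` is inner -/
theorem inner_of_fix (ψ : MulAut ↥G31671) (hx : ψ xE = xE) :
    ∃ g : ↥G31671, ψ = MulAut.conj g := by
  obtain ⟨c, hc, hy⟩ := image_fix ψ hx
  refine ⟨c, ?_⟩
  apply aut_ext
  · rw [hx, MulAut.conj_apply, hc]
    group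
  · rw [hy, MulAut.conj_apply]

/-! ### Every automorphism is inner -/

theorem aut_inner (φ : MulAut ↥G31671) : ∃ g : ↥G31671, φ = MulAut.conj g := by
  obtain ⟨g1, hx⟩ := stepA φ
  obtain ⟨ψ, hψ⟩ : ∃ ψ : MulAut ↥G31671, ψ = MulAut.conj g1 * φ := ⟨_, rfl⟩
  rw [← hψ] at hx
  have hφ : φ = MulAut.conj g1⁻¹ * ψ := by
    rw [hψ, map_inv]
    group
  obtain ⟨c, hc⟩ := inner_of_fix ψ hx
  exact ⟨g1⁻¹ * c, by rw [hφ, hc, map_mul]⟩

theorem card_Out_G31671 : Nat.card (Cfsg.Out ↥G31671) = 1 := AutInner.card_Out_eq_one aut_inner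

/-! ### Transport to the Fischer group -/

theorem card_Out_congr_Fi3 {Γ Δ : Type*} [Group Γ] [Group Δ] (e : Γ ≃* Δ) :
    Nat.card (Cfsg.Out Γ) = Nat.card (Cfsg.Out Δ) := by
  have hmap : (Cfsg.Inn Γ).map (MulAut.congr e).toMonoidHom = Cfsg.Inn Δ := by
    ext ψ
    constructor
    · rintro ⟨φ, ⟨g, rfl⟩, rfl⟩
      refine ⟨e g, ?_⟩
      ext x
      simp [MulAut.congr, MulAut.conj_apply]
    · rintro ⟨d, rfl⟩
      refine ⟨MulAut.conj (e.symm d), ⟨e.symm d, rfl⟩, ?_⟩
      ext x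
      simp [MulAut.congr, MulAut.conj_apply]
  exact Nat.card_congr
    (QuotientGroup.congr (Cfsg.Inn Γ) (Cfsg.Inn Δ) (MulAut.congr e) hmap).toEquiv

/-- **The outer automorphism group of the Fischer group Fi23 is trivial.** -/
theorem card_Out_Fi23 : Nat.card (Cfsg.Out Cfsg.Spor.Fi23) = 1 := by
  rw [card_Out_congr_Fi3 fiEquiv]
  exact card_Out_G31671

end Cfsg.Agent.Helper29.Fi3
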