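import Mathlib
import Cfsg.Agent.Lib.Helper29.PermW

set_option autoImplicit false

/-! Equality of words for permutations given by packed tables with twelve bits per entry. -/

namespace Cfsg.Agent.Helper29.PW

open Cfsg.Agent.Helper29.HSP (tg force force_eq allBelow allBelow_iff)

/-- two words in letters acting by codes agree as boolean -/
def weqL (n : ℕ) (CL : List ℕ) (w v : List ℕ) : Bool :=
  allBelow n fun y => Nat.beq (appL CL w y) (appL CL v y)

theorem prod_eq_of_weqL {n : ℕ} (CL : List ℕ) (ge : ℕ → Equiv.Perm (Fin n)) (w v : List ℕ)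
    (hw : ∀ l ∈ w, Acts n (ge l) (CL.getD l 0)) (hv : ∀ l ∈ v, Acts n (ge l) (CL.getD l 0))
    (h : weqL n CL w v = true) : (w.map ge).prod = (v.map ge).prod := by
  apply Equiv.ext
  intro u
  apply Fin.ext
  rw [prod_apply_of CL ge w hw u, prod_apply_of CL ge v hv u]
  unfold weqL at h
  rw [allBelow_iff] at h
  exact Nat.eq_of_beq_eq_true (h u.val u.2)

theorem prod_ne_of_appL {n : ℕ} (CL : List ℕ) (ge : ℕ → Equiv.Perm (Fin n)) (w v : List ℕ)
    (hw : ∀ l ∈ w, Acts n (ge l) (CL.getD l 0)) (hv : ∀ l ∈ v, Acts n (ge l) (CL.getD l 0))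
    (y : ℕ) (hy : y < n) (h : appL CL w y ≠ appL CL v y) : (w.map ge).prod ≠ (v.map ge).prod := by
  intro e
  apply h
  have h1 := prod_apply_of CL ge w hw ⟨y, hy⟩
  have h2 := prod_apply_of CL ge v hv ⟨y, hy⟩
  rw [e] at h1
  exact h1.symm.trans h2

end Cfsg.Agent.Helper29.PW
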