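import Mathlib
import Cfsg.Prelude.Def_Spor_Fi22
import Cfsg.Agent.Lib.Helper29.PermWSlp
import Cfsg.Agent.Lib.Helper29.FiData
import Cfsg.Agent.S1696

set_option autoImplicit false
open Cfsg

/-! The Fischer group Fi22 on 3510 points: the nine generators of the presentation act by
explicit permutations, and since the presented group is simple the action is faithful. -/

namespace Cfsg.Agent.Helper29.FiM

open Cfsg.Agent.Helper29.HSP (tg force force_eq allBelow allBelow_iff)
open Cfsg.Agent.Helper29.PW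
open Cfsg.Spor

instance : NeZero 3510 := ⟨by norm_num⟩

/-- the code of the generator `k` -/
def pc (k : ℕ) : ℕ := FiD.PC.getD k 0

set_option maxRecDepth 100000 in
theorem valid_chk : ∀ k < 9, validC 3510 (pc k) (pc k) = true := by decide +kernel

/-- the generators as permutations -/
def gp (k : ℕ) : Equiv.Perm (Fin 3510) := cP 3510 (pc k) (pc k)

theorem acts_gp (k : ℕ) (hk : k < 9) : Acts 3510 (gp k) (pc k) := acts_cP (valid_chk k hk)

theorem acts_gp_inv (k : ℕ) (hk : k < 9) : Acts 3510 (gp k)⁻¹ (pc k) :=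
  acts_cP_inv (valid_chk k hk)

theorem gp_inv (k : ℕ) (hk : k < 9) : (gp k)⁻¹ = gp k :=
  eq_of_acts (acts_gp_inv k hk) (acts_gp k hk)

/-- the explicit group -/
def G3510 : Subgroup (Equiv.Perm (Fin 3510)) := Subgroup.closure {g | ∃ k < 9, gp k = g}

theorem gp_mem (k : ℕ) (hk : k < 9) : gp k ∈ G3510 := Subgroup.subset_closure ⟨k, hk, rfl⟩

theorem PC_length : FiD.PC.length = 9 := by decide

theorem acts_ge : ∀ l < FiD.PC.length, Acts 3510 (gp l) (FiD.PC.getD l 0) := by
  intro l hl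
  rw [PC_length] at hl
  exact acts_gp l hl

/-- the permutation of a word -/
def evalW (w : List ℕ) : Equiv.Perm (Fin 3510) := (w.map gp).prod

theorem evalW_mem (w : List ℕ) (hw : ∀ l ∈ w, l < 9) : evalW w ∈ G3510 := by
  apply Subgroup.list_prod_mem
  intro x hx
  obtain ⟨l, hl, rfl⟩ := List.mem_map.1 hx
  exact gp_mem l (hw l hl)

theorem evalW_apply (w : List ℕ) (hw : ∀ l ∈ w, l < 9) (u : Fin 3510) :
    (evalW w u).val = appL FiD.PC w u.val :=
  prod_apply FiD.PC gp acts_ge w (by rw [PC_length]; exact hw) u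

theorem evalW_append (w v : List ℕ) : evalW (w ++ v) = evalW w * evalW v := by
  unfold evalW
  rw [List.map_append, List.prod_append]

theorem acts_evalW {c : ℕ} {w : List ℕ} (h : reprL 3510 FiD.PC c w = true) :
    Acts 3510 (evalW w) c :=
  acts_of_reprL FiD.PC gp acts_ge h

theorem evalW_eq (w v : List ℕ) (hw : ∀ l ∈ w, l < 9) (hv : ∀ l ∈ v, l < 9)
    (h : weqL 3510 FiD.PC w v = true) : evalW w = evalW v :=
  prod_eq_of_weqL FiD.PC gp w v (fun l hl => acts_gp l (hw l hl)) (fun l hl => acts_gp l (hv l hl)) h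

/-! ### The relators -/

/-- the number of a generator -/
def gidx : Fi22.Gen → ℕ
  | .a => 0
  | .b => 1
  | .c => 2
  | .d => 3
  | .e => 4
  | .f => 5
  | .g => 6
  | .h => 7
  | .i => 8

theorem gidx_lt (x : Fi22.Gen) : gidx x < 9 := by cases x <;> decide

/-- the image of a generator -/
def gmap (x : Fi22.Gen) : Equiv.Perm (Fin 3510) := gp (gidx x)

/-- the labels as a table -/
def labT : List ℕ :=
  [1, 3, 2, 2, 2, 2, 2, 2, 2,
   3, 1, 3, 2, 2, 2, 2, 2, 2,
   2, 3, 1, 3, 2, 2, 2, 2, 2,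
   2, 2, 3, 1, 3, 2, 2, 3, 2,
   2, 2, 2, 3, 1, 3, 2, 2, 2,
   2, 2, 2, 2, 3, 1, 3, 2, 2,
   2, 2, 2, 2, 2, 3, 1, 2, 2,
   2, 2, 2, 3, 2, 2, 2, 1, 3,
   2, 2, 2, 2, 2, 2, 2, 3, 1]

theorem lab_eq (x y : Fi22.Gen) : coxLabel Fi22.edges x y = labT.getD (9 * gidx x + gidx y) 0 := by
  cases x <;> cases y <;> decide

/-- a word repeated -/
def repW (w : List ℕ) : ℕ → List ℕ
  | 0 => []
  | m + 1 => w ++ repW w m

theorem evalW_repW (w : List ℕ) (m : ℕ) : evalW (repW w m) = evalW w ^ m := by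
  induction m with
  | zero => rfl
  | succ m ih =>
    show evalW (w ++ repW w m) = _
    rw [evalW_append, ih, pow_succ']

theorem repW_letters (w : List ℕ) (hw : ∀ l ∈ w, l < 9) (m : ℕ) : ∀ l ∈ repW w m, l < 9 := by
  induction m with
  | zero => intro l hl; cases hl
  | succ m ih =>
    intro l hl
    change l ∈ w ++ repW w m at hl
    rcases List.mem_append.1 hl with hl | hl
    · exact hw l hl
    · exact ih l hl

theorem evalW_pair (i j : ℕ) : evalW [i, j] = gp i * gp j := by
  simp only [evalW, List.map_cons, List.map_nil, List.prod_cons, List.prod_nil, mul_one]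

set_option maxRecDepth 100000 in
theorem cox_chk : ∀ i < 9, ∀ j < 9,
    weqL 3510 FiD.PC (repW [i, j] (labT.getD (9 * i + j) 0)) [] = true := by decide +kernel

theorem cox_rel (x y : Fi22.Gen) : (gmap x * gmap y) ^ coxLabel Fi22.edges x y = 1 := by
  rw [lab_eq]
  unfold gmap
  rw [← evalW_pair, ← evalW_repW]
  have h := evalW_eq _ [] (repW_letters [gidx x, gidx y] (by
      intro l hl
      simp only [List.mem_cons, List.not_mem_nil, or_false] at hl
      rcases hl with rfl | rfl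
      · exact gidx_lt x
      · exact gidx_lt y) _) (by intro l hl; cases hl)
    (cox_chk _ (gidx_lt x) _ (gidx_lt y))
  rw [h]
  rfl

set_option maxRecDepth 100000 in
theorem extra_chk : weqL 3510 FiD.PC (repW [3, 2, 1, 3, 4, 5, 3, 7, 8] 10) [] = true ∧
    weqL 3510 FiD.PC (repW [0, 1, 2, 3, 4, 5, 7] 9) [] = true ∧
    weqL 3510 FiD.PC (repW [1, 2, 3, 4, 5, 6, 7] 9) [] = true := by
  decide +kernel

theorem evalW_nil : evalW [] = 1 := rfl

theorem evalW_single (i : ℕ) : evalW [i] = gp i := by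
  simp only [evalW, List.map_cons, List.map_nil, List.prod_cons, List.prod_nil, mul_one]

theorem extra1 : (gp 3 * gp 2 * gp 1 * gp 3 * gp 4 * gp 5 * gp 3 * gp 7 * gp 8) ^ 10 = 1 := by
  have h := evalW_eq (repW [3, 2, 1, 3, 4, 5, 3, 7, 8] 10) [] (repW_letters _ (by decide) _)
    (by decide) extra_chk.1
  have e : evalW [3, 2, 1, 3, 4, 5, 3, 7, 8] =
      gp 3 * gp 2 * gp 1 * gp 3 * gp 4 * gp 5 * gp 3 * gp 7 * gp 8 := by
    simp only [evalW, List.map_cons, List.map_nil, List.prod_cons, List.prod_nil, mul_one,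
      mul_assoc]
  rw [evalW_repW, evalW_nil, e] at h
  exact h

theorem extra2 : (gp 0 * gp 1 * gp 2 * gp 3 * gp 4 * gp 5 * gp 7) ^ 9 = 1 := by
  have h := evalW_eq (repW [0, 1, 2, 3, 4, 5, 7] 9) [] (repW_letters _ (by decide) _)
    (by decide) extra_chk.2.1
  have e : evalW [0, 1, 2, 3, 4, 5, 7] = gp 0 * gp 1 * gp 2 * gp 3 * gp 4 * gp 5 * gp 7 := by
    simp only [evalW, List.map_cons, List.map_nil, List.prod_cons, List.prod_nil, mul_one,
      mul_assoc]
  rw [evalW_repW, evalW_nil, e] at h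
  exact h

theorem extra3 : (gp 1 * gp 2 * gp 3 * gp 4 * gp 5 * gp 6 * gp 7) ^ 9 = 1 := by
  have h := evalW_eq (repW [1, 2, 3, 4, 5, 6, 7] 9) [] (repW_letters _ (by decide) _)
    (by decide) extra_chk.2.2
  have e : evalW [1, 2, 3, 4, 5, 6, 7] = gp 1 * gp 2 * gp 3 * gp 4 * gp 5 * gp 6 * gp 7 := by
    simp only [evalW, List.map_cons, List.map_nil, List.prod_cons, List.prod_nil, mul_one,
      mul_assoc]
  rw [evalW_repW, evalW_nil, e] at h
  exact h

theorem rels_hold : ∀ r ∈ coxRelators Fi22.edges ∪ {r | r ∈ Fi22.extra},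
    FreeGroup.lift gmap r = 1 := by
  intro r hr
  rcases hr with hr | hr
  · obtain ⟨x, _, y, _, rfl⟩ := hr
    rw [map_pow, map_mul, FreeGroup.lift_apply_of, FreeGroup.lift_apply_of]
    exact cox_rel x y
  · have hr' : r ∈ Fi22.extra := hr
    unfold Fi22.extra at hr'
    simp only [List.mem_cons, List.not_mem_nil, or_false] at hr'
    rcases hr' with rfl | rfl | rfl
    · simp only [map_mul, map_pow, FreeGroup.lift_apply_of]
      exact extra1
    · simp only [map_mul, map_pow, FreeGroup.lift_apply_of]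
      exact extra2
    · simp only [map_mul, map_pow, FreeGroup.lift_apply_of]
      exact extra3

/-- the action of the presented group -/
def rho : Fi22 →* Equiv.Perm (Fin 3510) := PresentedGroup.toGroup rels_hold

theorem rho_of (x : Fi22.Gen) : rho (PresentedGroup.of x) = gmap x := PresentedGroup.toGroup.of _

theorem gp0_ne_one : gp 0 ≠ 1 := by
  intro h
  have h1 := acts_gp 0 (by norm_num) (⟨1, by norm_num⟩ : Fin 3510)
  rw [h] at h1
  revert h1
  show ¬ ((1 : ℕ) = tg (pc 0) 12 1)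
  decide +kernel

theorem rho_injective : Function.Injective rho := by
  have hs : IsSimpleGroup Fi22 := Cfsg.Agent.S1696.result.1
  rw [← MonoidHom.ker_eq_bot_iff]
  rcases (MonoidHom.normal_ker rho).eq_bot_or_eq_top with h | h
  · exact h
  · exfalso
    have : (PresentedGroup.of Fi22.Gen.a : Fi22) ∈ rho.ker := by rw [h]; exact Subgroup.mem_top _
    rw [MonoidHom.mem_ker, rho_of] at this
    exact gp0_ne_one this

theorem range_rho : rho.range = G3510 := by
  rw [MonoidHom.range_eq_map, ← PresentedGroup.closure_range_of, MonoidHom.map_closure]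
  unfold G3510
  congr 1
  ext g
  constructor
  · rintro ⟨_, ⟨x, rfl⟩, rfl⟩
    exact ⟨gidx x, gidx_lt x, (rho_of x).symm⟩
  · rintro ⟨k, hk, rfl⟩
    have : ∃ x : Fi22.Gen, gidx x = k := by
      interval_cases k
      · exact ⟨.a, rfl⟩
      · exact ⟨.b, rfl⟩
      · exact ⟨.c, rfl⟩
      · exact ⟨.d, rfl⟩
      · exact ⟨.e, rfl⟩
      · exact ⟨.f, rfl⟩
      · exact ⟨.g, rfl⟩
      · exact ⟨.h, rfl⟩
      · exact ⟨.i, rfl⟩
    obtain ⟨x, rfl⟩ := this
    exact ⟨PresentedGroup.of x, ⟨x, rfl⟩, rho_of x⟩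

/-- the explicit group is the Fischer group -/
theorem iso_Fi22 : Nonempty (↥G3510 ≃* Fi22) := by
  have e1 : Fi22 ≃* ↥rho.range := MonoidHom.ofInjective rho_injective
  have e2 : ↥rho.range ≃* ↥G3510 := MulEquiv.subgroupCongr range_rho
  exact ⟨(e1.trans e2).symm⟩

theorem card_G3510 : Nat.card ↥G3510 = 64561751654400 := by
  obtain ⟨e⟩ := iso_Fi22
  rw [Nat.card_congr e.toEquiv]
  exact Cfsg.Agent.S1696.result.2

theorem finite_G3510 : Finite ↥G3510 := inferInstance

end Cfsg.Agent.Helper29.FiM
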