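import Mathlib
import Cfsg.Agent.Lib.Helper29.FiModel
import Cfsg.Agent.Lib.Helper29.FiAuD
import Cfsg.Agent.Lib.Helper29.FiAuW

set_option autoImplicit false

/-! The 3-transpositions of the Fischer group Fi22 on 3510 points: representatives of the orbits
of an element of order eleven on the class, given by paths in a tree of conjugations, a base with
its transversal words, the sifting certificates for the centraliser of the element of order
eleven, and the check functions. -/

namespace Cfsg.Agent.Helper29.FiAu

open Cfsg.Agent.Helper29.HSP (tg force force_eq allBelow allBelow_iff)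
open Cfsg.Agent.Helper29.PW Cfsg.Agent.Helper29.FiM
open Cfsg.Agent.Helper29.FiAuD

/-- the number of representatives -/
def NR : ℕ := 320
/-- the codes of the powers of the element of order eleven -/
def XP (k : ℕ) : ℕ := XPL.getD k 0
/-- the code of the involution -/
def YC : ℕ := CL2.getD 1 0
/-- the word of the element of order eleven -/
def XW : List ℕ := [2, 6, 4, 0, 1, 3, 7, 8, 2, 3, 5, 2, 6, 4, 0, 1, 3, 7, 8, 2, 3, 5]
/-- entry `p` of a table packed with `b` bits per entry in chunks of `m` entries -/
def tgl (L : List ℕ) (b m p : ℕ) : ℕ := tg (L.getD (p / m) 0) b (p % m)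
/-- the packed path of the representative `r`: the conjugating elements, the last one first -/
def pathN (r : ℕ) : ℕ := tgl PTHL 50 512 r
/-- the path of the representative `r` as a list -/
def path (r : ℕ) : List ℕ := unpackW 10 5 (pathN r)
/-- the hint for the representative `r` and the exponent `j` -/
def hint (j r : ℕ) : ℕ := tgl (HJL.getD j []) 19 512 r
/-- the base points -/
def bv (k : ℕ) : ℕ := basePts.getD k 0
/-- the transversal words -/
def TW (k q : ℕ) : List ℕ := unpackW 4 8 (tg (transWords.getD k 0) 32 q)
/-- the orbits -/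
def OM (k : ℕ) : ℕ := orbMasks.getD k 0

/-- the check of a transversal word -/
def twOK (k q : ℕ) : Bool :=
  !(Nat.testBit (OM k) q) || (((TW k q).all fun l => Nat.blt l 10) &&
    Nat.beq (appL CL2 (TW k q) (bv k)) q &&
      allBelow k fun j => Nat.beq (appL CL2 (TW k q) (bv j)) (bv j))

/-- the code of `x ^ (-j2) * y * x ^ j` -/
def WC (j j2 : ℕ) : ℕ := WCsel j j2

/-- the check of the codes of the conjugating elements -/
def wcOK (j j2 : ℕ) : Bool :=
  force (WC j j2) fun c => force (XP ((11 - j2) % 11)) fun a => force (XP j) fun b =>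
    allBelow 3510 fun p => Nat.beq (tg c 12 p) (tg a 12 (tg YC 12 (tg b 12 p)))

/-- the action of `x ^ (-j2) * y * x ^ j`, for `w = 32 * j + j2` -/
def wApp (w p : ℕ) : ℕ := tg (WC (w / 32 % 11) (w % 32 % 11)) 12 p

/-- the action of the inverse `x ^ (-j) * y * x ^ j2` -/
def wAppI (w p : ℕ) : ℕ := tg (WC (w % 32 % 11) (w / 32 % 11)) 12 p

/-- the action of the involution of a path -/
def pathApp : List ℕ → ℕ → ℕ
  | [], p => tg YC 12 p
  | w :: t, p => wApp w (pathApp t (wAppI w p))

/-- the action of the involution of a packed path, with fuel -/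
def pathAppN (f : ℕ) : ℕ → ℕ → ℕ :=
  Nat.rec (motive := fun _ => ℕ → ℕ → ℕ) (fun _ p => tg YC 12 p)
    (fun _ ih P p => force (Nat.land P (2 ^ 10 - 1)) fun w1 => cond (Nat.beq w1 0) (tg YC 12 p)
      (force (w1 - 1) fun w => wApp w (ih (Nat.shiftRight P 10) (wAppI w p)))) f

/-- the comparison on the base of the conjugate of the representative `r` with the
representative `r2` -/
def cmpOK (j r j2 r2 : ℕ) : Bool :=
  force (pathN r * 1024 + (j * 32 + j2 + 1)) fun P1 => force (pathN r2) fun P2 =>
    allBelow 5 fun k => Nat.beq (pathAppN 6 P1 (bv k)) (pathAppN 5 P2 (bv k))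

/-- the conjugate by the involution of the conjugate by `x ^ j` of the representative `r` is in
the list -/
def closOK (j r : ℕ) : Bool :=
  force (hint j r) fun h => force (h / 32) fun r2 => force (h % 32) fun j2 =>
    Nat.blt r2 NR && Nat.blt j2 11 && cmpOK j r j2 r2

/-- one syllable-word applied to a point: the rightmost syllable first -/
def iterW (f : ℕ → ℕ) : List ℕ → ℕ → ℕ
  | [], v => v
  | e :: E, v => tg (XP e) 12 (f (iterW f E v))

/-- iterate -/
def iterN (f : ℕ → ℕ) (E : List ℕ) (m v : ℕ) : ℕ :=
  Nat.rec (motive := fun _ => ℕ) v (fun _ r => iterW f E r) m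

/-- the power `m` of the syllable-word is the identity -/
def powOK (f : ℕ → ℕ) (E : List ℕ) (m : ℕ) : Bool :=
  allBelow 3510 fun p => Nat.beq (iterN f E m p) p

/-- a list of relations -/
def relsOK (f : ℕ → ℕ) : List (List ℕ × ℕ) → Bool
  | [] => true
  | r :: R => powOK f r.1 r.2 && relsOK f R

/-- a witness `h = 4096 * k + p`: the relation `k` fails at the point `p` for the
representative `i` -/
def witOK (R : List (List ℕ × ℕ)) (i h : ℕ) : Bool :=
  Nat.blt (h / 4096) R.length && Nat.blt (h % 4096) 3510 &&
    !(Nat.beq (iterN (pathApp (path i)) (R.getD (h / 4096) ([], 0)).1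
      (R.getD (h / 4096) ([], 0)).2 (h % 4096)) (h % 4096))

/-- the filter -/
def filtOK (i : ℕ) : Bool := Nat.beq i IY || Nat.beq i IY2 || witOK RL i (tg FHP 14 i)

/-- the code moves some point -/
def moved (c : ℕ) : Bool := !(allBelow 3510 fun p => Nat.beq (tg c 12 p) p)

/-- the table of the powers -/
def xpOK : Bool :=
  (allBelow 3510 fun y => Nat.beq (tg (XP 0) 12 y) y) &&
    (allBelow 10 fun k => allBelow 3510 fun y =>
      Nat.beq (tg (XP (k + 1)) 12 y) (tg (XP 1) 12 (tg (XP k) 12 y))) &&
    (allBelow 3510 fun y => Nat.beq (tg (XP 1) 12 (tg (XP 10) 12 y)) y) && moved (XP 1)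

/-- the involution -/
def yOK : Bool :=
  (allBelow 3510 fun y => Nat.beq (tg YC 12 (tg YC 12 y)) y) && relsOK (pathApp []) RL &&
    moved YC

/-- the normalising element -/
def nOK : Bool :=
  (Wn.all fun l => Nat.blt l 10) &&
    allBelow 5 fun k => Nat.beq (appL CL2 Wn (tg (XP 1) 12 (bv k)))
      (tg (XP 4) 12 (appL CL2 Wn (bv k)))

/-- the second evaluation of the program: the base codes -/
def tauBaseOK : Bool :=
  Nat.beq (CL3.getD 0 0) (XP 2) &&
    allBelow 3510 fun p => Nat.beq (tg (CL3.getD 1 0) 12 p) (pathApp (path RS) p)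

/-- the image of the element of order eleven -/
def tauXOK : Bool :=
  allBelow 3510 fun p => Nat.beq (appL PCI XW p) (tg (XP 2) 12 p)

/-! ### The centraliser of the element of order eleven -/

/-- the action of the involution commuting with the element of order eleven -/
def aApp (p : ℕ) : ℕ := pathApp (path IA) p

/-- the element of order eleven has exactly one fixed point -/
def fixxOK : Bool :=
  allBelow 3510 fun p => Nat.beq p P0 || !(Nat.beq (tg (XP 1) 12 p) p)

/-- the base: the fixed point, and four points of a cycle -/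
def bxOK : Bool :=
  Nat.beq (bv 0) P0 && Nat.beq (tg (XP 1) 12 P0) P0 &&
    allBelow 4 fun k => Nat.beq (tg (XP k) 12 (bv 1)) (bv (k + 1))

/-- the involution commutes with the element of order eleven (on the base) and fixes the fixed
point -/
def acomOK : Bool :=
  Nat.beq (aApp P0) P0 &&
    allBelow 5 fun k => Nat.beq (aApp (tg (XP 1) 12 (bv k))) (tg (XP 1) 12 (aApp (bv k)))

/-- the second survivor of the filter is a conjugate of the involution by the commuting
involution -/
def y2OK : Bool :=
  allBelow 5 fun k => Nat.beq (pathApp (path IY2) (bv k))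
    (tg (XP ((11 - J0) % 11)) 12 (aApp (tg YC 12 (aApp (tg (XP J0) 12 (bv k))))))

/-- the action of the inverse of a word -/
def appLI (CLI : List ℕ) : List ℕ → ℕ → ℕ
  | [], y => y
  | l :: t, y => appLI CLI t (tg (CLI.getD l 0) 12 y)

/-- no element of the group fixes the first base point, maps the second one to `q` and commutes
with the element of order eleven: the sifting fails at one of the four levels -/
def siftFail (q : ℕ) : Bool :=
  !(Nat.testBit (OM 1) q) ||
  force (appLI CL2I (TW 1 q) (tg (XP 1) 12 q)) fun c2 =>
  !(Nat.testBit (OM 2) c2) ||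
  force (appLI CL2I (TW 2 c2) (appLI CL2I (TW 1 q) (tg (XP 2) 12 q))) fun c3 =>
  !(Nat.testBit (OM 3) c3) ||
  force (appLI CL2I (TW 3 c3) (appLI CL2I (TW 2 c2) (appLI CL2I (TW 1 q) (tg (XP 3) 12 q))))
    fun c4 => !(Nat.testBit (OM 4) c4)

/-- the power `e` of the commuting involution at a point -/
def aPowApp (e p : ℕ) : ℕ := cond (Nat.beq e 0) p (aApp p)

/-- the image `q` of the second base point is either excluded by sifting or is the image under
one of the twenty-two elements `x ^ i * a ^ e` -/
def cqOK (q : ℕ) : Bool :=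
  Nat.beq q P0 || siftFail q ||
    force (tg CQP 5 q) fun h => !(Nat.beq h 0) && Nat.blt h 23 &&
      Nat.beq (tg (XP ((h - 1) / 2)) 12 (aPowApp ((h - 1) % 2) (bv 1))) q

/-! ### The outer automorphism as a permutation -/

/-- the permutation conjugates the generator `k` to its image -/
def piOK (k : ℕ) : Bool :=
  force (pc k) fun a => force (PCI.getD k 0) fun b =>
    allBelow 3510 fun p => Nat.beq (tg PIC 12 (tg a 12 p)) (tg b 12 (tg PIC 12 p))

/-- the permutation times a word of the group fixes the base and is not the identity -/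
def kapOK : Bool :=
  (Wk.all fun l => Nat.blt l 10) &&
    (allBelow 5 fun k => Nat.beq (tg PIC 12 (appL CL2 Wk (bv k))) (bv k)) &&
      !(Nat.beq (tg PIC 12 (appL CL2 Wk KW)) KW) && Nat.blt KW 3510

end Cfsg.Agent.Helper29.FiAu
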