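import Mathlib
import Cfsg.Agent.Lib.Helper29.FiAuDefs

set_option autoImplicit false

/-! Kernel checks for the outer automorphism group of the Fischer group Fi22 (generated). -/

namespace Cfsg.Agent.Helper29.FiAu

open Cfsg.Agent.Helper29.HSP (tg force force_eq allBelow allBelow_iff cnt card_filter_eq_cnt)
open Cfsg.Agent.Helper29.PW Cfsg.Agent.Helper29.FiM
open Cfsg.Agent.Helper29.FiAuD

set_option maxRecDepth 100000 in
theorem slp2_chk : ∀ j < 8, slpOK 3510 CL2 WL2 2 j = true := by decide +kernel

set_option maxRecDepth 100000 in
theorem slp3_chk : ∀ j < 8, slpOK 3510 CL3 WL2 2 j = true := by decide +kernel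

set_option maxRecDepth 100000 in
theorem x_repr : reprL 3510 FiD.PC (CL2.getD 0 0) XW = true := by decide +kernel

set_option maxRecDepth 100000 in
theorem xp1_eq : XP 1 = CL2.getD 0 0 := by decide +kernel

set_option maxRecDepth 100000 in
theorem yc_eq : YC = pc 0 := by decide +kernel

set_option maxRecDepth 100000 in
theorem wg_chk : ∀ k < 9, reprL 3510 CL2 (pc k) (WG.getD k []) = true := by decide +kernel

set_option maxRecDepth 100000 in
theorem wgi_chk : ∀ k < 9, reprL 3510 CL3 (PCI.getD k 0) (WG.getD k []) = true := by
  decide +kernel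

set_option maxRecDepth 100000 in
theorem tw_chk : allBelow 5 (fun k => allBelow 3510 fun q => twOK k q) = true := by
  decide +kernel

set_option maxRecDepth 100000 in
theorem om_chk : ∀ k < 5, cnt (fun q => Nat.testBit (OM k) q) 3510 = sizes.getD k 0 := by
  decide +kernel

set_option maxRecDepth 100000 in
theorem xp_chk0 : xpOK = true := by decide +kernel

set_option maxRecDepth 100000 in
theorem wc_chk : ∀ j < 11, ∀ j2 < 11, wcOK j j2 = true := by decide +kernel

set_option maxRecDepth 100000 in
theorem y_chk0 : yOK = true := by decide +kernel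

set_option maxRecDepth 100000 in
theorem n_chk0 : nOK = true := by decide +kernel

theorem iy_chk0 : path IY = [] ∧ IY < NR := by decide +kernel

theorem rs_chk0 : RS < NR ∧ IA < NR ∧ IY2 < NR ∧ J0 < 11 := by decide +kernel

set_option maxRecDepth 100000 in
theorem tau_base_chk : tauBaseOK = true := by decide +kernel

set_option maxRecDepth 100000 in
theorem tau_x_chk : tauXOK = true := by decide +kernel

set_option maxRecDepth 100000 in
theorem pci0_moved : moved (PCI.getD 0 0) = true := by decide +kernel

set_option maxRecDepth 100000 in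
theorem cox_chk2 : ∀ i < 9, ∀ j < 9,
    weqL 3510 PCI (repW [i, j] (labT.getD (9 * i + j) 0)) [] = true := by decide +kernel

set_option maxRecDepth 100000 in
theorem extra_chk2 : weqL 3510 PCI (repW [3, 2, 1, 3, 4, 5, 3, 7, 8] 10) [] = true ∧
    weqL 3510 PCI (repW [0, 1, 2, 3, 4, 5, 7] 9) [] = true ∧
    weqL 3510 PCI (repW [1, 2, 3, 4, 5, 6, 7] 9) [] = true := by
  decide +kernel

/-! ### The outer automorphism as a permutation -/

set_option maxRecDepth 100000 in
theorem pi_valid : validC 3510 PIC PICI = true := by decide +kernel

set_option maxRecDepth 100000 in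
theorem pi_chk0 : ∀ k < 9, piOK k = true := by decide +kernel

set_option maxRecDepth 100000 in
theorem kap_chk0 : kapOK = true := by decide +kernel

end Cfsg.Agent.Helper29.FiAu
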