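import Mathlib
import Cfsg.Agent.Lib.Helper29.FiAuChkS
import Cfsg.Agent.Lib.Helper29.PermN

set_option autoImplicit false
set_option maxRecDepth 8000
open Cfsg

/-! The Fischer group Fi22 on 3510 points is generated by an element of order eleven and a
3-transposition; a base and a strong generating set. -/

namespace Cfsg.Agent.Helper29.FiAu

open Cfsg.Agent.Helper29.HSP (tg force force_eq allBelow allBelow_iff cnt card_filter_eq_cnt)
open Cfsg.Agent.Helper29.PW Cfsg.Agent.Helper29.FiM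
open Cfsg.Agent.Helper29.FiAuD
open Cfsg.Agent.Helper29.PN (Hst mem_Hst card_step_le)

/-- the permutations -/
abbrev Pm : Type := Equiv.Perm (Fin 3510)

/-- the element of order eleven -/
def xP : Pm := evalW XW

/-- the 3-transposition -/
def yP : Pm := gp 0

theorem xP_mem : xP ∈ G3510 := evalW_mem _ (by decide)

theorem yP_mem : yP ∈ G3510 := gp_mem 0 (by norm_num)

theorem acts_xP0 : Acts 3510 xP (CL2.getD 0 0) := acts_evalW x_repr

theorem acts_yP : Acts 3510 yP YC := by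
  rw [yc_eq]
  exact acts_gp 0 (by norm_num)

/-- the subgroup generated by the two elements -/
def Gxy : Subgroup Pm := Subgroup.closure {xP, yP}

/-- the two base elements of the program -/
def base2 (l : ℕ) : Pm := if l = 0 then xP else yP

/-- the elements of the program -/
def el2 (l : ℕ) : Pm := elF WL2 base2 2 8 l

theorem el2_spec (l : ℕ) (hl : l < 10) : Acts 3510 (el2 l) (CL2.getD l 0) ∧ el2 l ∈ Gxy := by
  have h0 : ∀ l < 2, Acts 3510 (base2 l) (CL2.getD l 0) ∧ base2 l ∈ Gxy := by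
    intro l hl
    interval_cases l
    · exact ⟨acts_xP0, Subgroup.subset_closure (Or.inl rfl)⟩
    · exact ⟨acts_yP, Subgroup.subset_closure (Or.inr rfl)⟩
  exact elF_spec Gxy h0 8 slp2_chk 8 le_rfl l (by omega)

theorem Gxy_le : Gxy ≤ G3510 := by
  unfold Gxy
  rw [Subgroup.closure_le]
  rintro g (rfl | rfl)
  · exact xP_mem
  · exact yP_mem

theorem CL2_length : CL2.length = 10 := by decide

/-- the permutation of a word -/
def evalW2 (w : List ℕ) : Pm := (w.map el2).prod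

theorem evalW2_mem_xy (w : List ℕ) (hw : ∀ l ∈ w, l < 10) : evalW2 w ∈ Gxy := by
  apply Subgroup.list_prod_mem
  intro x hx
  obtain ⟨l, hl, rfl⟩ := List.mem_map.1 hx
  exact (el2_spec l (hw l hl)).2

theorem evalW2_mem (w : List ℕ) (hw : ∀ l ∈ w, l < 10) : evalW2 w ∈ G3510 :=
  Gxy_le (evalW2_mem_xy w hw)

theorem evalW2_apply (w : List ℕ) (hw : ∀ l ∈ w, l < 10) (u : Fin 3510) :
    (evalW2 w u).val = appL CL2 w u.val :=
  prod_apply_of CL2 el2 w (fun l hl => (el2_spec l (hw l hl)).1) u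

theorem wg_letters (k : ℕ) (hk : k < 9) : ∀ l ∈ WG.getD k [], l < 10 := by
  have hl := letters_of_reprL (wg_chk k hk)
  rwa [CL2_length] at hl

theorem gp_eq (k : ℕ) (hk : k < 9) : gp k = evalW2 (WG.getD k []) := by
  have h := wg_chk k hk
  apply eq_of_acts (acts_gp k hk)
  intro u
  rw [evalW2_apply _ (wg_letters k hk) u]
  unfold reprL at h
  rw [Bool.and_eq_true, allBelow_iff] at h
  exact (Nat.eq_of_beq_eq_true (h.2 u.val u.2)).symm

theorem G3510_le : G3510 ≤ Gxy := by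
  unfold G3510
  rw [Subgroup.closure_le]
  rintro g ⟨k, hk, rfl⟩
  rw [SetLike.mem_coe, gp_eq k hk]
  exact evalW2_mem_xy _ (wg_letters k hk)

theorem Gxy_eq : Gxy = G3510 := le_antisymm Gxy_le G3510_le

/-! ### The base -/

theorem bv_lt : ∀ k < 5, bv k < 3510 := by decide

/-- the base points -/
def bpt (k : ℕ) : Fin 3510 := ⟨bv k % 3510, Nat.mod_lt _ (by norm_num)⟩

theorem bpt_val (k : ℕ) (hk : k < 5) : (bpt k).val = bv k := Nat.mod_eq_of_lt (bv_lt k hk)

/-- the orbit of the base point `k` -/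
def Orb (k : ℕ) : Finset (Fin 3510) :=
  Finset.univ.filter (fun q : Fin 3510 => Nat.testBit (OM k) q.val = true)

theorem card_Orb (k : ℕ) (hk : k < 5) : (Orb k).card = sizes.getD k 0 := by
  unfold Orb
  rw [card_filter_eq_cnt (fun q => Nat.testBit (OM k) q) 3510]
  exact om_chk k hk

theorem tw_spec (k : ℕ) (hk : k < 5) (q : ℕ) (hq : q < 3510)
    (hm : Nat.testBit (OM k) q = true) :
    (∀ l ∈ TW k q, l < 10) ∧ appL CL2 (TW k q) (bv k) = q ∧
      ∀ j < k, appL CL2 (TW k q) (bv j) = bv j := by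
  have h := (allBelow_iff _ _).1 ((allBelow_iff _ _).1 tw_chk k hk) q hq
  unfold twOK at h
  rw [hm, Bool.not_true, Bool.false_or, Bool.and_eq_true, Bool.and_eq_true,
    List.all_eq_true, allBelow_iff] at h
  refine ⟨fun l hl => Eq.mp Nat.blt_eq (h.1.1 l hl), Nat.eq_of_beq_eq_true h.1.2, ?_⟩
  intro j hj
  exact Nat.eq_of_beq_eq_true (h.2 j hj)

theorem orb_reach (k : ℕ) (hk : k < 5) : ∀ q ∈ Orb k, ∃ g ∈ Hst G3510 bpt k, g (bpt k) = q := by
  intro q hq
  have hq' : Nat.testBit (OM k) q.val = true := (Finset.mem_filter.1 hq).2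
  obtain ⟨h1, h2, h3⟩ := tw_spec k hk q.val q.2 hq'
  refine ⟨evalW2 (TW k q.val), ?_, ?_⟩
  · rw [mem_Hst]
    refine ⟨evalW2_mem _ h1, fun j hj => ?_⟩
    apply Fin.ext
    rw [evalW2_apply _ h1, bpt_val j (by omega)]
    exact h3 j hj
  · apply Fin.ext
    rw [evalW2_apply _ h1, bpt_val k hk]
    exact h2

theorem step (k : ℕ) (hk : k < 5) :
    sizes.getD k 0 * Nat.card ↥(Hst G3510 bpt (k + 1)) ≤ Nat.card ↥(Hst G3510 bpt k) := by
  rw [← card_Orb k hk]
  exact card_step_le (Hst G3510 bpt k) (bpt k) (Orb k) (orb_reach k hk)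

theorem steps_all :
    3510 * Nat.card ↥(Hst G3510 bpt 1) ≤ 64561751654400 ∧
    2816 * Nat.card ↥(Hst G3510 bpt 2) ≤ Nat.card ↥(Hst G3510 bpt 1) ∧
    1680 * Nat.card ↥(Hst G3510 bpt 3) ≤ Nat.card ↥(Hst G3510 bpt 2) ∧
    243 * Nat.card ↥(Hst G3510 bpt 4) ≤ Nat.card ↥(Hst G3510 bpt 3) ∧
    16 * Nat.card ↥(Hst G3510 bpt 5) ≤ Nat.card ↥(Hst G3510 bpt 4) ∧
    1 ≤ Nat.card ↥(Hst G3510 bpt 5) := by
  have h0 := step 0 (by norm_num)
  have h1 := step 1 (by norm_num)
  have h2 := step 2 (by norm_num)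
  have h3 := step 3 (by norm_num)
  have h4 := step 4 (by norm_num)
  have h7 : 1 ≤ Nat.card ↥(Hst G3510 bpt 5) := Nat.card_pos
  have e : Hst G3510 bpt 0 = G3510 := rfl
  rw [e, card_G3510] at h0
  simp only [sizes, List.getD_cons_zero, List.getD_cons_succ, Nat.reduceAdd, zero_add]
    at h0 h1 h2 h3 h4
  exact ⟨h0, h1, h2, h3, h4, h7⟩

/-- the orders of the stabilisers of the chain -/
theorem card_Hst_all : Nat.card ↥(Hst G3510 bpt 5) = 1 ∧ Nat.card ↥(Hst G3510 bpt 4) = 16 ∧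
    Nat.card ↥(Hst G3510 bpt 3) = 3888 ∧ Nat.card ↥(Hst G3510 bpt 2) = 6531840 ∧
    Nat.card ↥(Hst G3510 bpt 1) = 18393661440 := by
  obtain ⟨h0, h1, h2, h3, h4, h5⟩ := steps_all
  refine ⟨?_, ?_, ?_, ?_, ?_⟩ <;> omega

/-- the pointwise stabiliser of the base is trivial -/
theorem card_Hst5 : Nat.card ↥(Hst G3510 bpt 5) = 1 := card_Hst_all.1

theorem card_Hst_val (k : ℕ) (hk : k < 6) : Nat.card ↥(Hst G3510 bpt k) =
    ([64561751654400, 18393661440, 6531840, 3888, 16, 1] : List ℕ).getD k 0 := by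
  obtain ⟨h5, h4, h3, h2, h1⟩ := card_Hst_all
  interval_cases k
  · exact card_G3510
  · exact h1
  · exact h2
  · exact h3
  · exact h4
  · exact h5

/-- the stabiliser of the first `k` base points moves the next one inside its orbit -/
theorem Hst_orbit (k : ℕ) (hk : k < 5) (h : Pm) (hh : h ∈ Hst G3510 bpt k) :
    h (bpt k) ∈ Orb k := by
  by_contra hq
  have hreach : ∀ q ∈ insert (h (bpt k)) (Orb k), ∃ g ∈ Hst G3510 bpt k, g (bpt k) = q := by
    intro q hq'
    rcases Finset.mem_insert.1 hq' with rfl | hq'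
    · exact ⟨h, hh, rfl⟩
    · exact orb_reach k hk q hq'
  have hle := card_step_le (Hst G3510 bpt k) (bpt k) (insert (h (bpt k)) (Orb k)) hreach
  have h4 : Nat.card ↥(Hst G3510 bpt k ⊓
      MulAction.stabilizer (Equiv.Perm (Fin 3510)) (bpt k)) =
      Nat.card ↥(Hst G3510 bpt (k + 1)) := rfl
  rw [Finset.card_insert_of_notMem hq, card_Orb k hk, h4, card_Hst_val k (by omega),
    card_Hst_val (k + 1) (by omega)] at hle
  interval_cases k <;>
    simp only [sizes, List.getD_cons_zero, List.getD_cons_succ, Nat.reduceAdd] at hle <;> omega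

/-- two elements of the group which agree on the base are equal -/
theorem eq_of_base {g h : Pm} (hg : g ∈ G3510) (hh : h ∈ G3510)
    (hb : ∀ k < 5, g (bpt k) = h (bpt k)) : g = h := by
  have hm : g⁻¹ * h ∈ Hst G3510 bpt 5 := by
    rw [mem_Hst]
    refine ⟨G3510.mul_mem (G3510.inv_mem hg) hh, fun k hk => ?_⟩
    rw [Equiv.Perm.mul_apply, ← hb k hk]
    simp
  have hone : ∀ x : ↥(Hst G3510 bpt 5), x = 1 := by
    have : Subsingleton ↥(Hst G3510 bpt 5) := (Nat.card_eq_one_iff_unique.1 card_Hst5).1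
    intro x
    exact Subsingleton.elim _ _
  have := congrArg Subtype.val (hone ⟨g⁻¹ * h, hm⟩)
  have e : g⁻¹ * h = 1 := this
  calc g = g * (g⁻¹ * h) := by rw [e, mul_one]
    _ = h := by group

end Cfsg.Agent.Helper29.FiAu
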