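import Mathlib
import Cfsg.Agent.Lib.Helper29.FiAuDefs

set_option autoImplicit false

/-! Kernel checks for the centraliser of an element of order eleven and for the class of
3-transpositions of the Fischer group Fi22 (generated). -/

namespace Cfsg.Agent.Helper29.FiAu

open Cfsg.Agent.Helper29.HSP (tg force force_eq allBelow allBelow_iff cnt card_filter_eq_cnt)
open Cfsg.Agent.Helper29.PW Cfsg.Agent.Helper29.FiM
open Cfsg.Agent.Helper29.FiAuD

set_option maxRecDepth 100000 in
theorem cl2i_chk : ∀ l < 10, validC 3510 (CL2.getD l 0) (CL2I.getD l 0) = true := by
  decide +kernel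

set_option maxRecDepth 100000 in
theorem fixx_chk0 : fixxOK = true := by decide +kernel

set_option maxRecDepth 100000 in
theorem bx_chk0 : bxOK = true := by decide +kernel

set_option maxRecDepth 100000 in
theorem acom_chk0 : acomOK = true := by decide +kernel

set_option maxRecDepth 100000 in
theorem y2_chk0 : y2OK = true := by decide +kernel

set_option maxRecDepth 100000 in
theorem cq_chk0 : allBelow 3510 cqOK = true := by decide +kernel

set_option maxRecDepth 100000 in
theorem om0_chk0 : (allBelow 3510 fun q => Nat.testBit (OM 0) q) = true := by decide +kernel

set_option maxRecDepth 100000 in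
theorem clos_chk0 : ∀ j < 11, allBelow 320 (closOK j) = true := by decide +kernel

set_option maxRecDepth 100000 in
theorem filt_0 : allBelow 320 filtOK = true := by decide +kernel

end Cfsg.Agent.Helper29.FiAu
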