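import Mathlib
import Cfsg.Agent.Lib.Helper29.FiAuA

set_option autoImplicit false
set_option maxRecDepth 8000
open Cfsg

/-! The centraliser in the Fischer group Fi22 on 3510 points of an element of order eleven has
order twenty-two: an element commuting with it fixes its unique fixed point and is determined by
the image of one further point; all but twenty-two of the possible images are excluded by sifting
through the stabiliser chain. Hence the 3-transposition commuting with it is the only involution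
in its centraliser. -/

namespace Cfsg.Agent.Helper29.FiAu

open Cfsg.Agent.Helper29.HSP (tg force force_eq allBelow allBelow_iff)
open Cfsg.Agent.Helper29.PW Cfsg.Agent.Helper29.FiM
open Cfsg.Agent.Helper29.FiAuD
open Cfsg.Agent.Helper29.PN (Hst mem_Hst)

/-! ### Inverses of words -/

theorem acts_el2_inv (l : ℕ) (hl : l < 10) : Acts 3510 (el2 l)⁻¹ (CL2I.getD l 0) := by
  have hv := cl2i_chk l hl
  have ha := (el2_spec l hl).1
  intro u
  obtain ⟨_, h2, _, h4⟩ := validC_spec 3510 hv u.val u.2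
  have e : (el2 l)⁻¹ u = ⟨tg (CL2I.getD l 0) 12 u.val, h2⟩ := by
    rw [Equiv.Perm.inv_eq_iff_eq]
    apply Fin.ext
    rw [ha]
    exact h4.symm
  rw [e]

theorem evalW2_inv_apply (w : List ℕ) (hw : ∀ l ∈ w, l < 10) (u : Fin 3510) :
    ((evalW2 w)⁻¹ u).val = appLI CL2I w u.val := by
  induction w generalizing u with
  | nil =>
    show ((1 : Pm)⁻¹ u).val = u.val
    rw [inv_one]
    rfl
  | cons l t ih =>
    have e : evalW2 (l :: t) = el2 l * evalW2 t := by
      unfold evalW2
      rw [List.map_cons, List.prod_cons]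
    rw [e, mul_inv_rev, Equiv.Perm.mul_apply,
      ih (fun l' hl' => hw l' (List.mem_cons_of_mem _ hl')),
      acts_el2_inv l (hw l List.mem_cons_self)]
    rfl

/-! ### One step of the sifting -/

theorem sift_step (k : ℕ) (hk : k < 5) (h : Pm) (hh : h ∈ Hst G3510 bpt k) :
    Nat.testBit (OM k) (h (bpt k)).val = true ∧
      (∀ l ∈ TW k (h (bpt k)).val, l < 10) ∧
      (evalW2 (TW k (h (bpt k)).val))⁻¹ * h ∈ Hst G3510 bpt (k + 1) := by
  have ho := Hst_orbit k hk h hh
  have hbit : Nat.testBit (OM k) (h (bpt k)).val = true := (Finset.mem_filter.1 ho).2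
  obtain ⟨h1, h2, h3⟩ := tw_spec k hk (h (bpt k)).val (h (bpt k)).2 hbit
  refine ⟨hbit, h1, ?_⟩
  have hu : evalW2 (TW k (h (bpt k)).val) ∈ Hst G3510 bpt k := by
    rw [mem_Hst]
    refine ⟨evalW2_mem _ h1, fun j hj => ?_⟩
    apply Fin.ext
    rw [evalW2_apply _ h1, bpt_val j (by omega)]
    exact h3 j hj
  have huk : evalW2 (TW k (h (bpt k)).val) (bpt k) = h (bpt k) := by
    apply Fin.ext
    rw [evalW2_apply _ h1, bpt_val k hk]
    exact h2
  have hprod : (evalW2 (TW k (h (bpt k)).val))⁻¹ * h ∈ Hst G3510 bpt k :=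
    (Hst G3510 bpt k).mul_mem ((Hst G3510 bpt k).inv_mem hu) hh
  rw [mem_Hst] at hprod ⊢
  refine ⟨hprod.1, fun j hj => ?_⟩
  rcases Nat.lt_succ_iff_lt_or_eq.1 hj with hj | rfl
  · exact hprod.2 j hj
  · rw [Equiv.Perm.mul_apply, Equiv.Perm.inv_eq_iff_eq]
    exact huk.symm

/-! ### The facts about the base and the element of order eleven -/

theorem fixx_chk : ∀ p < 3510, tg (XP 1) 12 p = p → p = P0 := by
  intro p hp he
  have h := (allBelow_iff _ _).1 fixx_chk0 p hp
  rw [Bool.or_eq_true] at h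
  rcases h with h | h
  · exact Nat.eq_of_beq_eq_true h
  · rw [he, Nat.beq_refl] at h
    exact Bool.noConfusion h

theorem bx_chk : bv 0 = P0 ∧ tg (XP 1) 12 P0 = P0 ∧
    ∀ k < 4, tg (XP k) 12 (bv 1) = bv (k + 1) := by
  have h := bx_chk0
  unfold bxOK at h
  rw [Bool.and_eq_true, Bool.and_eq_true, allBelow_iff] at h
  exact ⟨Nat.eq_of_beq_eq_true h.1.1, Nat.eq_of_beq_eq_true h.1.2,
    fun k hk => Nat.eq_of_beq_eq_true (h.2 k hk)⟩

theorem xpow_bpt (k : ℕ) (hk : k < 4) : (xP ^ k) (bpt 1) = bpt (k + 1) := by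
  apply Fin.ext
  rw [acts_xpow k (by omega), bpt_val 1 (by norm_num), bpt_val (k + 1) (by omega)]
  exact bx_chk.2.2 k hk

theorem xP_bpt0 : xP (bpt 0) = bpt 0 := by
  apply Fin.ext
  rw [acts_xP, bpt_val 0 (by norm_num), bx_chk.1]
  exact bx_chk.2.1

/-- an element commuting with `xP` fixes the fixed point -/
theorem fix_of_comm_x (g : Pm) (hc : g * xP = xP * g) : g (bpt 0) = bpt 0 := by
  have h1 : xP (g (bpt 0)) = g (bpt 0) := by
    have h2 : (g * xP) (bpt 0) = (xP * g) (bpt 0) := by rw [hc]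
    rw [Equiv.Perm.mul_apply, Equiv.Perm.mul_apply, xP_bpt0] at h2
    exact h2.symm
  have h3 := acts_xP (g (bpt 0))
  rw [h1] at h3
  apply Fin.ext
  rw [bpt_val 0 (by norm_num), bx_chk.1]
  exact fixx_chk _ (g (bpt 0)).2 h3.symm

theorem comm_pow (g : Pm) (hc : g * xP = xP * g) (k : ℕ) : g * xP ^ k = xP ^ k * g := by
  have : Commute g xP := hc
  exact (this.pow_right k).eq

/-- the images of the base points under an element commuting with `xP` -/
theorem comm_bpt (g : Pm) (hc : g * xP = xP * g) (k : ℕ) (hk : k < 4) :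
    g (bpt (k + 1)) = (xP ^ k) (g (bpt 1)) := by
  rw [← xpow_bpt k hk]
  have h2 : (g * xP ^ k) (bpt 1) = (xP ^ k * g) (bpt 1) := by rw [comm_pow g hc k]
  exact h2

theorem comm_bpt_val (g : Pm) (hc : g * xP = xP * g) (k : ℕ) (hk : k < 4) :
    (g (bpt (k + 1))).val = tg (XP k) 12 (g (bpt 1)).val := by
  rw [comm_bpt g hc k hk, acts_xpow k (by omega)]

/-! ### Sifting an element of the centraliser -/

theorem sift_contra (g : Pm) (hg : g ∈ G3510) (hc : g * xP = xP * g)
    (hf : siftFail (g (bpt 1)).val = true) : False := by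
  have h0 := fix_of_comm_x g hc
  -- level 1
  have hg1 : g ∈ Hst G3510 bpt 1 := by
    rw [mem_Hst]
    refine ⟨hg, fun j hj => ?_⟩
    have : j = 0 := by omega
    rw [this]
    exact h0
  obtain ⟨hb1, hl1, hg2⟩ := sift_step 1 (by norm_num) g hg1
  generalize hq : (g (bpt 1)).val = q at hf hb1 hl1 hg2
  unfold siftFail at hf
  rw [hb1, Bool.not_true, Bool.false_or, force_eq] at hf
  -- level 2
  have e2 : (((evalW2 (TW 1 q))⁻¹ * g) (bpt 2)).val =
      appLI CL2I (TW 1 q) (tg (XP 1) 12 q) := by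
    rw [Equiv.Perm.mul_apply, evalW2_inv_apply _ hl1, comm_bpt_val g hc 1 (by norm_num), hq]
  obtain ⟨hb2, hl2, hg3⟩ := sift_step 2 (by norm_num) _ hg2
  rw [e2] at hb2 hl2 hg3
  generalize appLI CL2I (TW 1 q) (tg (XP 1) 12 q) = c2 at hf hb2 hl2 hg3
  rw [hb2, Bool.not_true, Bool.false_or, force_eq] at hf
  -- level 3
  have e3 : (((evalW2 (TW 2 c2))⁻¹ * ((evalW2 (TW 1 q))⁻¹ * g)) (bpt 3)).val =
      appLI CL2I (TW 2 c2) (appLI CL2I (TW 1 q) (tg (XP 2) 12 q)) := by
    rw [Equiv.Perm.mul_apply, evalW2_inv_apply _ hl2, Equiv.Perm.mul_apply,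
      evalW2_inv_apply _ hl1, comm_bpt_val g hc 2 (by norm_num), hq]
  obtain ⟨hb3, hl3, hg4⟩ := sift_step 3 (by norm_num) _ hg3
  rw [e3] at hb3 hl3 hg4
  generalize appLI CL2I (TW 2 c2) (appLI CL2I (TW 1 q) (tg (XP 2) 12 q)) = c3
    at hf hb3 hl3 hg4
  rw [hb3, Bool.not_true, Bool.false_or, force_eq] at hf
  -- level 4
  have e4 : (((evalW2 (TW 3 c3))⁻¹ * ((evalW2 (TW 2 c2))⁻¹ * ((evalW2 (TW 1 q))⁻¹ * g)))
      (bpt 4)).val =
      appLI CL2I (TW 3 c3) (appLI CL2I (TW 2 c2) (appLI CL2I (TW 1 q) (tg (XP 3) 12 q))) := by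
    rw [Equiv.Perm.mul_apply, evalW2_inv_apply _ hl3, Equiv.Perm.mul_apply,
      evalW2_inv_apply _ hl2, Equiv.Perm.mul_apply, evalW2_inv_apply _ hl1,
      comm_bpt_val g hc 3 (by norm_num), hq]
  obtain ⟨hb4, _, _⟩ := sift_step 4 (by norm_num) _ hg4
  rw [e4] at hb4
  rw [hb4] at hf
  exact Bool.noConfusion hf

/-! ### The commuting involution -/

/-- the involution commuting with `xP` -/
def aP : Pm := tE IA

theorem aP_mem : aP ∈ G3510 := pathEl_mem _

theorem aP_apply (u : Fin 3510) : (aP u).val = aApp u.val := pathEl_apply _ u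

theorem acom_chk : aApp P0 = P0 ∧
    ∀ k < 5, aApp (tg (XP 1) 12 (bv k)) = tg (XP 1) 12 (aApp (bv k)) := by
  have h := acom_chk0
  unfold acomOK at h
  rw [Bool.and_eq_true, allBelow_iff] at h
  exact ⟨Nat.eq_of_beq_eq_true h.1, fun k hk => Nat.eq_of_beq_eq_true (h.2 k hk)⟩

theorem aP_comm : aP * xP = xP * aP := by
  apply eq_of_base (G3510.mul_mem aP_mem xP_mem) (G3510.mul_mem xP_mem aP_mem)
  intro k hk
  apply Fin.ext
  rw [Equiv.Perm.mul_apply, Equiv.Perm.mul_apply, aP_apply, acts_xP, acts_xP, aP_apply,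
    bpt_val k hk]
  exact acom_chk.2 k hk

theorem pathEl_sq (p : List ℕ) : pathEl p * pathEl p = 1 := by
  induction p with
  | nil => exact yP_sq
  | cons w t ih =>
    show wEl w * pathEl t * (wEl w)⁻¹ * (wEl w * pathEl t * (wEl w)⁻¹) = 1
    have : wEl w * pathEl t * (wEl w)⁻¹ * (wEl w * pathEl t * (wEl w)⁻¹) =
        wEl w * (pathEl t * pathEl t) * (wEl w)⁻¹ := by group
    rw [this, ih]
    group

theorem pathEl_ne_one (p : List ℕ) : pathEl p ≠ 1 := by
  induction p with
  | nil => exact yP_ne_one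
  | cons w t ih =>
    intro h
    apply ih
    have h2 : wEl w * pathEl t * (wEl w)⁻¹ = 1 := h
    have : pathEl t = (wEl w)⁻¹ * (wEl w * pathEl t * (wEl w)⁻¹) * wEl w := by group
    rw [this, h2]
    group

theorem pathEl_conj (p : List ℕ) : ∃ g ∈ G3510, pathEl p = g * yP * g⁻¹ := by
  induction p with
  | nil =>
    refine ⟨1, G3510.one_mem, ?_⟩
    show yP = 1 * yP * 1⁻¹
    group
  | cons w t ih =>
    obtain ⟨g, hg, e⟩ := ih
    refine ⟨wEl w * g, G3510.mul_mem (wEl_mem w) hg, ?_⟩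
    show wEl w * pathEl t * (wEl w)⁻¹ = _
    rw [e]
    group

theorem aP_sq : aP * aP = 1 := pathEl_sq _

theorem aP_ne_one : aP ≠ 1 := pathEl_ne_one _

theorem aP_inv : aP⁻¹ = aP := by
  symm
  exact eq_inv_of_mul_eq_one_left aP_sq

/-- the power `e` of the involution -/
def aPow (e : ℕ) : Pm := if e = 0 then 1 else aP

theorem aPow_mem (e : ℕ) : aPow e ∈ G3510 := by
  unfold aPow
  split_ifs
  · exact G3510.one_mem
  · exact aP_mem

theorem aPow_apply (e : ℕ) (u : Fin 3510) : (aPow e u).val = aPowApp e u.val := by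
  unfold aPow aPowApp
  by_cases h : e = 0
  · rw [if_pos h, h]
    rfl
  · rw [if_neg h]
    have : Nat.beq e 0 = false := by
      cases hb : Nat.beq e 0 with
      | true => exact absurd (Nat.eq_of_beq_eq_true hb) h
      | false => rfl
    rw [this, cond_false]
    exact aP_apply u

theorem aPow_comm (e : ℕ) : aPow e * xP = xP * aPow e := by
  unfold aPow
  split_ifs
  · rw [one_mul, mul_one]
  · exact aP_comm

/-- the centraliser of `xP` -/
theorem cent_cases (g : Pm) (hg : g ∈ G3510) (hc : g * xP = xP * g) :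
    ∃ i < 11, ∃ e < 2, g = xP ^ i * aPow e := by
  have h0 := fix_of_comm_x g hc
  have hq := (allBelow_iff _ _).1 cq_chk0 (g (bpt 1)).val (g (bpt 1)).2
  unfold cqOK at hq
  rw [Bool.or_eq_true, Bool.or_eq_true] at hq
  rcases hq with (hq | hq) | hq
  · exfalso
    have e1 : g (bpt 1) = bpt 0 := by
      apply Fin.ext
      rw [bpt_val 0 (by norm_num), bx_chk.1]
      exact Nat.eq_of_beq_eq_true hq
    rw [← h0] at e1
    have e2 := g.injective e1
    have e3 := congrArg Fin.val e2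
    rw [bpt_val 1 (by norm_num), bpt_val 0 (by norm_num)] at e3
    revert e3
    decide
  · exact (sift_contra g hg hc hq).elim
  · rw [force_eq, Bool.and_eq_true, Bool.and_eq_true, Bool.not_eq_true'] at hq
    obtain ⟨⟨h1, h2⟩, h3⟩ := hq
    have hlt : tg CQP 5 (g (bpt 1)).val < 23 := Eq.mp Nat.blt_eq h2
    have hne : tg CQP 5 (g (bpt 1)).val ≠ 0 := by
      intro e
      rw [e] at h1
      exact Bool.noConfusion h1
    have h3' := Nat.eq_of_beq_eq_true h3
    generalize tg CQP 5 (g (bpt 1)).val = h at hlt hne h3'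
    refine ⟨(h - 1) / 2, by omega, (h - 1) % 2, Nat.mod_lt _ (by norm_num), ?_⟩
    have hcm : (xP ^ ((h - 1) / 2) * aPow ((h - 1) % 2)) * xP =
        xP * (xP ^ ((h - 1) / 2) * aPow ((h - 1) % 2)) := by
      rw [mul_assoc, aPow_comm, ← mul_assoc, ← mul_assoc]
      congr 1
      exact ((Commute.refl xP).pow_left _).eq
    have hmem : xP ^ ((h - 1) / 2) * aPow ((h - 1) % 2) ∈ G3510 :=
      G3510.mul_mem (xpow_mem _) (aPow_mem _)
    have hb1 : g (bpt 1) = (xP ^ ((h - 1) / 2) * aPow ((h - 1) % 2)) (bpt 1) := by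
      apply Fin.ext
      rw [Equiv.Perm.mul_apply, acts_xpow _ (by omega), aPow_apply, bpt_val 1 (by norm_num)]
      exact h3'.symm
    apply eq_of_base hg hmem
    intro k hk
    rcases Nat.eq_zero_or_pos k with rfl | hpos
    · rw [h0, fix_of_comm_x _ hcm]
    · obtain ⟨k', rfl⟩ : ∃ k', k = k' + 1 := ⟨k - 1, by omega⟩
      rw [comm_bpt g hc k' (by omega), comm_bpt _ hcm k' (by omega), hb1]

/-- the only involution of the group commuting with `xP` is `aP` -/
theorem unique_invol (t : Pm) (ht : t ∈ G3510) (hsq : t * t = 1) (hne : t ≠ 1)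
    (hc : t * xP = xP * t) : t = aP := by
  obtain ⟨i, hi, e, he, rfl⟩ := cent_cases t ht hc
  have hcomm : aPow e * xP ^ i = xP ^ i * aPow e := by
    have : Commute (aPow e) xP := aPow_comm e
    exact (this.pow_right i).eq
  have hasq : aPow e * aPow e = 1 := by
    unfold aPow
    split_ifs
    · rw [one_mul]
    · exact aP_sq
  have h2 : xP ^ (2 * i) = 1 := by
    have : xP ^ i * aPow e * (xP ^ i * aPow e) = xP ^ (2 * i) := by
      calc xP ^ i * aPow e * (xP ^ i * aPow e) = xP ^ i * (aPow e * xP ^ i) * aPow e := by group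
        _ = xP ^ i * (xP ^ i * aPow e) * aPow e := by rw [hcomm]
        _ = xP ^ i * xP ^ i * (aPow e * aPow e) := by group
        _ = xP ^ (2 * i) := by rw [hasq, mul_one, ← pow_add, two_mul]
    rw [← this]
    exact hsq
  have ho : orderOf xP = 11 := by
    have : Fact (Nat.Prime 11) := ⟨by norm_num⟩
    exact orderOf_eq_prime xP_pow11 xP_ne_one
  have hd : 11 ∣ 2 * i := by
    rw [← ho]
    exact orderOf_dvd_of_pow_eq_one h2
  have hi0 : i = 0 := by omega
  subst hi0
  rw [pow_zero, one_mul] at hne ⊢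
  unfold aPow at hne ⊢
  split_ifs at hne ⊢ with h0
  · exact absurd rfl hne
  · rfl

end Cfsg.Agent.Helper29.FiAu
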