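import Mathlib
import Cfsg.Agent.Lib.Helper29.FiCen
import Cfsg.Agent.Lib.Helper29.FiAuGen
import Cfsg.Agent.Lib.Helper29.Co3OutGen

set_option autoImplicit false
set_option maxRecDepth 8000
open Cfsg

/-! The automorphisms of the Fischer group Fi22 on 3510 points which fix an element of order
eleven are inner. -/

namespace Cfsg.Agent.Helper29.FiAu

open Cfsg.Agent.Helper29.HSP (tg force force_eq allBelow allBelow_iff)
open Cfsg.Agent.Helper29.PW Cfsg.Agent.Helper29.FiM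
open Cfsg.Agent.Helper29.FiAuD
open Cfsg.Agent.Helper29.HSXG Cfsg.Agent.Helper29.FiAuG

/-! ### The elements -/

def xE : ↥G3510 := ⟨xP, xP_mem⟩
def yE : ↥G3510 := ⟨yP, yP_mem⟩
def aE : ↥G3510 := ⟨aP, aP_mem⟩

theorem wn_letters : ∀ l ∈ Wn, l < 10 := by
  have h := n_chk0
  unfold nOK at h
  rw [Bool.and_eq_true, List.all_eq_true] at h
  exact fun l hl => Eq.mp Nat.blt_eq (h.1 l hl)

def nE : ↥G3510 := ⟨evalW2 Wn, evalW2_mem _ wn_letters⟩

theorem xE_pow11 : xE ^ 11 = 1 := by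
  apply Subtype.ext
  rw [Subgroup.coe_pow]
  exact xP_pow11

theorem xE_ne_one : xE ≠ 1 := fun h => xP_ne_one (congrArg Subtype.val h)

theorem ext_base {g h : ↥G3510} (hb : ∀ k < 5, g.val (bpt k) = h.val (bpt k)) : g = h :=
  Subtype.ext (eq_of_base g.2 h.2 hb)

theorem val_mul_apply (a b : ↥G3510) (u : Fin 3510) : (a * b).val u = a.val (b.val u) := rfl

theorem nE_conj : nE * xE * nE⁻¹ = xE ^ 4 := by
  rw [mul_inv_eq_iff_eq_mul]
  apply ext_base
  intro k hk
  apply Fin.ext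
  have e : (xE ^ 4).val = xP ^ 4 := by
    rw [Subgroup.coe_pow]
    rfl
  have e1 : nE.val = evalW2 Wn := rfl
  have e2 : xE.val = xP := rfl
  rw [val_mul_apply, val_mul_apply, e, e1, e2, evalW2_apply _ wn_letters, acts_xP,
    acts_xpow 4 (by norm_num), evalW2_apply _ wn_letters, bpt_val k hk]
  have h := n_chk0
  unfold nOK at h
  rw [Bool.and_eq_true, allBelow_iff] at h
  exact Nat.eq_of_beq_eq_true (h.2 k hk)

theorem yE_sq : yE * yE = 1 := Subtype.ext yP_sq

theorem yE_ne_one : yE ≠ 1 := fun h => yP_ne_one (congrArg Subtype.val h)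

theorem aE_sq : aE * aE = 1 := Subtype.ext aP_sq

theorem aE_ne_one : aE ≠ 1 := fun h => aP_ne_one (congrArg Subtype.val h)

theorem aE_comm : aE * xE = xE * aE := Subtype.ext aP_comm

theorem aE_inv : aE⁻¹ = aE := by
  symm
  exact eq_inv_of_mul_eq_one_left aE_sq

theorem not_121_dvd : ¬ 121 ∣ Nat.card ↥G3510 := by
  rw [card_G3510]
  norm_num

/-- every automorphism moves `xE` to a conjugate of it or of its square -/
theorem stepA (φ : MulAut ↥G3510) :
    ∃ g : ↥G3510, (MulAut.conj g * φ) xE = xE ∨ (MulAut.conj g * φ) xE = xE ^ 2 := by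
  have := finite_G3510
  obtain ⟨g, hg⟩ := exists_conj_eq_of_eleven xE nE xE_pow11 xE_ne_one not_121_dvd nE_conj φ
  refine ⟨g, ?_⟩
  rw [MulAut.mul_apply, MulAut.conj_apply]
  exact hg

/-! ### The commuting involution -/

/-- an automorphism fixing `xE` fixes the involution commuting with it -/
theorem image_aE (ψ : MulAut ↥G3510) (hx : ψ xE = xE) : ψ aE = aE := by
  apply Subtype.ext
  apply unique_invol (ψ aE).val (ψ aE).2
  · have h : ψ aE * ψ aE = 1 := by rw [← map_mul, aE_sq, map_one]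
    exact congrArg Subtype.val h
  · intro h
    have h1 : ψ aE = 1 := Subtype.ext h
    have h2 : aE = 1 := ψ.injective (h1.trans (map_one ψ).symm)
    exact aE_ne_one h2
  · have h : ψ aE * ψ xE = ψ xE * ψ aE := by rw [← map_mul, ← map_mul, aE_comm]
    rw [hx] at h
    exact congrArg Subtype.val h

theorem inL_aP : InL aP := by
  refine ⟨IA, rs_chk0.2.1, 0, by norm_num, ?_⟩
  rw [pow_zero, inv_one, one_mul, mul_one]
  rfl

/-- the image of `yE` under an automorphism fixing `xE` is in the list -/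
theorem inL_image (ψ : MulAut ↥G3510) (hx : ψ xE = xE) : InL (ψ yE).val := by
  obtain ⟨g, hg, e⟩ := pathEl_conj (path IA)
  have e1 : yE = (⟨g, hg⟩ : ↥G3510)⁻¹ * aE * ⟨g, hg⟩ := by
    apply Subtype.ext
    show yP = g⁻¹ * aP * g
    unfold aP tE
    rw [e]
    group
  have e2 : ψ yE = (ψ ⟨g, hg⟩)⁻¹ * aE * ψ ⟨g, hg⟩ := by
    have := congrArg ψ e1
    rw [map_mul, map_mul, map_inv, image_aE ψ hx] at this
    exact this
  have e3 : (ψ yE).val = ((ψ ⟨g, hg⟩)⁻¹).val * aP * (((ψ ⟨g, hg⟩)⁻¹).val)⁻¹ := by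
    rw [e2, Subgroup.coe_mul, Subgroup.coe_mul, Subgroup.coe_inv, inv_inv]
    rfl
  rw [e3]
  exact inL_conj _ ((ψ ⟨g, hg⟩)⁻¹).2 _ inL_aP

/-! ### The relations -/

theorem hRL : ∀ r ∈ RL, ∀ e ∈ r.1, e < 11 := by decide

theorem coe_relEl (x t : ↥G3510) (E : List ℕ) : (relEl x t E).val = relEl x.val t.val E :=
  map_relEl G3510.subtype x t E

theorem rel_y : ∀ r ∈ RL, relEl xE yE r.1 ^ r.2 = 1 := by
  intro r hr
  apply Subtype.ext
  rw [Subgroup.coe_pow, coe_relEl]
  exact (relsOK_iff xP yP (pathApp []) acts_xpow (pathEl_apply []) RL hRL).1 y_chk.2.1 r hr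

/-- conjugation by a power of `xE` of a syllable word -/
theorem relEl_conj (j : ℕ) (t : ↥G3510) (E : List ℕ) :
    (xE ^ j)⁻¹ * relEl xE t E * xE ^ j = relEl xE ((xE ^ j)⁻¹ * t * xE ^ j) E := by
  have h := map_relEl (MulAut.conj ((xE ^ j)⁻¹)).toMonoidHom xE t E
  rw [MulEquiv.coe_toMonoidHom, MulAut.conj_apply, MulAut.conj_apply, MulAut.conj_apply,
    inv_inv] at h
  rw [h]
  congr 1
  have : Commute (xE ^ j) xE := (Commute.refl xE).pow_left j
  calc (xE ^ j)⁻¹ * xE * xE ^ j = (xE ^ j)⁻¹ * (xE * xE ^ j) := by group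
    _ = (xE ^ j)⁻¹ * (xE ^ j * xE) := by rw [this.eq]
    _ = xE := by group

theorem pow_conj_one {M : Type*} [Group M] (a b : M) (m : ℕ) (h : b ^ m = 1) :
    (a⁻¹ * b * a) ^ m = 1 := by
  have : a⁻¹ * b * a = MulAut.conj a⁻¹ b := by rw [MulAut.conj_apply, inv_inv]
  rw [this, ← map_pow, h, map_one]

/-! ### The second survivor of the filter -/

theorem y2_chk : ∀ k < 5, pathApp (path IY2) (bv k) =
    tg (XP ((11 - J0) % 11)) 12 (aApp (tg YC 12 (aApp (tg (XP J0) 12 (bv k))))) := by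
  have h := y2_chk0
  unfold y2OK at h
  rw [allBelow_iff] at h
  exact fun k hk => Nat.eq_of_beq_eq_true (h k hk)

theorem tE_IY2 : tE IY2 = (xP ^ J0)⁻¹ * (aP * yP * aP) * xP ^ J0 := by
  have hJ : J0 < 11 := rs_chk0.2.2.2
  apply eq_of_base (pathEl_mem _)
    (G3510.mul_mem (G3510.mul_mem (G3510.inv_mem (xpow_mem _))
      (G3510.mul_mem (G3510.mul_mem aP_mem yP_mem) aP_mem)) (xpow_mem _))
  intro k hk
  apply Fin.ext
  rw [pathEl_apply, xpow_inv J0 hJ, Equiv.Perm.mul_apply, Equiv.Perm.mul_apply,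
    Equiv.Perm.mul_apply, Equiv.Perm.mul_apply]
  rw [acts_xpow _ (Nat.mod_lt _ (by norm_num)), aP_apply, acts_yP, aP_apply, acts_xpow J0 hJ,
    bpt_val k hk]
  exact y2_chk k hk

theorem conj_form {M : Type*} [Group M] (u v a y : M) (ha : a⁻¹ = a) :
    u * (v⁻¹ * (a * y * a) * v) * u⁻¹ = (u * v⁻¹ * a) * y * (u * v⁻¹ * a)⁻¹ := by
  rw [mul_inv_rev, mul_inv_rev, inv_inv, ha]
  group

/-- an automorphism fixing `xE` maps `yE` to a conjugate by an element of the centraliser -/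
theorem image_fix (ψ : MulAut ↥G3510) (hx : ψ xE = xE) :
    ∃ j < 11, ψ yE = xE ^ j * yE * (xE ^ j)⁻¹ ∨
      ψ yE = xE ^ j * ((xE ^ J0)⁻¹ * (aE * yE * aE) * xE ^ J0) * (xE ^ j)⁻¹ := by
  obtain ⟨r, hr, j, hj, hact⟩ := inL_image ψ hx
  have hval : ((xE ^ j)⁻¹ * ψ yE * xE ^ j).val = (xP ^ j)⁻¹ * (ψ yE).val * xP ^ j := by
    rw [Subgroup.coe_mul, Subgroup.coe_mul, Subgroup.coe_inv, Subgroup.coe_pow]
    rfl
  have hrel : ∀ rr ∈ RL, relEl xP (tE r) rr.1 ^ rr.2 = 1 := by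
    intro rr hrr
    have h3 : relEl xE (ψ yE) rr.1 ^ rr.2 = 1 := by
      have : relEl xE (ψ yE) rr.1 = ψ (relEl xE yE rr.1) := by
        have := map_relEl ψ.toMonoidHom xE yE rr.1
        rw [MulEquiv.coe_toMonoidHom, hx] at this
        exact this.symm
      rw [this, ← map_pow, rel_y rr hrr, map_one]
    have h4 := pow_conj_one (xE ^ j) _ rr.2 h3
    rw [relEl_conj] at h4
    have h5 := congrArg Subtype.val h4
    rw [Subgroup.coe_pow, coe_relEl, hval, hact] at h5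
    exact h5
  have e3 : ψ yE = xE ^ j * ((xE ^ j)⁻¹ * ψ yE * xE ^ j) * (xE ^ j)⁻¹ := by group
  have hf := filt_chk0 r hr
  unfold filtOK at hf
  rw [Bool.or_eq_true, Bool.or_eq_true] at hf
  rcases hf with (hf | hf) | hf
  · have hrIY : r = IY := Nat.eq_of_beq_eq_true hf
    rw [hrIY, tE_IY] at hact
    refine ⟨j, hj, Or.inl ?_⟩
    have e2 : (xE ^ j)⁻¹ * ψ yE * xE ^ j = yE := by
      apply Subtype.ext
      rw [hval, hact]
      rfl
    rw [e2] at e3
    exact e3
  · have hrIY : r = IY2 := Nat.eq_of_beq_eq_true hf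
    rw [hrIY, tE_IY2] at hact
    refine ⟨j, hj, Or.inr ?_⟩
    have e2 : (xE ^ j)⁻¹ * ψ yE * xE ^ j = (xE ^ J0)⁻¹ * (aE * yE * aE) * xE ^ J0 := by
      apply Subtype.ext
      rw [hval, hact, Subgroup.coe_mul, Subgroup.coe_mul, Subgroup.coe_inv, Subgroup.coe_pow,
        Subgroup.coe_mul, Subgroup.coe_mul]
      rfl
    rw [e2] at e3
    exact e3
  · exact (not_rels_of_wit xP (tE r) r _ acts_xpow (pathEl_apply (path r)) RL hRL hf hrel).elim

/-! ### Generation -/

theorem closure_xy : Subgroup.closure ({xE, yE} : Set ↥G3510) = ⊤ := by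
  rw [eq_top_iff]
  intro g _
  have hg : g.val ∈ Gxy := G3510_le g.2
  unfold Gxy at hg
  have key : ∀ p : Pm, p ∈ Subgroup.closure ({xP, yP} : Set Pm) → ∀ hp : p ∈ G3510,
      (⟨p, hp⟩ : ↥G3510) ∈ Subgroup.closure ({xE, yE} : Set ↥G3510) := by
    intro p hp
    induction hp using Subgroup.closure_induction with
    | mem x hx =>
      intro hp
      apply Subgroup.subset_closure
      rcases hx with rfl | hx
      · left; rfl
      · right
        rw [Set.mem_singleton_iff] at hx ⊢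
        exact Subtype.ext hx
    | one =>
      intro hp
      exact Subgroup.one_mem _
    | mul x y hx' hy' hx hy =>
      intro hp
      have hxm : x ∈ G3510 := Gxy_le hx'
      have hym : y ∈ G3510 := Gxy_le hy'
      have : (⟨x * y, hp⟩ : ↥G3510) = ⟨x, hxm⟩ * ⟨y, hym⟩ := rfl
      rw [this]
      exact Subgroup.mul_mem _ (hx hxm) (hy hym)
    | inv x hx' hx =>
      intro hp
      have hxm : x ∈ G3510 := Gxy_le hx'
      have : (⟨x⁻¹, hp⟩ : ↥G3510) = (⟨x, hxm⟩ : ↥G3510)⁻¹ := rfl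
      rw [this]
      exact Subgroup.inv_mem _ (hx hxm)
  exact key g.val hg g.2

theorem aut_ext {φ ψ : MulAut ↥G3510} (hx : φ xE = ψ xE) (hy : φ yE = ψ yE) : φ = ψ := by
  have key : φ.toMonoidHom = ψ.toMonoidHom := by
    apply MonoidHom.eq_of_eqOn_dense closure_xy
    rintro x (rfl | rfl)
    · exact hx
    · exact hy
  exact MulEquiv.ext (fun x => DFunLike.congr_fun key x)

/-- an automorphism fixing `xE` is inner -/
theorem inner_of_fix (ψ : MulAut ↥G3510) (hx : ψ xE = xE) :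
    ∃ g : ↥G3510, ψ = MulAut.conj g := by
  obtain ⟨j, _, hy | hy⟩ := image_fix ψ hx
  · refine ⟨xE ^ j, ?_⟩
    apply aut_ext
    · rw [hx, MulAut.conj_apply]
      have : Commute (xE ^ j) xE := (Commute.refl xE).pow_left j
      rw [this.eq]
      group
    · rw [hy, MulAut.conj_apply]
  · refine ⟨xE ^ j * (xE ^ J0)⁻¹ * aE, ?_⟩
    apply aut_ext
    · rw [hx, MulAut.conj_apply]
      have hc1 : Commute (xE ^ j) xE := (Commute.refl xE).pow_left j
      have hc2 : Commute (xE ^ J0)⁻¹ xE := ((Commute.refl xE).pow_left J0).inv_left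
      have hc3 : Commute aE xE := aE_comm
      have hc : Commute (xE ^ j * (xE ^ J0)⁻¹ * aE) xE := (hc1.mul_left hc2).mul_left hc3
      rw [hc.eq]
      group
    · rw [hy, MulAut.conj_apply]
      exact conj_form _ _ _ _ aE_inv

end Cfsg.Agent.Helper29.FiAu
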