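import Mathlib
import Cfsg.Agent.Lib.Helper29.FusPt

set_option autoImplicit false
open Cfsg

namespace Cfsg.Agent.Helper29.FusM22

open Cfsg.Agent.Helper27 Cfsg.Agent.Helper29 Cfsg.Agent.Helper29.M24
open Cfsg.Agent.Helper29.FusCert Cfsg.Agent.Helper29.Syl2 Cfsg.Agent.Helper29.FusPt
open Cfsg.Agent.S0358 (idx)
open scoped Pointwise

/-- the elements of the Sylow 2-subgroup of the large group fixing the two points -/
def Q22 : Subgroup (Equiv.Perm GolayPt) :=
  (P0 ⊓ MulAction.stabilizer (Equiv.Perm GolayPt) (none : GolayPt)) ⊓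
    MulAction.stabilizer (Equiv.Perm GolayPt) (some 0 : GolayPt)

def gt (c : ℕ) : Bool := Nat.beq (appF c 23) 23 && Nat.beq (appF c 0) 0

def qt (c : ℕ) : Bool := finC c && (Nat.beq (appF c 23) 23 && Nat.beq (appF c 0) 0)

def QL : List (List ℕ × ℕ) := PC.filter fun q => Nat.beq (appF q.2 23) 23 && Nat.beq (appF q.2 0) 0

theorem mem_stab_none (g : Equiv.Perm GolayPt) :
    g ∈ MulAction.stabilizer (Equiv.Perm GolayPt) (none : GolayPt) ↔ g (dec 23) = dec 23 := by
  rw [dec23]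
  exact MulAction.mem_stabilizer_iff

theorem mem_stab_zero (g : Equiv.Perm GolayPt) :
    g ∈ MulAction.stabilizer (Equiv.Perm GolayPt) (some 0 : GolayPt) ↔ g (dec 0) = dec 0 := by
  rw [dec0]
  exact MulAction.mem_stabilizer_iff

theorem ctx : Ctx Cfsg.Spor.M22 Q22 gt qt QL where
  hG := by
    intro W c hr h
    unfold gt at h
    rw [Bool.and_eq_true] at h
    refine Subgroup.mem_inf.2 ⟨Subgroup.mem_inf.2 ⟨evalW_mem_M24 W hr.1, (mem_stab_none _).2 ?_⟩,
      (mem_stab_zero _).2 ?_⟩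
    · exact fix_of_appF W c hr 23 (by norm_num) (Nat.eq_of_beq_eq_true h.1)
    · exact fix_of_appF W c hr 0 (by norm_num) (Nat.eq_of_beq_eq_true h.2)
  hQ := by
    intro W c hr h
    unfold qt at h
    rw [Bool.and_eq_true, Bool.and_eq_true] at h
    refine Subgroup.mem_inf.2 ⟨Subgroup.mem_inf.2 ⟨mem_P0_of_fin W c hr h.1,
      (mem_stab_none _).2 ?_⟩, (mem_stab_zero _).2 ?_⟩
    · exact fix_of_appF W c hr 23 (by norm_num) (Nat.eq_of_beq_eq_true h.2.1)
    · exact fix_of_appF W c hr 0 (by norm_num) (Nat.eq_of_beq_eq_true h.2.2)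
  hQL := by
    intro g hg
    obtain ⟨hg1, hs0⟩ := Subgroup.mem_inf.1 hg
    obtain ⟨hP, hs⟩ := Subgroup.mem_inf.1 hg1
    obtain ⟨q, hq, hr, rfl⟩ := P0_sub g hP
    refine ⟨q, ?_, hr, rfl⟩
    unfold QL
    rw [List.mem_filter]
    refine ⟨hq, ?_⟩
    rw [appF_of_fix q.1 q.2 hr 23 (by norm_num) ((mem_stab_none _).1 hs),
      appF_of_fix q.1 q.2 hr 0 (by norm_num) ((mem_stab_zero _).1 hs0)]
    rfl
  hQG := by
    intro g hg
    obtain ⟨hg1, hs0⟩ := Subgroup.mem_inf.1 hg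
    obtain ⟨hP, hs⟩ := Subgroup.mem_inf.1 hg1
    exact Subgroup.mem_inf.2 ⟨Subgroup.mem_inf.2 ⟨((mem_P0 g).1 hP).1, hs⟩, hs0⟩
  hpow := fun g hg => P0_pow8 g (Subgroup.mem_inf.1 (Subgroup.mem_inf.1 hg).1).1

def zz : List ℕ × ℕ := ([11, 9], 968708902336673183175954409307867168)

def ys : List (List ℕ × ℕ) := [([12, 10, 9], 979121071158219704299181131031480352), ([2, 2, 2, 4, 4, 4, 5, 7, 6, 6, 6, 7, 6, 8, 9], 984276626643360701300950183426163776), ([12, 11, 10, 9], 966182099583441531322624363496310816), ([2, 2, 2, 3, 4, 5, 4, 6, 6, 7, 6, 12, 10, 9], 980396787561598970936339623786416672)]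

def steps : List Step := [
  .conj 9999 [8, 8] 966039336168793943308839874394687520 [8] 982125237077252311731715764534741024,
  .conj 9999 [3, 2, 2, 2, 3, 4, 4, 4, 4, 4, 5, 4, 7, 7, 6, 8, 8] 980188731026651620659381121038072288 [2, 3, 3, 2, 2, 4, 4, 4, 5, 6, 7, 8, 8, 11, 10] 962327707322811125846363497114013984,
  .conj 1 [3, 2, 2, 5, 4, 4, 5, 4, 6, 6, 6, 12, 10, 9] 957357233061775078226277977023926496 [2, 3, 4, 4, 4, 5, 7, 7, 6, 7, 6, 11, 10, 9] 980860105699369074742911280176666304,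
  .conj 9999 [3, 3, 3, 2, 4, 5, 5, 4, 6, 6, 12] 972421716818239829059044062998399360 [2, 3, 3, 2, 4, 4, 4, 5, 4, 6, 6, 7, 6, 7, 8, 8, 12] 969830332365499480901647812875356800,
  .mul 9999 0,
  .mul 4 1,
  .mul 5 0,
  .mul 6 1,
  .mul 1 0,
  .mul 8 1,
  .mul 0 1,
  .mul 10 0,
  .mul 11 1,
  .mul 12 2,
  .mul 9999 1,
  .mul 14 3,
  .mul 15 1,
  .mul 16 3,
  .mul 1 3,
  .mul 18 1]

def gens : List ℕ := [6, 19, 17, 13, 9, 7, 9999]

def fams : List CFam := [(2, 2, [12, 131074])]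

def extra : List (List ℕ) := [[8388608], [1]]

def wit : List (List ℕ × ℕ) := [([2, 2, 2, 4, 5, 7, 6, 6, 12, 11], 961491682891104798281857303806264384)]

set_option maxRecDepth 100000 in
theorem check : checkA gt qt QL zz ys steps gens = true := by decide +kernel

theorem coreA : CoreA Cfsg.Spor.M22 Q22 := coreA_of_check ctx zz ys steps gens check

set_option maxRecDepth 100000 in
theorem hsub : subCheck QL fams = true := by decide +kernel

set_option maxRecDepth 100000 in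
theorem hsup : supCheck qt wit fams = true := by decide +kernel

set_option maxRecDepth 100000 in
theorem hsearch : ((searchCAll (lvlG (fams.map (fun f => f.2.2) ++ extra))
    (finG (fams.map (fun f => f.2.2) ++ extra))).all fun r => qt r.2) = true := by
  decide +kernel

theorem coreN : CoreN Cfsg.Spor.M22 Q22 := by
  refine coreN_of_check ctx (fun g hg => (Subgroup.mem_inf.1 (Subgroup.mem_inf.1 hg).1).1)
    wit fams extra ?_ hsub hsup (by decide) hsearch
  intro n hn LF hLF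
  obtain ⟨hn1, hs0⟩ := Subgroup.mem_inf.1 hn
  have hLF' : LF = [8388608] ∨ LF = [1] := by simpa [extra] using hLF
  rcases hLF' with rfl | rfl
  · exact presF_point 23 (by norm_num) n ((mem_stab_none n).1 (Subgroup.mem_inf.1 hn1).2) _ mask23
  · exact presF_point 0 (by norm_num) n ((mem_stab_zero n).1 hs0) _ mask0

theorem zz_ok : Repr zz.2 zz.1 ∧ qt zz.2 = true ∧ appF zz.2 4 ≠ 4 := by decide +kernel

theorem Q22_ne_bot : Q22 ≠ ⊥ := by
  intro hb
  have h1 : evalW zz.1 ∈ Q22 := ctx.hQ zz.1 zz.2 zz_ok.1 zz_ok.2.1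
  rw [hb, Subgroup.mem_bot] at h1
  exact evalW_ne_one zz.1 zz.2 zz_ok.1 4 (by norm_num) zz_ok.2.2 h1

end Cfsg.Agent.Helper29.FusM22
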