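import Mathlib
import Cfsg.Agent.Lib.Helper29.SchurM23

set_option autoImplicit false
open Cfsg

/-! Certificates for pairs of elements of prime orders generating the Mathieu group of degree 23:
the strong generators of the point stabilizer of the verified chain are words in the pair. -/

namespace Cfsg.Agent.Helper29.GenM23

open Cfsg.Agent.Helper29.M24 Cfsg.Agent.Helper29 Cfsg.Agent.Helper27
open Cfsg.Agent.S0358 (idx)

/-- a permutation tracked by a function on encoded points -/
def Tr (g : Equiv.Perm GolayPt) (f : ℕ → ℕ) : Prop := ∀ p : GolayPt, idx (g p) = f (idx p)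

theorem Tr.one : Tr 1 id := fun _ => rfl

theorem Tr.mul {g h : Equiv.Perm GolayPt} {f k : ℕ → ℕ} (hg : Tr g f) (hh : Tr h k) :
    Tr (g * h) (fun i => f (k i)) := by
  intro p
  rw [Equiv.Perm.mul_apply, hg, hh]

theorem Tr.pow {g : Equiv.Perm GolayPt} {f : ℕ → ℕ} (hg : Tr g f) (n : ℕ) :
    Tr (g ^ n) (f^[n]) := by
  induction n with
  | zero => exact Tr.one
  | succ n ih =>
    intro p
    rw [pow_succ', Equiv.Perm.mul_apply, hg, ih, Function.iterate_succ_apply']

theorem Tr.eq {g h : Equiv.Perm GolayPt} {f k : ℕ → ℕ} (hg : Tr g f) (hh : Tr h k)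
    (e : ∀ i < 24, f i = k i) : g = h := by
  apply Equiv.ext
  intro p
  apply M24.idx_injective
  rw [hg, hh]
  exact e _ (M24.idx_lt p)

theorem Tr.ne_one {g : Equiv.Perm GolayPt} {f : ℕ → ℕ} (hg : Tr g f)
    (e : ∃ i < 24, f i ≠ i) : g ≠ 1 := by
  obtain ⟨i, hi, hne⟩ := e
  intro h
  apply hne
  have := hg (dec i)
  rw [h, Equiv.Perm.one_apply, idx_dec ⟨i, hi⟩] at this
  exact this.symm

theorem Tr.of_repr (c : ℕ) (W : List ℕ) (h : Repr c W) : Tr (evalW W) (appF c) := by
  intro p
  rw [idx_evalW W h.1, appF_eq, h.2 _ (M24.idx_lt p)]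

theorem Tr.gP (j : ℕ) (hj : j < ngen) : Tr (gP j) (appF (gcode j)) := by
  intro p
  rw [idx_gP j hj, appF_eq]

/-- the product of a word in two permutations -/
def evalXY (X Y : Equiv.Perm GolayPt) (w : List Bool) : Equiv.Perm GolayPt :=
  (w.map fun b => bif b then Y else X).prod

/-- the action of a word in two packed permutations -/
def appXY (cx cy : ℕ) (w : List Bool) (i : ℕ) : ℕ :=
  w.foldr (fun b acc => appF (bif b then cy else cx) acc) i

theorem Tr.xy {X Y : Equiv.Perm GolayPt} {cx cy : ℕ} (hX : Tr X (appF cx)) (hY : Tr Y (appF cy))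
    (w : List Bool) : Tr (evalXY X Y w) (appXY cx cy w) := by
  induction w with
  | nil => exact Tr.one
  | cons b w ih =>
    intro p
    unfold evalXY appXY
    rw [List.map_cons, List.prod_cons, Equiv.Perm.mul_apply, List.foldr_cons]
    cases b with
    | false => exact (hX _).trans (congrArg _ (ih p))
    | true => exact (hY _).trans (congrArg _ (ih p))

theorem evalXY_mem (X Y : Equiv.Perm GolayPt) (w : List Bool) :
    evalXY X Y w ∈ Subgroup.closure ({X, Y} : Set (Equiv.Perm GolayPt)) := by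
  unfold evalXY
  apply Subgroup.list_prod_mem
  intro g hg
  obtain ⟨b, _, rfl⟩ := List.mem_map.1 hg
  cases b with
  | false => exact Subgroup.subset_closure (by simp)
  | true => exact Subgroup.subset_closure (by simp)

/-- the data of a certificate -/
structure Cert where
  p : ℕ
  q : ℕ
  r : ℕ
  Wx : List ℕ
  cx : ℕ
  Wy : List ℕ
  cy : ℕ
  ws : List (List Bool)

/-- a function on encoded points is the identity -/
def isId (f : ℕ → ℕ) : Bool := (List.range 24).all fun i => Nat.beq (f i) i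

theorem isId_spec (f : ℕ → ℕ) (h : isId f = true) : ∀ i < 24, f i = i := by
  intro i hi
  unfold isId at h
  rw [List.all_eq_true] at h
  exact Nat.eq_of_beq_eq_true (h i (List.mem_range.2 hi))

theorem not_isId_spec (f : ℕ → ℕ) (h : isId f = false) : ∃ i < 24, f i ≠ i := by
  by_contra hcon
  have : isId f = true := by
    unfold isId
    rw [List.all_eq_true]
    intro i hi
    have hfi : f i = i := by
      by_contra hne
      exact hcon ⟨i, List.mem_range.1 hi, hne⟩
    rw [hfi]
    exact Nat.beq_refl i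
  rw [this] at h
  exact Bool.noConfusion h

/-- the word for the strong generator `j` is correct -/
def wordOK (C : Cert) (j : ℕ) : Bool :=
  (List.range 24).all fun i => Nat.beq (appF (gcode j) i) (appXY C.cx C.cy (C.ws.getD j []) i)

/-- the whole check -/
def check (C : Cert) : Bool :=
  decide (Repr C.cx C.Wx) && decide (Repr C.cy C.Wy) && FusM23.gt C.cx && FusM23.gt C.cy &&
  isId ((appF C.cx)^[C.p]) && !(isId (appF C.cx)) &&
  isId ((appF C.cy)^[C.q]) && !(isId (appF C.cy)) &&
  isId ((fun i => appF C.cx (appF C.cy i))^[C.r]) && !(isId (fun i => appF C.cx (appF C.cy i))) &&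
  (List.range 13).all fun j => Nat.blt (depthOf j) 1 || wordOK C j

theorem M23_eq_grp1 : Cfsg.Spor.M23 = grp 1 := by
  ext σ
  rw [mem_grp_iff 1 (by norm_num)]
  constructor
  · intro h
    obtain ⟨h1, h2⟩ := Subgroup.mem_inf.1 h
    refine ⟨h1, fun i' hi' => ?_⟩
    obtain rfl : i' = 0 := by omega
    exact MulAction.mem_stabilizer_iff.1 h2
  · rintro ⟨h1, h2⟩
    exact Subgroup.mem_inf.2 ⟨h1, MulAction.mem_stabilizer_iff.2 (h2 0 (by norm_num))⟩

/-- a checked certificate gives a generating triple -/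
theorem of_check (C : Cert) (hp : C.p.Prime) (hq : C.q.Prime) (hr : C.r.Prime)
    (h : check C = true) :
    ∃ x y z : ↥Cfsg.Spor.M23, orderOf x = C.p ∧ orderOf y = C.q ∧ orderOf z = C.r ∧
      x * y * z = 1 ∧ Subgroup.closure {x, y} = ⊤ := by
  unfold check at h
  simp only [Bool.and_eq_true, decide_eq_true_eq, Bool.not_eq_true'] at h
  obtain ⟨⟨⟨⟨⟨⟨⟨⟨⟨⟨hRx, hRy⟩, hgx⟩, hgy⟩, hxp⟩, hx1⟩, hyq⟩, hy1⟩, hxyr⟩, hxy1⟩, hw⟩ := h
  have hX := Tr.of_repr C.cx C.Wx hRx
  have hY := Tr.of_repr C.cy C.Wy hRy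
  have hXm : evalW C.Wx ∈ Cfsg.Spor.M23 := SchurM23.mem_of C.Wx C.cx ⟨hRx, hgx⟩
  have hYm : evalW C.Wy ∈ Cfsg.Spor.M23 := SchurM23.mem_of C.Wy C.cy ⟨hRy, hgy⟩
  have : Fact C.p.Prime := ⟨hp⟩
  have : Fact C.q.Prime := ⟨hq⟩
  have : Fact C.r.Prime := ⟨hr⟩
  have hXo : orderOf (evalW C.Wx) = C.p := by
    apply orderOf_eq_prime
    · exact Tr.eq (hX.pow C.p) Tr.one (isId_spec _ hxp)
    · exact hX.ne_one (not_isId_spec _ hx1)
  have hYo : orderOf (evalW C.Wy) = C.q := by
    apply orderOf_eq_prime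
    · exact Tr.eq (hY.pow C.q) Tr.one (isId_spec _ hyq)
    · exact hY.ne_one (not_isId_spec _ hy1)
  have hXYo : orderOf (evalW C.Wx * evalW C.Wy) = C.r := by
    apply orderOf_eq_prime
    · exact Tr.eq ((hX.mul hY).pow C.r) Tr.one (isId_spec _ hxyr)
    · exact (hX.mul hY).ne_one (not_isId_spec _ hxy1)
  let x : ↥Cfsg.Spor.M23 := ⟨evalW C.Wx, hXm⟩
  let y : ↥Cfsg.Spor.M23 := ⟨evalW C.Wy, hYm⟩
  refine ⟨x, y, (x * y)⁻¹, ?_, ?_, ?_, ?_, ?_⟩
  · rw [← hXo]; exact Subgroup.orderOf_mk _ hXm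
  · rw [← hYo]; exact Subgroup.orderOf_mk _ hYm
  · rw [orderOf_inv, ← hXYo]
    exact Subgroup.orderOf_mk _ (Subgroup.mul_mem _ hXm hYm)
  · exact mul_inv_cancel _
  · rw [eq_top_iff]
    intro g _
    have hgen : ∀ j < ngen, 1 ≤ depthOf j →
        gP j ∈ Subgroup.closure ({evalW C.Wx, evalW C.Wy} : Set (Equiv.Perm GolayPt)) := by
      intro j hj hd
      rw [List.all_eq_true] at hw
      have hj13 : j ∈ List.range 13 := List.mem_range.2 hj
      have h1 := hw j hj13
      rw [Bool.or_eq_true] at h1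
      rcases h1 with h1 | h1
      · have hlt : depthOf j < 1 := by simpa [Nat.blt_eq] using h1
        omega
      · unfold wordOK at h1
        rw [List.all_eq_true] at h1
        have e : gP j = evalXY (evalW C.Wx) (evalW C.Wy) (C.ws.getD j []) := by
          apply Tr.eq (Tr.gP j hj) (Tr.xy hX hY _)
          intro i hi
          exact Nat.eq_of_beq_eq_true (h1 i (List.mem_range.2 hi))
        rw [e]
        exact evalXY_mem _ _ _
    have hle : grp 1 ≤ Subgroup.closure ({evalW C.Wx, evalW C.Wy} : Set (Equiv.Perm GolayPt)) := by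
      unfold grp
      rw [Subgroup.closure_le]
      rintro _ ⟨j, hj, hd, rfl⟩
      exact hgen j hj hd
    have hg1 : g.1 ∈ grp 1 := by rw [← M23_eq_grp1]; exact g.2
    have hmap : (Subgroup.closure ({x, y} : Set ↥Cfsg.Spor.M23)).map (Cfsg.Spor.M23).subtype =
        Subgroup.closure ({evalW C.Wx, evalW C.Wy} : Set (Equiv.Perm GolayPt)) := by
      rw [MonoidHom.map_closure]
      congr 1
      ext u
      simp [x, y, Set.image_insert_eq]
    have h2 := hle hg1
    rw [← hmap] at h2
    obtain ⟨g', hg', hgg⟩ := Subgroup.mem_map.1 h2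
    have : g' = g := Subtype.ext hgg
    rw [← this]
    exact hg'

end Cfsg.Agent.Helper29.GenM23
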