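import Mathlib
import Cfsg.Agent.Lib.Helper29.GenM23Defs

set_option autoImplicit false
open Cfsg

/-! Certificates for the forty generating triples of prime orders of the Mathieu group of degree
23 (generated data, checked by kernel evaluation). -/

namespace Cfsg.Agent.Helper29.GenM23

open Cfsg.Agent.Helper29.M24 Cfsg.Agent.Helper29

def C_2_5_11 : Cert where
  p := 2
  q := 5
  r := 11
  Wx := [0, 11, 3, 0, 11, 3, 0, 11, 3, 0, 11, 3, 0, 11, 3, 0, 11, 3, 0, 11, 3]
  cx := 984188218311738396460148637629553696
  Wy := [8, 2, 5, 0, 8, 2, 5, 0, 8, 2, 5, 0]
  cy := 960195315053281411709321217571981601
  ws := [[false, true, false, true, true, false, true, true, true, true, false, true, false, true, true, true, false, true, true, true, false, true, true, false, true, true, true, true, false, true, false], [], [true, true, false, true, false, true, true, true, true, false, true, true, false, true, false, true, true, true, true, false, true, false, true, false, true, false, true, true, false, true, true, true, false, true, true], [false, true, false, true, true, false, true, false, true, true, false, true, false, true, false, true, true, true, false, true, false, true, false, true, true, true, true, false, true, true, false, true, true], [true, true, false, true, false, true, true, false, true, false, true, true, true, false, true, false, true, true, false, true, true, true, false, true, false, true, true, false, true, true, true, false, true, false, true], [false, true, false, true, true, false, true, false, true, true, false, true, true, false, true, true, false, true, true, false, true, true, false, true, true, false, true,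 false, true, true, true, false, true, true, false], [true, false, true, true, true, true, false, true, true, true, false, true, false, true, true, true, false, true, false, true, true, true, false, true, false, true, true, false, true, true, true, false, true, true], [false, true, true, false, true, true, false, true, true, true, true, false, true, false, true, true, false, true, true, false, true, false, true, false, true, true, false, true, true, true, true], [true, false, true, true, true, false, true, false, true, true, false, true, true, true, true, false, true, true, true, false, true, false, true, true, false, true, false, true, false, true, false, true, true, true, false, true, true], [true, true, true, false, true, true, true, false, true, false, true, false, true, false, true, false, true, true, false, true, false, true, false, true, true, false, true, true, true, false, true, true], [false, true, true, true, false, true, true, false, true, false, true, false, true, true, false, true, true, true, true, false, true, true, true, true, false, true, true, true, false, true, false, true], [true, false, true, true, true, false, true, true, false, true, true, true, false, true, true, false, true, false, true, true, true, false, true, true, false, true, false, true, false, true], [false, true, false, true, true, false, true, true, false, true, true, false, true, true, true, false, true, false, true, true, true, true, false, true, true, true, true, false, true, false]]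

theorem chk_2_5_11 : check C_2_5_11 = true := by decide +kernel

def C_2_5_23 : Cert where
  p := 2
  q := 5
  r := 23
  Wx := [11, 6, 0, 11, 6, 0, 11, 6, 0, 11, 6, 0, 11, 6, 0, 11, 6, 0, 11, 6, 0]
  cx := 981413334778847362470857851011251876
  Wy := [5, 9, 5]
  cy := 977597427013348463888487298324977696
  ws := [[true, false, true, false, true, true, true, false, true, true, true, false, true, true, false, true, false, true, false, true, false, true, true, true, true, false, true, false, true, true, false, true, false, true, true, true, false], [], [true, true, false, true, false, true, true, false, true, true, true, true, false, true, true, true, true, false, true, true, false, true, false, true, false, true, true, false, true, false, true, true, false, true, true, false, true, true, false], [false, true, true, true, false, true, false, true, true, false, true, true, true, true, false, true, true, false, true, false, true, false, true, false, true, false, true, true, true, true, false], [false, true, true, true, false, true, false, true, false, true, true, false, true, false, true, true, false, true, false, true, true, false, true, true, false, true, true, false, true, true, false, true, false, true, false, true, false], [true, true, true, true, false, true, true, false, true, false, true, true, false, true, true, false, true, false, true, true, false, true, true, false, true, false, true, true, true, false, true, true, false, true, false], [true, true, true, false, true, true, false, true, false, true, false, true, true, false, true, false, true, false, true, true, false, true, true, true, false, true, false, true,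 true, true, true], [false, true, true, true, false, true, false, true, true, false, true, true, true, false, true, true, false, true, false, true, false, true, false, true, true, true, false, true, false, true, true, true, false, true, false, true], [true, true, false, true, true, true, true, false, true, true, true, false, true, false, true, true, false, true, false, true, true, false, true, true, false, true, false, true, false, true, true, false, true, false], [false, true, false, true, true, false, true, true, false, true, true, true, true, false, true, true, true, false, true, false, true, false, true, true, false, true], [true, true, false, true, true, true, true, false, true, false, true, true, true, false, true, true, true, false, true, true, false, true, true, false, true, true, true, true, false, true, false, true, true, true], [true, true, true, true, false, true, true, false, true, false, true, true, false, true, false, true, true, false, true, false, true, true, true, true, false, true, true, true, false, true, false, true, false], [true, false, true, false, true, false, true, true, true, true, false, true, true, false, true, false, true, false, true, true, true, false, true, false, true, true, false, true, true, false, true, true, true]]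

theorem chk_2_5_23 : check C_2_5_23 = true := by decide +kernel

def C_2_7_7 : Cert where
  p := 2
  q := 7
  r := 7
  Wx := [3, 0, 9, 11, 2, 3, 0, 9, 11, 2, 3, 0, 9, 11, 2, 3, 0, 9, 11, 2, 3, 0, 9, 11, 2, 3, 0, 9, 11, 2, 3, 0, 9, 11, 2]
  cx := 957550604748623461401826284009432771
  Wy := [0, 4, 3, 9, 0, 4, 3, 9]
  cy := 959363799556436411970808526130075889
  ws := [[true, true, false, true, true, true, false, true, true, false, true, false, true, true, false, true, false, true, true, false, true, false, true, true, true, false, true, true, false, true], [], [true, true, true, false, true, true, true, true, false, true, false, true, false, true, true, true, false, true, true, false, true, true, true, true, false, true, true, true, true, true, false, true, false, true, false, true], [false, true, false, true, true, true, true, true, false, true, true, true, false, true, false, true, true, true, false, true, true, false, true, true, false, true, true, true, true, false, true, true, true, true, false], [true, true, true, false, true, false, true, true, true, false, true, true, false, true, false, true, true, true, false, true, true, false, true, true, false, true, true, true, false, true], [false, true, true, false, true, true, true, true, false, true, false, true, true, true, false, true, true, false, true, true, true, false, true, true, false, true, false, true, false, true, true, false], [true, false, true, true, true, true, false, true, true, true, true, true, true, false, true, true, true, true, false, true, true, true, true, false, true, true], [false, true, true, false, true, true, true, true, true, true, false,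 true, false, true, true, true, false, true, false, true, true, true, false, true, true, false, true, false, true, true, true, true, false], [true, true, true, true, false, true, false, true, false, true, true, false, true, true, true, true, true, false, true, true, true, false, true, true, true, true, true, true, false], [true, true, true, true, true, false, true, true, true, true, true, true, false, true, false, true, true], [true, false, true, true, false, true, false, true, true, true, true, true, true, false, true, false, true, true, false, true, true, true, false, true, false, true, true, false, true, true, true, false], [false, true, false, true, false, true, true, true, true, false, true, false, true, false, true, true, false, true, true, true, false, true, true, true, true, true, true, false, true, false, true, true], [true, true, true, false, true, true, false, true, false, true, true, true, false, true, false, true, true, true, true, true, true, false]]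

theorem chk_2_7_7 : check C_2_7_7 = true := by decide +kernel

def C_2_7_11 : Cert where
  p := 2
  q := 7
  r := 11
  Wx := [0, 10, 9, 4, 9, 5, 0, 10, 9, 4, 9, 5, 0, 10, 9, 4, 9, 5, 0, 10, 9, 4, 9, 5, 0, 10, 9, 4, 9, 5, 0, 10, 9, 4, 9, 5, 0, 10, 9, 4, 9, 5]
  cx := 975244193993948791983069356418970963
  Wy := [7, 2, 5, 9]
  cy := 967192944328325903141327862987595936
  ws := [[false, true, true, true, true, false, true, true, true, false, true, true, true, false, true, true, true, false, true, true, true, false, true, false, true, true, false, true, true, false, true, true, true, true, true], [], [true, true, true, false, true, true, false, true, true, false, true, true, true, true, true, true, false, true, true, true, true, false, true, true, true, false, true, true], [true, true, true, true, false, true, true, true, false, true, false, true, true, false, true, false, true, false, true, true, false, true, false, true, true, true, false, true, true, true, false, true, true, true, false], [false, true, false, true, true, true, false, true, true, true, true, false, true, false, true, true, true, false, true, false, true, false, true, true, true, false, true, true, true, true, false], [true, false, true, false, true, false, true, true, true, true, true, false, true, false, true, true, true, true, true, false, true, false, true, false, true, true, true, true, true, false, true, true, true], [false, true, true, true, false, true, true, false, true, true, false, true, true, false, true, true, false, true, true, true, true, false, true, true, true, false, true, true, false, true, false], [false, true, false, true, true, false,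 true, true, true, true, true, true, false, true, false, true, true, false, true, true, true, false, true, true, false, true, true, false, true, false, true, true, false], [true, true, true, false, true, true, false, true, true, false, true, false, true, true, false, true, true, false, true, true, false, true, true, false, true, true, false, true, true, true], [false, true, false, true, false, true, false, true, true, true, true, false, true, true, false, true, true, true, true, true, true, false, true, false, true, false, true, true, true, true, false, true, false, true, true, true], [true, false, true, true, false, true, true, false, true, false, true, false, true, true, false, true, false, true, true, true, true, false, true, false, true, true, false], [false, true, true, true, true, true, false, true, false, true, true, true, false, true, true, false, true, false, true, true, true, true, true, false, true, true, true, true, false, true, false, true, true, false], [true, true, false, true, true, true, false, true, true, false, true, false, true, true, false, true, true, true, true, false, true, false, true, false, true, true, true, true, true, false, true, false]]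

theorem chk_2_7_11 : check C_2_7_11 = true := by decide +kernel

def C_2_7_23 : Cert where
  p := 2
  q := 7
  r := 23
  Wx := [6, 5, 3, 11, 7, 6, 5, 3, 11, 7, 6, 5, 3, 11, 7]
  cx := 972715533645191023441926575607612480
  Wy := [0, 3, 12, 0, 3, 12]
  cy := 968385801937323589235096568457776372
  ws := [[true, false, true, true, true, false, true, false, true, true, false, true, true, true, false, true, true, true, true, false, true, false, true, true, true, false, true, true, false, true, true], [], [true, true, false, true, false, true, false, true, true, true, false, true, false, true, true, true, false, true, false, true, false, true, false, true, true, true, true, false, true, true], [true, true, false, true, true, false, true, true, false, true, false, true, false, true, false, true, true, false, true, false, true, false, true, true, false, true, false, true, false, true, false, true], [false, true, false, true, true, true, false, true, true, false, true, true, false, true, false, true, false, true, false, true, false, true, true, true, true, false, true, true, false, true, true, true], [false, true, true, false, true, true, true, false, true, false, true, true, true, true, false, true, false, true, true, true, true, true, false, true, true, true, true, false, true, true, true, false, true, true, false], [false, true, false, true, true, true, true, true, false, true, true, true, true, false, true, false, true, false, true, true, true, true, true, false], [true, false, true, true, true, false, true, false, true, true, false, true, true, true, false, true, true, false, true, true, true, false, true, false, true,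 true, true, false, true, true, false], [false, true, false, true, true, true, false, true, true, false, true, false, true, true, true, false, true, true, true, true, false, true, false, true, true, true, true, true, false, true, true, false], [false, true, true, true, false, true, true, true, true, true, true, false, true, true, true, false, true, true, true, true, false, true, false, true, true, true, true], [true, false, true, true, true, true, true, false, true, true, false, true, false, true, false, true, true, false, true, true, true, true, true, false, true, true, false, true, false, true, false, true], [false, true, true, false, true, false, true, true, false, true, true, true, false, true, true, true, true, false, true, true, true, true, true, false, true, false, true, false, true, false, true, false, true, true, false, true], [true, false, true, true, false, true, true, false, true, false, true, true, true, true, true, false, true, true, true, true, false, true, false, true, false, true, false, true, true, true, false, true]]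

theorem chk_2_7_23 : check C_2_7_23 = true := by decide +kernel

def C_2_11_11 : Cert where
  p := 2
  q := 11
  r := 11
  Wx := [12, 11, 9, 10, 11]
  cx := 979121071158219704299181131031480352
  Wy := [0, 9, 10, 10]
  cy := 969152227267844310048871899196427329
  ws := [[false, true, true, false, true, true, false, true, true, true, true, false, true, true, true, false, true, false, true, true, true, false, true, false, true, true, false, true, false, true], [], [true, false, true, false, true, true, false, true, true, true, true, true, true, false, true, true, true, false, true, true, true, true, true, false], [false, true, true, true, false, true, true, true, true, false, true, false, true, true, true, true, false, true, false, true, true, false, true, false, true, false], [true, false, true, true, true, true, false, true, true, false, true, false, true, false, true, false, true, false, true, true, false, true, false, true, true, false, true, true, false, true], [true, true, false, true, true, false, true, false, true, true, true, true, true, false, true, false, true, false, true, true, true, true, true, true, true, false, true, false, true], [true, true, false, true, true, true, true, true, false, true, true, false, true, false, true, true, false, true, false, true, false, true, false, true, true, true, true, true, false], [true, false, true, true, false, true, true, false, true, false, true, true, false, true, false, true, true, false, true, true, false, true, false, true, true, true], [true, true, false, true, false, true, false, true, true, true, true, false, true, false, true, false, true, true, true, false,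 true, false, true, true, true, false, true, true], [false, true, true, true, true, true, true, false, true, false, true, false, true, true, true, false, true, false, true, true, true, true, true, true, true, true, false, true, true, false, true, true, false, true, true], [true, true, false, true, true, true, true, true, false, true, false, true, false, true, false, true, true, true, false, true, true, true, false, true, true, true, false, true], [true, true, true, true, true, false, true, true, false, true, true, true, true, false, true, true, true, true, false, true, true, false, true, false, true, false, true, false, true], [true, false, true, true, true, true, false, true, true, true, false, true, true, true, false, true, true, true, false, true, true, true, true, true, false, true]]

theorem chk_2_11_11 : check C_2_11_11 = true := by decide +kernel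

def C_2_11_23 : Cert where
  p := 2
  q := 11
  r := 23
  Wx := [7, 0, 7, 7, 0, 7, 7, 0, 7]
  cx := 984812658374811504375314525080143149
  Wy := [6, 11, 7, 11, 10, 0]
  cy := 955978030605020955717776358877210689
  ws := [[false, true, false, true, false, true, false, true, true, true, false, true, false, true, true, true, true, false, true, true, true, false, true, true, false], [], [true, true, true, true, true, true, true, true, false, true, false, true, true, false, true, false, true, false, true, true, false, true, false, true, true, true, false], [true, true, false, true, false, true, true, true, true, false, true, false, true, true, false, true, false, true, true, false, true, false, true, false, true], [true, true, true, true, false, true, true, true, true, false, true, true, false, true, false, true, true, false, true, true, true, true, true, false, true, false, true, true, false], [true, false, true, true, true, true, true, true, true, false, true, true, false, true, true, false, true, false, true, true, true, true, false, true, true, false, true, true, false], [false, true, true, true, true, true, true, true, true, false, true, true, false, true, true, false, true, false, true, false, true, false, true, false, true, true, true, true, false, true, true, true], [true, true, true, true, true, true, true, true, true, true, false, true, true, false, true, true, true, true, true, false, true, false, true, true, true, false, true, false, true, false], [false, true, false, true, true, true, true, false, true, false, true, true, false, true, true, true, true, false, true, false, true, true, true, false, true, true,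 false], [true, true, true, true, true, true, true, true, true, false, true, true, false, true, true, true, true, true, true, true, true, true, true, false, true, true, true, false, true], [false, true, false, true, true, true, true, true, true, true, false, true, false, true, true, true, false, true, false, true, true, true, true, false, true, true, true, true], [false, true, true, false, true, false, true, false, true, true, true, true, true, true, false, true, true, true, true, false, true, false, true, true, true, true, false, true, true, false, true, true, true, false, true], [false, true, true, true, true, false, true, false, true, false, true, true, true, true, true, true, true, true, false, true, true, false, true, false, true, false, true, true, false, true, true, true]]

theorem chk_2_11_23 : check C_2_11_23 = true := by decide +kernel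

def C_2_23_23 : Cert where
  p := 2
  q := 23
  r := 23
  Wx := [9, 5, 4, 9, 5, 4]
  cx := 974265916292271752572946082742513696
  Wy := [0, 10]
  cy := 976685976288187749708902395611843649
  ws := [[true, false, true, false, true, false, true, true, true, true, false, true, true, true, false, true, false, true, false, true, false, true, true, true, true, false, true, true, true, false, true], [], [true, true, true, true, true, false, true, true, true, false, true, false, true, false, true, true, false, true, true, false, true, false, true, false, true, true, true, true, true, true, true, false], [true, true, true, true, true, true, true, false, true, true, true, true, true, true, true, true, true, true, true, true, true, false, true, false, true, false, true, false], [false, true, true, true, false, true, true, false, true, false, true, true, true, false, true, false, true, true, true, true, true, true, true, false, true, false, true, false], [true, true, true, true, false, true, true, true, false, true, false, true, false, true, true, true, false, true, false, true, false, true, false, true, true, false, true, true], [false, true, false, true, false, true, true, true, true, true, false, true, true, true, true, false, true, true, true, true, true, false, true, true, true, true, false, true, true, false, true, true, false], [true, true, true, false, true, true, true, false, true, true, true, false, true, true, false, true, true, false, true, false, true, false, true, false, true, true, false, true, true, true, true, false], [true, false, true, true, true, true, false, true, true, false, true, false, true, true, true,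 false, true, true, true, false, true, false, true, false, true, true, true, true, false], [true, false, true, true, true, true, false, true, true, true, true, false, true, false, true, true, true, true, false, true, true, true, false, true, false, true, true, false, true, true], [false, true, false, true, false, true, true, true, true, false, true, true, true, false, true, false, true, false, true, false, true, true, true, true, false, true, true, true, false, true], [false, true, true, false, true, true, true, true, false, true, true, true, true, false, true, true, false, true, false, true, true, false, true, true, true, true, true, true, true, true], [false, true, false, true, true, false, true, false, true, true, false, true, true, true, false, true, true, true, true, true, false, true, true, false, true, false, true, false, true, true, false, true, true, false, true]]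

theorem chk_2_23_23 : check C_2_23_23 = true := by decide +kernel

def C_3_3_11 : Cert where
  p := 3
  q := 3
  r := 11
  Wx := [12, 0, 6, 12, 0, 6, 12, 0, 6, 12, 0, 6, 12, 0, 6]
  cx := 981728960196867544609420604494655943
  Wy := [9, 8, 8]
  cy := 980504394422866046962412236452235296
  ws := [[false, false, true, true, false, true, false, true, false, true, false, true, true, false, false, true, true, false, true, true, false, true, false, true, true, false, true, true, false, true], [], [false, false, true, false, true, false, false, true, false, true, false, true, false, true, false, true, false, true, false, false, true, true, false, false, true, false, false, true, false, true, true], [false, true, false, false, true, false, true, false, true, true, false, true, false, true, false, true, true, false, true, true, false, false, true, false, false, true, false, true, true], [true, false, true, false, true, true, false, false, true, false, true, false, true, false, true, false, true, true, false, true, true, false, true, false, false, true, true], [true, false, false, true, true, false, false, true, false, true, true, false, true, false, false, true, false, true, false, true, true, false, false, true, true, false, true, false, true, true, false, false, true], [true, false, false, true, false, false, true, false, false, true, false, false, true, false, true, false, true, false, true, false, false, true, true, false, true, false, true, false, false], [false, false, true, false, false, true, false, false, true, false, true, true, false, false, true, false, false, true, false, true, true, false, false, true, false, false,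 true, false, true], [false, false, true, false, true, false, false, true, false, true, false, false, true, false, true, false, false, true, false], [true, false, false, true, false, true, false, false, true, false, true, false, false, true, false, true, false, false, true, false], [false, true, false, true, false, true, false, true, true, false, true, true, false, false, true, false, false, true, false, false, true, false, false, true, false, true, true, false, false, true, false, true, true, false], [true, false, true, false, true, true, false, true, false, false, true, false, true, true, false, true, false, true, true, false, true, false, true, false, false, true, true, false, true, false, true, false], [true, true, false, true, false, true, true, false, false, true, false, false, true, true, false, true, false, false, true, false, true, false, true, true, false, true, false, false, true, false, true, true, false, false]]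

theorem chk_3_3_11 : check C_3_3_11 = true := by decide +kernel

def C_3_3_23 : Cert where
  p := 3
  q := 3
  r := 23
  Wx := [0, 10, 12, 9, 8, 2, 0, 10, 12, 9, 8, 2]
  cx := 958440930078808592967788988213608461
  Wy := [4, 12]
  cy := 984204684080943461547960019011687456
  ws := [[false, true, true, false, true, true, false, true, false, false, true, false, true, false, true, true, false, false, true, true, false, true, false, false, true, false, false, true, true, false, true, true, false], [], [true, false, true, true, false, true, false, true, false, true, false, false, true, false, false, true, false, true, false, true, false, false, true, false, false, true, true, false, true], [false, false, true, false, true, false, false, true, true, false, true, false, true, false, false, true, false, true, false, true, false, true, false, true, true, false, true, true, false, true, true], [false, false, true, false, true, true, false, true, false, true, false, true, false, true, true, false, true, true, false, true, true, false, true, false], [true, false, false, true, false, true, false, false, true, true, false, true, false, false, true, true, false, true, true, false, true, true, false, false, true, false, true, true, false], [false, false, true, false, false, true, false, true, false, true, true, false, false, true, false, true, true, false, true, false, true, false, true, false, true, false, false, true, true], [false, true, false, true, false, true, false, true, false, true, false, true, true, false, true, true, false, true, true, false, false, true, true, false, false, true, false, true, false, true, true], [true,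 true, false, true, false, false, true, false, true, false, true, true, false, false, true, false, true, true, false, true, false, false, true, false, true, false, true, true, false, false, true, false], [false, false, true, false, true, false, true, true, false, false, true, false, true, true, false, true, false, false, true, false, false, true, true, false, false, true, false, true, true, false, true], [true, false, true, false, false, true, false, true, true, false, true, false, true, false, true, false, true, true, false, true, true, false, true, true, false, true, false, true, false, false, true, true], [false, true, true, false, false, true, true, false, true, true, false, true, false, true, true, false, true, false, true, true, false, true, true, false, true, false, false], [false, true, true, false, true, false, true, false, true, false, true, true, false, true, true, false, true, true, false, true, false, true, true, false, false, true]]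

theorem chk_3_3_23 : check C_3_3_23 = true := by decide +kernel

def C_3_5_5 : Cert where
  p := 3
  q := 5
  r := 5
  Wx := [8, 3, 10, 11, 3, 9]
  cx := 974342343689825593928505175695200512
  Wy := [9, 12, 8, 4, 3, 0]
  cy := 955798944359091283163586454335246540
  ws := [[true, false, true, true, false, false, true, false, false, true, true, true, true, false, true, true, true, true, false, true, true, false, false], [], [true, false, true, true, false, true, false, false, true, false, false, true, false, true, true, false, true, false, true, true, true, false, false, true, false, true, false, true], [true, true, true, false, true, true, true, false, false, true, false, false, true, false, true, false, true, true, true, true, false, true, true, false, true, true], [true, false, true, true, false, true, true, false, false, true, true, true, false, true, true, false, true, true, false, true, false, false, true, true, true, true], [true, true, false, true, true, true, false, false, true, true, true, true, false, true, true, false, false, true, true, false, false, true, false, false, true, false, true], [false, true, false, false, true, true, true, true, false, true, true, false, true, true, false, true, false, true, true, false, false, true, false, false], [true, false, true, false, true, false, true, true, true, true, false, false, true, false, false, true, false, true, true, true, true, false, false, true, true, true, false, true], [true, true, true, true, false, true, true, true, false, true, true, true, true, false, true, true, true, false, true, true, false, false, true, false], [false, false, true, true, true, true,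 false, true, true, false, false, true, true, true, false, false, true, true, false, true, true, false, true, true, false], [false, false, true, true, false, false, true, true, true, true, false, true, true, true, false, true, false, true, false, false, true, true, false, true, false, true], [true, true, false, true, true, false, false, true, true, true, true, false, true, true, true, true, false, false, true, true, false, true, true, false, false, true], [false, true, false, false, true, false, true, true, false, false, true, false, true, true, false, true, false, true, true, false, true, true, false, true, false, true, true]]

theorem chk_3_5_5 : check C_3_5_5 = true := by decide +kernel

def C_3_5_7 : Cert where
  p := 3
  q := 5
  r := 7
  Wx := [4, 5, 12, 0, 3, 4, 5, 12, 0, 3, 4, 5, 12, 0, 3, 4, 5, 12, 0, 3, 4, 5, 12, 0, 3]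
  cx := 984811291010563823247491985553377363
  Wy := [5, 2, 5]
  cy := 963465259512955631157405798408725888
  ws := [[false, false, true, false, true, false, true, true, true, false, true, false, false, true, false, true, false, false, true, false, true, true, true, true, false, true, true, false], [], [false, false, true, true, false, true, false, true, false, true, true, false, true, false, true, true, false, false, true, false, false, true, true, false, true, false, true, true, true], [false, true, false, true, true, false, true, false, true, false, true, true, true, true, false, false, true, false, false, true, false, true, true, true, false], [true, true, false, true, true, false, false, true, false, true, false, false, true, true, false, true, false, false, true, true, true, false, false, true, false, true, true], [false, true, false, true, true, false, false, true, true, true, true, false, true, true, true, false, false, true, false, true, true, false, false, true, false, true], [true, true, true, false, true, true, false, false, true, true, false, false, true, false, false, true, false, false, true, true, false, true, true, true, false], [false, false, true, true, true, false, true, true, true, false, true, true, true, false, true, false, false], [true, false, true, true, false, false, true, false, true, true, true, true, false, true, true, true, true, false, false, true, true, true, false, false, true], [false, false, true, false, false, true, true, false, true, true, false, false, true, true, true, true, false, false, true, true, true, false, true, true, false, false, true, true], [true, true, false, false,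 true, true, false, true, false, true, false, true, false, false, true, false, false, true, false, true, false, true, true, false], [false, true, false, true, true, true, true, false, true, false, true, true, false, false, true, true, true, true, false, true, true, false, true, true, true], [false, false, true, false, false, true, false, false, true, true, true, false, false, true, false, false, true, false, true, true, false, false, true, false]]

theorem chk_3_5_7 : check C_3_5_7 = true := by decide +kernel

def C_3_5_11 : Cert where
  p := 3
  q := 5
  r := 11
  Wx := [11, 0, 0, 8, 6, 11, 0, 0, 8, 6]
  cx := 957355940777265083065922476069430294
  Wy := [4, 12, 3]
  cy := 961331792440054189700607129347631712
  ws := [[false, false, true, false, false, true, true, true, false, false, true, false, true, true, false, true, true, true, false, false, true, true, true, false, true], [], [true, true, false, true, true, true, false, true, false, true, true, true, false, false, true, false, true, true, true, false, true, false, true, true, true], [true, false, true, true, true, false, true, false, true, false, true, true, true, false, false, true, true, false, true, false, false, true, false, true, false, false, true, true], [true, false, false, true, true, true, true, false, true, true, true, true, false, true, false, false, true, true, true, false, true, false, true, false, false], [false, true, false, false, true, true, false, true, false, true, true, false, false, true, false, false, true, false, false, true, false, true, true, true, true], [true, true, false, true, true, true, false, false, true, false, false, true, false,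 true, false, false, true, false, false, true, false, true, false, true, true, false, true, false], [true, true, true, true, false, false, true, true, false, false, true, true, false, false, true, false, true, false, true, true, false, true, true, true, false], [false, false, true, false, true, true, false, true, true, false, false, true, true, false, true, true, false, true, false, true, true, true, false, true, true, true, false, false], [false, false, true, false, true, false, true, true, true, true, false, true, true, true, false, true, true, false, true, false, false, true, false, false, true, false, false], [false, false, true, true, true, true, false, true, true, true, false, true, false, true, true, false, true, false, true, false, true, true, false, false, true, true], [false, true, false, true, true, true, true, false, false, true, false, true, false, false, true, false, true, true, true, false, true, true, true, true, false, true], [false, true, false, true, true, true, false, false, true, false, true, true, true, true, false, false, true, false, true, true, true, false, true, false]]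

theorem chk_3_5_11 : check C_3_5_11 = true := by decide +kernel

def C_3_5_23 : Cert where
  p := 3
  q := 5
  r := 23
  Wx := [11, 9, 0, 8, 11, 9, 0, 8, 11, 9, 0, 8, 11, 9, 0, 8, 11, 9, 0, 8]
  cx := 959346059895056813823229990898644530
  Wy := [6, 11, 7, 12, 8]
  cy := 979332487912006545272831294409345056
  ws := [[false, false, true, true, false, false, true, false, false, true, false, false, true, false, false, true, false, true, true, true, false, true, false, true, true], [], [true, true, true, false, false, true, false, true, true, false, true, true, true, false, false, true, false, true, false, false, true, true, true, false, true], [true, false, true, false, true, false, false, true, true, false, false, true, false, true, false, true, false, true, false, false, true, true, false, false, true, false], [false, true, false, true, true, false, true, false, false, true, false, false, true, true, false, true, false, true, false, true, false, false, true, true, false], [false, false, true, false, true, true, true, true, false, false, true, false, false, true, true, false, true, false, false, true, true, false, false, true, false, false, true, true, false], [true, true, false, true, true, true, true, false, false, true, false, false, true, true], [true, true, false, true, false, true, false, false, true, true, true, false, false, true, true, true, true, false, false, true, false, true, false, false, true, true, false], [false, true, true, true, true, false, false, true, true, false, true, true, true, true, false, true, true, true, false, true, false, false, true, true, false, true], [true, false, true, true, false,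 true, false, true, false, true, true, false, true, false, true, false, true, true, false, true, false, true, false, true, true, false, true, false], [false, false, true, false, true, false, true, true, true, false, false, true, false, false, true, true, true, false, true, false, false, true, true, true, false, true, true], [false, false, true, true, true, false, true, true, true, true, false, false, true, false, true, true, false, true, false, true, true, false, true, false, false, true, false, false, true, true], [true, true, true, false, true, false, true, true, false, false, true, true, false, false, true, false, true, false, true, true, false, false, true, true, false, true, false, true, false]]

theorem chk_3_5_23 : check C_3_5_23 = true := by decide +kernel

def C_3_7_7 : Cert where
  p := 3
  q := 7
  r := 7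
  Wx := [4, 5, 3, 11, 4, 5, 3, 11]
  cx := 984396973560889056808076264061190208
  Wy := [2, 8, 9, 0, 6, 2, 8, 9, 0, 6]
  cy := 965218390064673957058507066332776808
  ws := [[false, false, true, true, false, true, true, false, false, true, true, true, true, false, true, false, true, false, true, true, false, false, true, false, true, false], [], [true, true, false, true, true, true, true, false, false, true, false, true, false, true, false, false, true, false, true, true, false, false], [false, true, false, true, false, true, false, false, true, false, false, true, true, true, true, false, true, true, true, false, true, false, true, true], [true, false, false, true, true, false, true, false, true, true, true, true, true, true, false, true, false, true, true, true, false, true, true, false], [true, false, false, true, true, false, false, true, false, true, false, true, true, false, true, true, false, true, true, true, true, true, false, false, true, true], [false, true, true, true, false, true, true, false, true, true, false, false, true, false, true, false, false, true, false, false, true, true, true, true, false], [false, false, true, false, false, true, false, false, true, false, true, false, true, false, false, true, false, true, false, true, true, false], [false, false, true, true, false, true, false, false, true, true, true, true, false, true, false, true, true, false, false, true, false, true, true, false, true], [false, true, true, false, false, true, false, false, true, true, false, false, true, true, true, false, false, true, false, true, false, false], [true, true, true, false, false, true, true, false, false,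 true, true, true, false, true, false, true, true, true, false, false, true, true, true, true, true], [true, false, true, false, true, false, true, true, false, false, true, false, false, true, false, true, true, true, true, false, true, true, true, true], [true, false, true, true, true, false, true, true, true, false, true, true, false, true, true, true, false, true, true, true, false, true]]

theorem chk_3_7_7 : check C_3_7_7 = true := by decide +kernel

def C_3_7_11 : Cert where
  p := 3
  q := 7
  r := 11
  Wx := [5, 11]
  cx := 964042634133842959896018500060827680
  Wy := [0, 2, 12, 0, 2, 12]
  cy := 963375300737513968283930703187031411
  ws := [[false, true, true, true, false, true, false, true, false, true, false, true, true, false, false, true, true, false, false, true, false, true, false, false, true, true, false, false], [], [false, true, false, true, true, false, false, true, true, false, true, true, true, false, false, true, false, true, true, false, false, true, true, true, false], [true, false, true, false, false, true, false, true, true, true, false, false, true, true, false, false, true, false, false, true, true, false, true, true, false, true], [true, true, false, true, false, true, false, true, true, true, false, true, true, true, true, true, false, true, true, true, true, true, false, true, false, true], [false, true, true, false, false, true, true, false, true, false, true, false, true, true, false, true, false, true, true, true, true, false, true, true, false, true], [true, false, true, true, true, false, false, true, true, true, true, false, false, true, false, true, true, true, true, true, false,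 false, true, false], [false, true, false, true, true, true, false, true, true, false, true, true, true, false, true, true, false, true, false, true, false, true, false, false, true, true], [false, false, true, true, false, true, false, false, true, false, true, false, false, true, false, false, true, false, true, false, false, true, false, true], [false, true, true, true, false, false, true, false, true, true, true, false, true, true, false, true, true, true, false, true, false, true, true, true, false], [true, false, true, true, true, false, false, true, true, false, true, false, false, true, false, true, false, false], [true, true, false, false, true, true, false, true, false, true, false, true, true, false, true, false, true, true, true, true, false, true, true, false, true], [true, false, true, false, true, false, true, false, true, false, true, true, true, false, true, true, false, true, false, true, true, true, true, true, false]]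

theorem chk_3_7_11 : check C_3_7_11 = true := by decide +kernel

def C_3_7_23 : Cert where
  p := 3
  q := 7
  r := 23
  Wx := [0, 11, 7, 3, 0, 11, 7, 3]
  cx := 984656687268808928345477037406368784
  Wy := [2, 12, 10]
  cy := 981936193608740864292304103967660608
  ws := [[false, false, true, false, true, false, false, true, false, true, true, true, false, true, true, false, true, true, false, false, true, false, true, true, false, true, true, true], [], [true, false, true, false, true, true, true, false, true, true, false, true, true, false, true, false, true, false, true, true, true, false, true, true], [false, false, true, false, false, true, false, false, true, false, true, true, false, false, true, true, false, false, true, true, false, false, true, false, false], [false, true, true, true, false, false, true, true, true, true, false, true, true, false, true, true, true, false, true, true, true], [true, true, true, false, true, true, true, true, false, false, true, true, true, true, true, false, true, true, true, false, true, true, true, true], [true, false, true, true, true, false, true, true, true, true, false, true, false, true, false, false, true, false, true, false, false, true, false, true], [true, true, false, false, true, true, true, false, false, true, true, false, true, true, false, true, false, false, true, true, true, true, false, true, false], [true, false, true, true, true, true, false, true, false, true, true, false, true, false, true, true, true, true, true, false, true, true, false, false], [false, true, false, true, true, false, false, true, false, true, false, true, true, true, true, true, false,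 true, false, true, true, true, true], [true, false, true, true, false, true, false, true, false, true, false, true, true, true, true, false, false, true, false, true, true, false, false, true, true, true], [false, true, true, false, true, false, false, true, false, true, false, true, true, false, true, false, false, true, false, true, false, true, true, true], [false, true, true, false, true, true, true, false, false, true, true, false, true, true, false, true, true, true, true, true, false, true, true, true, false]]

theorem chk_3_7_23 : check C_3_7_23 = true := by decide +kernel

def C_3_11_11 : Cert where
  p := 3
  q := 11
  r := 11
  Wx := [4, 3, 0, 4, 3, 0, 4, 3, 0, 4, 3, 0, 4, 3, 0]
  cx := 965339509339977849474976362252671114
  Wy := [9, 10, 3, 10, 9]
  cy := 973740116880536428167561557858033856
  ws := [[false, true, false, true, true, false, true, false, false, true, false, false, true, true, true, false, false, true, true, true, false, true, false, true, true, true], [], [true, true, false, false, true, false, true, true, false, true, false, false, true, true, false, false, true, false, false], [true, false, false, true, true, false, false, true, true, true, true, true, false, true, false, false, true, true, false, true, false, true, true, true, true, true, false], [true, false, false, true, true, true, true, false, true, false, false, true, false, true, true, false, true, false, true, true, false, true, false, false, true], [false, true, false, true, false, false, true, true, false, true, true, true, true, true, false, false, true, false, true, true, false, true, true], [true, true, true, false, true, true,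 true, true, true, true, true, false, true, true, true, false, false, true, false, true, true, false, true, false, false], [false, false, true, true, true, true, false, false, true, false, false, true, true, false, true, true, true, false, true, true, false, true, true, true], [false, false, true, true, false, true, true, false, false, true, false, true, false, true, true, false, false, true, true, true, true, false, true, true, true, true, true], [false, false, true, true, true, false, true, false, false, true, false, false, true, true, true, true, true, false, false, true, true, true, true, false, false], [false, true, true, true, true, true, true, true, true, true, false, true, false, true, true, true, true, false, true, false, false, true, true, false, false, true, true], [false, false, true, true, true, true, false, true, true, false, true, true, true, false, false, true, true, false, true, false, true, false, true, false, false], [false, true, false, true, true, true, false, true, true, true, true, true, true, true, true, false, false, true, true, false, true, false, true, false, true]]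

theorem chk_3_11_11 : check C_3_11_11 = true := by decide +kernel

def C_3_11_23 : Cert where
  p := 3
  q := 11
  r := 23
  Wx := [2, 0, 2, 0]
  cx := 979382536624200311149222395249789110
  Wy := [12, 3]
  cy := 977047171412544532197528536461316736
  ws := [[true, false, true, true, false, false, true, false, true, false, true, false, true, true, true, true, false, false, true, true, false, true, true, false, true], [], [false, true, false, true, true, true, true, true, false, true, false, false, true, true, false, true, true, true, false, true, true, false], [false, true, true, false, true, false, true, true, false, false, true, true, true, true, true, true, false, false, true, true, false, false, true, false], [false, false, true, false, true, false, true, true, true, true, false, false, true, true, true, true, false, false, true, true, false, true, false, true, true, false, false, true], [true, false, true, true, false, false, true, true, false, true, true, true, true, false, true, false, false, true, false, true, true, true, true, true, true], [false, true, false, false, true, false, true, true, true, true, false, false, true, false, true, true, false, true, false, false, true, true, true, false, false, true], [false, true, false, true, false, true, false, true, true, true, false, false, true, false, true, false, false, true, true, false, true, false, true], [true, false, false, true, true, true, false, false, true, true, true, false, true, true, false, true, true, false, false, true, true, true, false, true, false, true], [true, true, true, true, true, true, true, false, true, false, true, false, false, true,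 false, true, false, false, true, true, false, true, true, true, false], [false, true, true, false, true, true, true, true, false, true, false, true, false, true, false, true, true, true, true, false, true, false, false, true, true, true], [false, false, true, false, false, true, false, true, false, true, true, false, true, false, true, true, true, false, true, true, true, false], [true, true, false, true, false, true, false, true, false, true, false, false, true, true, false, true, false, true, true, false, true, true, false, true]]

theorem chk_3_11_23 : check C_3_11_23 = true := by decide +kernel

def C_3_23_23 : Cert where
  p := 3
  q := 23
  r := 23
  Wx := [8, 11]
  cx := 968621477650857569167789942210922528
  Wy := [11, 9, 4, 0, 6]
  cy := 976164790567888077975192363960276225
  ws := [[false, false, true, true, true, false, false, true, true, true, true, true, true, false, true, true, false, true, true, false, true, true, true, true, false, false], [], [true, true, true, false, false, true, true, false, true, true, true, true, true, true, true, false, true, true, true, false, false, true, true, false, false, true, false], [true, true, false, true, false, true, false, true, false, true, false, true, false, true, true, true, false, true, true, false, false, true, false, true, true, false, true], [true, false, true, false, false, true, false, true, true, true, true, false, false, true, true, true, false, true, false, false, true, false, false], [false, false, true, true, true, false, false, true, true, true, true, false, true, true, true, true, true, true, false, true, false, true, true, true], [true, true, false,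 true, false, true, false, false, true, true, false, true, false, true, true, true, false, false, true, true, false, true, false], [false, true, true, false, true, true, false, false, true, true, true, true, false, true, false, true, true, true, true, false, false, true, true], [true, true, true, true, true, false, true, true, false, false, true, false, true, true, true, true, true, true, false, true, false, true], [false, true, false, true, true, false, true, false, true, false, true, true, true, true, false, false, true, true, true, true, false, false, true, true], [false, true, true, true, true, true, false, true, false, false, true, false, true, false, false, true, false, false, true, false, true, true, false], [false, false, true, true, true, true, true, false, true, true, false, false, true, false, true, true, true, true, true, true, false, true, false, true], [true, true, true, true, true, false, true, false, false, true, false, true, false, false, true, false, false, true, false, true, true, false, false]]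

theorem chk_3_23_23 : check C_3_23_23 = true := by decide +kernel

def C_5_5_5 : Cert where
  p := 5
  q := 5
  r := 5
  Wx := [7, 0, 8, 10]
  cx := 978116830726145010049532864113128513
  Wy := [7, 9, 9, 10, 11]
  cy := 971552192056125901672610288160376864
  ws := [[true, false, true, true, true, true, false, false, false, true, true, true, true, false, false, false, true, true, false, false, true, false, false, false, true], [], [false, true, false, false, false, true, true, true, true, false, true, false, false, true, false, true, true, false, false, true, true, false, true, true], [true, false, false, true, false, false, true, true, true, false, false, false, true, false, true, false, true, true, false, true, true, false, false, true], [false, true, false, false, true, true, true, false, true, false, false, false, false, true, true, true, false, true, false, false, true, false, true, true], [true, true, true, true, false, true, false, true, false, false, true, false, false, true, false, true, false, false, true, true, false, true], [false, false, true, false, false, false, true, true, false, false, false, true, false, false, true, true, false, false, false, false, true, true, false, false, true], [false, true, false, false, true, true, true, true, false, false, true, true, false, true, true, false, true, false, false, true, true, true, false, false], [false, true, false, true, true, true, true, false, true, true, false, true, false, false, true, true, false, false, false, false, true, true, true, false], [false, false, true, false, true, true, true, false, false, false, false, true, false, false, true, false, false,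 true, true, false, true, true, false, true], [false, true, true, true, false, true, true, true, true, false, false, true, false, false, false, false, true, false, false, false, true, true, false, true, true], [false, false, true, false, true, true, false, false, true, false, false, true, false, false, true, false, true, false, true, true], [true, false, false, false, true, false, true, false, false, false, false, true, false, true, false, true, true, true, true]]

theorem chk_5_5_5 : check C_5_5_5 = true := by decide +kernel

def C_5_5_7 : Cert where
  p := 5
  q := 5
  r := 7
  Wx := [0, 8, 0, 8, 0, 8]
  cx := 967844910090008735789219500469464195
  Wy := [10, 4, 11, 6, 10, 8]
  cy := 970320129265587501905337315991171104
  ws := [[false, true, true, false, false, false, false, true, false, false, true, false, false, false, true, false, false, false, true, false, true, false, true, true, true], [], [false, false, false, false, true, true, false, true, false, true, false, false, true, false, true, true, false, false, false, true, true, false, false], [false, true, true, true, false, true, false, true, true, false, true, true, false, false, true, true, true, false, true], [true, false, false, true, true, false, false, false, true, false, false, false, true, false, false, true, false, false, false, true, false, true, false], [false, false, true, false, false, true, false, true, false, false, true, true, true, true, false, false, true, true, true, false, true], [true, true, true, false, true, false, false, false, true, true, true, false, false, false, false, true, true, false, false, true, true, false, false, false, false],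 [false, false, true, false, true, false, false, true, true, true, false, true, false, false, false, true, true, true, false, false, false, true], [true, false, false, false, true, true, true, false, true, true, true, false, false, true, false, true, false, true, false, true], [false, false, true, false, true, false, true, false, false, false, true, false, false, false, true, false, true, false, false, false, false, true, false], [true, false, true, false, true, true, true, false, false, true, true, false, false, true, false, true, true, true, false, true, true, false, true], [false, false, true, false, true, true, false, false, true, true, true, true, false, false, true, true, true, false, false, true, false, false, true, false], [true, false, true, false, true, false, true, false, false, false, false, true, false, true, true, false, true, true, false, false, false, false]]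

theorem chk_5_5_7 : check C_5_5_7 = true := by decide +kernel

def C_5_5_11 : Cert where
  p := 5
  q := 5
  r := 11
  Wx := [6, 4]
  cx := 959743759018820684195825334033700896
  Wy := [9, 2, 0, 7, 9, 2, 0, 7, 9, 2, 0, 7]
  cy := 967246822204898326615275221936669142
  ws := [[true, true, false, true, true, true, true, false, true, true, false, true, false, true, true, false, false, false, true, false, false, false, true, true], [], [false, false, false, true, false, true, false, true, false, true, true, false, false, true, true, true, true, false, false, true, true, true, true, false, false, false], [true, true, true, true, false, false, true, false, false, false, true, false, true, false, true, false, false, false, true, false, false, false], [false, true, true, false, false, true, true, false, false, true, true, true, false, false, true, false, false, false, true, true], [true, false, true, false, false, true, false, false, true, false, true, true, false, true, false, true, false, false, true, false, false, true, false, true, false], [false, false, false, true, false, true, true, false, false, true, true, true, true, false, false, true, false, false, true, false, true, true, false, false, true, true], [false, true, false, false, false, false, true, true, true, false, true, false, false, true, true, false, true, false, true, true, false, false, true], [true, false, true, false, false, true, false, true, false, true, true, true, false, true, false, true, false, true, false, false, true, true, false, true], [false, false, true, false, false, true, false, true, true, false, false, false, true, true, true, true, false,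 false, true, false, false, true, false, false], [false, false, false, true, false, false, false, false, true, true, true, false, false, true, false, false, false, true, false, false, false, true, false, false, false], [true, true, true, true, false, true, true, false, true, true, false, true, false, false, true, false, true, true, false, true, false, false, false, true], [false, false, true, true, true, false, true, false, false, true, false, false, true, true, true, false, true, false, false, true]]

theorem chk_5_5_11 : check C_5_5_11 = true := by decide +kernel

def C_5_5_23 : Cert where
  p := 5
  q := 5
  r := 23
  Wx := [6, 12]
  cx := 962623890608488892069292686652409888
  Wy := [9, 0, 0, 9, 8, 9, 0, 0, 9, 8, 9, 0, 0, 9, 8]
  cy := 959661640486874797993402906007781654
  ws := [[false, false, false, true, true, false, false, true, false, true, false, true, true, true, false, false, false, true], [], [false, true, true, false, false, false, false, true, true, false, false, true, false, true, false, true, true, true, true, false, true, true, true], [true, false, true, false, false, false, false, true, true, false, false, true, false, false, false, true, true, false, false, false, true], [true, false, true, false, true, false, false, false, false, true, true, false, false, true, false, false, true, false, true, false], [true, false, true, true, true, false, false, true, false, false, false, true, true, false, false, false, false, true, false, true, false, false, true], [false, true, true, true, false, true, false, true, true, false, false, true, false, true, false, true, true, false, false, false, true, true], [true,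 false, false, true, false, false, false, true, false, true, false, true, false, false, true, false, true, false, true, true, true, false, false], [true, false, true, false, true, false, false, false, true, true, false, true, true, false, false, false, false, true, true, true, true], [true, true, true, true, false, true, true, true, false, true, true, false, true, false, true, true, false, false, false, false, true], [false, true, true, true, false, true, false, false, true, false, true, false, false, false, true, false, false, true, true, true, true, false, true, false], [true, false, false, false, true, true, true, false, false, false, true, false, false, true, true, false, false, true, false, true, true, false, false], [true, true, true, false, true, false, true, true, false, false, true, false, true, false, true, true, false, false, false, true, true]]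

theorem chk_5_5_23 : check C_5_5_23 = true := by decide +kernel

def C_5_7_7 : Cert where
  p := 5
  q := 7
  r := 7
  Wx := [11, 9, 4, 4]
  cx := 973013478159759807376239576245321760
  Wy := [3, 0, 11, 7, 4]
  cy := 984769397584637077853676431072309619
  ws := [[false, true, false, true, true, false, false, false, false, true, false, true, false, false, true, false, false, false, false, true, true, false], [], [false, true, true, true, false, true, true, false, true, true, false, false, false, true, true, false, false, true, true, true, false, true, true, false], [false, true, false, true, true, false, false, true, true, false, true, true, false, true, true, true, false, true, false, true, true, true, true, true], [false, true, false, true, false, true, false, true, true, true, false, false, false, true, false, false, false, true, false, false, false, false], [false, false, false, true, false, true, false, false, false, true, true, false, true, false, false, false, true, true, false, true, false, true, true], [false, false, false, true, true, true, false, true, true, true, true, true, false, true, false, false, true, true, true, true, false, true], [false, false, true, false, false, false, true, true, false, false, false, true, false, false, false, true, false, true, true, true, false, false], [false, true, false, false, true, false, false, false, true, true, false, false, false, true, false, true, true, true, false], [true, false, false, true, true, true, false, false, true, true, true, true, false, true, false, false, true, true, false, true, false, true, true], [false, true, false, true, false, false, false, true,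 true, false, false, true, false, false, false, false, true, false, false, true, true, false, true], [false, false, false, false, true, false, true, true, true, false, false, true, false, true, true, true], [false, true, true, false, true, true, false, false, false, true, true, true, true, true, false, true, true, true, true, false, false, true]]

theorem chk_5_7_7 : check C_5_7_7 = true := by decide +kernel

def C_5_7_11 : Cert where
  p := 5
  q := 7
  r := 11
  Wx := [11, 5, 8]
  cx := 958767969178386177136143548440820768
  Wy := [5, 8, 9, 11, 0, 5, 8, 9, 11, 0]
  cy := 957133889054645095742607388641045076
  ws := [[true, true, false, false, true, true, true, false, true, false, true, false, true, true, true, true, false, true, false, false, true, false, false], [], [true, true, false, true, false, true, false, true, true, false, true, true, true, false, true, false, false, true, true, false], [false, false, false, true, true, true, false, true, true, false, true, true, false, false, true, true, true, false, false, true, false, false, false, false, true, true], [true, false, false, false, false, true, false, true, false, false, true, false, false, true, true, false, false, true, false, true, false, false, false, true, true], [false, true, true, false, true, false, false, true, false, false, true, true, false, false, true, true, false, true, false, false, false, false], [true, true, true, false, true, false, false, false, true, false, false, true, true, false, true, true, false, true, true, false, false, false], [true, true, true, true, true, false, false, false, true, true, false, true, true, false, false, true], [false,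 false, false, true, false, false, true, true, true, true, false, true, true, true, false, true, false, false], [true, false, true, true, false, false, true, false, false, true, false, false, false, false, true, true, false, false, true, false, false, false], [false, true, true, true, true, false, true, false, true, false, true, true, true, true, true, false, true, true, true, false, true, false, false, false, true], [true, false, false, false, true, false, true, true, true, true, true, false, false, false, true, true, false, false, true, false, true, false, true, false], [false, false, false, false, true, true, false, false, true, true, false, false, true, true, true, false, false, true, false, true]]

theorem chk_5_7_11 : check C_5_7_11 = true := by decide +kernel

def C_5_7_23 : Cert where
  p := 5
  q := 7
  r := 23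
  Wx := [0, 9, 6, 6, 0, 9, 6, 6, 0, 9, 6, 6]
  cx := 956952313020381059101874912546180451
  Wy := [12, 5]
  cy := 976844568201080232813473458146659360
  ws := [[true, false, true, true, true, true, true, false, true, true, true, true, false, true, true, false, true, true, true], [], [false, true, true, false, false, false, false, true, true, false, false, false, false, true, false, false, false, false, true, false, true, false, false, true], [false, true, false, false, false, true, false, true, true, true, false, true, false, false, true, true, false, true, true, true, true, true, false], [true, false, false, false, true, true, false, true, true, false, true, false, false, true, true, false, true, true, false, true, false, false, true, true, true], [true, false, false, false, true, true, true, false, true, false, false, false, false, true, true, true, false, true, true, false, true, false, false, false], [true, true, true, true, false, true, true, false, false, true, true, true, false, false, false, true, false, true, false, false, true, false, false, true], [true, false, true, true, false, false, true, false, false, false, true, true, false, false, false, true, false, false, false, false, true, true, false, true], [false, false, true, false, true, false, false, true, true, false, true, false, false, true, true, true, true, true, true, false, false, true, true, true, true], [true, false, false, false, true, false, true, false, true, true, false, false, true, false, false, false, true, false, false, false, false, true, true, false], [false, true, false, false, false, false, true, false, true, true, false, false, true,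 true, true, false, false, true, true, true, true, false, true, false, false], [false, false, true, false, true, true, false, true, false, true, false, false, true, false, true, false, true, true, true, true, true], [false, false, false, true, true, true, false, false, false, true, false, true, true, false, true, false, false, true, false, true, true, true, false, true]]

theorem chk_5_7_23 : check C_5_7_23 = true := by decide +kernel

def C_5_11_11 : Cert where
  p := 5
  q := 11
  r := 11
  Wx := [9, 6, 9]
  cx := 980196299889904938888484792109991968
  Wy := [7, 8, 7, 0, 8, 0]
  cy := 957257721572671703823726618377463362
  ws := [[true, false, true, true, false, false, false, true, true, true, true, false, true, true, false, false, false, true, false, true, true, true, true], [], [false, true, true, false, true, false, false, true, true, false, true, false, true, false, true, true, true], [false, false, false, false, true, true, false, true, false, true, false, false, false, true, false, true, true, false, true, false, true, false], [false, false, true, false, true, false, true, true, false, true, true, false, true, true, true, true, true, true, true, true, true, true], [false, true, true, false, true, true, true, false, true, false, false, true, true, true, true, false, false, false, true, true, true, true, false], [false, false, false, true, true, false, false, false, true, true, false, true, false, true, false, false, false, false, true, true, true, false, false, true], [true, false, false, true, true, true, false, true, true, false, false, true, true, false, false, true, true, true, false, false, true, true, true],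 [true, false, false, true, true, true, false, false, false, false, true, true, true, false, false, false, false, true, false, true, false, true, true], [false, false, true, false, true, false, false, false, false, true, true, false, false, false, false, true, true, true, false, false, false, true], [false, true, false, true, true, false, false, true, false, true, false, false, true, true, true, false, true, false, true, true, true, false, false], [true, true, true, false, true, false, false, false, false, true, false, false, false, true, true, true, true, true, true, true, true], [true, true, true, false, false, true, false, true, true, false, true, true, true, true, true, true, true, true, true, true]]

theorem chk_5_11_11 : check C_5_11_11 = true := by decide +kernel

def C_5_11_23 : Cert where
  p := 5
  q := 11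
  r := 23
  Wx := [8, 7, 5, 12]
  cx := 983305252709231947148316437790330912
  Wy := [8, 10, 5, 0, 3]
  cy := 961038352268362580476765391734157377
  ws := [[true, true, true, false, true, true, false, true, true, true, false, false, false, true, true, false, true, false, true, true, false, false], [], [false, true, false, false, true, false, false, false, true, true, true, true, false, true, true, false, true, false, true, true, true, false, false], [true, false, true, true, false, true, false, false, true, true, false, true, true, true, false, false, true, false, true, true, true, false], [false, false, true, true, true, true, false, false, false, false, true, false, false, false, false, true, false, false, true, true, false], [true, false, true, true, false, false, false, false, true, false, false, true, true, false, true, false, false, true, false, false, false, false], [false, true, true, false, true, false, false, true, false, true, true, false, true, true, true, true, false, true, false, false, true, false, true], [false, false, false, true, true, true, false, false, false, false, true, true, false, true, false, false, false, false, true, true, true, false, true, true], [false, true, false, false, false, true, true, true, false, false, false, true, false, true, false, true, false, false, true, true, false, false, true], [true, false, true, false, true, true, true, false, true, true, true, false, false, false, true, true, true, true, false, true, true], [true, true, true, true, false, true, true, true, true, true, false, false, false, true, false, true, false, false, false, false, true, true, true, false], [false,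 true, false, true, true, false, false, false, false, true, true, false, false, false, true, true, false, true, true, true, true, false], [false, false, true, true, true, false, true, false, true, false, true, true, false, true, true, true, true, true, false, false, false, false, true]]

theorem chk_5_11_23 : check C_5_11_23 = true := by decide +kernel

def C_5_23_23 : Cert where
  p := 5
  q := 23
  r := 23
  Wx := [5, 2, 4, 9]
  cx := 970274478194672206555442216572586368
  Wy := [0, 0]
  cy := 956709441910203461498593497208492130
  ws := [[true, true, true, true, true, true, true, true, true, true, true, true], [], [false, false, true, false, true, false, true, true, true, true, true, false, true, false, true, true, false, false, false, true, false, true, false], [false, false, false, true, true, true, true, true, true, true, false, true, false, false, true, true, false, true, true, true, true, false, true, false, true], [false, false, false, true, true, true, false, false, true, false, true, true, true, true, false, false, true, false, false, true, true, false, false, false], [false, true, false, true, false, false, false, true, false, false, true, true, false, true, false, true, true, false, false, false, false, true, true], [true, false, true, false, false, false, true, true, true, false, true, false, true, false, false, false, true, false, true, true], [true, true, false, true, true, true, false, true, false, true, true, false, true, true, false, false, false, true, true, false], [false, true, false, true, true, false, false, true, true, true, true, true, false, true, false, false, true, false, true, false, false,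 false, true, true], [false, false, false, false, true, false, true, false, true, false, false, true, true, true, true, true, true, true, false, true, true, false, true, false, true], [true, true, true, false, true, false, true, true, false, false, false, true, true, true, true, false, false, true], [false, false, false, true, false, true, true, false, false, false, false, true, true, false, false, false, false, true, false, false, false, true, true], [false, false, true, true, true, false, false, true, false, true, true, true, false, false, true, true, false, false, true, true, true, false, true, true]]

theorem chk_5_23_23 : check C_5_23_23 = true := by decide +kernel

def C_7_7_7 : Cert where
  p := 7
  q := 7
  r := 7
  Wx := [9, 5]
  cx := 983335039547201777493501379538596896
  Wy := [4, 0, 6, 5, 10, 4, 0, 6, 5, 10]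
  cy := 974457717519288673032551927367352405
  ws := [[false, true, true, false, true, false, false, true, false, false, true, true, true, true, false, false, true, true, false, true, false], [], [true, false, true, false, true, true, true, true, false, true, false, false, false, false, true, false, true, false, false, false, true, true, false], [false, false, false, false, false, false, true, true, false, true, true, true, false, true, false, false, true, false, false, false, false, false, true], [true, true, false, true, true, false, false, true, false, true, true, false, false, true, true, false, true, true, true, false, true, true], [true, true, false, false, true, false, true, true, true, false, true, false, true, true, false, true, false, true, true, false], [false, true, false, true, false, false, true, true, false, true, false, false, true, false, true, true, true, false, false, false, true], [true, true, false, false, false, false, false, false, true, false, false, false, true, true, true, true, true, true, false, true, true, true, true], [true, true, false, false, true, false, false, true, false, true, false, true, true, false, true, false, false, true, false, true], [true, true, false, false, true, false, true, true, true, false, true, false, true, true, false, true, false, true, true], [false, false, false, true, true, false, true, true, false, false, false, false, false, false, true, true, true, false, true, false, false, false, true], [false, false, false, true, false, false, true, true, false, false, true, false, false, false, false, true, false, false, true, true, false, false, true], [false, true, false,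 true, true, true, false, true, false, true, true, true, false, false, true, true, false, false, true, true, true, false]]

theorem chk_7_7_7 : check C_7_7_7 = true := by decide +kernel

def C_7_7_11 : Cert where
  p := 7
  q := 7
  r := 11
  Wx := [12, 2, 11, 9]
  cx := 967806048625100590183823430148794880
  Wy := [8, 0, 7]
  cy := 966152092508057340078437482860022849
  ws := [[false, false, false, true, false, true, false, true, false, true, true, false, true, false, true, true, true, true, true, true, false, true, false], [], [false, false, true, true, true, false, false, true, false, true, true, true, true, false, true, true, true, true, false, true, false, false, false], [false, false, true, false, true, true, true, true, false, false, true, false, false, false, false, false, true, false, false, true, true], [false, false, true, false, true, false, false, false, false, true, true, false, false, true, false, true, false, true, false, false, true, false, false, true], [false, true, false, true, true, false, false, false, false, false, true, true, false, true, true, false, true, true, true, false, true], [false, false, true, true, false, true, true, false, true, true, true, true, false, false, true, false, false, false, false, true, false], [false, false, false, true, false, true, false, false, true, false, true, true, true, true, false, false, false, true, false, true, false, true, true, false, false], [true, false, false, false, true, false, false, true, false, true, true, false, true, true, true, true, true, false, true, false, true, false, false, true], [true, false, true, true, false, false, false, true, true,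 false, false, true, false, true, true, true, true, false, true, false, true, false, true], [false, true, false, true, false, true, false, false, true, true, false, true, true, true, false, false, false, false, true, true, true, false], [false, false, false, true, true, false, true, false, true, false, false, false, false, true, false, true, false, false, false, false, false, true], [true, false, false, true, false, true, false, true, false, true, false, true, true, true, false, true, false, false, false, false, true]]

theorem chk_7_7_11 : check C_7_7_11 = true := by decide +kernel

def C_7_7_23 : Cert where
  p := 7
  q := 7
  r := 23
  Wx := [0, 6, 4, 11, 9, 4]
  cx := 970335262188237759586944913412267073
  Wy := [4, 6, 4]
  cy := 962364939629534757066091038991992864
  ws := [[false, true, false, false, false, true, true, true, true, false, false, false, true, true, true, false, false, false, true, true], [], [false, false, true, true, true, false, false, true, false, true, true, true, false, false, false, true, false, false, true, true, true], [true, false, true, true, false, true, true, false, false, true, true, true, false, false, true, false, true, false, true, false], [true, false, false, true, false, true, false, true, true, false, true, false, true, false, false, false, false, false, true, true, true], [true, true, false, true, true, true, false, false, false, false, true, false, true, true, false, true, false, false, false, false, true, false], [false, false, true, true, true, false, true, true, false, false, true, false, true, true, false, true, true, false, false, false, false, false, true], [false, true,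 false, false, false, false, false, true, false, false, false, true, true, false, false, true, false, true, true, true, false, false, false], [false, false, false, false, true, true, true, false, false, true, false, false, false, false, true, false, false, true, true, true, true, true, true], [false, false, false, false, true, true, true, true, false, true, true, true, true, false, true, true, true, true, false, true, false, false, false, true, false], [true, true, true, false, true, true, false, true, true, true, false, false, true, true, false, true, true, true, false, true, true, true, true], [false, false, true, false, true, false, true, false, false, false, false, true, true, false, false, false, true], [true, false, false, false, false, false, false, true, true, false, false, false, true, false, false, false, false, false, false, true, true, false, false, false]]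

theorem chk_7_7_23 : check C_7_7_23 = true := by decide +kernel

def C_7_11_11 : Cert where
  p := 7
  q := 11
  r := 11
  Wx := [6, 3, 3, 0]
  cx := 955640535259602798427686361114121252
  Wy := [11, 3, 4, 8, 7, 7]
  cy := 980306594459827969181508116523593376
  ws := [[true, true, false, true, true, false, false, true, false, false, true, true, false, false, true, false, true, false, false, false, false, true, true, false], [], [false, true, false, true, true, true, false, true, false, true, true, false, false, false, false, false, false, true, true, false, false, true, true], [false, true, true, true, true, false, true, true, true, false, true, false, true, true, false, true, true, true, false, true, false], [false, false, true, true, true, false, true, true, true, false, false, false, true, true, true, false, false, true, false, true, false, true, true], [true, false, true, false, false, true, true, false, false, true, false, true, true, false, true, false, true, false, true, true], [false, true, true, true, true, false, true, true, false, false, false, true, true, true, false, true, true, true, false, true, false, true, false], [false, false, false, true, false, true, true, false, true, true, true, true, true, true, true, true, true, true, false, false, false, false], [false, false, false, true, true, true, false, true, true, true, true, true, true, false, true, false, false, false, false, false, true, false], [true, false, false, true, true, true, true, false, true, false, true, true, false, true, true, true, true, false, true, true], [true, false, false, false, true, true, true, true, false, true, false, true,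 false, false, true, false, true, false, true, false, false, true, false], [true, false, false, false, true, false, true, false, true, false, true, true, false, false, false, true, false, true, false, true, false, true], [true, true, false, true, true, false, true, false, false, true, true, false, true, true, true, true, false, true, true, false]]

theorem chk_7_11_11 : check C_7_11_11 = true := by decide +kernel

def C_7_11_23 : Cert where
  p := 7
  q := 11
  r := 23
  Wx := [3, 8]
  cx := 958228119087146385427488217595817568
  Wy := [5, 10, 0, 8, 8, 2]
  cy := 976165963180592515355318501315254977
  ws := [[true, true, true, true, true, true, true, false, true, true, false, true, true, false, true, false, true, false, false, true], [], [false, true, false, true, true, true, false, true, true, false, false, false, false, true, false, false, false, true, false, false, true, true, false, true], [false, true, false, false, false, false, true, false, false, false, true, false, false, true, false, false, true, false, false, false, true, true, false, false, false], [false, true, true, false, true, true, false, true, false, true, true, true, true, false, true, false, true, true, true, true, true, false, true], [false, true, false, true, false, false, false, false, true, true, true, false, true, true, false, true], [false, true, true, false, true, false, false, true, true, true, false, false, false, false, true, true, true, true, false, true, false], [false, false, true, true, true, false, false, false, false, true, true, false, true, false, true, false, false, true, true, false], [true, false, false, true, true, false, true,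 false, true, false, true, false, true, false, true, true, true, false, true, false, true], [true, true, true, true, true, false, true, false, false, true, true, false, true, true, true, true, false, true, true], [false, false, false, true, true, true, false, true, false, true, true, true, false, false, false, false, true, false, true, false, true], [true, true, true, true, false, false, false, true, false, true, false, true, true, true, false, false, false, true, false, false, false, true], [true, true, false, false, false, true, false, true, false, true, true, true, true, true, true, true, false, false, false, true, true, false, true]]

theorem chk_7_11_23 : check C_7_11_23 = true := by decide +kernel

def C_7_23_23 : Cert where
  p := 7
  q := 23
  r := 23
  Wx := [3, 0, 8, 6]
  cx := 976649410706155111127179269444818291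
  Wy := [10, 0]
  cy := 956006478431103667929075102487546945
  ws := [[true, true, false, true, false, false, false, true, false, false, true, true, false, true, true, true, true, false, true, false, true, false], [], [true, true, true, true, false, false, true, true, false, true, false, false, false, false, false, true, true, false, false, true], [false, false, false, false, false, true, true, true, false, true, false, false, true, true, false, true, true, false, true, false], [true, false, true, false, false, false, false, false, true, true, false, false, true, true, false, false, true, false, false], [true, true, true, false, false, true, true, true, false, false, false, false, true, false, false, false, true, false, true, true], [false, true, true, true, true, false, false, true, false, false, true, false, false, false, false, false, false, true, true, false], [true, false, false, false, true, true, true, true, true, true, true, true, false, false, true, true, true, true, false, true, false, true, true, false], [true, false, true, false, true, true, false, true, true, true, true, true, false, false, true, false, true, true, false, false, false, true], [true, false, false, false, false, true, false, false, false, false, true, false, false, true, false, true, false, true, false, true, true, false], [false, true, false, false, false, true, true, false, true, false, true, true, false, false, true, false, true, true, true, true, false, false, true, true], [false, false, false, true, true, true, false, false, true, false, false, true, true, true, false, false, true, false, true, true, true, false], [false, false, true,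 false, true, true, false, false, true, false, true, true, false, true, false, true, false, false]]

theorem chk_7_23_23 : check C_7_23_23 = true := by decide +kernel

def C_11_11_11 : Cert where
  p := 11
  q := 11
  r := 11
  Wx := [0, 8, 0, 2, 12]
  cx := 980453510131864824057533815068139746
  Wy := [5, 5, 3, 3, 10, 9]
  cy := 960878405155128943719234309538383296
  ws := [[true, false, true, true, true, false, false, true, false, true, true, true, false, false, true, true, true, false, true, false, true, true], [], [false, false, false, true, true, true, true, false, true, false, false, false, true, true, false, true, false, true, false, true, false, true, false], [true, false, true, false, false, false, true, true, false, false, true, false, false, false, true, false, true, true, true, true], [true, true, false, false, true, false, false, false, false, false, true, false, false, false, false, true, true, true, false, true, false], [true, true, false, false, false, false, true, false, true, false, false, true, false, true, true, false, false, true, false, false, true, true, false], [false, false, true, true, false, true, false, false, false, false, false, false, true, true, true, true, true, false, false, true], [false, false, false, true, false, false, false, true, true, true, true, false, false, false, true, false, true, false, true, false, true, true, true, true, false], [false, true, false, true, true, false, false, true, true, true, true, true, false, true, false, true, false, true, true, true, false, false], [false, true, true, false, false, true, false, false, false, false, false, true, false, false, false,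 true, false, true, false, false, false], [false, true, true, true, true, true, true, false, false, false, false, true, true, false, false, true, false, false, true, true, true, false, true], [false, false, false, false, false, false, true, true, false, true, true, false, true, false, true, false, true, true, false], [true, true, false, true, false, true, false, false, true, true, true, false, true, false, true, false, false, true]]

theorem chk_11_11_11 : check C_11_11_11 = true := by decide +kernel

def C_11_11_23 : Cert where
  p := 11
  q := 11
  r := 23
  Wx := [11, 11, 0, 10, 5, 0]
  cx := 957028168241115755025857296831131810
  Wy := [6, 0, 4, 11, 4, 6]
  cy := 984560796069368206320132817282047041
  ws := [[false, false, false, true, false, false, false, true, true, true, false, true, true, true, false, false, true, true, false, false, true, true], [], [false, false, true, false, false, true, true, true, true, false, false, true, false, false, false, false, false, false, true, false, false, false, false], [true, false, true, true, false, true, false, false, false, true, false, false, false, false, true, true, false], [false, true, false, true, false, false, false, false, false, false, false, false, true, false, false, true, false, true, false, false], [false, false, false, false, false, false, false, false, false, true, false, true, true, true, true, false, true, false, true, false, true, false], [true, true, true, false, false, true, false, true, false, true, true, false, false, true, true, false, true, true, false], [false, false, true, true, false, false, true, false, true, true, true, true, false, true, true,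 false, true, true, true, false, true, true, false, true], [true, true, false, false, true, true, false, false, false, false, true, true, false, true, false, true, true, true, false, false, true, true, true], [true, true, false, false, true, false, true, true, true, true, false, false, true, false, false, true, true, false, true, false, true, true], [false, false, true, true, true, true, true, false, false, false, false, true, true, true, false, false, true, false, false, false, false], [false, false, false, false, true, false, true, false, true, true, false, false, true, true, false, true, true, false, true, true], [false, true, true, true, true, true, true, true, false, false, true, false, true, true, false, true, true, true, true, true, true, false, false]]

theorem chk_11_11_23 : check C_11_11_23 = true := by decide +kernel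

def C_11_23_23 : Cert where
  p := 11
  q := 23
  r := 23
  Wx := [11, 12, 10, 0, 9]
  cx := 979658471793054884135979511050832961
  Wy := [9, 9, 3, 0]
  cy := 956128087313875830497032745689273715
  ws := [[true, false, false, false, false, true, true, true, true, true, false, false, true, true, true, true, false, true, true, true, false, true], [], [false, true, false, false, true, true, true, true, false, false, false, true, true, false, true, false, false, true, true], [false, false, false, true, false, true, false, true, false, true, true, true, true, true, true, false, false, false, false, false, true, false, false], [false, false, true, false, false, false, true, false, true, false, false, true, false, true, false, false, false, false, false, false, false, true, false, true, true], [false, false, false, false, false, false, false, true, false, false, true, false, false, false, true, true, false, true, true, false, false, false, true, false], [false, true, true, false, false, true, true, false, false, false, true, false, false, false, false, true, false], [false, false, true, false, true, false, false, true, false, true, true, true, true, true, false, false, false, true, true, false, false, true, false, false], [false, false, false, true, false, false, true, true, true, true, true, false, true, false, false, true, true, false, false], [true, false, false, true, false, true, false, true, false, true, true, true, true, true, false, false], [false, false, false, true, false, false, true, true, true, false, false, true, true, false, false, false, true, true, false, true, true, false, false, false], [true, false, true,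 false, true, true, false, true, false, false, false, true, true, false, true, false, false, true, true, true, true, false, false, false], [true, true, false, true, true, false, true, false, false, true, false, false, false, true, false, false, false, false, false, true, false, false, false]]

theorem chk_11_23_23 : check C_11_23_23 = true := by decide +kernel

def C_23_23_23 : Cert where
  p := 23
  q := 23
  r := 23
  Wx := [12, 12, 0]
  cx := 956302485175575353788796878166559809
  Wy := [6, 5, 10, 11, 0, 0]
  cy := 956683750552077566221645906269653515
  ws := [[false], [], [false, false, false, false, false, false, true, true, false, false, true, false, true, false, true, false, true, false, true, true, true, false, true, false], [true, false, true, true, false, false, false, true, true, true, true, false, false, false, true, true, true, true, false, true, false, true], [true, true, false, false, false, false, false, false, false, false, false, false, true, true, false, true, true, false, false, true, true], [false, true, false, false, false, true, false, false, true, true, false, false, false, false, false, true, false, true, true, true, true, true], [false, false, false, false, false, false, true, false, true, true, false, false, true, true, true, true, true, true, true, true, false, true], [true, true, true, false, true, false, false, true, false, false, true, false, true, false, false, false, false, false, false, true], [true, false, true, true, true, true, true, true, true, false, true, false, false, true, false, true, true, true, false, false, false, false, false], [false, false, false, false, false, false, false,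 false, false, true, false, false, false, false, true, false, true, false, true, false], [true, false, true, false, false, false, true, true, false, true, true, true, false, true, true, false, true, false, true, true, true, true, true, true], [false, false, false, true, false, true, false, false, true, false, false, true, true, false, false, true, true, true, true, true, true], [true, true, false, false, true, false, true, true, true, true, false, false, false, true, false, true, false, true, false, true, false, false]]

theorem chk_23_23_23 : check C_23_23_23 = true := by decide +kernel

/-- the forty triples -/
def posList : List (ℕ × ℕ × ℕ) := [(2, 5, 11), (2, 5, 23), (2, 7, 7), (2, 7, 11), (2, 7, 23), (2, 11, 11), (2, 11, 23), (2, 23, 23), (3, 3, 11), (3, 3, 23), (3, 5, 5), (3, 5, 7), (3, 5, 11), (3, 5, 23), (3, 7, 7), (3, 7, 11), (3, 7, 23), (3, 11, 11), (3, 11, 23), (3, 23, 23), (5, 5, 5), (5, 5, 7), (5, 5, 11), (5, 5, 23), (5, 7, 7), (5, 7, 11), (5, 7, 23), (5, 11, 11), (5, 11, 23), (5, 23, 23), (7, 7, 7), (7, 7, 11), (7, 7, 23), (7, 11, 11), (7, 11, 23), (7, 23, 23), (11, 11, 11), (11, 11, 23), (11, 23, 23), (23, 23, 23)]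

theorem pos_all (t : ℕ × ℕ × ℕ) (ht : t ∈ posList) :
    ∃ x y z : ↥Cfsg.Spor.M23, orderOf x = t.1 ∧ orderOf y = t.2.1 ∧ orderOf z = t.2.2 ∧
      x * y * z = 1 ∧ Subgroup.closure {x, y} = ⊤ := by
  unfold posList at ht
  simp only [List.mem_cons, List.not_mem_nil, or_false] at ht
  rcases ht with rfl | rfl | rfl | rfl | rfl | rfl | rfl | rfl | rfl | rfl | rfl | rfl | rfl | rfl | rfl | rfl | rfl | rfl | rfl | rfl | rfl | rfl | rfl | rfl | rfl | rfl | rfl | rfl | rfl | rfl | rfl | rfl | rfl | rfl | rfl | rfl | rfl | rfl | rfl | rfl
  · exact of_check C_2_5_11 (show Nat.Prime 2 by norm_num) (show Nat.Prime 5 by norm_num) (show Nat.Prime 11 by norm_num) chk_2_5_11
  · exact of_check C_2_5_23 (show Nat.Prime 2 by norm_num) (show Nat.Prime 5 by norm_num) (show Nat.Prime 23 by norm_num) chk_2_5_23
  · exact of_check C_2_7_7 (show Nat.Prime 2 by norm_num) (show Nat.Prime 7 by norm_num) (show Nat.Prime 7 by norm_num) chk_2_7_7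
  · exact of_check C_2_7_11 (show Nat.Prime 2 by norm_num) (show Nat.Prime 7 by norm_num) (show Nat.Prime 11 by norm_num) chk_2_7_11
  · exact of_check C_2_7_23 (show Nat.Prime 2 by norm_num) (show Nat.Prime 7 by norm_num) (show Nat.Prime 23 by norm_num) chk_2_7_23
  · exact of_check C_2_11_11 (show Nat.Prime 2 by norm_num) (show Nat.Prime 11 by norm_num) (show Nat.Prime 11 by norm_num) chk_2_11_11
  · exact of_check C_2_11_23 (show Nat.Prime 2 by norm_num) (show Nat.Prime 11 by norm_num) (show Nat.Prime 23 by norm_num) chk_2_11_23
  · exact of_check C_2_23_23 (show Nat.Prime 2 by norm_num) (show Nat.Prime 23 by norm_num) (show Nat.Prime 23 by norm_num) chk_2_23_23
  · exact of_check C_3_3_11 (show Nat.Prime 3 by norm_num) (show Nat.Prime 3 by norm_num) (show Nat.Prime 11 by norm_num) chk_3_3_11
  · exact of_check C_3_3_23 (show Nat.Prime 3 by norm_num) (show Nat.Prime 3 by norm_num) (show Nat.Prime 23 by norm_num) chk_3_3_23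
  · exact of_check C_3_5_5 (show Nat.Prime 3 by norm_num) (show Nat.Prime 5 by norm_num) (show Nat.Prime 5 by norm_num) chk_3_5_5
  · exact of_check C_3_5_7 (show Nat.Prime 3 by norm_num) (show Nat.Prime 5 by norm_num) (show Nat.Prime 7 by norm_num) chk_3_5_7
  · exact of_check C_3_5_11 (show Nat.Prime 3 by norm_num) (show Nat.Prime 5 by norm_num) (show Nat.Prime 11 by norm_num) chk_3_5_11
  · exact of_check C_3_5_23 (show Nat.Prime 3 by norm_num) (show Nat.Prime 5 by norm_num) (show Nat.Prime 23 by norm_num) chk_3_5_23
  · exact of_check C_3_7_7 (show Nat.Prime 3 by norm_num) (show Nat.Prime 7 by norm_num) (show Nat.Prime 7 by norm_num) chk_3_7_7
  · exact of_check C_3_7_11 (show Nat.Prime 3 by norm_num) (show Nat.Prime 7 by norm_num) (show Nat.Prime 11 by norm_num) chk_3_7_11
  · exact of_check C_3_7_23 (show Nat.Prime 3 by norm_num) (show Nat.Prime 7 by norm_num) (show Nat.Prime 23 by norm_num) chk_3_7_23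
  · exact of_check C_3_11_11 (show Nat.Prime 3 by norm_num) (show Nat.Prime 11 by norm_num) (show Nat.Prime 11 by norm_num) chk_3_11_11
  · exact of_check C_3_11_23 (show Nat.Prime 3 by norm_num) (show Nat.Prime 11 by norm_num) (show Nat.Prime 23 by norm_num) chk_3_11_23
  · exact of_check C_3_23_23 (show Nat.Prime 3 by norm_num) (show Nat.Prime 23 by norm_num) (show Nat.Prime 23 by norm_num) chk_3_23_23
  · exact of_check C_5_5_5 (show Nat.Prime 5 by norm_num) (show Nat.Prime 5 by norm_num) (show Nat.Prime 5 by norm_num) chk_5_5_5
  · exact of_check C_5_5_7 (show Nat.Prime 5 by norm_num) (show Nat.Prime 5 by norm_num) (show Nat.Prime 7 by norm_num) chk_5_5_7
  · exact of_check C_5_5_11 (show Nat.Prime 5 by norm_num) (show Nat.Prime 5 by norm_num) (show Nat.Prime 11 by norm_num) chk_5_5_11
  · exact of_check C_5_5_23 (show Nat.Prime 5 by norm_num) (show Nat.Prime 5 by norm_num) (show Nat.Prime 23 by norm_num) chk_5_5_23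
  · exact of_check C_5_7_7 (show Nat.Prime 5 by norm_num) (show Nat.Prime 7 by norm_num) (show Nat.Prime 7 by norm_num) chk_5_7_7
  · exact of_check C_5_7_11 (show Nat.Prime 5 by norm_num) (show Nat.Prime 7 by norm_num) (show Nat.Prime 11 by norm_num) chk_5_7_11
  · exact of_check C_5_7_23 (show Nat.Prime 5 by norm_num) (show Nat.Prime 7 by norm_num) (show Nat.Prime 23 by norm_num) chk_5_7_23
  · exact of_check C_5_11_11 (show Nat.Prime 5 by norm_num) (show Nat.Prime 11 by norm_num) (show Nat.Prime 11 by norm_num) chk_5_11_11
  · exact of_check C_5_11_23 (show Nat.Prime 5 by norm_num) (show Nat.Prime 11 by norm_num) (show Nat.Prime 23 by norm_num) chk_5_11_23
  · exact of_check C_5_23_23 (show Nat.Prime 5 by norm_num) (show Nat.Prime 23 by norm_num) (show Nat.Prime 23 by norm_num) chk_5_23_23
  · exact of_check C_7_7_7 (show Nat.Prime 7 by norm_num) (show Nat.Prime 7 by norm_num) (show Nat.Prime 7 by norm_num) chk_7_7_7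
  · exact of_check C_7_7_11 (show Nat.Prime 7 by norm_num) (show Nat.Prime 7 by norm_num) (show Nat.Prime 11 by norm_num) chk_7_7_11
  · exact of_check C_7_7_23 (show Nat.Prime 7 by norm_num) (show Nat.Prime 7 by norm_num) (show Nat.Prime 23 by norm_num) chk_7_7_23
  · exact of_check C_7_11_11 (show Nat.Prime 7 by norm_num) (show Nat.Prime 11 by norm_num) (show Nat.Prime 11 by norm_num) chk_7_11_11
  · exact of_check C_7_11_23 (show Nat.Prime 7 by norm_num) (show Nat.Prime 11 by norm_num) (show Nat.Prime 23 by norm_num) chk_7_11_23
  · exact of_check C_7_23_23 (show Nat.Prime 7 by norm_num) (show Nat.Prime 23 by norm_num) (show Nat.Prime 23 by norm_num) chk_7_23_23
  · exact of_check C_11_11_11 (show Nat.Prime 11 by norm_num) (show Nat.Prime 11 by norm_num) (show Nat.Prime 11 by norm_num) chk_11_11_11
  · exact of_check C_11_11_23 (show Nat.Prime 11 by norm_num) (show Nat.Prime 11 by norm_num) (show Nat.Prime 23 by norm_num) chk_11_11_23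
  · exact of_check C_11_23_23 (show Nat.Prime 11 by norm_num) (show Nat.Prime 23 by norm_num) (show Nat.Prime 23 by norm_num) chk_11_23_23
  · exact of_check C_23_23_23 (show Nat.Prime 23 by norm_num) (show Nat.Prime 23 by norm_num) (show Nat.Prime 23 by norm_num) chk_23_23_23

end Cfsg.Agent.Helper29.GenM23
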