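import Mathlib
import Cfsg.Agent.Lib.Helper29.HSPerm
import Cfsg.Agent.Lib.Helper29.HSData
import Cfsg.Agent.Lib.Helper29.HSCoverData

set_option autoImplicit false

/-! The monomial model of the double cover of the Higman-Sims group on 5600 points: tables and
check functions. -/

namespace Cfsg.Agent.Helper29.HSC

open Cfsg.Agent.Helper29.HSP Cfsg.Agent.Helper29.HSD Cfsg.Agent.Helper29.HSCD

/-- the packed row of neighbours of `x` -/
def nrow (x : ℕ) : ℕ := tg (nbrL.getD (x / 80) 0) 1716 (x % 80)
/-- the packed row of labels of `x` -/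
def lrow (x : ℕ) : ℕ := tg (labL.getD (x / 80) 0) 132 (x % 80)
/-- the neighbour with index `k` -/
def nbr (x k : ℕ) : ℕ := tg (nrow x) 13 k
/-- the label of the neighbour with index `k` -/
def lab (x k : ℕ) : ℕ := tg (lrow x) 1 k
/-- the packed row of witnesses of `x` -/
def wrow (g x : ℕ) : ℕ := tg ((cond (Nat.beq g 0) wit0L wit1L).getD (x / 80) 0) 1056 (x % 80)
/-- the mask of the block of `y` -/
def mk (y : ℕ) : ℕ := tg (mkL.getD (y / 80) 0) 100 (y % 80)
def Pc (g : ℕ) : ℕ := PL.getD g 0
def Pic (g : ℕ) : ℕ := PiL.getD g 0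
def Fc (g : ℕ) : ℕ := FL.getD g 0
def P (g y : ℕ) : ℕ := tg (Pc g) 13 y
def Pi (g y : ℕ) : ℕ := tg (Pic g) 13 y
def F (g y : ℕ) : ℕ := tg (Fc g) 1 y
def par (y : ℕ) : ℕ := tg parP 13 y
def pk (y : ℕ) : ℕ := tg pkP 8 y
def srt (r : ℕ) : ℕ := tg srtP 13 r
def rk (y : ℕ) : ℕ := tg rkP 13 y
/-- the codes of the two generators on a hundred points -/
def SC (g : ℕ) : ℕ := cond (Nat.beq g 0) S0C S1C

/-! ### Check functions -/

/-- bounded universal quantifier on an interval, as a boolean -/
def allR (lo n : ℕ) (p : ℕ → Bool) : Bool := allBelow n fun k => p (lo + k)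

theorem allR_iff (lo n : ℕ) (p : ℕ → Bool) :
    allR lo n p = true ↔ ∀ k, lo ≤ k → k < lo + n → p k = true := by
  unfold allR
  rw [allBelow_iff]
  constructor
  · intro h k h1 h2
    have := h (k - lo) (by omega)
    rwa [Nat.add_sub_cancel' h1] at this
  · intro h k hk
    exact h (lo + k) (by omega) (by omega)

/-- validity of the permutation tables -/
def validOK (g : ℕ) : Bool :=
  force (Pc g) fun p => force (Pic g) fun q => allBelow 5600 fun y =>
    force (tg p 13 y) fun a => force (tg q 13 y) fun b => Nat.blt a 5600 && Nat.blt b 5600 &&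
      Nat.beq (tg q 13 a) y && Nat.beq (tg p 13 b) y

/-- compatibility with the action on the blocks -/
def iotaOK (g y : ℕ) : Bool :=
  force (Pc g) fun p => force (SC g) fun s =>
    force (mk y) fun m => force (mk (tg p 13 y)) fun m' => allBelow 100 fun v =>
      Nat.beq (tg m' 1 (tg s 7 v)) (tg m 1 v)

/-- invariance of the labelled relation at the row `x` -/
def rowOK (g x : ℕ) : Bool :=
  force (Pc g) fun p => force (Fc g) fun f => force (nrow x) fun r => force (lrow x) fun l =>
    force (tg p 13 x) fun px => force (nrow px) fun r' => force (lrow px) fun l' =>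
      force (wrow g x) fun w => force (tg f 1 x) fun fx =>
        allBelow 132 fun k => force (tg r 13 k) fun y => force (tg w 8 k) fun k' =>
          Nat.blt k' 132 && Nat.beq (tg r' 13 k') (tg p 13 y) &&
            Nat.beq (tg l' 1 k') ((tg l 1 k + tg f 1 y + 2 - fx) % 2)

/-- the rows are strictly increasing lists of points -/
def sortedOK (x : ℕ) : Bool :=
  force (nrow x) fun r => Nat.blt (tg r 13 131) 5600 &&
    allBelow 131 fun k => Nat.blt (tg r 13 k) (tg r 13 (k + 1))

/-- the spanning tree -/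
def treeOK (y : ℕ) : Bool :=
  Nat.beq y 0 || (force (par y) fun p => force (pk y) fun k => Nat.blt p y && Nat.blt k 132 &&
    Nat.beq (nbr y k) p)

/-- the masks are pairwise different: sorting them -/
def srtOK (r : ℕ) : Bool :=
  Nat.blt (srt r) 5600 && Nat.blt (mk (srt r)) (mk (srt (r + 1)))

def rkOK (y : ℕ) : Bool := Nat.blt (rk y) 5600 && Nat.beq (srt (rk y)) y

end Cfsg.Agent.Helper29.HSC
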