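import Mathlib
import Cfsg.Agent.Lib.Helper29.HSCoverDefs

set_option autoImplicit false

/-! Kernel-evaluated checks for the double cover of the Higman-Sims group (generated). -/

namespace Cfsg.Agent.Helper29.HSC

open Cfsg.Agent.Helper29.HSP Cfsg.Agent.Helper29.HSD Cfsg.Agent.Helper29.HSCD

set_option maxRecDepth 100000 in
theorem iota_1_4 : allR 2800 700 (iotaOK 1) = true := by decide +kernel

set_option maxRecDepth 100000 in
theorem iota_1_5 : allR 3500 700 (iotaOK 1) = true := by decide +kernel

set_option maxRecDepth 100000 in
theorem iota_1_6 : allR 4200 700 (iotaOK 1) = true := by decide +kernel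

set_option maxRecDepth 100000 in
theorem iota_1_7 : allR 4900 700 (iotaOK 1) = true := by decide +kernel


end Cfsg.Agent.Helper29.HSC
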