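import Mathlib
import Cfsg.Agent.Lib.Helper29.HSCoverDefs

set_option autoImplicit false

/-! Kernel-evaluated checks for the double cover of the Higman-Sims group (generated). -/

namespace Cfsg.Agent.Helper29.HSC

open Cfsg.Agent.Helper29.HSP Cfsg.Agent.Helper29.HSD Cfsg.Agent.Helper29.HSCD

set_option maxRecDepth 100000 in
theorem valid_chk : validOK 0 = true ∧ validOK 1 = true := by decide +kernel

set_option maxRecDepth 100000 in
theorem sorted_0 : allR 0 1400 sortedOK = true := by decide +kernel

set_option maxRecDepth 100000 in
theorem sorted_1 : allR 1400 1400 sortedOK = true := by decide +kernel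

set_option maxRecDepth 100000 in
theorem sorted_2 : allR 2800 1400 sortedOK = true := by decide +kernel

set_option maxRecDepth 100000 in
theorem sorted_3 : allR 4200 1400 sortedOK = true := by decide +kernel

set_option maxRecDepth 100000 in
theorem tree_chk : allBelow 5600 treeOK = true := by decide +kernel

set_option maxRecDepth 100000 in
theorem srt_chk : allBelow 5599 srtOK = true ∧ allBelow 5600 rkOK = true := by decide +kernel

set_option maxRecDepth 100000 in
theorem mkb_chk : allBelow 5600 (fun y => Nat.blt (mk y) (2 ^ 100)) = true := by decide +kernel

end Cfsg.Agent.Helper29.HSC
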