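import Mathlib
import Cfsg.Agent.Lib.Helper29.HSModelB
import Cfsg.Agent.Lib.Helper29.HSCoverChkR00
import Cfsg.Agent.Lib.Helper29.HSCoverChkR01
import Cfsg.Agent.Lib.Helper29.HSCoverChkR10
import Cfsg.Agent.Lib.Helper29.HSCoverChkR11
import Cfsg.Agent.Lib.Helper29.HSCoverChkI00
import Cfsg.Agent.Lib.Helper29.HSCoverChkI01
import Cfsg.Agent.Lib.Helper29.HSCoverChkI10
import Cfsg.Agent.Lib.Helper29.HSCoverChkI11
import Cfsg.Agent.Lib.Helper29.HSCoverChkS
import Cfsg.Agent.Lib.Helper23.MonoInvA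
import Cfsg.Agent.Lib.Helper23.MonoInvB
import Cfsg.Agent.Lib.Helper11.StemOfCentral
import Cfsg.Agent.Lib.Helper27.HSRecog

set_option autoImplicit false
open Cfsg

/-! A stem extension of the Higman-Sims group with kernel of order two, inside the product of a
monomial group on 5600 points and the group. -/

namespace Cfsg.Agent.Helper29.HSC

open Cfsg.Agent.Helper29.HSP Cfsg.Agent.Helper29.HSD Cfsg.Agent.Helper29.HSCD
open Cfsg.Agent.Helper29.HSM Cfsg.Agent.Helper29.MonoInv
open scoped Pointwise commutatorElement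

/-! ### Assembling the checks -/

theorem all_of_chunks (p : ℕ → Bool) (h0 : allR 0 700 p = true) (h1 : allR 700 700 p = true)
    (h2 : allR 1400 700 p = true) (h3 : allR 2100 700 p = true) (h4 : allR 2800 700 p = true)
    (h5 : allR 3500 700 p = true) (h6 : allR 4200 700 p = true) (h7 : allR 4900 700 p = true) :
    ∀ y < 5600, p y = true := by
  intro y hy
  have hq : y / 700 < 8 := by omega
  interval_cases hq' : y / 700
  · exact (allR_iff _ _ _).1 h0 y (by omega) (by omega)
  · exact (allR_iff _ _ _).1 h1 y (by omega) (by omega)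
  · exact (allR_iff _ _ _).1 h2 y (by omega) (by omega)
  · exact (allR_iff _ _ _).1 h3 y (by omega) (by omega)
  · exact (allR_iff _ _ _).1 h4 y (by omega) (by omega)
  · exact (allR_iff _ _ _).1 h5 y (by omega) (by omega)
  · exact (allR_iff _ _ _).1 h6 y (by omega) (by omega)
  · exact (allR_iff _ _ _).1 h7 y (by omega) (by omega)

theorem iota_all : ∀ g < 2, ∀ y < 5600, iotaOK g y = true := by
  intro g hg
  interval_cases g
  · exact all_of_chunks _ iota_0_0 iota_0_1 iota_0_2 iota_0_3 iota_0_4 iota_0_5 iota_0_6 iota_0_7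
  · exact all_of_chunks _ iota_1_0 iota_1_1 iota_1_2 iota_1_3 iota_1_4 iota_1_5 iota_1_6 iota_1_7

theorem row_all : ∀ g < 2, ∀ x < 5600, rowOK g x = true := by
  intro g hg
  interval_cases g
  · exact all_of_chunks _ row_0_0 row_0_1 row_0_2 row_0_3 row_0_4 row_0_5 row_0_6 row_0_7
  · exact all_of_chunks _ row_1_0 row_1_1 row_1_2 row_1_3 row_1_4 row_1_5 row_1_6 row_1_7

theorem sorted_all : ∀ x < 5600, sortedOK x = true := by
  intro x hx
  have hq : x / 1400 < 4 := by omega
  interval_cases hq' : x / 1400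
  · exact (allR_iff _ _ _).1 sorted_0 x (by omega) (by omega)
  · exact (allR_iff _ _ _).1 sorted_1 x (by omega) (by omega)
  · exact (allR_iff _ _ _).1 sorted_2 x (by omega) (by omega)
  · exact (allR_iff _ _ _).1 sorted_3 x (by omega) (by omega)

theorem valid (g : ℕ) (hg : g < 2) :
    ∀ y < 5600, P g y < 5600 ∧ Pi g y < 5600 ∧ Pi g (P g y) = y ∧ P g (Pi g y) = y := by
  have h : validOK g = true := by
    interval_cases g
    · exact Cfsg.Agent.Helper29.HSC.valid_chk.1
    · exact Cfsg.Agent.Helper29.HSC.valid_chk.2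
  unfold validOK at h
  rw [force_eq, force_eq, allBelow_iff] at h
  intro y hy
  have h1 := h y hy
  rw [force_eq, force_eq, Bool.and_eq_true, Bool.and_eq_true, Bool.and_eq_true] at h1
  obtain ⟨⟨⟨a, b⟩, c⟩, d⟩ := h1
  exact ⟨Eq.mp Nat.blt_eq a, Eq.mp Nat.blt_eq b, Nat.eq_of_beq_eq_true c, Nat.eq_of_beq_eq_true d⟩

theorem tg_one_lt (T y : ℕ) : tg T 1 y < 2 := by
  unfold tg
  have : Nat.land (Nat.shiftRight T (1 * y)) (2 ^ 1 - 1) ≤ 2 ^ 1 - 1 := Nat.and_le_right
  omega

theorem tg_zero (b k : ℕ) : tg 0 b k = 0 := by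
  unfold tg
  show (0 >>> (b * k)) &&& (2 ^ b - 1) = 0
  rw [Nat.zero_shiftRight, Nat.zero_and]

theorem tg_one_eq (T y : ℕ) : tg T 1 y = (Nat.testBit T y).toNat := by
  unfold tg
  rw [Nat.toNat_testBit, one_mul]
  show (T >>> y) &&& (2 ^ 1 - 1) = T / 2 ^ y % 2
  rw [Nat.shiftRight_eq_div_pow]
  exact Nat.and_one_is_mod _

/-! ### The model -/

abbrev Ω : Type := Pt 5600 2

instance : NeZero (5600 : ℕ) := ⟨by norm_num⟩

/-- the set of a mask -/
def maskSet (m : ℕ) : Finset (Fin 100) := Finset.univ.filter fun v => tg m 1 v.val = 1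

theorem mem_maskSet (m : ℕ) (v : Fin 100) : v ∈ maskSet m ↔ tg m 1 v.val = 1 := by
  unfold maskSet
  rw [Finset.mem_filter]
  simp

theorem maskSet_inj {m m' : ℕ} (hm : m < 2 ^ 100) (hm' : m' < 2 ^ 100)
    (h : maskSet m = maskSet m') : m = m' := by
  apply Nat.eq_of_testBit_eq
  intro i
  by_cases hi : i < 100
  · have h1 := mem_maskSet m ⟨i, hi⟩
    have h2 := mem_maskSet m' ⟨i, hi⟩
    rw [h] at h1
    have h3 : tg m 1 i = 1 ↔ tg m' 1 i = 1 := h1.symm.trans h2
    rw [tg_one_eq, tg_one_eq] at h3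
    cases h4 : Nat.testBit m i <;> cases h5 : Nat.testBit m' i <;> simp [h4, h5] at h3 ⊢
  · have e1 : Nat.testBit m i = false :=
      Nat.testBit_lt_two_pow (lt_of_lt_of_le hm (Nat.pow_le_pow_right (by norm_num) (by omega)))
    have e2 : Nat.testBit m' i = false :=
      Nat.testBit_lt_two_pow (lt_of_lt_of_le hm' (Nat.pow_le_pow_right (by norm_num) (by omega)))
    rw [e1, e2]

theorem smul_maskSet (g : Pm) (c : ℕ) (hg : Acts g c) (m m' : ℕ)
    (h : ∀ v < 100, tg m' 1 (tg c 7 v) = tg m 1 v) : g • maskSet m = maskSet m' := by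
  ext w
  rw [Finset.mem_smul_finset, mem_maskSet]
  constructor
  · rintro ⟨v, hv, rfl⟩
    rw [mem_maskSet] at hv
    rw [Equiv.Perm.smul_def, hg, h v.val v.2]
    exact hv
  · intro hw
    refine ⟨g⁻¹ w, ?_, by rw [Equiv.Perm.smul_def]; simp⟩
    rw [mem_maskSet, ← h _ (g⁻¹ w).2, ← hg]
    simpa using hw

def D5 : Dat 2 (Finset (Fin 100)) :=
  ⟨fun y => maskSet (mk y), fun x y J => ∃ k < 132, nbr x k = y ∧ lab x k = J.val⟩

/-- the two generators in the group -/
def sg (g : ℕ) : ↥G100 :=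
  if g = 0 then ⟨s0, Subgroup.subset_closure (by simp)⟩
  else ⟨s1, Subgroup.subset_closure (by simp)⟩

theorem acts_sg (g : ℕ) (hg : g < 2) : Acts (sg g).val (SC g) := by
  interval_cases g
  · exact acts_cP Cfsg.Agent.Helper29.HSM.valid_chk.1
  · exact acts_cP Cfsg.Agent.Helper29.HSM.valid_chk.2.1

/-- the generators of the monomial group -/
def q (g : ℕ) : Equiv.Perm Ω :=
  if h : g < 2 then mkPerm 5600 2 (P g) (F g) (Pi g) (valid g h) else 1

theorem val_add_sub {m : ℕ} [NeZero m] (J : ZMod m) (a b : ℕ) (hb : b ≤ m) :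
    (J + (a : ZMod m) - (b : ZMod m)).val = (J.val + a + m - b) % m := by
  have e : J + (a : ZMod m) - (b : ZMod m) = ((J.val + a + m - b : ℕ) : ZMod m) := by
    rw [Nat.cast_sub (by omega), Nat.cast_add, Nat.cast_add, ZMod.natCast_zmod_val,
      ZMod.natCast_self, add_zero]
  rw [e, ZMod.val_natCast]

theorem inv_gen (g : ℕ) (hg : g < 2) : Inv D5 (q g) (sg g) := by
  unfold q
  rw [dif_pos hg]
  apply inv_mkPerm D5 (P g) (F g) (Pi g) (valid g hg) (sg g)
  · intro y hy
    show maskSet (mk (P g y)) = sg g • maskSet (mk y)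
    rw [Subgroup.smul_def]
    symm
    apply smul_maskSet _ (SC g) (acts_sg g hg)
    have h := iota_all g hg y hy
    unfold iotaOK at h
    rw [force_eq, force_eq, force_eq, force_eq, allBelow_iff] at h
    intro v hv
    exact Nat.eq_of_beq_eq_true (h v hv)
  · rintro x hx y _ J ⟨k, hk, hnbr, hlab⟩
    have h := row_all g hg x hx
    unfold rowOK at h
    rw [force_eq, force_eq, force_eq, force_eq, force_eq, force_eq, force_eq, force_eq, force_eq,
      allBelow_iff] at h
    have h1 := h k hk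
    rw [force_eq, force_eq, Bool.and_eq_true, Bool.and_eq_true] at h1
    obtain ⟨⟨a, b⟩, c⟩ := h1
    refine ⟨tg (wrow g x) 8 k, Eq.mp Nat.blt_eq a, ?_, ?_⟩
    · have b' := Nat.eq_of_beq_eq_true b
      rw [← hnbr]
      exact b'
    · have c' := Nat.eq_of_beq_eq_true c
      rw [val_add_sub J (F g y) (F g x) (le_of_lt (tg_one_lt _ _)), ← hlab, ← hnbr]
      exact c'

/-! ### The group -/

abbrev Big : Type := Equiv.Perm Ω × ↥G100

def gen (g : ℕ) : Big := (q g, sg g)

def Gam : Subgroup Big := Subgroup.closure {γ | ∃ g < 2, γ = gen g}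

theorem inv_of_mem (γ : Big) (hγ : γ ∈ Gam) : Inv D5 γ.1 γ.2 := by
  have hle : Gam ≤ invSub 5600 D5 := by
    unfold Gam
    rw [Subgroup.closure_le]
    rintro γ ⟨g, hg, rfl⟩
    exact inv_gen g hg
  exact hle hγ

/-! ### Elements with trivial image are scalar -/

theorem nbr_strict (x : ℕ) (hx : x < 5600) :
    (∀ k < 132, nbr x k < 5600) ∧ ∀ a b, a < b → b < 132 → nbr x a < nbr x b := by
  have h := sorted_all x hx
  unfold sortedOK at h
  rw [force_eq, Bool.and_eq_true, allBelow_iff] at h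
  obtain ⟨h1, h2⟩ := h
  have h1' : nbr x 131 < 5600 := Eq.mp Nat.blt_eq h1
  have h2' : ∀ k < 131, nbr x k < nbr x (k + 1) := fun k hk => Eq.mp Nat.blt_eq (h2 k hk)
  have mono : ∀ a b, a < b → b < 132 → nbr x a < nbr x b := by
    intro a b hab hb
    induction b with
    | zero => omega
    | succ b ih =>
      rcases Nat.lt_succ_iff_lt_or_eq.1 hab with h | h
      · exact lt_trans (ih h (by omega)) (h2' b (by omega))
      · rw [h]
        exact h2' b (by omega)
  refine ⟨?_, mono⟩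
  intro k hk
  rcases Nat.lt_or_ge k 131 with h | h
  · exact lt_trans (mono k 131 h (by norm_num)) h1'
  · have : k = 131 := by omega
    rw [this]
    exact h1'

theorem mk_strict : ∀ a b, a < b → b < 5600 → mk (srt a) < mk (srt b) := by
  have h := (allBelow_iff _ _).1 srt_chk.1
  have h' : ∀ r < 5599, mk (srt r) < mk (srt (r + 1)) := by
    intro r hr
    have := h r hr
    unfold srtOK at this
    rw [Bool.and_eq_true] at this
    exact Eq.mp Nat.blt_eq this.2
  intro a b hab hb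
  induction b with
  | zero => omega
  | succ b ih =>
    rcases Nat.lt_succ_iff_lt_or_eq.1 hab with h1 | h1
    · exact lt_trans (ih h1 (by omega)) (h' b (by omega))
    · rw [h1]
      exact h' b (by omega)

theorem mk_inj : ∀ x < 5600, ∀ y < 5600, D5.ι x = D5.ι y → x = y := by
  intro x hx y hy h
  have hb := (allBelow_iff _ _).1 mkb_chk
  have h1 : mk x = mk y :=
    maskSet_inj (Eq.mp Nat.blt_eq (hb x hx)) (Eq.mp Nat.blt_eq (hb y hy)) h
  have hr := (allBelow_iff _ _).1 srt_chk.2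
  have hrx := hr x hx
  have hry := hr y hy
  unfold rkOK at hrx hry
  rw [Bool.and_eq_true] at hrx hry
  have ex : srt (rk x) = x := Nat.eq_of_beq_eq_true hrx.2
  have ey : srt (rk y) = y := Nat.eq_of_beq_eq_true hry.2
  have lx : rk x < 5600 := Eq.mp Nat.blt_eq hrx.1
  have ly : rk y < 5600 := Eq.mp Nat.blt_eq hry.1
  rw [← ex, ← ey] at h1
  rcases Nat.lt_trichotomy (rk x) (rk y) with h2 | h2 | h2
  · exact absurd h1 (ne_of_lt (mk_strict _ _ h2 ly))
  · rw [← ex, ← ey, h2]
  · exact absurd h1.symm (ne_of_lt (mk_strict _ _ h2 lx))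

theorem scalar (γ : Big) (hγ : γ ∈ Gam) (h1 : γ.2 = 1) :
    ∃ c : ZMod 2, ∀ u, γ.1 u = (u.1, u.2 + c) := by
  have h := inv_of_mem γ hγ
  rw [h1] at h
  apply scalar_of_inv D5 mk_inj _ par _ γ.1 h
  · rintro x y J J' ⟨k, hk, e1, e2⟩ ⟨k', hk', e1', e2'⟩
    by_cases hx : x < 5600
    · have hs := (nbr_strict x hx).2
      have hkk : k = k' := by
        rcases Nat.lt_trichotomy k k' with h2 | h2 | h2
        · exact absurd (e1.trans e1'.symm) (ne_of_lt (hs k k' h2 hk'))
        · exact h2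
        · exact absurd (e1'.trans e1.symm) (ne_of_lt (hs k' k h2 hk))
      apply ZMod.val_injective
      rw [← e2, ← e2', hkk]
    · -- rows beyond the range are empty: all entries vanish, so `k = k'` is not needed
      apply ZMod.val_injective
      rw [← e2, ← e2']
      have hz : lrow x = 0 := by
        unfold lrow
        rw [List.getD_eq_default _ _ (by
          have : labL.length = 70 := by decide
          rw [this]; omega)]
        exact tg_zero _ _
      unfold lab
      rw [hz, tg_zero, tg_zero]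
  · intro y hy h0
    have ht := (allBelow_iff _ _).1 tree_chk y hy
    unfold treeOK at ht
    rw [Bool.or_eq_true] at ht
    rcases ht with ht | ht
    · exact absurd (Nat.eq_of_beq_eq_true ht) h0
    · rw [force_eq, force_eq, Bool.and_eq_true, Bool.and_eq_true] at ht
      obtain ⟨⟨a, b⟩, c⟩ := ht
      refine ⟨Eq.mp Nat.blt_eq a, Or.inr ⟨((lab y (pk y) : ℕ) : ZMod 2), pk y,
        Eq.mp Nat.blt_eq b, Nat.eq_of_beq_eq_true c, ?_⟩⟩
      rw [ZMod.val_natCast]
      exact (Nat.mod_eq_of_lt (tg_one_lt _ _)).symm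

theorem shift_pow_apply (n m : ℕ) (k : ℕ) (u : Pt n m) :
    ((shift n m) ^ k) u = (u.1, u.2 + (k : ZMod m)) := by
  induction k with
  | zero => simp
  | succ k ih =>
    rw [pow_succ', Equiv.Perm.mul_apply, ih]
    show (u.1, u.2 + (k : ZMod m) + 1) = _
    rw [Nat.cast_succ, add_assoc]

theorem eq_shift_pow {n m : ℕ} [NeZero m] (p : Equiv.Perm (Pt n m)) (c : ZMod m)
    (h : ∀ u, p u = (u.1, u.2 + c)) : p = (shift n m) ^ c.val := by
  ext u : 1
  rw [h u, shift_pow_apply, ZMod.natCast_zmod_val]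

/-- elements of the group with trivial image commute with the whole group -/
theorem central_of_ker (k : Big) (hk : k ∈ Gam) (h1 : k.2 = 1) (γ : Big) (hγ : γ ∈ Gam) :
    γ * k = k * γ := by
  obtain ⟨c, hc⟩ := scalar k hk h1
  have e := eq_shift_pow k.1 c hc
  have g5 : Commute γ.1 (shift 5600 2) := comm_shift_of_inv D5 (inv_of_mem γ hγ)
  apply Prod.ext
  · show γ.1 * k.1 = k.1 * γ.1
    rw [e]
    exact (g5.pow_right _).eq
  · show γ.2 * k.2 = k.2 * γ.2
    rw [h1, mul_one, one_mul]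

/-! ### The covering map -/

def sig : ↥Gam →* ↥G100 := (MonoidHom.snd _ _).comp Gam.subtype

theorem sig_apply (γ : ↥Gam) : sig γ = (γ : Big).2 := rfl

theorem gen_mem (g : ℕ) (hg : g < 2) : gen g ∈ Gam := Subgroup.subset_closure ⟨g, hg, rfl⟩

theorem ker_central : sig.ker ≤ Subgroup.center ↥Gam := by
  intro k hk
  rw [Subgroup.mem_center_iff]
  intro γ
  apply Subtype.ext
  rw [Subgroup.coe_mul, Subgroup.coe_mul]
  exact central_of_ker k.1 k.2 ((MonoidHom.mem_ker).1 hk) γ.1 γ.2

theorem sig_surj : Function.Surjective sig := by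
  have hle : G100 ≤ sig.range.map G100.subtype := by
    unfold G100
    rw [Subgroup.closure_le]
    intro s hs
    rcases hs with rfl | rfl
    · exact ⟨sg 0, ⟨⟨gen 0, gen_mem 0 (by norm_num)⟩, rfl⟩, rfl⟩
    · exact ⟨sg 1, ⟨⟨gen 1, gen_mem 1 (by norm_num)⟩, rfl⟩, rfl⟩
  intro g
  obtain ⟨r, ⟨γ, rfl⟩, hr⟩ := hle g.2
  exact ⟨γ, Subtype.ext hr⟩

theorem nc_chk : tg S0C 7 (tg S1C 7 0) ≠ tg S1C 7 (tg S0C 7 0) := by decide +kernel

theorem simple_G100 : IsSimpleGroup ↥G100 := by
  obtain ⟨e1⟩ := iso_HS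
  obtain ⟨e2⟩ := Cfsg.Agent.Helper27.HSRecog.nonempty_HS_equiv_Kstd
  have : IsSimpleGroup ↥Cfsg.Agent.Helper27.HSGraph.Kstd :=
    Cfsg.Agent.Helper27.hs_simple Cfsg.Agent.Helper27.HSGraph.hv_std
      Cfsg.Agent.Helper27.HSGraph.hw_std Cfsg.Agent.Helper27.HSGraph.hvw_std
  exact (e1.trans e2).isSimpleGroup

theorem perfect_G100 : commutator ↥G100 = ⊤ := by
  have := simple_G100
  have hn : (commutator ↥G100).Normal := by
    rw [commutator_def]
    infer_instance
  rcases hn.eq_bot_or_eq_top with h | h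
  · exfalso
    have hc : ⁅sg 0, sg 1⁆ ∈ commutator ↥G100 :=
      Subgroup.commutator_mem_commutator (Subgroup.mem_top _) (Subgroup.mem_top _)
    rw [h, Subgroup.mem_bot, commutatorElement_eq_one_iff_mul_comm] at hc
    have h2 := congrArg (fun γ : ↥G100 => (γ.val (0 : Fin 100)).val) hc
    have a0 := acts_sg 0 (by norm_num)
    have a1 := acts_sg 1 (by norm_num)
    have e1 : ((sg 0 * sg 1 : ↥G100).val (0 : Fin 100)).val = tg S0C 7 (tg S1C 7 0) := by
      show ((sg 0).val ((sg 1).val 0)).val = _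
      rw [a0, a1]
      rfl
    have e2 : ((sg 1 * sg 0 : ↥G100).val (0 : Fin 100)).val = tg S1C 7 (tg S0C 7 0) := by
      show ((sg 1).val ((sg 0).val 0)).val = _
      rw [a1, a0]
      rfl
    exact nc_chk (e1.symm.trans (h2.trans e2))
  · exact h

theorem stem : Cfsg.IsStemExtension (sig.comp (commutator ↥Gam).subtype) :=
  Cfsg.Agent.Helper11.StemC.stem_of_central sig sig_surj ker_central perfect_G100

end Cfsg.Agent.Helper29.HSC
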