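import Mathlib
import Cfsg.Agent.Lib.Helper29.HSCover
import Cfsg.Agent.Lib.Helper29.HSTwoA

set_option autoImplicit false
open Cfsg

/-! The stem extension of the Higman-Sims group with kernel of order two: the kernel. -/

namespace Cfsg.Agent.Helper29.HSC

open Cfsg.Agent.Helper29.HSP Cfsg.Agent.Helper29.HSD Cfsg.Agent.Helper29.HSCD
open Cfsg.Agent.Helper29.HSM Cfsg.Agent.Helper29.MonoInv
open scoped Pointwise commutatorElement

/-! ### Words -/

/-- one step of the trace; the state `2 * x + j` stands for the point `(x, j)` -/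
def stepN (l s0 : ℕ) : ℕ :=
  force s0 fun s => force (s / 2) fun x => force (s % 2) fun j =>
    cond (Nat.blt l 2) (force (P l x) fun y => 2 * y + (j + F l x) % 2)
      (force (Pi (l - 2) x) fun y => 2 * y + (j + 2 - F (l - 2) y) % 2)

/-- the trace of a state along a word; letters `2, 3` are the inverses of the letters `0, 1` -/
def trN : List ℕ → ℕ → ℕ
  | [], s => s
  | l :: w, s => stepN l (trN w s)

/-- the letter in a group -/
def lt4 {X : Type*} [Group X] (q : ℕ → X) (l : ℕ) : X := if l < 2 then q l else (q (l - 2))⁻¹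

/-- the product along a word -/
def wp {X : Type*} [Group X] (q : ℕ → X) : List ℕ → X
  | [] => 1
  | l :: w => lt4 q l * wp q w

theorem wp_append {X : Type*} [Group X] (q : ℕ → X) (w v : List ℕ) :
    wp q (w ++ v) = wp q w * wp q v := by
  induction w with
  | nil => simp [wp]
  | cons a w ih => simp only [List.cons_append, wp, ih, mul_assoc]

theorem map_wp {X Y : Type*} [Group X] [Group Y] (f : X →* Y) (q : ℕ → X) (w : List ℕ) :
    f (wp q w) = wp (fun i => f (q i)) w := by
  induction w with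
  | nil => simp [wp]
  | cons a w ih =>
    have e : f (lt4 q a) = lt4 (fun i => f (q i)) a := by
      unfold lt4
      split_ifs
      · rfl
      · rw [map_inv]
    simp only [wp, map_mul, ih, e]

theorem wp_congr {X : Type*} [Group X] (q q' : ℕ → X) (h : ∀ g < 2, q g = q' g) (w : List ℕ)
    (hw : ∀ l ∈ w, l < 4) : wp q w = wp q' w := by
  induction w with
  | nil => rfl
  | cons a w ih =>
    have ha : a < 4 := hw a List.mem_cons_self
    have e : lt4 q a = lt4 q' a := by
      unfold lt4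
      split_ifs with h2
      · exact h a h2
      · rw [h (a - 2) (by omega)]
    simp only [wp, e, ih (fun l hl => hw l (List.mem_cons_of_mem _ hl))]

/-- the code of a point -/
def enc (u : Ω) : ℕ := 2 * u.1.val + u.2.val

theorem val_sub_two (J : ZMod 2) (b : ℕ) (hb : b ≤ 2) :
    (J - (b : ZMod 2)).val = (J.val + 2 - b) % 2 := by
  have := val_add_sub J 0 b hb
  simpa using this

theorem val_add_two (J : ZMod 2) (b : ℕ) : (J + (b : ZMod 2)).val = (J.val + b) % 2 := by
  rw [ZMod.val_add, ZMod.val_natCast, Nat.add_mod_mod]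

theorem enc_div (u : Ω) : enc u / 2 = u.1.val := by
  have : u.2.val < 2 := ZMod.val_lt _
  unfold enc
  omega

theorem enc_mod (u : Ω) : enc u % 2 = u.2.val := by
  have : u.2.val < 2 := ZMod.val_lt _
  unfold enc
  omega

theorem q_eq (g : ℕ) (hg : g < 2) : q g = mkPerm 5600 2 (P g) (F g) (Pi g) (valid g hg) := by
  unfold q
  rw [dif_pos hg]

theorem enc_lt4 (l : ℕ) (hl : l < 4) (v : Ω) : enc (lt4 q l v) = stepN l (enc v) := by
  unfold stepN
  rw [force_eq, force_eq, force_eq, enc_div, enc_mod]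
  unfold lt4
  by_cases h2 : l < 2
  · have hb : Nat.blt l 2 = true := by rw [Nat.blt_eq]; exact h2
    rw [if_pos h2, hb, cond_true, force_eq, q_eq l h2]
    obtain ⟨e1, e2⟩ := mkPerm_apply (m := 2) (P l) (F l) (Pi l) (valid l h2) v
    unfold enc
    rw [e1, e2, val_add_two]
  · have hb : Nat.blt l 2 = false := by
      rw [← Bool.not_eq_true, Nat.blt_eq]
      exact h2
    have h3 : l - 2 < 2 := by omega
    rw [if_neg h2, hb, cond_false, force_eq, q_eq (l - 2) h3]
    obtain ⟨e1, e2⟩ := mkPerm_symm_apply (m := 2) (P (l - 2)) (F (l - 2)) (Pi (l - 2))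
      (valid (l - 2) h3) v
    unfold enc
    rw [e1, e2, val_sub_two _ (F (l - 2) (Pi (l - 2) v.1.val)) (le_of_lt (tg_one_lt _ _))]

theorem enc_wp (w : List ℕ) (hw : ∀ l ∈ w, l < 4) (u : Ω) : enc (wp q w u) = trN w (enc u) := by
  induction w with
  | nil => rfl
  | cons a w ih =>
    show enc (lt4 q a (wp q w u)) = stepN a (trN w (enc u))
    rw [enc_lt4 a (hw a List.mem_cons_self), ih (fun l hl => hw l (List.mem_cons_of_mem _ hl))]

/-! ### The central element -/

/-- the generators as elements of the group -/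
def gG (g : ℕ) : ↥Gam := if h : g < 2 then ⟨gen g, gen_mem g h⟩ else 1

theorem gG_val (g : ℕ) (hg : g < 2) : ((gG g : ↥Gam) : Big) = gen g := by
  unfold gG
  rw [dif_pos hg]

def aT : ↥Gam := wp gG WA
def bT : ↥Gam := wp gG WB
/-- the central element -/
def zG : ↥Gam := ⁅aT, bT⁆

theorem zG_mem : zG ∈ commutator ↥Gam :=
  Subgroup.commutator_mem_commutator (Subgroup.mem_top _) (Subgroup.mem_top _)

theorem wa_lt : (∀ l ∈ WA, l < 4) ∧ ∀ l ∈ WB, l < 4 := by decide +kernel

theorem sig_gG (g : ℕ) (hg : g < 2) : sig (gG g) = sg g := by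
  rw [sig_apply, gG_val g hg]
  rfl

theorem lt4_sg (l : ℕ) (hl : l < 4) : (lt4 sg l).val = ge l := by
  unfold lt4
  interval_cases l
  · rfl
  · rfl
  · rfl
  · rfl

theorem wp_sg (w : List ℕ) (hw : ∀ l ∈ w, l < 4) : (wp sg w).val = evalW w := by
  induction w with
  | nil => rfl
  | cons a w ih =>
    show (lt4 sg a * wp sg w).val = evalW (a :: w)
    rw [Subgroup.coe_mul, lt4_sg a (hw a List.mem_cons_self),
      ih (fun l hl => hw l (List.mem_cons_of_mem _ hl))]
    unfold evalW
    rw [List.map_cons, List.prod_cons]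

theorem wab_chk : reprL LC (Cfsg.Agent.Helper29.HST.XC 0) WA = true ∧
    reprL LC (Cfsg.Agent.Helper29.HST.XC 2) WB = true := by decide +kernel

theorem sig_wp (w : List ℕ) (hw : ∀ l ∈ w, l < 4) : (sig (wp gG w)).val = evalW w := by
  rw [map_wp, wp_congr _ sg sig_gG w hw, wp_sg w hw]

theorem sig_aT : sig aT = Cfsg.Agent.Helper29.HST.xg 0 := by
  apply Subtype.ext
  unfold aT
  rw [sig_wp WA wa_lt.1]
  exact eq_of_acts (acts_evalW wab_chk.1) (Cfsg.Agent.Helper29.HST.acts_xg 0 (by norm_num))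

theorem sig_bT : sig bT = Cfsg.Agent.Helper29.HST.xg 2 := by
  apply Subtype.ext
  unfold bT
  rw [sig_wp WB wa_lt.2]
  exact eq_of_acts (acts_evalW wab_chk.2) (Cfsg.Agent.Helper29.HST.acts_xg 2 (by norm_num))

theorem xcomm_chk : ∀ y < 100,
    tg (Cfsg.Agent.Helper29.HST.XC 0) 7 (tg (Cfsg.Agent.Helper29.HST.XC 2) 7 y) =
      tg (Cfsg.Agent.Helper29.HST.XC 2) 7 (tg (Cfsg.Agent.Helper29.HST.XC 0) 7 y) := by
  decide +kernel

theorem xg_comm : Cfsg.Agent.Helper29.HST.xg 0 * Cfsg.Agent.Helper29.HST.xg 2 =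
    Cfsg.Agent.Helper29.HST.xg 2 * Cfsg.Agent.Helper29.HST.xg 0 := by
  apply Subtype.ext
  rw [Subgroup.coe_mul, Subgroup.coe_mul]
  apply Equiv.ext
  intro u
  apply Fin.ext
  have h0 := Cfsg.Agent.Helper29.HST.acts_xg 0 (by norm_num)
  have h2 := Cfsg.Agent.Helper29.HST.acts_xg 2 (by norm_num)
  rw [Equiv.Perm.mul_apply, Equiv.Perm.mul_apply, h0, h2, h2, h0]
  exact xcomm_chk u.val u.2

theorem sig_zG : sig zG = 1 := by
  unfold zG
  rw [map_commutatorElement, sig_aT, sig_bT, commutatorElement_eq_one_iff_mul_comm]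
  exact xg_comm

/-- projection to the monomial group -/
def pr : ↥Gam →* Equiv.Perm Ω := (MonoidHom.fst _ _).comp Gam.subtype

theorem pr_gG (g : ℕ) (hg : g < 2) : pr (gG g) = q g := by
  show ((gG g : ↥Gam) : Big).1 = q g
  rw [gG_val g hg]
  rfl

theorem pr_wp (w : List ℕ) (hw : ∀ l ∈ w, l < 4) : pr (wp gG w) = wp q w := by
  rw [map_wp, wp_congr _ q pr_gG w hw]

theorem tr_chk : Nat.beq (trN (WA ++ WB) 0) (trN (WB ++ WA) 0) = false := by decide +kernel

theorem mem_append_lt (w v : List ℕ) (hw : ∀ a ∈ w, a < 4) (hv : ∀ a ∈ v, a < 4) :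
    ∀ a ∈ w ++ v, a < 4 := by
  intro a ha
  rcases List.mem_append.1 ha with h | h
  · exact hw a h
  · exact hv a h

theorem zG_ne : zG ≠ 1 := by
  intro h
  unfold zG at h
  rw [commutatorElement_eq_one_iff_mul_comm] at h
  unfold aT bT at h
  rw [← wp_append, ← wp_append] at h
  have h1 := congrArg pr h
  rw [pr_wp _ (mem_append_lt _ _ wa_lt.1 wa_lt.2), pr_wp _ (mem_append_lt _ _ wa_lt.2 wa_lt.1)]
    at h1
  have h2 : enc (wp q (WA ++ WB) ((0 : Fin 5600), (0 : ZMod 2))) =
      enc (wp q (WB ++ WA) ((0 : Fin 5600), (0 : ZMod 2))) := by rw [h1]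
  rw [enc_wp _ (mem_append_lt _ _ wa_lt.1 wa_lt.2), enc_wp _ (mem_append_lt _ _ wa_lt.2 wa_lt.1)]
    at h2
  have h3 : enc ((0 : Fin 5600), (0 : ZMod 2)) = 0 := rfl
  rw [h3] at h2
  have h4 := tr_chk
  rw [h2] at h4
  rw [Nat.beq_refl] at h4
  exact Bool.noConfusion h4

/-! ### The stem extension with kernel of order two -/

/-- the covering map -/
def cov : ↥(commutator ↥Gam) →* ↥G100 := sig.comp (commutator ↥Gam).subtype

theorem card_ker : Nat.card cov.ker = 2 := by
  have hsc : ∀ k : cov.ker, ∃ c : ZMod 2, ∀ u, (k.1.1.1 : Big).1 u = (u.1, u.2 + c) := by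
    intro k
    exact scalar k.1.1.1 k.1.1.2 ((MonoidHom.mem_ker).1 k.2)
  have hk2 : ∀ k : cov.ker, (k.1.1.1 : Big).2 = 1 := fun k => (MonoidHom.mem_ker).1 k.2
  have hinj : Function.Injective fun k : cov.ker => Classical.choose (hsc k) := by
    intro k k' h
    simp only [] at h
    apply Subtype.ext
    apply Subtype.ext
    apply Subtype.ext
    apply Prod.ext
    · apply Equiv.ext
      intro u
      rw [Classical.choose_spec (hsc k) u, Classical.choose_spec (hsc k') u, h]
    · rw [hk2 k, hk2 k']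
  have h1 : Nat.card cov.ker ≤ 2 := by
    have := Nat.card_le_card_of_injective _ hinj
    rwa [Nat.card_zmod] at this
  have hzk : (⟨zG, zG_mem⟩ : ↥(commutator ↥Gam)) ∈ cov.ker := by
    rw [MonoidHom.mem_ker]
    exact sig_zG
  have hnt : Nontrivial cov.ker := by
    refine ⟨⟨⟨⟨zG, zG_mem⟩, hzk⟩, 1, ?_⟩⟩
    intro h
    exact zG_ne (congrArg Subtype.val (congrArg Subtype.val h))
  have h2 : 1 < Nat.card cov.ker := Finite.one_lt_card_iff_nontrivial.2 hnt
  omega

theorem exists_cover : ∃ (Γ : Type) (_ : Group Γ) (_ : Finite Γ) (σ : Γ →* ↥G100),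
    Cfsg.IsStemExtension σ ∧ Nonempty (σ.ker ≃* Multiplicative (ZMod 2)) := by
  have hfin : Finite ↥(commutator ↥Gam) := inferInstance
  refine ⟨↥(commutator ↥Gam), inferInstance, hfin, cov, stem, ?_⟩
  have : Fact (Nat.Prime 2) := ⟨Nat.prime_two⟩
  have hc : Nat.card (Multiplicative (ZMod 2)) = 2 := by
    rw [Nat.card_eq_fintype_card, Fintype.card_multiplicative, ZMod.card]
  exact ⟨mulEquivOfPrimeCardEq (p := 2) card_ker hc⟩

end Cfsg.Agent.Helper29.HSC
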