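import Mathlib

set_option autoImplicit false

/-! Words for elements of order three and five in the Higman-Sims group (generated). -/

namespace Cfsg.Agent.Helper29.HSOD

def Wx3 : List ℕ := [1, 2, 2, 3, 3, 0, 3, 2, 2, 2, 2, 1, 2, 1, 1, 0, 3, 2, 2, 1, 2, 1, 2, 2, 2, 2, 3, 2, 2, 3, 3, 0, 1, 0, 1, 1, 0, 0, 3, 2, 2, 2, 2, 1, 2, 2, 2, 2, 2, 3, 2, 2, 1, 1, 0, 1, 2, 2, 1, 0, 0, 3, 0, 1, 2, 3, 3, 0, 3, 0, 3, 2, 2, 2, 3, 0, 0, 0, 1, 2, 2, 1]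

def Wy3 : List ℕ := [0, 3, 3, 2, 3, 0, 3, 3, 0, 3, 2, 2, 2, 2, 1, 1, 0, 3, 2, 1, 1, 0, 1, 2, 2, 2, 2, 3, 3, 3, 2, 3, 2, 1, 1, 0, 0, 0, 0, 3, 2, 2, 2, 2, 1, 2, 2, 2, 2, 3, 3, 0, 1, 0, 1, 1, 0, 1, 0, 3, 2, 3, 3, 0, 0, 1, 0, 0, 0]

def Wn3 : List ℕ := [3, 2, 3, 2, 1, 1, 2, 2, 2, 2, 3, 3, 0, 3, 0, 3, 3, 0, 3, 0, 0, 3, 2, 2, 1, 2, 3, 0, 0, 3, 2, 2, 1, 2, 3, 3, 2, 3, 2, 1, 1, 0, 0]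

def Wx5 : List ℕ := [3, 0, 0, 1, 2, 1, 1, 2, 1, 2, 1, 1, 2, 2, 2, 2, 3, 3, 0, 3, 0, 3, 3, 0, 3, 0, 0, 3, 2, 2, 1, 2, 3, 0, 0, 3, 2, 2, 1, 2, 3, 3, 2, 3, 2, 1, 1, 0, 0, 0, 0, 3, 2, 2, 2, 2, 1, 2, 2, 2, 2, 3, 3, 0, 1, 0, 1, 1, 2, 2, 2, 3, 2, 2, 1, 1, 0, 1, 2, 2, 1, 0, 0, 3, 0, 1, 2, 3, 3, 0, 3]

def Wy5 : List ℕ := [1, 0, 0, 0, 0, 3, 2, 2, 2, 2, 1, 2, 1, 1, 2, 1, 0, 3, 0, 0, 1, 2, 2, 1, 1, 0, 1, 2, 3, 3, 0, 3, 2, 1, 1, 0, 0, 0, 0, 3, 2, 2, 2, 2, 1, 2, 2, 2, 2, 2, 3, 2, 2, 1, 1, 0, 1, 2, 3, 3, 2, 2, 2, 3, 0, 0, 0, 1, 2, 2, 1]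

def Wn5 : List ℕ := [1, 0, 0, 3, 0, 3, 3, 0, 3, 2, 2, 2, 3, 3, 0, 3, 2, 2, 2, 2, 1, 2, 1, 1, 2, 1, 1, 2, 2, 2, 2, 3, 0, 3, 0, 0, 1, 2, 2, 1, 0, 0, 3, 2, 2, 2, 2, 1, 2, 1, 0, 3, 2, 3, 3, 0, 0, 1, 0, 0, 0, 3, 3, 2, 3, 2, 2, 2, 1, 2, 3, 2, 2, 2, 1, 0, 0, 3, 2, 2, 2, 3, 0, 0, 0, 1, 2, 2, 1]

def mv3x : ℕ := 0
def mv3y : ℕ := 0
def mv5c : ℕ := 0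


end Cfsg.Agent.Helper29.HSOD
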