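import Mathlib
import Cfsg.Agent.Lib.Helper29.HSModelB
import Cfsg.Agent.Lib.Helper29.HSOddData
import Cfsg.Agent.Lib.Helper29.StemOdd
import Cfsg.Agent.Lib.Helper19.HeisLocal

set_option autoImplicit false
open Cfsg

/-! The odd primes for the stem extensions of the Higman-Sims group. -/

namespace Cfsg.Agent.Helper29.HSO

open Cfsg.Agent.Helper29.HSP Cfsg.Agent.Helper29.HSD Cfsg.Agent.Helper29.HSM
open Cfsg.Agent.Helper29.HSOD
open Cfsg.Agent.Helper29.StemSylow Cfsg.Agent.Helper29.StemSplit Cfsg.Agent.Helper29.StemOdd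
open scoped commutatorElement

/-! ### Words -/

/-- equality of the permutations of two words, as a boolean -/
def weqW (w v : List ℕ) : Bool := allBelow 100 fun y => Nat.beq (appL LC w y) (appL LC v y)

/-- the letters are in range -/
def okW (w : List ℕ) : Bool := w.all fun l => Nat.blt l 4

theorem okW_spec {w : List ℕ} (h : okW w = true) : ∀ l ∈ w, l < 4 := by
  unfold okW at h
  rw [List.all_eq_true] at h
  intro l hl
  exact Eq.mp Nat.blt_eq (h l hl)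

theorem okW_append {w v : List ℕ} (hw : okW w = true) (hv : okW v = true) :
    okW (w ++ v) = true := by
  unfold okW at *
  rw [List.all_append, hw, hv]
  rfl

/-- the element of a word -/
def em (w : List ℕ) : ↥G100 := ⟨evalW w, evalW_mem w⟩

theorem em_append (w v : List ℕ) : em (w ++ v) = em w * em v :=
  Subtype.ext (evalW_append w v)

theorem em_nil : em [] = 1 := rfl

theorem em_eq_of_weqW {w v : List ℕ} (hw : okW w = true) (hv : okW v = true)
    (h : weqW w v = true) : em w = em v := by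
  apply Subtype.ext
  apply Equiv.ext
  intro u
  apply Fin.ext
  show (evalW w u).val = (evalW v u).val
  rw [evalW_apply w (okW_spec hw), evalW_apply v (okW_spec hv)]
  unfold weqW at h
  rw [allBelow_iff] at h
  exact Nat.eq_of_beq_eq_true (h u.val u.2)

theorem em_ne_of {w v : List ℕ} (hw : okW w = true) (hv : okW v = true) (y : ℕ) (hy : y < 100)
    (h : appL LC w y ≠ appL LC v y) : em w ≠ em v := by
  intro e
  apply h
  have e2 : (evalW w ⟨y, hy⟩).val = (evalW v ⟨y, hy⟩).val :=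
    congrArg (fun g : ↥G100 => (g.val ⟨y, hy⟩).val) e
  rw [evalW_apply w (okW_spec hw), evalW_apply v (okW_spec hv)] at e2
  exact e2

/-- the inverse word -/
def winv (w : List ℕ) : List ℕ := w.reverse.map fun l => (l + 2) % 4

theorem ge_inv (l : ℕ) (hl : l < 4) : ge ((l + 2) % 4) = (ge l)⁻¹ := by
  interval_cases l
  · rfl
  · rfl
  · show s0 = (s0⁻¹)⁻¹
    rw [inv_inv]
  · show s1 = (s1⁻¹)⁻¹
    rw [inv_inv]

theorem evalW_winv (w : List ℕ) (hw : ∀ l ∈ w, l < 4) : evalW (winv w) = (evalW w)⁻¹ := by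
  induction w with
  | nil =>
    show (1 : Pm) = (1 : Pm)⁻¹
    rw [inv_one]
  | cons a w ih =>
    have e1 : winv (a :: w) = winv w ++ [(a + 2) % 4] := by
      unfold winv
      rw [List.reverse_cons, List.map_append]
      rfl
    have e2 : evalW [(a + 2) % 4] = ge ((a + 2) % 4) := by
      unfold evalW
      rw [List.map_cons, List.map_nil, List.prod_cons, List.prod_nil, mul_one]
    have e3 : evalW (a :: w) = ge a * evalW w := by
      unfold evalW
      rw [List.map_cons, List.prod_cons]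
    rw [e1, evalW_append, ih (fun l hl => hw l (List.mem_cons_of_mem _ hl)), e2,
      ge_inv a (hw a List.mem_cons_self), e3, mul_inv_rev]

theorem em_winv {w : List ℕ} (hw : okW w = true) : em (winv w) = (em w)⁻¹ :=
  Subtype.ext (evalW_winv w (okW_spec hw))

theorem okW_winv {w : List ℕ} (hw : okW w = true) : okW (winv w) = true := by
  have h := okW_spec hw
  unfold okW winv
  rw [List.all_eq_true]
  intro l hl
  rw [List.mem_map] at hl
  obtain ⟨a, _, rfl⟩ := hl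
  rw [Nat.blt_eq]
  exact Nat.mod_lt _ (by norm_num)

/-! ### The prime three -/

def X3 : ↥G100 := em Wx3
def Y3 : ↥G100 := em Wy3
def N3 : ↥G100 := em Wn3

theorem ok3 : okW Wx3 = true ∧ okW Wy3 = true ∧ okW Wn3 = true := by decide +kernel

theorem chk3 : weqW (Wx3 ++ (Wx3 ++ Wx3)) [] = true ∧ weqW (Wy3 ++ (Wy3 ++ Wy3)) [] = true ∧
    weqW (Wx3 ++ Wy3) (Wy3 ++ Wx3) = true ∧ weqW (Wn3 ++ Wx3) (Wx3 ++ Wn3) = true ∧
    weqW (Wy3 ++ (Wn3 ++ Wy3)) Wn3 = true ∧ appL LC Wx3 mv3x ≠ appL LC [] mv3x ∧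
    appL LC Wy3 mv3y ≠ appL LC [] mv3y ∧ mv3x < 100 ∧ mv3y < 100 := by decide +kernel

theorem X3_cube : X3 ^ 3 = 1 := by
  have h := em_eq_of_weqW (okW_append ok3.1 (okW_append ok3.1 ok3.1)) (by rfl) chk3.1
  rw [em_append, em_append, em_nil] at h
  rw [pow_succ, pow_succ, pow_one, mul_assoc]
  exact h

theorem Y3_cube : Y3 ^ 3 = 1 := by
  have h := em_eq_of_weqW (okW_append ok3.2.1 (okW_append ok3.2.1 ok3.2.1)) (by rfl) chk3.2.1
  rw [em_append, em_append, em_nil] at h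
  rw [pow_succ, pow_succ, pow_one, mul_assoc]
  exact h

theorem X3_Y3 : Commute X3 Y3 := by
  have h := em_eq_of_weqW (okW_append ok3.1 ok3.2.1) (okW_append ok3.2.1 ok3.1) chk3.2.2.1
  rw [em_append, em_append] at h
  exact h

theorem N3_X3 : N3 * X3 * N3⁻¹ = X3 := by
  have h := em_eq_of_weqW (okW_append ok3.2.2 ok3.1) (okW_append ok3.1 ok3.2.2) chk3.2.2.2.1
  rw [em_append, em_append] at h
  rw [mul_inv_eq_iff_eq_mul]
  exact h

theorem N3_Y3 : N3 * Y3 * N3⁻¹ = Y3⁻¹ := by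
  have h := em_eq_of_weqW (okW_append ok3.2.1 (okW_append ok3.2.2 ok3.2.1)) ok3.2.2
    chk3.2.2.2.2.1
  rw [em_append, em_append] at h
  rw [mul_inv_eq_iff_eq_mul, eq_inv_mul_iff_mul_eq]
  exact h

theorem X3_ne : X3 ≠ 1 := by
  have h := em_ne_of ok3.1 (by rfl : okW [] = true) mv3x chk3.2.2.2.2.2.2.2.1 chk3.2.2.2.2.2.1
  rw [em_nil] at h
  exact h

theorem Y3_ne : Y3 ≠ 1 := by
  have h := em_ne_of ok3.2.1 (by rfl : okW [] = true) mv3y chk3.2.2.2.2.2.2.2.2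
    chk3.2.2.2.2.2.2.1
  rw [em_nil] at h
  exact h

theorem Y3_not_mem : Y3 ∉ Subgroup.zpowers X3 := by
  intro h
  obtain ⟨k, hk⟩ := Subgroup.mem_zpowers_iff.1 h
  -- the element `N3` centralises the powers of `X3` and inverts `Y3`
  have h1 : N3 * Y3 * N3⁻¹ = Y3 := by
    rw [← hk, ← conj_zpow, N3_X3]
  rw [N3_Y3] at h1
  have h2 : Y3 * Y3 = 1 := by
    nth_rewrite 1 [← h1]
    exact inv_mul_cancel Y3
  have h3 := Y3_cube
  rw [pow_succ, pow_two, h2, one_mul] at h3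
  exact Y3_ne h3

theorem not_dvd3 : ¬ 3 ^ 3 ∣ Nat.card ↥G100 := by
  rw [card_G100]
  norm_num

theorem local3 {Γ : Type*} [Group Γ] (σ : Γ →* ↥G100) (hs : Function.Surjective σ)
    (hK : σ.ker ≤ Subgroup.center Γ) :
    ∃ Q : Subgroup ↥G100, ¬ 3 ∣ Q.index ∧
      ∀ k ∈ ⁅Q.comap σ, Q.comap σ⁆, k ∈ σ.ker → k = 1 := by
  have : Fact (Nat.Prime 3) := ⟨Nat.prime_three⟩
  refine ⟨pairSubgroup X3 Y3 X3_Y3, ?_, ?_⟩
  · exact not_dvd_index_pair' 3 X3 Y3 X3_Y3 X3_cube Y3_cube X3_ne Y3_not_mem not_dvd3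
  · obtain ⟨x, hx⟩ := hs X3
    obtain ⟨y, hy⟩ := hs Y3
    obtain ⟨n, hn⟩ := hs N3
    have hb := comm_eq_bot_of_odd σ hK ((pairSubgroup X3 Y3 X3_Y3).comap σ) x y n 3 (by decide)
      (by rw [hx]; exact X3_cube)
      (by rw [hx, hy]; exact X3_Y3.eq)
      (by rw [hx, hn]; exact N3_X3)
      (by rw [hy, hn]; exact N3_Y3)
      (by
        intro u hu
        obtain ⟨i, j, hij⟩ := (mem_pairSubgroup X3 Y3 X3_Y3 (σ u)).1 hu
        exact ⟨i, j, by rw [hx, hy]; exact hij⟩)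
    intro k hk _
    rw [hb] at hk
    exact Subgroup.mem_bot.1 hk

/-! ### The prime five -/

def X5 : ↥G100 := em Wx5
def Y5 : ↥G100 := em Wy5
def N5 : ↥G100 := em Wn5

/-- the word of the commutator -/
def Wc5 : List ℕ := Wx5 ++ (Wy5 ++ (winv Wx5 ++ winv Wy5))

theorem ok5 : okW Wx5 = true ∧ okW Wy5 = true ∧ okW Wn5 = true := by decide +kernel

theorem okc5 : okW Wc5 = true :=
  okW_append ok5.1 (okW_append ok5.2.1 (okW_append (okW_winv ok5.1) (okW_winv ok5.2.1)))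

theorem chk5 : weqW (Wx5 ++ (Wx5 ++ (Wx5 ++ (Wx5 ++ Wx5)))) [] = true ∧
    weqW (Wy5 ++ (Wy5 ++ (Wy5 ++ (Wy5 ++ Wy5)))) [] = true ∧
    weqW (Wx5 ++ Wc5) (Wc5 ++ Wx5) = true ∧ weqW (Wy5 ++ Wc5) (Wc5 ++ Wy5) = true ∧
    weqW (Wx5 ++ (Wn5 ++ Wx5)) Wn5 = true ∧ weqW (Wy5 ++ (Wn5 ++ Wy5)) Wn5 = true ∧
    appL LC Wc5 mv5c ≠ appL LC [] mv5c ∧ mv5c < 100 := by decide +kernel

theorem C5_eq : em Wc5 = ⁅X5, Y5⁆ := by
  unfold Wc5
  rw [em_append, em_append, em_append, em_winv ok5.1, em_winv ok5.2.1, commutatorElement_def]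
  unfold X5 Y5
  group

theorem X5_pow : X5 ^ 5 = 1 := by
  have h := em_eq_of_weqW (okW_append ok5.1 (okW_append ok5.1 (okW_append ok5.1
    (okW_append ok5.1 ok5.1)))) (by rfl) chk5.1
  rw [em_append, em_append, em_append, em_append, em_nil] at h
  rw [pow_succ, pow_succ, pow_succ, pow_succ, pow_one]
  simp only [mul_assoc]
  exact h

theorem Y5_pow : Y5 ^ 5 = 1 := by
  have h := em_eq_of_weqW (okW_append ok5.2.1 (okW_append ok5.2.1 (okW_append ok5.2.1
    (okW_append ok5.2.1 ok5.2.1)))) (by rfl) chk5.2.1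
  rw [em_append, em_append, em_append, em_append, em_nil] at h
  rw [pow_succ, pow_succ, pow_succ, pow_succ, pow_one]
  simp only [mul_assoc]
  exact h

theorem X5_C5 : X5 * ⁅X5, Y5⁆ = ⁅X5, Y5⁆ * X5 := by
  have h := em_eq_of_weqW (okW_append ok5.1 okc5) (okW_append okc5 ok5.1) chk5.2.2.1
  rw [em_append, em_append, C5_eq] at h
  exact h

theorem Y5_C5 : Y5 * ⁅X5, Y5⁆ = ⁅X5, Y5⁆ * Y5 := by
  have h := em_eq_of_weqW (okW_append ok5.2.1 okc5) (okW_append okc5 ok5.2.1) chk5.2.2.2.1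
  rw [em_append, em_append, C5_eq] at h
  exact h

theorem N5_X5 : N5 * X5 * N5⁻¹ = X5⁻¹ := by
  have h := em_eq_of_weqW (okW_append ok5.1 (okW_append ok5.2.2 ok5.1)) ok5.2.2
    chk5.2.2.2.2.1
  rw [em_append, em_append] at h
  rw [mul_inv_eq_iff_eq_mul, eq_inv_mul_iff_mul_eq]
  exact h

theorem N5_Y5 : N5 * Y5 * N5⁻¹ = Y5⁻¹ := by
  have h := em_eq_of_weqW (okW_append ok5.2.1 (okW_append ok5.2.2 ok5.2.1)) ok5.2.2
    chk5.2.2.2.2.2.1
  rw [em_append, em_append] at h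
  rw [mul_inv_eq_iff_eq_mul, eq_inv_mul_iff_mul_eq]
  exact h

theorem C5_ne : ⁅X5, Y5⁆ ≠ 1 := by
  have h := em_ne_of okc5 (by rfl : okW [] = true) mv5c chk5.2.2.2.2.2.2.2 chk5.2.2.2.2.2.2.1
  rw [em_nil, C5_eq] at h
  exact h

theorem not_dvd5 : ¬ 5 ^ 4 ∣ Nat.card ↥G100 := by
  rw [card_G100]
  norm_num

theorem local5 {Γ : Type*} [Group Γ] (σ : Γ →* ↥G100) (hs : Function.Surjective σ)
    (hK : σ.ker ≤ Subgroup.center Γ) :
    ∃ Q : Subgroup ↥G100, ¬ 5 ∣ Q.index ∧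
      ∀ k ∈ ⁅Q.comap σ, Q.comap σ⁆, k ∈ σ.ker → k = 1 :=
  local_of_heis 5 (by norm_num) (by norm_num) σ hs hK X5 Y5 N5 X5_pow Y5_pow X5_C5 Y5_C5
    N5_X5 N5_Y5 C5_ne not_dvd5

/-! ### The other primes -/

theorem not_sq_dvd (p : ℕ) (hp : p.Prime) (h2 : p ≠ 2) (h3 : p ≠ 3) (h5 : p ≠ 5) :
    ¬ p ^ 2 ∣ 44352000 := by
  intro hd
  have h1 : p ∣ 2 ^ 9 * 3 ^ 2 * 5 ^ 3 * 7 * 11 := (dvd_pow_self p (by norm_num)).trans hd
  have hcases : p = 7 ∨ p = 11 := by
    rcases (Nat.Prime.dvd_mul hp).1 h1 with h | h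
    · rcases (Nat.Prime.dvd_mul hp).1 h with h | h
      · rcases (Nat.Prime.dvd_mul hp).1 h with h | h
        · rcases (Nat.Prime.dvd_mul hp).1 h with h | h
          · exact absurd ((Nat.prime_dvd_prime_iff_eq hp Nat.prime_two).1
              (hp.dvd_of_dvd_pow h)) h2
          · exact absurd ((Nat.prime_dvd_prime_iff_eq hp Nat.prime_three).1
              (hp.dvd_of_dvd_pow h)) h3
        · exact absurd ((Nat.prime_dvd_prime_iff_eq hp (by norm_num)).1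
            (hp.dvd_of_dvd_pow h)) h5
      · left; exact (Nat.prime_dvd_prime_iff_eq hp (by norm_num)).1 h
    · right; exact (Nat.prime_dvd_prime_iff_eq hp (by norm_num)).1 h
  have e7 : ¬ (7 : ℕ) ^ 2 ∣ 44352000 := by norm_num
  have e11 : ¬ (11 : ℕ) ^ 2 ∣ 44352000 := by norm_num
  rcases hcases with h' | h'
  · rw [h'] at hd; exact e7 hd
  · rw [h'] at hd; exact e11 hd

/-- the local statement for all odd primes -/
theorem local_odd {Γ : Type*} [Group Γ] (σ : Γ →* ↥G100) (hs : Function.Surjective σ)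
    (hK : σ.ker ≤ Subgroup.center Γ) (p : ℕ) (hp : p.Prime) (h2 : p ≠ 2) :
    ∃ Q : Subgroup ↥G100, ¬ p ∣ Q.index ∧
      ∀ k ∈ ⁅Q.comap σ, Q.comap σ⁆, k ∈ σ.ker → k = 1 := by
  by_cases h3 : p = 3
  · subst h3
    exact local3 σ hs hK
  by_cases h5 : p = 5
  · subst h5
    exact local5 σ hs hK
  · apply local_of_not_sq_dvd σ hs hK p hp
    rw [card_G100]
    exact not_sq_dvd p hp h2 h3 h5

end Cfsg.Agent.Helper29.HSO
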