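import Mathlib
import Cfsg.Agent.Lib.Helper29.HSTwoA
import Cfsg.Agent.Lib.Helper29.HSCoverDefs
import Cfsg.Agent.Lib.Helper29.HSOutData

set_option autoImplicit false

/-! The involutions of the Higman-Sims group on a hundred points: tables and check functions. -/

namespace Cfsg.Agent.Helper29.HSX

open Cfsg.Agent.Helper29.HSP Cfsg.Agent.Helper29.HSD Cfsg.Agent.Helper29.HSM
open Cfsg.Agent.Helper29.HSXD Cfsg.Agent.Helper29.HST
open Cfsg.Agent.Helper29.HSC (allR allR_iff)

/-- the number of involutions -/
def NL : ℕ := 21175
/-- a packed row of codes of involutions -/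
def irow (i : ℕ) : ℕ := ILrows.getD (i / 80) 0
/-- the code of the involution with index `i` -/
def Lc (i : ℕ) : ℕ := tg (irow i) 700 (i % 80)
/-- the index of the conjugate by the letter `l` of the involution `i` -/
def cw (l i : ℕ) : ℕ := tg (CWL.getD l 0) 15 i
/-- the codes of the powers of the element of order seven -/
def XP (k : ℕ) : ℕ := XPL.getD k 0

/-- closure of the list of involutions under conjugation by a letter -/
def closOK (l i : ℕ) : Bool :=
  force (LC.getD l 0) fun s => force (Lc i) fun a => force (cw l i) fun j => force (Lc j) fun b =>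
    Nat.blt j NL && allBelow 100 fun y => Nat.beq (tg b 7 (tg s 7 y)) (tg s 7 (tg a 7 y))

/-- iterate the composition of two codes -/
def iterC (a c m v : ℕ) : ℕ := Nat.rec (motive := fun _ => ℕ) v (fun _ r => tg a 7 (tg c 7 r)) m

/-- the power `m` of the composition is the identity -/
def powOK (a c m : ℕ) : Bool := allBelow 100 fun p => Nat.beq (iterC a c m p) p

/-- the three relations -/
def relOK (c : ℕ) : Bool :=
  force (XP 1) fun x1 => force (XP 2) fun x2 => force (XP 3) fun x3 =>
    powOK x1 c 4 && powOK x2 c 8 && powOK x3 c 15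

/-- the index is one of the fourteen -/
def yMem (i : ℕ) : Bool := YIL.any fun j => Nat.beq i j

/-- the filter -/
def filtOK (i : ℕ) : Bool := force (Lc i) fun c => !(relOK c) || yMem i

/-- the involutions of the Sylow subgroup are in the list -/
def s2OK (i : ℕ) : Bool :=
  force (NC i) fun c =>
    !(allBelow 100 fun y => Nat.beq (tg c 7 (tg c 7 y)) y) || Nat.beq i 0 ||
      (force (tg S2IP 15 i) fun j => Nat.blt j NL && Nat.beq (Lc j) c)

end Cfsg.Agent.Helper29.HSX
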