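import Mathlib
import Cfsg.Agent.Lib.Helper29.HSOutDefs

set_option autoImplicit false

/-! Kernel checks for the list of involutions of the Higman-Sims group (generated). -/

namespace Cfsg.Agent.Helper29.HSX

open Cfsg.Agent.Helper29.HSP Cfsg.Agent.Helper29.HSD Cfsg.Agent.Helper29.HSM
open Cfsg.Agent.Helper29.HSXD Cfsg.Agent.Helper29.HST
open Cfsg.Agent.Helper29.HSC (allR allR_iff)

theorem clos_3_0 : allR 0 2647 (closOK 3) = true := by decide +kernel

theorem clos_3_1 : allR 2647 2647 (closOK 3) = true := by decide +kernel

theorem clos_3_2 : allR 5294 2647 (closOK 3) = true := by decide +kernel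

theorem clos_3_3 : allR 7941 2647 (closOK 3) = true := by decide +kernel

theorem clos_3_4 : allR 10588 2647 (closOK 3) = true := by decide +kernel

theorem clos_3_5 : allR 13235 2647 (closOK 3) = true := by decide +kernel

theorem clos_3_6 : allR 15882 2647 (closOK 3) = true := by decide +kernel

theorem clos_3_7 : allR 18529 2646 (closOK 3) = true := by decide +kernel

end Cfsg.Agent.Helper29.HSX
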