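import Mathlib
import Cfsg.Agent.Lib.Helper29.HSOutDefs

set_option autoImplicit false

/-! Kernel checks for the list of involutions of the Higman-Sims group (generated). -/

namespace Cfsg.Agent.Helper29.HSX

open Cfsg.Agent.Helper29.HSP Cfsg.Agent.Helper29.HSD Cfsg.Agent.Helper29.HSM
open Cfsg.Agent.Helper29.HSXD Cfsg.Agent.Helper29.HST
open Cfsg.Agent.Helper29.HSC (allR allR_iff)

theorem filt_chk : allR 0 21175 filtOK = true := by decide +kernel

theorem s2_chk : allBelow 512 s2OK = true := by decide +kernel

end Cfsg.Agent.Helper29.HSX
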