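import Mathlib
import Cfsg.Agent.Lib.Helper29.HSOutDefs

set_option autoImplicit false

/-! Kernel checks for the elements used for the outer automorphism group of the Higman-Sims
group. -/

namespace Cfsg.Agent.Helper29.HSX

open Cfsg.Agent.Helper29.HSP Cfsg.Agent.Helper29.HSD Cfsg.Agent.Helper29.HSM
open Cfsg.Agent.Helper29.HSXD Cfsg.Agent.Helper29.HST

/-- a transposition on numbers -/
def swp (p : ℕ × ℕ) (w : ℕ) : ℕ := cond (Nat.beq w p.1) p.2 (cond (Nat.beq w p.2) p.1 w)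

/-- a product of transpositions on numbers -/
def swApp : List (ℕ × ℕ) → ℕ → ℕ
  | [], v => v
  | p :: l, v => swp p (swApp l v)

set_option maxRecDepth 100000 in
theorem wx_chk : reprL LC (XP 1) Wx = true ∧ reprL LC YC Wy = true ∧ reprL LC NC1 Wn = true ∧
    reprL LC H11C Wh = true ∧ reprL LC PS0C V0 = true ∧ reprL LC PS1C V1 = true := by
  decide +kernel

theorem xp_chk : XP 0 = idC ∧
    (∀ k < 6, ∀ y < 100, tg (XP (k + 1)) 7 y = tg (XP 1) 7 (tg (XP k) 7 y)) ∧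
    (∀ y < 100, tg (XP 1) 7 (tg (XP 6) 7 y) = y) ∧ (∀ y < 100, tg (XP 6) 7 (tg (XP 1) 7 y) = y) ∧
    tg (XP 1) 7 0 ≠ 0 := by
  decide +kernel

theorem n_chk : ∀ y < 100, tg NC1 7 (tg (XP 1) 7 y) = tg (XP 3) 7 (tg NC1 7 y) := by
  decide +kernel

theorem y_chk : (∀ y < 100, tg YC 7 (tg YC 7 y) = y) ∧ relOK YC = true ∧ tg YC 7 0 ≠ 0 := by
  decide +kernel

theorem pi_chk : validC PC PC = true ∧
    (∀ y < 100, tg PC 7 (tg (XP 1) 7 y) = tg (XP 1) 7 (tg PC 7 y)) ∧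
    (∀ y < 100, tg YoC 7 (tg PC 7 y) = tg PC 7 (tg YC 7 y)) ∧
    (∀ y < 100, tg PS0C 7 y = tg PC 7 (tg S0C 7 (tg PC 7 y))) ∧
    (∀ y < 100, tg PS1C 7 y = tg PC 7 (tg S1C 7 (tg PC 7 y))) := by
  decide +kernel

theorem yi_chk : YIL.length = 14 ∧ (∀ k < 14, YIL.getD k 0 < NL) ∧
    (∀ k < 7, ∀ y < 100,
      tg (Lc (YIL.getD k 0)) 7 (tg (XP k) 7 y) = tg (XP k) 7 (tg YC 7 y)) ∧
    (∀ k < 7, ∀ y < 100,
      tg (Lc (YIL.getD (7 + k) 0)) 7 (tg (XP k) 7 y) = tg (XP k) 7 (tg YoC 7 y)) := by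
  decide +kernel

set_option maxRecDepth 100000 in
theorem gen_chk : reprL [XP 1, YC, XP 6] S0C W0 = true ∧ reprL [XP 1, YC, XP 6] S1C W1 = true := by
  decide +kernel

theorem h11_chk : tg H11C 7 P0 = P0 ∧ P0 < 100 ∧ ∀ v < 100, tg H11C 7 v = v → v = P0 := by
  decide +kernel

set_option maxRecDepth 100000 in
theorem trw_chk : ∀ q < 100, (∀ l ∈ TRW.getD q [], l < 4) ∧ appL LC (TRW.getD q []) P0 = q := by
  decide +kernel

theorem sw_chk : swL.length = 35 ∧ (∀ p ∈ swL, p.1 < 100 ∧ p.2 < 100 ∧ p.1 ≠ p.2) ∧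
    ∀ v < 100, swApp swL v = tg PC 7 v := by
  decide +kernel

end Cfsg.Agent.Helper29.HSX
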