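import Mathlib
import Cfsg.Agent.Lib.Helper29.HSModelB
import Cfsg.Agent.Lib.Helper29.HSOdd
import Cfsg.Agent.Lib.Helper29.HSOutChkC0
import Cfsg.Agent.Lib.Helper29.HSOutChkC1
import Cfsg.Agent.Lib.Helper29.HSOutChkC2
import Cfsg.Agent.Lib.Helper29.HSOutChkC3
import Cfsg.Agent.Lib.Helper29.HSOutChkF
import Cfsg.Agent.Lib.Helper29.HSOutChkM
import Cfsg.Agent.Lib.Helper29.HSOutGen

set_option autoImplicit false
open Cfsg

/-! The involutions of the Higman-Sims group on a hundred points: every involution is in the list,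
and the images of the second generator under automorphisms fixing the first. -/

namespace Cfsg.Agent.Helper29.HSX

open Cfsg.Agent.Helper29.HSP Cfsg.Agent.Helper29.HSD Cfsg.Agent.Helper29.HSM
open Cfsg.Agent.Helper29.HSXD Cfsg.Agent.Helper29.HST Cfsg.Agent.Helper29.HSO
open Cfsg.Agent.Helper29.HSC (allR allR_iff)
open Cfsg.Agent.Helper29.HSXG

/-! ### Words -/

theorem exists_word (g : Pm) (hg : g ∈ G100) : ∃ w : List ℕ, (∀ l ∈ w, l < 4) ∧ g = evalW w := by
  unfold G100 at hg
  induction hg using Subgroup.closure_induction with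
  | mem x hx =>
    rcases hx with rfl | rfl
    · refine ⟨[0], by simp, ?_⟩
      show s0 = s0 * 1
      rw [mul_one]
    · refine ⟨[1], by simp, ?_⟩
      show s1 = s1 * 1
      rw [mul_one]
  | one => exact ⟨[], by simp, rfl⟩
  | mul x y _ _ hx hy =>
    obtain ⟨w, hw, rfl⟩ := hx
    obtain ⟨v, hv, rfl⟩ := hy
    refine ⟨w ++ v, ?_, (evalW_append w v).symm⟩
    intro l hl
    rcases List.mem_append.1 hl with h | h
    · exact hw l h
    · exact hv l h
  | inv x _ hx =>
    obtain ⟨w, hw, rfl⟩ := hx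
    refine ⟨Cfsg.Agent.Helper29.HSO.winv w, ?_, (Cfsg.Agent.Helper29.HSO.evalW_winv w hw).symm⟩
    intro l hl
    unfold Cfsg.Agent.Helper29.HSO.winv at hl
    rw [List.mem_map] at hl
    obtain ⟨a, _, rfl⟩ := hl
    exact Nat.mod_lt _ (by norm_num)

/-! ### The list of involutions -/

/-- the permutation is in the list -/
def InL (t : Pm) : Prop := ∃ i < NL, Acts t (Lc i)

theorem clos_chunks (p : ℕ → Bool) (h0 : allR 0 2647 p = true) (h1 : allR 2647 2647 p = true)
    (h2 : allR 5294 2647 p = true) (h3 : allR 7941 2647 p = true) (h4 : allR 10588 2647 p = true)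
    (h5 : allR 13235 2647 p = true) (h6 : allR 15882 2647 p = true)
    (h7 : allR 18529 2646 p = true) : ∀ i < NL, p i = true := by
  intro i hi
  have hi' : i < 21175 := hi
  have hq : i / 2647 < 8 := by omega
  interval_cases hq' : i / 2647
  · exact (allR_iff _ _ _).1 h0 i (by omega) (by omega)
  · exact (allR_iff _ _ _).1 h1 i (by omega) (by omega)
  · exact (allR_iff _ _ _).1 h2 i (by omega) (by omega)
  · exact (allR_iff _ _ _).1 h3 i (by omega) (by omega)
  · exact (allR_iff _ _ _).1 h4 i (by omega) (by omega)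
  · exact (allR_iff _ _ _).1 h5 i (by omega) (by omega)
  · exact (allR_iff _ _ _).1 h6 i (by omega) (by omega)
  · exact (allR_iff _ _ _).1 h7 i (by omega) (by omega)

theorem clos_all : ∀ l < 4, ∀ i < NL, closOK l i = true := by
  intro l hl
  interval_cases l
  · exact clos_chunks _ clos_0_0 clos_0_1 clos_0_2 clos_0_3 clos_0_4 clos_0_5 clos_0_6 clos_0_7
  · exact clos_chunks _ clos_1_0 clos_1_1 clos_1_2 clos_1_3 clos_1_4 clos_1_5 clos_1_6 clos_1_7
  · exact clos_chunks _ clos_2_0 clos_2_1 clos_2_2 clos_2_3 clos_2_4 clos_2_5 clos_2_6 clos_2_7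
  · exact clos_chunks _ clos_3_0 clos_3_1 clos_3_2 clos_3_3 clos_3_4 clos_3_5 clos_3_6 clos_3_7

theorem inL_conj_ge (l : ℕ) (hl : l < 4) (t : Pm) (h : InL t) : InL (ge l * t * (ge l)⁻¹) := by
  obtain ⟨i, hi, ht⟩ := h
  have hc := clos_all l hl i hi
  unfold closOK at hc
  rw [force_eq, force_eq, force_eq, force_eq, Bool.and_eq_true, allBelow_iff] at hc
  obtain ⟨hj, hall⟩ := hc
  refine ⟨cw l i, Eq.mp Nat.blt_eq hj, ?_⟩
  intro u
  have hg := acts_ge l hl
  show (ge l (t ((ge l)⁻¹ u))).val = tg (Lc (cw l i)) 7 u.val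
  rw [hg, ht, ← Nat.eq_of_beq_eq_true (hall _ ((ge l)⁻¹ u).2), ← hg]
  simp

theorem inL_conj_word (t : Pm) (h : InL t) (w : List ℕ) (hw : ∀ l ∈ w, l < 4) :
    InL (evalW w * t * (evalW w)⁻¹) := by
  induction w with
  | nil =>
    rw [evalW_nil, one_mul, inv_one, mul_one]
    exact h
  | cons a w ih =>
    have e : evalW (a :: w) = ge a * evalW w := by
      unfold evalW
      rw [List.map_cons, List.prod_cons]
    have e2 : ge a * evalW w * t * (ge a * evalW w)⁻¹ =
        ge a * (evalW w * t * (evalW w)⁻¹) * (ge a)⁻¹ := by group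
    rw [e, e2]
    exact inL_conj_ge a (hw a List.mem_cons_self) _
      (ih (fun l hl => hw l (List.mem_cons_of_mem _ hl)))

theorem inL_conj (g : Pm) (hg : g ∈ G100) (t : Pm) (h : InL t) : InL (g * t * g⁻¹) := by
  obtain ⟨w, hw, rfl⟩ := exists_word g hg
  exact inL_conj_word t h w hw

theorem card_S2_pow : Nat.card ↥S2 = 2 ^ 9 := by
  rw [card_S2]
  norm_num

/-- every involution of the group is in the list -/
theorem inL_of_invol (t : ↥G100) (h2 : t * t = 1) (h1 : t ≠ 1) : InL t.val := by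
  obtain ⟨g, hg⟩ := exists_conj_mem_of_sq_one S2 9 card_S2_pow not_dvd_index_S2 t h2
  obtain ⟨i, hi, e⟩ := exists_node _ hg
  have hact := acts_node i hi
  rw [← e] at hact
  have hi0 : i ≠ 0 := by
    intro h0
    rw [h0, D.node_zero] at e
    apply h1
    have : t = g⁻¹ * (g * t * g⁻¹) * g := by group
    rw [this, e]
    group
  have hsq : (g * t * g⁻¹) * (g * t * g⁻¹) = 1 := by
    have : (g * t * g⁻¹) * (g * t * g⁻¹) = g * (t * t) * g⁻¹ := by group
    rw [this, h2]
    group
  have hinv : ∀ y < 100, tg (NC i) 7 (tg (NC i) 7 y) = y := by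
    intro y hy
    have h3 := congrArg (fun k : ↥G100 => (k.val ⟨y, hy⟩).val) hsq
    have h4 : ((g * t * g⁻¹).val ((g * t * g⁻¹).val ⟨y, hy⟩)).val = y := h3
    rw [hact, hact] at h4
    exact h4
  have hs := (allBelow_iff _ _).1 s2_chk i hi
  unfold s2OK at hs
  rw [force_eq, Bool.or_eq_true, Bool.or_eq_true] at hs
  have hin : InL (g * t * g⁻¹).val := by
    rcases hs with (hs | hs) | hs
    · exfalso
      rw [Bool.not_eq_true'] at hs
      have : (allBelow 100 fun y => Nat.beq (tg (NC i) 7 (tg (NC i) 7 y)) y) = true := by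
        rw [allBelow_iff]
        intro y hy
        rw [hinv y hy]
        exact Nat.beq_refl y
      rw [this] at hs
      exact Bool.noConfusion hs
    · exact absurd (Nat.eq_of_beq_eq_true hs) hi0
    · rw [force_eq, Bool.and_eq_true] at hs
      refine ⟨tg S2IP 15 i, Eq.mp Nat.blt_eq hs.1, ?_⟩
      rw [Nat.eq_of_beq_eq_true hs.2]
      exact hact
  have e3 : t.val = (g⁻¹).val * (g * t * g⁻¹).val * ((g⁻¹).val)⁻¹ := by
    rw [← Subgroup.coe_inv, ← Subgroup.coe_mul, ← Subgroup.coe_mul]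
    congr 1
    group
  rw [e3]
  exact inL_conj _ (g⁻¹).2 _ hin

/-! ### Powers and the relations -/

theorem iterC_spec (a t : Pm) (A c : ℕ) (ha : Acts a A) (ht : Acts t c) (m : ℕ) (u : Fin 100) :
    (((a * t) ^ m) u).val = iterC A c m u.val := by
  induction m with
  | zero => rfl
  | succ m ih =>
    rw [pow_succ']
    show (a (t (((a * t) ^ m) u))).val = tg A 7 (tg c 7 (iterC A c m u.val))
    rw [ha, ht, ih]

theorem powOK_of_pow (a t : Pm) (A c : ℕ) (ha : Acts a A) (ht : Acts t c) (m : ℕ)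
    (h : (a * t) ^ m = 1) : powOK A c m = true := by
  unfold powOK
  rw [allBelow_iff]
  intro p hp
  have := iterC_spec a t A c ha ht m ⟨p, hp⟩
  rw [h] at this
  rw [← this]
  exact Nat.beq_refl p

theorem pow_of_powOK (a t : Pm) (A c : ℕ) (ha : Acts a A) (ht : Acts t c) (m : ℕ)
    (h : powOK A c m = true) : (a * t) ^ m = 1 := by
  unfold powOK at h
  rw [allBelow_iff] at h
  apply Equiv.ext
  intro u
  apply Fin.ext
  rw [iterC_spec a t A c ha ht m u]
  exact Nat.eq_of_beq_eq_true (h u.val u.2)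

end Cfsg.Agent.Helper29.HSX
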