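import Mathlib
import Cfsg.Agent.Lib.Helper29.HSOutA
import Cfsg.Agent.Lib.Helper26.AutOuter

set_option autoImplicit false
open Cfsg

/-! The automorphisms of the Higman-Sims group on a hundred points. -/

namespace Cfsg.Agent.Helper29.HSX

open Cfsg.Agent.Helper29.HSP Cfsg.Agent.Helper29.HSD Cfsg.Agent.Helper29.HSM
open Cfsg.Agent.Helper29.HSXD Cfsg.Agent.Helper29.HST Cfsg.Agent.Helper29.HSO
open Cfsg.Agent.Helper29.HSXG Cfsg.Agent.Helper26
open Cfsg.Agent.Helper29.HSC (allR allR_iff)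

/-! ### Tools for codes -/

theorem eq_one_of_acts_id {g : Pm} {c : ℕ} (hg : Acts g c) (h : ∀ y < 100, tg c 7 y = y) :
    g = 1 := by
  apply Equiv.ext
  intro u
  apply Fin.ext
  rw [hg, h u.val u.2]
  rfl

theorem eq_of_acts_comp {a b a' b' : Pm} {A B A' B' : ℕ} (ha : Acts a A) (hb : Acts b B)
    (ha' : Acts a' A') (hb' : Acts b' B')
    (h : ∀ y < 100, tg A 7 (tg B 7 y) = tg A' 7 (tg B' 7 y)) : a * b = a' * b' := by
  apply Equiv.ext
  intro u
  apply Fin.ext
  show (a (b u)).val = (a' (b' u)).val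
  rw [ha, hb, ha', hb', h u.val u.2]

theorem acts_conj {g t : Pm} {A c d : ℕ} (hg : Acts g A) (ht : Acts t c)
    (h : ∀ y < 100, tg d 7 (tg A 7 y) = tg A 7 (tg c 7 y)) : Acts (g * t * g⁻¹) d := by
  intro u
  show (g (t (g⁻¹ u))).val = tg d 7 u.val
  rw [hg, ht, ← h _ (g⁻¹ u).2, ← hg]
  simp

/-! ### The elements -/

def xE : ↥G100 := em Wx
def yE : ↥G100 := em Wy
def nE : ↥G100 := em Wn
def hE : ↥G100 := em Wh

theorem acts_xE : Acts xE.val (XP 1) := acts_evalW wx_chk.1
theorem acts_yE : Acts yE.val YC := acts_evalW wx_chk.2.1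
theorem acts_nE : Acts nE.val NC1 := acts_evalW wx_chk.2.2.1
theorem acts_hE : Acts hE.val H11C := acts_evalW wx_chk.2.2.2.1

theorem acts_xpow (k : ℕ) (hk : k < 7) : Acts (xE.val ^ k) (XP k) := by
  induction k with
  | zero =>
    rw [pow_zero, xp_chk.1]
    exact acts_one
  | succ k ih =>
    rw [pow_succ']
    exact acts_mul acts_xE (ih (by omega)) (xp_chk.2.1 k (by omega))

theorem xE_val_pow7 : xE.val ^ 7 = 1 := by
  rw [pow_succ']
  have h : Acts (xE.val * xE.val ^ 6) idC := by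
    apply acts_mul acts_xE (acts_xpow 6 (by norm_num))
    intro y hy
    rw [idC_spec y hy, xp_chk.2.2.1 y hy]
  exact eq_one_of_acts h

theorem xE_pow7 : xE ^ 7 = 1 := by
  apply Subtype.ext
  rw [Subgroup.coe_pow]
  exact xE_val_pow7

theorem xE_ne_one : xE ≠ 1 := by
  intro h
  have h1 := acts_xE (0 : Fin 100)
  rw [h] at h1
  exact xp_chk.2.2.2.2 h1.symm

theorem xE_inv_val : (xE⁻¹).val = xE.val ^ 6 := by
  rw [Subgroup.coe_inv]
  symm
  apply eq_inv_of_mul_eq_one_left
  rw [← pow_succ]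
  exact xE_val_pow7

theorem nE_conj : nE * xE * nE⁻¹ = xE ^ 3 := by
  rw [mul_inv_eq_iff_eq_mul]
  apply Subtype.ext
  rw [Subgroup.coe_mul, Subgroup.coe_mul, Subgroup.coe_pow]
  exact eq_of_acts_comp acts_nE acts_xE (acts_xpow 3 (by norm_num)) acts_nE n_chk

theorem yE_sq : yE * yE = 1 := by
  apply Subtype.ext
  rw [Subgroup.coe_mul]
  have h : Acts (yE.val * yE.val) idC := by
    apply acts_mul acts_yE acts_yE
    intro y hy
    rw [idC_spec y hy, y_chk.1 y hy]
  exact eq_one_of_acts h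

theorem yE_ne_one : yE ≠ 1 := by
  intro h
  have h1 := acts_yE (0 : Fin 100)
  rw [h] at h1
  exact y_chk.2.2 h1.symm

theorem not_49_dvd : ¬ 49 ∣ Nat.card ↥G100 := by
  rw [card_G100]
  norm_num

/-- every automorphism moves `xE` to a conjugate -/
theorem stepA (φ : MulAut ↥G100) : ∃ g : ↥G100, (MulAut.conj g * φ) xE = xE := by
  obtain ⟨g, hg⟩ := exists_conj_eq_of_seven xE nE xE_pow7 xE_ne_one not_49_dvd nE_conj φ
  refine ⟨g, ?_⟩
  rw [MulAut.mul_apply, MulAut.conj_apply]
  exact hg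

/-! ### The relations -/

theorem rel_y : powOK (XP 1) YC 4 = true ∧ powOK (XP 2) YC 8 = true ∧
    powOK (XP 3) YC 15 = true := by
  have h := y_chk.2.1
  unfold relOK at h
  rw [force_eq, force_eq, force_eq, Bool.and_eq_true, Bool.and_eq_true] at h
  exact ⟨h.1.1, h.1.2, h.2⟩

theorem rel_pow (k m : ℕ) (hk : k < 7) (h : powOK (XP k) YC m = true) :
    (xE ^ k * yE) ^ m = 1 := by
  apply Subtype.ext
  rw [Subgroup.coe_pow, Subgroup.coe_mul, Subgroup.coe_pow]
  exact pow_of_powOK _ _ _ _ (acts_xpow k hk) acts_yE m h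

/-- the image of `yE` under an automorphism fixing `xE` has one of the fourteen indices -/
theorem image_index (φ : MulAut ↥G100) (hx : φ xE = xE) :
    ∃ k < 14, Acts (φ yE).val (Lc (YIL.getD k 0)) := by
  have h2 : φ yE * φ yE = 1 := by rw [← map_mul, yE_sq, map_one]
  have h1 : φ yE ≠ 1 := fun h => yE_ne_one (φ.injective (h.trans (map_one φ).symm))
  obtain ⟨i, hi, hact⟩ := inL_of_invol (φ yE) h2 h1
  have hrel : ∀ k m : ℕ, k < 7 → powOK (XP k) YC m = true → powOK (XP k) (Lc i) m = true := by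
    intro k m hk h
    apply powOK_of_pow _ _ _ _ (acts_xpow k hk) hact m
    have h3 : (xE ^ k * φ yE) ^ m = 1 := by
      have : xE ^ k * φ yE = φ (xE ^ k * yE) := by rw [map_mul, map_pow, hx]
      rw [this, ← map_pow, rel_pow k m hk h, map_one]
    have h4 := congrArg Subtype.val h3
    rw [Subgroup.coe_pow, Subgroup.coe_mul, Subgroup.coe_pow] at h4
    exact h4
  have hf := (allR_iff _ _ _).1 filt_chk i (Nat.zero_le i) (by rw [Nat.zero_add]; exact hi)
  unfold filtOK at hf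
  rw [force_eq, Bool.or_eq_true] at hf
  rcases hf with hf | hf
  · exfalso
    rw [Bool.not_eq_true'] at hf
    have : relOK (Lc i) = true := by
      unfold relOK
      rw [force_eq, force_eq, force_eq, Bool.and_eq_true, Bool.and_eq_true]
      exact ⟨⟨hrel 1 4 (by norm_num) rel_y.1, hrel 2 8 (by norm_num) rel_y.2.1⟩,
        hrel 3 15 (by norm_num) rel_y.2.2⟩
    rw [this] at hf
    exact Bool.noConfusion hf
  · unfold yMem at hf
    rw [List.any_eq_true] at hf
    obtain ⟨j, hj, hij⟩ := hf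
    have hij' : i = j := Nat.eq_of_beq_eq_true hij
    obtain ⟨k, hk, hkj⟩ := List.getElem_of_mem hj
    refine ⟨k, by rw [← yi_chk.1]; exact hk, ?_⟩
    have : YIL.getD k 0 = j := by
      rw [List.getD_eq_getElem _ _ hk]
      exact hkj
    rw [this, ← hij']
    exact hact

/-! ### The outer automorphism -/

/-- the odd permutation normalising the group -/
def pi0 : Pm := cP PC PC

theorem acts_pi0 : Acts pi0 PC := acts_cP pi_chk.1

theorem pi0_sq : pi0 * pi0 = 1 := by
  have h : Acts (pi0 * pi0) idC := by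
    apply acts_mul acts_pi0 acts_pi0
    intro y hy
    rw [idC_spec y hy, (validC_spec pi_chk.1 y hy).2.2.1]
  exact eq_one_of_acts h

theorem pi0_inv : pi0⁻¹ = pi0 := by
  symm
  exact eq_inv_of_mul_eq_one_left pi0_sq

theorem acts_s0 : Acts s0 S0C := acts_cP Cfsg.Agent.Helper29.HSM.valid_chk.1
theorem acts_s1 : Acts s1 S1C := acts_cP Cfsg.Agent.Helper29.HSM.valid_chk.2.1

theorem pi0_s0 : pi0 * s0 * pi0 = evalW V0 := by
  apply eq_of_acts _ (acts_evalW wx_chk.2.2.2.2.1)
  intro u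
  show (pi0 (s0 (pi0 u))).val = tg PS0C 7 u.val
  rw [acts_pi0, acts_s0, acts_pi0, pi_chk.2.2.2.1 u.val u.2]

theorem pi0_s1 : pi0 * s1 * pi0 = evalW V1 := by
  apply eq_of_acts _ (acts_evalW wx_chk.2.2.2.2.2)
  intro u
  show (pi0 (s1 (pi0 u))).val = tg PS1C 7 u.val
  rw [acts_pi0, acts_s1, acts_pi0, pi_chk.2.2.2.2 u.val u.2]

theorem pi0_conj_mem : ∀ h ∈ G100, pi0 * h * pi0 ∈ G100 := by
  intro h hh
  unfold G100 at hh
  induction hh using Subgroup.closure_induction with
  | mem x hx =>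
    rcases hx with rfl | rfl
    · rw [pi0_s0]
      exact evalW_mem _
    · rw [pi0_s1]
      exact evalW_mem _
  | one =>
    rw [mul_one, pi0_sq]
    exact Subgroup.one_mem _
  | mul x y _ _ hx hy =>
    have e : pi0 * (x * y) * pi0 = (pi0 * x * pi0) * (pi0 * y * pi0) := by
      have : (pi0 * x * pi0) * (pi0 * y * pi0) = pi0 * x * (pi0 * pi0) * y * pi0 := by
        simp only [mul_assoc]
      rw [this, pi0_sq, mul_one]
      simp only [mul_assoc]
    rw [e]
    exact Subgroup.mul_mem _ hx hy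
  | inv x _ hx =>
    have e : pi0 * x⁻¹ * pi0 = (pi0 * x * pi0)⁻¹ := by
      rw [mul_inv_rev, mul_inv_rev, pi0_inv]
      simp only [mul_assoc]
    rw [e]
    exact Subgroup.inv_mem _ hx

/-- the outer automorphism -/
def tau0 : MulAut ↥G100 := AutOuter.conjAut G100 pi0 pi0_sq pi0_conj_mem

theorem tau0_val (h : ↥G100) : (tau0 h).val = pi0 * h.val * pi0 := rfl

theorem pi0_xE : pi0 * xE.val = xE.val * pi0 :=
  eq_of_acts_comp acts_pi0 acts_xE acts_xE acts_pi0 pi_chk.2.1

theorem tau0_xE : tau0 xE = xE := by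
  apply Subtype.ext
  rw [tau0_val, pi0_xE, mul_assoc, pi0_sq, mul_one]

theorem acts_tau0_yE : Acts (tau0 yE).val YoC := by
  rw [tau0_val]
  have h := acts_conj (d := YoC) acts_pi0 acts_yE pi_chk.2.2.1
  rw [pi0_inv] at h
  exact h

/-! ### The fourteen elements -/

theorem acts_EA (k : ℕ) (hk : k < 7) :
    Acts (xE ^ k * yE * (xE ^ k)⁻¹).val (Lc (YIL.getD k 0)) := by
  rw [Subgroup.coe_mul, Subgroup.coe_mul, Subgroup.coe_inv, Subgroup.coe_pow]
  exact acts_conj (acts_xpow k hk) acts_yE (yi_chk.2.2.1 k hk)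

theorem acts_EB (k : ℕ) (hk : k < 7) :
    Acts (xE ^ k * tau0 yE * (xE ^ k)⁻¹).val (Lc (YIL.getD (7 + k) 0)) := by
  rw [Subgroup.coe_mul, Subgroup.coe_mul, Subgroup.coe_inv, Subgroup.coe_pow]
  exact acts_conj (acts_xpow k hk) acts_tau0_yE (yi_chk.2.2.2 k hk)

/-! ### Generation -/

/-- the letters for words in the two generators -/
def ge3 (l : ℕ) : ↥G100 :=
  match l with
  | 0 => xE
  | 1 => yE
  | 2 => xE⁻¹
  | _ => 1

theorem acts_ge3 : ∀ l < [XP 1, YC, XP 6].length,
    Acts ((fun l => (ge3 l).val) l) ([XP 1, YC, XP 6].getD l 0) := by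
  intro l hl
  have hl' : l < 3 := hl
  interval_cases l
  · exact acts_xE
  · exact acts_yE
  · show Acts (xE⁻¹).val (XP 6)
    rw [xE_inv_val]
    exact acts_xpow 6 (by norm_num)

theorem coe_prod_ge3 (w : List ℕ) :
    ((w.map ge3).prod : ↥G100).val = (w.map fun l => (ge3 l).val).prod := by
  induction w with
  | nil => rfl
  | cons c t ih =>
    rw [List.map_cons, List.prod_cons, List.map_cons, List.prod_cons, Subgroup.coe_mul, ih]

theorem ge3_mem (l : ℕ) : ge3 l ∈ Subgroup.closure ({xE, yE} : Set ↥G100) := by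
  have h0 : xE ∈ Subgroup.closure ({xE, yE} : Set ↥G100) := Subgroup.subset_closure (by simp)
  have h1 : yE ∈ Subgroup.closure ({xE, yE} : Set ↥G100) := Subgroup.subset_closure (by simp)
  unfold ge3
  split
  · exact h0
  · exact h1
  · exact Subgroup.inv_mem _ h0
  · exact Subgroup.one_mem _

theorem prod_ge3_mem (w : List ℕ) :
    (w.map ge3).prod ∈ Subgroup.closure ({xE, yE} : Set ↥G100) := by
  apply Subgroup.list_prod_mem
  intro x hx
  obtain ⟨l, _, rfl⟩ := List.mem_map.1 hx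
  exact ge3_mem l

theorem closure_xy : Subgroup.closure ({xE, yE} : Set ↥G100) = ⊤ := by
  rw [eq_top_iff]
  intro g _
  have hle : G100 ≤ (Subgroup.closure ({xE, yE} : Set ↥G100)).map G100.subtype := by
    unfold G100
    rw [Subgroup.closure_le]
    intro s hs
    rcases hs with rfl | rfl
    · refine ⟨(W0.map ge3).prod, prod_ge3_mem W0, ?_⟩
      show ((W0.map ge3).prod : ↥G100).val = s0
      rw [coe_prod_ge3]
      exact eq_of_acts (acts_of_reprL _ _ acts_ge3 gen_chk.1) acts_s0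
    · refine ⟨(W1.map ge3).prod, prod_ge3_mem W1, ?_⟩
      show ((W1.map ge3).prod : ↥G100).val = s1
      rw [coe_prod_ge3]
      exact eq_of_acts (acts_of_reprL _ _ acts_ge3 gen_chk.2) acts_s1
  obtain ⟨k, hk, e⟩ := hle g.2
  have : k = g := Subtype.ext e
  rw [← this]
  exact hk

theorem aut_ext {φ ψ : MulAut ↥G100} (hx : φ xE = ψ xE) (hy : φ yE = ψ yE) : φ = ψ := by
  have key : φ.toMonoidHom = ψ.toMonoidHom := by
    apply MonoidHom.eq_of_eqOn_dense closure_xy
    rintro x (rfl | rfl)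
    · exact hx
    · exact hy
  exact MulEquiv.ext (fun x => DFunLike.congr_fun key x)

end Cfsg.Agent.Helper29.HSX
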