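import Mathlib
import Cfsg.Agent.Lib.Helper29.HSOutB

set_option autoImplicit false
open Cfsg

/-! The outer automorphism group of the Higman-Sims group has order two. -/

namespace Cfsg.Agent.Helper29.HSX

open Cfsg.Agent.Helper29.HSP Cfsg.Agent.Helper29.HSD Cfsg.Agent.Helper29.HSM
open Cfsg.Agent.Helper29.HSXD Cfsg.Agent.Helper29.HST Cfsg.Agent.Helper29.HSO
open Cfsg.Agent.Helper29.HSXG Cfsg.Agent.Helper26

/-! ### The sign -/

theorem sign_G100 (g : Pm) (hg : g ∈ G100) : Equiv.Perm.sign g = 1 := by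
  have hle : G100 ≤ (Equiv.Perm.sign : Pm →* ℤˣ).ker := by
    unfold G100
    rw [Subgroup.closure_le]
    intro s hs
    rcases hs with rfl | rfl
    · rw [SetLike.mem_coe, MonoidHom.mem_ker, s0_eq]
      exact sign_commutator a0 b0
    · rw [SetLike.mem_coe, MonoidHom.mem_ker, s1_eq]
      exact sign_commutator a1 b1
  exact (MonoidHom.mem_ker).1 (hle hg)

/-- a pair of numbers as a pair of points -/
def toF (p : ℕ × ℕ) : Fin 100 × Fin 100 :=
  (⟨p.1 % 100, Nat.mod_lt _ (by norm_num)⟩, ⟨p.2 % 100, Nat.mod_lt _ (by norm_num)⟩)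

theorem swp_spec (p : ℕ × ℕ) (hp : p.1 < 100 ∧ p.2 < 100) (u : Fin 100) :
    (Equiv.swap (toF p).1 (toF p).2 u).val = swp p u.val := by
  have e1 : ((toF p).1).val = p.1 := Nat.mod_eq_of_lt hp.1
  have e2 : ((toF p).2).val = p.2 := Nat.mod_eq_of_lt hp.2
  unfold swp
  rw [Equiv.swap_apply_def]
  by_cases h1 : u = (toF p).1
  · have : u.val = p.1 := by rw [h1]; exact e1
    rw [if_pos h1, this, Nat.beq_refl, cond_true]
    exact e2
  · have h1' : Nat.beq u.val p.1 = false := by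
      cases hb : Nat.beq u.val p.1
      · rfl
      · exfalso
        apply h1
        apply Fin.ext
        rw [e1]
        exact Nat.eq_of_beq_eq_true hb
    rw [if_neg h1, h1', cond_false]
    by_cases h2 : u = (toF p).2
    · have : u.val = p.2 := by rw [h2]; exact e2
      rw [if_pos h2, this, Nat.beq_refl, cond_true]
      exact e1
    · have h2' : Nat.beq u.val p.2 = false := by
        cases hb : Nat.beq u.val p.2
        · rfl
        · exfalso
          apply h2
          apply Fin.ext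
          rw [e2]
          exact Nat.eq_of_beq_eq_true hb
      rw [if_neg h2, h2', cond_false]

theorem swApp_spec (l : List (ℕ × ℕ)) (hl : ∀ p ∈ l, p.1 < 100 ∧ p.2 < 100) (u : Fin 100) :
    (((l.map toF).map fun q => Equiv.swap q.1 q.2).prod u).val = swApp l u.val := by
  induction l with
  | nil => rfl
  | cons p l ih =>
    rw [List.map_cons, List.map_cons, List.prod_cons, Equiv.Perm.mul_apply,
      swp_spec p (hl p List.mem_cons_self), ih (fun q hq => hl q (List.mem_cons_of_mem _ hq))]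
    rfl

theorem pi0_eq : pi0 = ((swL.map toF).map fun q => Equiv.swap q.1 q.2).prod := by
  apply Equiv.ext
  intro u
  apply Fin.ext
  rw [acts_pi0, swApp_spec swL (fun p hp => ⟨(sw_chk.2.1 p hp).1, (sw_chk.2.1 p hp).2.1⟩),
    sw_chk.2.2 u.val u.2]

theorem sign_pi0 : Equiv.Perm.sign pi0 = -1 := by
  rw [pi0_eq, sign_prod_swaps, List.length_map, sw_chk.1]
  · rfl
  · intro q hq
    obtain ⟨p, hp, rfl⟩ := List.mem_map.1 hq
    obtain ⟨h1, h2, h3⟩ := sw_chk.2.1 p hp
    intro h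
    apply h3
    have := congrArg Fin.val h
    have e1 : ((toF p).1).val = p.1 := Nat.mod_eq_of_lt h1
    have e2 : ((toF p).2).val = p.2 := Nat.mod_eq_of_lt h2
    rw [e1, e2] at this
    exact this

/-! ### The outer automorphism is not inner -/

theorem fix_of_comm (c h : Pm) (p : Fin 100) (hc : c * h = h * c) (hp : h p = p) :
    h (c p) = c p := by
  have h2 : (c * h) p = (h * c) p := by rw [hc]
  rw [Equiv.Perm.mul_apply, Equiv.Perm.mul_apply, hp] at h2
  exact h2.symm

theorem fix_of_comm_trans (c g : Pm) (p u : Fin 100) (hc : c * g = g * c) (hg : g p = u)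
    (hcp : c p = p) : c u = u := by
  have h2 : (c * g) p = (g * c) p := by rw [hc]
  rw [Equiv.Perm.mul_apply, Equiv.Perm.mul_apply, hg, hcp, hg] at h2
  exact h2

theorem tau0_not_inner : ¬ ∃ g : ↥G100, tau0 = MulAut.conj g := by
  rintro ⟨g, hg⟩
  obtain ⟨c, hcdef⟩ : ∃ c : Pm, c = g.val⁻¹ * pi0 := ⟨_, rfl⟩
  have hc : ∀ h : ↥G100, c * h.val = h.val * c := by
    intro h
    have e := congrArg Subtype.val (DFunLike.congr_fun hg h)
    rw [tau0_val, MulAut.conj_apply, Subgroup.coe_mul, Subgroup.coe_mul, Subgroup.coe_inv] at e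
    have e2 : pi0 * h.val = g.val * h.val * g.val⁻¹ * pi0 := by
      rw [← e, mul_assoc _ pi0 pi0, pi0_sq, mul_one]
    rw [hcdef]
    calc g.val⁻¹ * pi0 * h.val = g.val⁻¹ * (pi0 * h.val) := by group
      _ = g.val⁻¹ * (g.val * h.val * g.val⁻¹ * pi0) := by rw [e2]
      _ = h.val * (g.val⁻¹ * pi0) := by group
  obtain ⟨p0F, hp0⟩ : ∃ p0F : Fin 100, p0F = ⟨P0, h11_chk.2.1⟩ := ⟨_, rfl⟩
  have hp0v : p0F.val = P0 := by rw [hp0]
  have hfix : hE.val p0F = p0F := by
    apply Fin.ext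
    rw [acts_hE, hp0v]
    exact h11_chk.1
  have hcp : c p0F = p0F := by
    have h1 : hE.val (c p0F) = c p0F := fix_of_comm c hE.val p0F (hc hE) hfix
    apply Fin.ext
    have h2 := acts_hE (c p0F)
    rw [h1] at h2
    rw [hp0v]
    exact h11_chk.2.2 _ (c p0F).2 h2.symm
  have hc1 : c = 1 := by
    apply Equiv.ext
    intro u
    obtain ⟨hw, hq⟩ := trw_chk u.val u.2
    have hgu : (evalW (TRW.getD u.val [])) p0F = u := by
      apply Fin.ext
      rw [evalW_apply _ hw, hp0v]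
      exact hq
    exact fix_of_comm_trans c (evalW (TRW.getD u.val [])) p0F u
      (hc ⟨evalW (TRW.getD u.val []), evalW_mem _⟩) hgu hcp
  have hpg : pi0 = g.val := by
    have : g.val * c = pi0 := by rw [hcdef]; group
    rw [← this, hc1, mul_one]
  have h1 := sign_G100 g.val g.2
  rw [← hpg, sign_pi0] at h1
  exact absurd h1 (by decide)

/-! ### Every automorphism is inner or inner times the outer automorphism -/

theorem aut_cases (φ : MulAut ↥G100) :
    (∃ g : ↥G100, φ = MulAut.conj g) ∨ ∃ g : ↥G100, φ * tau0⁻¹ = MulAut.conj g := by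
  obtain ⟨g1, hx⟩ := stepA φ
  obtain ⟨ψ, hψ⟩ : ∃ ψ : MulAut ↥G100, ψ = MulAut.conj g1 * φ := ⟨_, rfl⟩
  rw [← hψ] at hx
  have hφ : φ = MulAut.conj g1⁻¹ * ψ := by
    rw [hψ, map_inv]
    group
  obtain ⟨k, hk, hact⟩ := image_index ψ hx
  rcases Nat.lt_or_ge k 7 with h7 | h7
  · left
    have hy : ψ yE = xE ^ k * yE * (xE ^ k)⁻¹ := Subtype.ext (eq_of_acts hact (acts_EA k h7))
    have hψ2 : ψ = MulAut.conj (xE ^ k) := by
      apply aut_ext
      · rw [hx, MulAut.conj_apply]
        group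
      · rw [hy, MulAut.conj_apply]
    exact ⟨g1⁻¹ * xE ^ k, by rw [hφ, hψ2, map_mul]⟩
  · right
    obtain ⟨j, rfl⟩ : ∃ j, k = 7 + j := ⟨k - 7, by omega⟩
    have hj : j < 7 := by omega
    have hy : ψ yE = xE ^ j * tau0 yE * (xE ^ j)⁻¹ :=
      Subtype.ext (eq_of_acts hact (acts_EB j hj))
    have hψ2 : ψ = MulAut.conj (xE ^ j) * tau0 := by
      apply aut_ext
      · rw [hx, MulAut.mul_apply, tau0_xE, MulAut.conj_apply]
        group
      · rw [hy, MulAut.mul_apply, MulAut.conj_apply]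
    refine ⟨g1⁻¹ * xE ^ j, ?_⟩
    rw [hφ, hψ2, map_mul]
    group

theorem card_Out_G100 : Nat.card (Cfsg.Out ↥G100) = 2 := by
  apply AutOuter.card_Out_eq_two tau0⁻¹
  · rintro ⟨g, hg⟩
    apply tau0_not_inner
    refine ⟨g⁻¹, ?_⟩
    rw [map_inv, ← hg, inv_inv]
  · exact aut_cases

/-! ### Transport to the Higman-Sims group -/

theorem card_Out_congr_HS {Γ Δ : Type*} [Group Γ] [Group Δ] (e : Γ ≃* Δ) :
    Nat.card (Cfsg.Out Γ) = Nat.card (Cfsg.Out Δ) := by
  have hmap : (Cfsg.Inn Γ).map (MulAut.congr e).toMonoidHom = Cfsg.Inn Δ := by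
    ext ψ
    constructor
    · rintro ⟨φ, ⟨g, rfl⟩, rfl⟩
      refine ⟨e g, ?_⟩
      ext x
      simp [MulAut.congr, MulAut.conj_apply]
    · rintro ⟨d, rfl⟩
      refine ⟨MulAut.conj (e.symm d), ⟨e.symm d, rfl⟩, ?_⟩
      ext x
      simp [MulAut.congr, MulAut.conj_apply]
  exact Nat.card_congr
    (QuotientGroup.congr (Cfsg.Inn Γ) (Cfsg.Inn Δ) (MulAut.congr e) hmap).toEquiv

/-- **The outer automorphism group of the Higman-Sims group has order two.** -/
theorem card_Out_HS : Nat.card (Cfsg.Out ↥Cfsg.Spor.HS) = 2 := by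
  obtain ⟨e⟩ := iso_HS
  rw [← card_Out_congr_HS e]
  exact card_Out_G100

end Cfsg.Agent.Helper29.HSX
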