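import Mathlib
import Cfsg.Agent.Lib.Helper29.HSTwoB
import Cfsg.Agent.Lib.Helper29.HSOdd
import Cfsg.Agent.Lib.Helper29.StemQuot
import Cfsg.Agent.Lib.Helper25.StemPrimeQ

set_option autoImplicit false
open Cfsg

/-! The kernel of a finite stem extension of the Higman-Sims group has at most two elements. -/

namespace Cfsg.Agent.Helper29.HSU

open Cfsg.Agent.Helper29.HSP Cfsg.Agent.Helper29.HSM Cfsg.Agent.Helper29.HST
open Cfsg.Agent.Helper29.HSO
open scoped commutatorElement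

universe u

/-- no stem extension with kernel of prime order has commuting lifts of the pair -/
theorem prime_contra {Γ : Type u} [Group Γ] [Finite Γ] (σ : Γ →* ↥G100)
    (hσ : Cfsg.IsStemExtension σ) (hp : (Nat.card σ.ker).Prime) (a b : Γ)
    (ha : σ a = xg 0) (hb : σ b = xg 2) (hab : a * b = b * a) : False := by
  by_cases h2 : Nat.card σ.ker = 2
  · exact core_two σ hσ h2 a b ha hb hab
  · obtain ⟨hs, hK, hK'⟩ := hσ
    have hbot : σ.ker = ⊥ := by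
      apply ker_eq_bot_of_local2 σ hs hK hK'
      intro p hpp hpd
      have hpe : p = Nat.card σ.ker := (Nat.prime_dvd_prime_iff_eq hpp hp).1 hpd
      exact local_odd σ hs hK p hpp (by rw [hpe]; exact h2)
    rw [hbot, Subgroup.card_bot] at hp
    exact Nat.not_prime_one hp

/-- a finite stem extension in which lifts of the two elements commute is an isomorphism -/
theorem ker_eq_bot_of_comm (Γ : Type u) [Group Γ] [Finite Γ] (σ : Γ →* ↥G100)
    (hσ : Cfsg.IsStemExtension σ)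
    (hc : ∃ a b : Γ, σ a = xg 0 ∧ σ b = xg 2 ∧ a * b = b * a) : σ.ker = ⊥ := by
  by_contra hne
  obtain ⟨Γ', _, _, σ', π, hσ', hp, hπ, _⟩ :=
    Cfsg.Agent.Helper25.StemPrimeQ.exists_prime_stem_quotient σ hσ ⊥ bot_le (Ne.symm hne)
  obtain ⟨a, b, ha, hb, hab⟩ := hc
  exact prime_contra σ' hσ' hp (π a) (π b) (by rw [hπ, ha]) (by rw [hπ, hb])
    (by rw [← map_mul, hab, map_mul])

theorem xx_chk : (∀ y < 100, tg (XC 0) 7 (tg (XC 2) 7 y) = tg (XC 2) 7 (tg (XC 0) 7 y)) ∧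
    ∀ y < 100, tg (XC 0) 7 (tg (XC 0) 7 y) = y := by
  decide +kernel

theorem xg02_comm : xg 0 * xg 2 = xg 2 * xg 0 := by
  apply Subtype.ext
  rw [Subgroup.coe_mul, Subgroup.coe_mul]
  apply Equiv.ext
  intro v
  apply Fin.ext
  have h0 := acts_xg 0 (by norm_num)
  have h2 := acts_xg 2 (by norm_num)
  rw [Equiv.Perm.mul_apply, Equiv.Perm.mul_apply, h0, h2, h2, h0]
  exact xx_chk.1 v.val v.2

theorem xg0_sq : xg 0 * xg 0 = 1 := by
  apply Subtype.ext
  rw [Subgroup.coe_mul]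
  apply Equiv.ext
  intro v
  apply Fin.ext
  have h0 := acts_xg 0 (by norm_num)
  rw [Equiv.Perm.mul_apply, h0, h0]
  exact xx_chk.2 v.val v.2

/-- the kernel of a finite stem extension is generated by an element of order at most two -/
theorem ker_eq_zpowers (Γ : Type u) [Group Γ] [Finite Γ] (σ : Γ →* ↥G100)
    (hσ : Cfsg.IsStemExtension σ) : ∃ γ : Γ, γ * γ = 1 ∧ σ.ker = Subgroup.zpowers γ := by
  obtain ⟨a, ha⟩ := hσ.1 (xg 0)
  obtain ⟨b, hb⟩ := hσ.1 (xg 2)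
  have hab : σ a * σ b = σ b * σ a := by rw [ha, hb]; exact xg02_comm
  refine ⟨⁅a, b⁆, StemQuot.comm_sq_eq_one σ hσ.2.1 a b hab (by rw [ha]; exact xg0_sq), ?_⟩
  apply StemQuot.ker_eq_zpowers σ hσ a b hab
  intro Γ' _ _ σ' hσ' hc
  rw [ha, hb] at hc
  exact ker_eq_bot_of_comm Γ' σ' hσ' hc

/-- **The upper bound.** -/
theorem upper (Γ : Type u) [Group Γ] [Finite Γ] (σ : Γ →* ↥G100)
    (hσ : Cfsg.IsStemExtension σ) :
    ∃ π : Multiplicative (ZMod 2) →* σ.ker, Function.Surjective π := by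
  obtain ⟨γ, hγ2, hker⟩ := ker_eq_zpowers Γ σ hσ
  have hγK : γ ∈ σ.ker := by rw [hker]; exact Subgroup.mem_zpowers γ
  obtain ⟨γ', hγ'⟩ : ∃ γ' : σ.ker, γ' = ⟨γ, hγK⟩ := ⟨_, rfl⟩
  have hγ'2 : γ' * γ' = 1 := by
    rw [hγ']
    exact Subtype.ext hγ2
  obtain ⟨f, hf⟩ : ∃ f : ℤ →+ Additive σ.ker, f = zmultiplesHom _ (Additive.ofMul γ') := ⟨_, rfl⟩
  have hf1 : ∀ k : ℤ, f k = Additive.ofMul (γ' ^ k) := by
    intro k
    rw [hf, zmultiplesHom_apply, ofMul_zpow]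
  have hf2 : f (2 : ℕ) = 0 := by
    have h := hf1 2
    rw [zpow_two, hγ'2] at h
    exact h
  refine ⟨AddMonoidHom.toMultiplicativeLeft (ZMod.lift 2 ⟨f, hf2⟩), ?_⟩
  intro x
  have hx : (x : Γ) ∈ Subgroup.zpowers γ := by rw [← hker]; exact x.2
  obtain ⟨k, hk⟩ := Subgroup.mem_zpowers_iff.1 hx
  refine ⟨Multiplicative.ofAdd ((k : ℤ) : ZMod 2), ?_⟩
  rw [AddMonoidHom.coe_toMultiplicativeLeft]
  show Additive.toMul ((ZMod.lift 2 ⟨f, hf2⟩) ((k : ℤ) : ZMod 2)) = x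
  rw [ZMod.lift_coe, hf1]
  apply Subtype.ext
  rw [toMul_ofMul, Subgroup.coe_zpow, hγ']
  exact hk

end Cfsg.Agent.Helper29.HSU
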