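import Mathlib
import Cfsg.Prelude.Def_Spor_He
import Cfsg.Agent.Lib.Helper29.PermWSlp
import Cfsg.Agent.Lib.Helper29.HeData
import Cfsg.Agent.S1695

set_option autoImplicit false
open Cfsg

/-! The Held group on 2058 points: the seven generators of the presentation act by explicit
permutations, and since the presented group is simple the action is faithful. -/

namespace Cfsg.Agent.Helper29.HeM

open Cfsg.Agent.Helper29.HSP (tg force force_eq allBelow allBelow_iff)
open Cfsg.Agent.Helper29.PW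
open Cfsg.Spor

instance : NeZero 2058 := ⟨by norm_num⟩

/-- the code of the generator `k` -/
def pc (k : ℕ) : ℕ := HeD.PC.getD k 0

set_option maxRecDepth 100000 in
theorem valid_chk : ∀ k < 7, validC 2058 (pc k) (pc k) = true := by decide +kernel

/-- the generators as permutations -/
def gp (k : ℕ) : Equiv.Perm (Fin 2058) := cP 2058 (pc k) (pc k)

theorem acts_gp (k : ℕ) (hk : k < 7) : Acts 2058 (gp k) (pc k) := acts_cP (valid_chk k hk)

theorem acts_gp_inv (k : ℕ) (hk : k < 7) : Acts 2058 (gp k)⁻¹ (pc k) :=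
  acts_cP_inv (valid_chk k hk)

theorem gp_inv (k : ℕ) (hk : k < 7) : (gp k)⁻¹ = gp k :=
  eq_of_acts (acts_gp_inv k hk) (acts_gp k hk)

/-- the explicit group -/
def G2058 : Subgroup (Equiv.Perm (Fin 2058)) := Subgroup.closure {g | ∃ k < 7, gp k = g}

theorem gp_mem (k : ℕ) (hk : k < 7) : gp k ∈ G2058 := Subgroup.subset_closure ⟨k, hk, rfl⟩

theorem PC_length : HeD.PC.length = 7 := by decide

theorem acts_ge : ∀ l < HeD.PC.length, Acts 2058 (gp l) (HeD.PC.getD l 0) := by
  intro l hl
  rw [PC_length] at hl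
  exact acts_gp l hl

/-- the permutation of a word -/
def evalW (w : List ℕ) : Equiv.Perm (Fin 2058) := (w.map gp).prod

theorem evalW_mem (w : List ℕ) (hw : ∀ l ∈ w, l < 7) : evalW w ∈ G2058 := by
  apply Subgroup.list_prod_mem
  intro x hx
  obtain ⟨l, hl, rfl⟩ := List.mem_map.1 hx
  exact gp_mem l (hw l hl)

theorem evalW_apply (w : List ℕ) (hw : ∀ l ∈ w, l < 7) (u : Fin 2058) :
    (evalW w u).val = appL HeD.PC w u.val :=
  prod_apply HeD.PC gp acts_ge w (by rw [PC_length]; exact hw) u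

theorem evalW_append (w v : List ℕ) : evalW (w ++ v) = evalW w * evalW v := by
  unfold evalW
  rw [List.map_append, List.prod_append]

theorem acts_evalW {c : ℕ} {w : List ℕ} (h : reprL 2058 HeD.PC c w = true) :
    Acts 2058 (evalW w) c :=
  acts_of_reprL HeD.PC gp acts_ge h

theorem evalW_eq (w v : List ℕ) (hw : ∀ l ∈ w, l < 7) (hv : ∀ l ∈ v, l < 7)
    (h : weqL 2058 HeD.PC w v = true) : evalW w = evalW v :=
  prod_eq_of_weqL HeD.PC gp w v (fun l hl => acts_gp l (hw l hl)) (fun l hl => acts_gp l (hv l hl)) h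

/-! ### The relators -/

/-- the number of a generator -/
def gidx : He.Gen → ℕ
  | .a => 0
  | .b => 1
  | .c => 2
  | .d => 3
  | .e => 4
  | .f => 5
  | .g => 6

theorem gidx_lt (x : He.Gen) : gidx x < 7 := by cases x <;> decide

/-- the image of a generator -/
def gmap (x : He.Gen) : Equiv.Perm (Fin 2058) := gp (gidx x)

/-- the labels as a table -/
def labT : List ℕ :=
  [1, 4, 2, 2, 2, 2, 2,
   4, 1, 3, 2, 2, 2, 2,
   2, 3, 1, 10, 2, 2, 2,
   2, 2, 10, 1, 3, 3, 3,
   2, 2, 2, 3, 1, 2, 2,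
   2, 2, 2, 3, 2, 1, 4,
   2, 2, 2, 3, 2, 4, 1]

theorem lab_eq (x y : He.Gen) : coxLabel He.edges x y = labT.getD (7 * gidx x + gidx y) 0 := by
  cases x <;> cases y <;> decide

/-- the word of a power of a product of two letters -/
def relW (i j : ℕ) : ℕ → List ℕ
  | 0 => []
  | m + 1 => i :: j :: relW i j m

theorem evalW_relW (i j m : ℕ) : evalW (relW i j m) = (gp i * gp j) ^ m := by
  induction m with
  | zero => rfl
  | succ m ih =>
    show ((i :: j :: relW i j m).map gp).prod = _
    rw [List.map_cons, List.map_cons, List.prod_cons, List.prod_cons, pow_succ', ← mul_assoc]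
    congr 1

theorem relW_letters (i j : ℕ) (hi : i < 7) (hj : j < 7) (m : ℕ) : ∀ l ∈ relW i j m, l < 7 := by
  induction m with
  | zero => intro l hl; cases hl
  | succ m ih =>
    intro l hl
    show l < 7
    change l ∈ i :: j :: relW i j m at hl
    rcases List.mem_cons.1 hl with rfl | hl
    · exact hi
    · rcases List.mem_cons.1 hl with rfl | hl
      · exact hj
      · exact ih l hl

set_option maxRecDepth 100000 in
theorem cox_chk : ∀ i < 7, ∀ j < 7,
    weqL 2058 HeD.PC (relW i j (labT.getD (7 * i + j) 0)) [] = true := by decide +kernel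

theorem cox_rel (x y : He.Gen) : (gmap x * gmap y) ^ coxLabel He.edges x y = 1 := by
  rw [lab_eq]
  unfold gmap
  rw [← evalW_relW]
  have h := evalW_eq _ [] (relW_letters _ _ (gidx_lt x) (gidx_lt y) _) (by intro l hl; cases hl)
    (cox_chk _ (gidx_lt x) _ (gidx_lt y))
  rw [h]
  rfl

set_option maxRecDepth 100000 in
theorem extra_chk : weqL 2058 HeD.PC [4] [5, 6, 5, 6] = true ∧
    weqL 2058 HeD.PC [4] [0, 1, 2, 0, 1, 2, 0, 1, 2] = true ∧
    weqL 2058 HeD.PC [0] [2, 3, 2, 3, 2, 3, 2, 3, 2, 3] = true ∧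
    weqL 2058 HeD.PC [2, 3, 5, 6, 2, 3, 5, 6, 2, 3, 5, 6, 2, 3, 5, 6] [] = true := by
  decide +kernel

theorem extra1 : gp 4 = (gp 5 * gp 6) ^ 2 := by
  have h := evalW_eq [4] [5, 6, 5, 6] (by decide) (by decide) extra_chk.1
  simp only [evalW, List.map_cons, List.map_nil, List.prod_cons, List.prod_nil, mul_one] at h
  rw [h, pow_two]
  simp only [mul_assoc]

theorem extra2 : gp 4 = (gp 0 * gp 1 * gp 2) ^ 3 := by
  have h := evalW_eq [4] [0, 1, 2, 0, 1, 2, 0, 1, 2] (by decide) (by decide) extra_chk.2.1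
  simp only [evalW, List.map_cons, List.map_nil, List.prod_cons, List.prod_nil, mul_one] at h
  rw [h, pow_succ, pow_two]
  simp only [mul_assoc]

theorem extra3 : gp 0 = (gp 2 * gp 3) ^ 5 := by
  have h := evalW_eq [0] [2, 3, 2, 3, 2, 3, 2, 3, 2, 3] (by decide) (by decide) extra_chk.2.2.1
  simp only [evalW, List.map_cons, List.map_nil, List.prod_cons, List.prod_nil, mul_one] at h
  rw [h, pow_succ, pow_succ, pow_succ, pow_two]
  simp only [mul_assoc]

theorem extra4 : (gp 2 * gp 3 * gp 5 * gp 6) ^ 4 = 1 := by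
  have h := evalW_eq [2, 3, 5, 6, 2, 3, 5, 6, 2, 3, 5, 6, 2, 3, 5, 6] [] (by decide)
    (by decide) extra_chk.2.2.2
  simp only [evalW, List.map_cons, List.map_nil, List.prod_cons, List.prod_nil, mul_one] at h
  rw [pow_succ, pow_succ, pow_two]
  simp only [mul_assoc]
  exact h

theorem rels_hold : ∀ r ∈ coxRelators He.edges ∪ {r | r ∈ He.extra},
    FreeGroup.lift gmap r = 1 := by
  intro r hr
  rcases hr with hr | hr
  · obtain ⟨x, _, y, _, rfl⟩ := hr
    rw [map_pow, map_mul, FreeGroup.lift_apply_of, FreeGroup.lift_apply_of]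
    exact cox_rel x y
  · have hr' : r ∈ He.extra := hr
    unfold He.extra at hr'
    simp only [List.mem_cons, List.not_mem_nil, or_false] at hr'
    rcases hr' with rfl | rfl | rfl | rfl
    · simp only [map_mul, map_inv, map_pow, FreeGroup.lift_apply_of]
      show gp 4 * ((gp 5 * gp 6) ^ 2)⁻¹ = 1
      rw [← extra1, mul_inv_cancel]
    · simp only [map_mul, map_inv, map_pow, FreeGroup.lift_apply_of]
      show gp 4 * ((gp 0 * gp 1 * gp 2) ^ 3)⁻¹ = 1
      rw [← extra2, mul_inv_cancel]
    · simp only [map_mul, map_inv, map_pow, FreeGroup.lift_apply_of]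
      show gp 0 * ((gp 2 * gp 3) ^ 5)⁻¹ = 1
      rw [← extra3, mul_inv_cancel]
    · simp only [map_mul, map_pow, FreeGroup.lift_apply_of]
      exact extra4

/-- the action of the presented group -/
def rho : He →* Equiv.Perm (Fin 2058) := PresentedGroup.toGroup rels_hold

theorem rho_of (x : He.Gen) : rho (PresentedGroup.of x) = gmap x := PresentedGroup.toGroup.of _

theorem gp0_ne_one : gp 0 ≠ 1 := by
  intro h
  have h1 := acts_gp 0 (by norm_num) (⟨8, by norm_num⟩ : Fin 2058)
  rw [h] at h1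
  revert h1
  show ¬ ((8 : ℕ) = tg (pc 0) 12 8)
  decide +kernel

theorem rho_injective : Function.Injective rho := by
  have hs : IsSimpleGroup He := Cfsg.Agent.S1695.result.1
  rw [← MonoidHom.ker_eq_bot_iff]
  rcases (MonoidHom.normal_ker rho).eq_bot_or_eq_top with h | h
  · exact h
  · exfalso
    have : (PresentedGroup.of He.Gen.a : He) ∈ rho.ker := by rw [h]; exact Subgroup.mem_top _
    rw [MonoidHom.mem_ker, rho_of] at this
    exact gp0_ne_one this

theorem range_rho : rho.range = G2058 := by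
  rw [MonoidHom.range_eq_map, ← PresentedGroup.closure_range_of, MonoidHom.map_closure]
  unfold G2058
  congr 1
  ext g
  constructor
  · rintro ⟨_, ⟨x, rfl⟩, rfl⟩
    exact ⟨gidx x, gidx_lt x, (rho_of x).symm⟩
  · rintro ⟨k, hk, rfl⟩
    have : ∃ x : He.Gen, gidx x = k := by
      interval_cases k
      · exact ⟨.a, rfl⟩
      · exact ⟨.b, rfl⟩
      · exact ⟨.c, rfl⟩
      · exact ⟨.d, rfl⟩
      · exact ⟨.e, rfl⟩
      · exact ⟨.f, rfl⟩
      · exact ⟨.g, rfl⟩
    obtain ⟨x, rfl⟩ := this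
    exact ⟨PresentedGroup.of x, ⟨x, rfl⟩, rho_of x⟩

/-- the explicit group is the Held group -/
theorem iso_He : Nonempty (↥G2058 ≃* He) := by
  have e1 : He ≃* ↥rho.range := MonoidHom.ofInjective rho_injective
  have e2 : ↥rho.range ≃* ↥G2058 := MulEquiv.subgroupCongr range_rho
  exact ⟨(e1.trans e2).symm⟩

theorem card_G2058 : Nat.card ↥G2058 = 4030387200 := by
  obtain ⟨e⟩ := iso_He
  rw [Nat.card_congr e.toEquiv]
  exact Cfsg.Agent.S1695.result.2

theorem finite_G2058 : Finite ↥G2058 := inferInstance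

end Cfsg.Agent.Helper29.HeM
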