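import Mathlib
import Cfsg.Agent.Lib.Helper29.HeModel
import Cfsg.Agent.Lib.Helper29.HeTwoD
import Cfsg.Agent.Lib.Helper29.DedCheck

set_option autoImplicit false
open Cfsg

/-! The Sylow 2-subgroup of the explicit Held group on 2058 points: the table and the check
functions. -/

namespace Cfsg.Agent.Helper29.HeT

open Cfsg.Agent.Helper29.HSP (tg force force_eq allBelow allBelow_iff)
open Cfsg.Agent.Helper29.PW Cfsg.Agent.Helper29.HeM
open Cfsg.Agent.Helper29.HeXD Cfsg.Agent.Helper29.DedCheck

/-- the table: four involutions generating the Sylow subgroup -/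
def D : Tab where
  n := 1024
  k := 4
  b := 10
  inv := fun c => c
  cols := tcols
  par := fun i => tg parP 10 i
  pcol := fun i => tg pcolP 4 i

/-- the letter of the generator `c` -/
def XI (c : ℕ) : ℕ := XIL.getD c 0
/-- the code of the generator `c` -/
def XC (c : ℕ) : ℕ := CL.getD (XI c) 0
/-- the code of the node `i` -/
def NC (i : ℕ) : ℕ := NCL.getD i 0

/-- bounded universal quantifier on an interval, as a boolean -/
def allR (lo n : ℕ) (p : ℕ → Bool) : Bool := allBelow n fun k => p (lo + k)

theorem allR_iff (lo n : ℕ) (p : ℕ → Bool) :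
    allR lo n p = true ↔ ∀ k, lo ≤ k → k < lo + n → p k = true := by
  unfold allR
  rw [allBelow_iff]
  constructor
  · intro h k h1 h2
    have := h (k - lo) (by omega)
    rwa [Nat.add_sub_cancel' h1] at this
  · intro h k hk
    exact h (lo + k) (by omega) (by omega)

/-- the check of a node -/
def nodeOK (i : ℕ) : Bool :=
  Nat.beq i 0 || (force (D.par i) fun p => force (D.pcol i) fun c => Nat.blt p i && Nat.blt c 4 &&
    force (NC i) fun a => force (XC c) fun x => force (NC p) fun b =>
      allBelow 2058 fun y => Nat.beq (tg a 12 y) (tg x 12 (tg b 12 y)))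

/-- the check of a table entry -/
def tabOK (c i : ℕ) : Bool :=
  force (D.tget c i) fun j => Nat.blt j 1024 && force (NC j) fun b => force (NC i) fun a =>
    force (XC c) fun x => allBelow 2058 fun y => Nat.beq (tg b 12 y) (tg x 12 (tg a 12 y))

/-- the key of a code: the images of two points -/
def keyOf (c : ℕ) : ℕ := tg c 12 0 + 4096 * tg c 12 1

/-- the node at position `k` in the order of the keys -/
def ordN (k : ℕ) : ℕ := tg ordP 10 k

/-- the position of the node `i` in the order of the keys -/
def posN (i : ℕ) : ℕ := tg posP 10 i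

/-- the keys increase along the order -/
def keyIncOK (k : ℕ) : Bool :=
  force (ordN k) fun a => force (ordN (k + 1)) fun b =>
    Nat.blt a 1024 && Nat.blt b 1024 && Nat.blt (keyOf (NC a)) (keyOf (NC b))

/-- the position is the inverse of the order -/
def posOK (i : ℕ) : Bool := force (posN i) fun k => Nat.blt k 1024 && Nat.beq (ordN k) i

end Cfsg.Agent.Helper29.HeT
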