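import Mathlib
import Cfsg.Agent.Lib.Helper29.HeTwoDefs

set_option autoImplicit false
open Cfsg

/-! Kernel checks for the Sylow 2-subgroup of the Held group on 2058 points (generated). -/

namespace Cfsg.Agent.Helper29.HeT

open Cfsg.Agent.Helper29.HSP (tg force force_eq allBelow allBelow_iff)
open Cfsg.Agent.Helper29.PW Cfsg.Agent.Helper29.HeXD

set_option maxRecDepth 100000 in
theorem key_inc0 : allBelow 1023 keyIncOK = true := by decide +kernel

set_option maxRecDepth 100000 in
theorem pos_chk0 : allBelow 1024 posOK = true := by decide +kernel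

set_option maxRecDepth 1000000 in
theorem slp_chk : ∀ j < 78, slpOK 2058 CL WL 7 j = true := by decide +kernel

set_option maxRecDepth 1000000 in
theorem base_codes : ∀ l < 7, CL.getD l 0 = HeD.PC.getD l 0 := by decide +kernel

set_option maxRecDepth 100000 in
theorem xinv_chk0 : ∀ c < 4, ∀ y < 2058, tg (XC c) 12 (tg (XC c) 12 y) = y := by decide +kernel

set_option maxRecDepth 100000 in
theorem node_chk00 : (allBelow 2058 fun y => Nat.beq (tg (NC 0) 12 y) y) = true := by decide +kernel

end Cfsg.Agent.Helper29.HeT
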