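import Mathlib
import Cfsg.Agent.Lib.Helper29.HeTwoDefs

set_option autoImplicit false
open Cfsg

/-! Kernel checks for the Sylow 2-subgroup of the Held group on 2058 points (generated). -/

namespace Cfsg.Agent.Helper29.HeT

open Cfsg.Agent.Helper29.HSP (tg force force_eq allBelow allBelow_iff)
open Cfsg.Agent.Helper29.PW Cfsg.Agent.Helper29.HeXD

set_option maxRecDepth 100000 in
theorem node_chk_4 : allR 512 128 nodeOK = true := by decide +kernel

set_option maxRecDepth 100000 in
theorem node_chk_5 : allR 640 128 nodeOK = true := by decide +kernel

set_option maxRecDepth 100000 in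
theorem node_chk_6 : allR 768 128 nodeOK = true := by decide +kernel

set_option maxRecDepth 100000 in
theorem node_chk_7 : allR 896 128 nodeOK = true := by decide +kernel


end Cfsg.Agent.Helper29.HeT
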