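import Mathlib
import Cfsg.Agent.Lib.Helper29.HeTwoChkK
import Cfsg.Agent.Lib.Helper29.HeTwoChkN0
import Cfsg.Agent.Lib.Helper29.HeTwoChkN1
import Cfsg.Agent.Lib.Helper29.HeTwoChkT0
import Cfsg.Agent.Lib.Helper29.HeTwoChkT1
import Cfsg.Agent.Lib.Helper29.HeTwoChkT2
import Cfsg.Agent.Lib.Helper29.HeTwoChkT3

set_option autoImplicit false
open Cfsg

/-! The Sylow 2-subgroup of the explicit Held group on 2058 points: its multiplication table on a
spanning tree and the checks. -/

namespace Cfsg.Agent.Helper29.HeT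

open Cfsg.Agent.Helper29.HSP (tg force force_eq allBelow allBelow_iff)
open Cfsg.Agent.Helper29.PW Cfsg.Agent.Helper29.HeM
open Cfsg.Agent.Helper29.HeXD Cfsg.Agent.Helper29.DedCheck

/-! ### The elements of the straight-line program -/

/-- the elements of the program -/
def el (l : ℕ) : Equiv.Perm (Fin 2058) := elF WL gp 7 78 l

theorem el_spec (l : ℕ) (hl : l < 85) : Acts 2058 (el l) (CL.getD l 0) ∧ el l ∈ G2058 := by
  have h0 : ∀ l < 7, Acts 2058 (gp l) (CL.getD l 0) ∧ gp l ∈ G2058 := by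
    intro l hl
    rw [base_codes l hl]
    exact ⟨acts_gp l hl, gp_mem l hl⟩
  exact elF_spec G2058 h0 78 slp_chk 78 le_rfl l (by omega)

/-- the elements of the program in the group -/
def eg (l : ℕ) : ↥G2058 := if h : l < 85 then ⟨el l, (el_spec l h).2⟩ else 1

theorem eg_val (l : ℕ) (hl : l < 85) : (eg l).val = el l := by
  unfold eg
  rw [dif_pos hl]

theorem acts_eg (l : ℕ) (hl : l < 85) : Acts 2058 (eg l).val (CL.getD l 0) := by
  rw [eg_val l hl]
  exact (el_spec l hl).1

/-! ### The generators -/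

theorem XI_lt : ∀ c < 4, XI c < 85 := by decide

/-- the generators of the Sylow subgroup -/
def xg (c : ℕ) : ↥G2058 := eg (XI c)

theorem acts_xg (c : ℕ) (hc : c < 4) : Acts 2058 (xg c).val (XC c) := acts_eg (XI c) (XI_lt c hc)

theorem xg_sq (c : ℕ) (hc : c < 4) : xg c * xg c = 1 := by
  apply Subtype.ext
  show (xg c).val * (xg c).val = 1
  apply Equiv.ext
  intro u
  apply Fin.ext
  show ((xg c).val ((xg c).val u)).val = u.val
  rw [acts_xg c hc, acts_xg c hc, xinv_chk0 c hc u.val u.2]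

theorem xg_inv (c : ℕ) (hc : c < 4) : xg (D.inv c) = (xg c)⁻¹ :=
  eq_inv_of_mul_eq_one_right (xg_sq c hc)

/-! ### The nodes -/

theorem node_chk0 : ∀ i < 1024, nodeOK i = true := by
  intro i hi
  have hq : i / 128 < 8 := by omega
  interval_cases hq' : i / 128
  · exact (allR_iff _ _ _).1 node_chk_0 i (by omega) (by omega)
  · exact (allR_iff _ _ _).1 node_chk_1 i (by omega) (by omega)
  · exact (allR_iff _ _ _).1 node_chk_2 i (by omega) (by omega)
  · exact (allR_iff _ _ _).1 node_chk_3 i (by omega) (by omega)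
  · exact (allR_iff _ _ _).1 node_chk_4 i (by omega) (by omega)
  · exact (allR_iff _ _ _).1 node_chk_5 i (by omega) (by omega)
  · exact (allR_iff _ _ _).1 node_chk_6 i (by omega) (by omega)
  · exact (allR_iff _ _ _).1 node_chk_7 i (by omega) (by omega)

theorem node_chk : (∀ y < 2058, tg (NC 0) 12 y = y) ∧ ∀ i < 1024, 0 < i → D.par i < i ∧
    D.pcol i < 4 ∧
    ∀ y < 2058, tg (NC i) 12 y = tg (XC (D.pcol i)) 12 (tg (NC (D.par i)) 12 y) := by
  refine ⟨fun y hy => Nat.eq_of_beq_eq_true ((allBelow_iff _ _).1 node_chk00 y hy), ?_⟩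
  intro i hi h0
  have h := node_chk0 i hi
  unfold nodeOK at h
  rw [Bool.or_eq_true] at h
  rcases h with h | h
  · have := Nat.eq_of_beq_eq_true h
    omega
  · rw [force_eq, force_eq, Bool.and_eq_true, Bool.and_eq_true, force_eq, force_eq, force_eq,
      allBelow_iff] at h
    obtain ⟨⟨h1, h2⟩, h3⟩ := h
    refine ⟨Eq.mp Nat.blt_eq h1, Eq.mp Nat.blt_eq h2, ?_⟩
    intro y hy
    exact Nat.eq_of_beq_eq_true (h3 y hy)

theorem coe_node (i : ℕ) : (D.node xg i).val = D.node (fun c => (xg c).val) i :=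
  D.map_node G2058.subtype xg i

theorem acts_node (i : ℕ) (hi : i < 1024) : Acts 2058 (D.node xg i).val (NC i) := by
  induction i using Nat.strong_induction_on with
  | _ i ih =>
    rcases Nat.eq_zero_or_pos i with h0 | h0
    · subst h0
      rw [D.node_zero]
      exact acts_one node_chk.1
    · obtain ⟨h1, h2, h3⟩ := node_chk.2 i hi h0
      rw [D.node_of_lt xg h0 h1]
      exact acts_mul (acts_xg _ h2) (ih _ h1 (by omega)) h3

theorem tab_quarters (c : ℕ) (h0 : allR 0 256 (tabOK c) = true)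
    (h1 : allR 256 256 (tabOK c) = true) (h2 : allR 512 256 (tabOK c) = true)
    (h3 : allR 768 256 (tabOK c) = true) : ∀ i < 1024, tabOK c i = true := by
  intro i hi
  have hq : i / 256 < 4 := by omega
  interval_cases hq' : i / 256
  · exact (allR_iff _ _ _).1 h0 i (by omega) (by omega)
  · exact (allR_iff _ _ _).1 h1 i (by omega) (by omega)
  · exact (allR_iff _ _ _).1 h2 i (by omega) (by omega)
  · exact (allR_iff _ _ _).1 h3 i (by omega) (by omega)

theorem tab_chk0 : ∀ c < 4, ∀ i < 1024, tabOK c i = true := by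
  intro c hc
  interval_cases c
  · exact tab_quarters 0 tab_0_0 tab_0_1 tab_0_2 tab_0_3
  · exact tab_quarters 1 tab_1_0 tab_1_1 tab_1_2 tab_1_3
  · exact tab_quarters 2 tab_2_0 tab_2_1 tab_2_2 tab_2_3
  · exact tab_quarters 3 tab_3_0 tab_3_1 tab_3_2 tab_3_3

theorem tab_chk : ∀ c < 4, ∀ i < 1024, D.tget c i < 1024 ∧
    ∀ y < 2058, tg (NC (D.tget c i)) 12 y = tg (XC c) 12 (tg (NC i) 12 y) := by
  intro c hc i hi
  have h := tab_chk0 c hc i hi
  unfold tabOK at h
  rw [force_eq, Bool.and_eq_true, force_eq, force_eq, force_eq, allBelow_iff] at h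
  refine ⟨Eq.mp Nat.blt_eq h.1, ?_⟩
  intro y hy
  exact Nat.eq_of_beq_eq_true (h.2 y hy)

theorem tabM : ∀ c < D.k, ∀ i < D.n, D.tget c i < D.n ∧
    xg c * D.node xg i = D.node xg (D.tget c i) := by
  intro c hc i hi
  obtain ⟨h1, h2⟩ := tab_chk c hc i hi
  refine ⟨h1, ?_⟩
  apply Subtype.ext
  exact eq_of_acts (acts_mul (acts_xg c hc) (acts_node i hi) h2) (acts_node _ h1)

theorem key_inc (k : ℕ) (hk : k < 1023) : ordN k < 1024 ∧ ordN (k + 1) < 1024 ∧
    keyOf (NC (ordN k)) < keyOf (NC (ordN (k + 1))) := by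
  have h := (allBelow_iff _ _).1 key_inc0 k hk
  unfold keyIncOK at h
  rw [force_eq, force_eq, Bool.and_eq_true, Bool.and_eq_true] at h
  exact ⟨Eq.mp Nat.blt_eq h.1.1, Eq.mp Nat.blt_eq h.1.2, Eq.mp Nat.blt_eq h.2⟩

theorem key_strict (a b : ℕ) (hab : a < b) (hb : b < 1024) :
    keyOf (NC (ordN a)) < keyOf (NC (ordN b)) := by
  induction b with
  | zero => omega
  | succ b ih =>
    rcases Nat.lt_succ_iff_lt_or_eq.1 hab with h | h
    · exact lt_trans (ih h (by omega)) (key_inc b (by omega)).2.2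
    · rw [h]; exact (key_inc b (by omega)).2.2

theorem pos_chk (i : ℕ) (hi : i < 1024) : posN i < 1024 ∧ ordN (posN i) = i := by
  have h := (allBelow_iff _ _).1 pos_chk0 i hi
  unfold posOK at h
  rw [force_eq, Bool.and_eq_true] at h
  exact ⟨Eq.mp Nat.blt_eq h.1, Nat.eq_of_beq_eq_true h.2⟩

theorem key_chk : ∀ i < 1024, ∀ j < 1024, i ≠ j → keyOf (NC i) ≠ keyOf (NC j) := by
  intro i hi j hj hne
  obtain ⟨h1, h2⟩ := pos_chk i hi
  obtain ⟨h3, h4⟩ := pos_chk j hj
  have hp : posN i ≠ posN j := by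
    intro e
    apply hne
    rw [← h2, ← h4, e]
  rw [← h2, ← h4]
  rcases Nat.lt_or_gt_of_ne hp with h | h
  · exact Nat.ne_of_lt (key_strict _ _ h h3)
  · exact (Nat.ne_of_lt (key_strict _ _ h h1)).symm

theorem node_inj (i j : ℕ) (hi : i < 1024) (hj : j < 1024) (h : D.node xg i = D.node xg j) :
    i = j := by
  have key : keyOf (NC i) = keyOf (NC j) := by
    have e : ∀ y < 2058, tg (NC i) 12 y = tg (NC j) 12 y := by
      intro y hy
      have h1 := acts_node i hi ⟨y, hy⟩
      have h2 := acts_node j hj ⟨y, hy⟩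
      rw [h] at h1
      exact h1.symm.trans h2
    unfold keyOf
    rw [e 0 (by norm_num), e 1 (by norm_num)]
  by_contra hne
  exact key_chk i hi j hj hne key

/-! ### The Sylow subgroup -/

def S2 : Subgroup ↥G2058 := Subgroup.closure {g | ∃ c < D.k, g = xg c}

theorem exists_node (g : ↥G2058) (hg : g ∈ S2) : ∃ i < 1024, g = D.node xg i :=
  D.closure_sub xg (by decide) (fun c hc => hc) xg_inv tabM g hg

theorem pcol_lt (i : ℕ) (hi : i < 1024) (h0 : 0 < i) : D.pcol i < 4 := (node_chk.2 i hi h0).2.1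

theorem node_mem (i : ℕ) (hi : i < 1024) : D.node xg i ∈ S2 := by
  induction i using Nat.strong_induction_on with
  | _ i ih =>
    by_cases h : 0 < i ∧ D.par i < i
    · rw [D.node_of_lt xg h.1 h.2]
      refine S2.mul_mem ?_ (ih _ h.2 (by omega))
      exact Subgroup.subset_closure ⟨D.pcol i, pcol_lt i hi h.1, rfl⟩
    · rw [Tab.node, dif_neg h]
      exact S2.one_mem

theorem card_S2 : Nat.card ↥S2 = 1024 := by
  have hb : Function.Bijective
      (fun i : Fin 1024 => (⟨D.node xg i.val, node_mem i.val i.2⟩ : ↥S2)) := by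
    constructor
    · intro i j h
      apply Fin.ext
      exact node_inj i.val j.val i.2 j.2 (congrArg Subtype.val h)
    · intro g
      obtain ⟨i, hi, e⟩ := exists_node g.val g.2
      exact ⟨⟨i, hi⟩, Subtype.ext e.symm⟩
  rw [← Nat.card_eq_of_bijective _ hb]
  simp

theorem not_dvd_index_S2 : ¬ 2 ∣ S2.index := by
  have h := Subgroup.card_mul_index S2
  rw [card_S2, card_G2058] at h
  have : S2.index = 3935925 := by omega
  rw [this]
  decide

end Cfsg.Agent.Helper29.HeT
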