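import Mathlib
import Cfsg.Agent.Lib.Helper29.HeAuDefs

set_option autoImplicit false

/-! Kernel checks for the outer automorphism group of the Held group (generated). -/

namespace Cfsg.Agent.Helper29.HeAu

open Cfsg.Agent.Helper29.HSP (tg force force_eq allBelow allBelow_iff cnt card_filter_eq_cnt)
open Cfsg.Agent.Helper29.PW Cfsg.Agent.Helper29.HeM
open Cfsg.Agent.Helper29.HeAuD Cfsg.Agent.Helper29.HeT

set_option maxRecDepth 100000 in
theorem slp2_chk : ∀ j < 6, slpOK 2058 CL2 WL2 2 j = true := by decide +kernel

set_option maxRecDepth 100000 in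
theorem slp3_chk : ∀ j < 6, slpOK 2058 CL3 WL2 2 j = true := by decide +kernel

set_option maxRecDepth 100000 in
theorem x_repr : reprL 2058 HeD.PC (CL2.getD 0 0) [1, 2, 3, 5] = true := by decide +kernel

set_option maxRecDepth 100000 in
theorem xp1_eq : XP 1 = CL2.getD 0 0 := by decide +kernel

set_option maxRecDepth 100000 in
theorem yc_eq : YC = NC 88 := by decide +kernel

set_option maxRecDepth 100000 in
theorem wg_chk : ∀ k < 7, reprL 2058 CL2 (pc k) (WG.getD k []) = true := by decide +kernel

set_option maxRecDepth 100000 in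
theorem wgi_chk : ∀ k < 7, reprL 2058 CL3 (PCI.getD k 0) (WG.getD k []) = true := by
  decide +kernel

set_option maxRecDepth 100000 in
theorem tw_chk : allBelow 4 (fun k => allBelow 2058 fun q => twOK k q) = true := by
  decide +kernel

set_option maxRecDepth 100000 in
theorem om_chk : ∀ k < 4, cnt (fun q => Nat.testBit (OM k) q) 2058 = sizes.getD k 0 := by
  decide +kernel

set_option maxRecDepth 100000 in
theorem xp_chk0 : xpOK = true := by decide +kernel

set_option maxRecDepth 100000 in
theorem wc_chk : ∀ j < 17, ∀ j2 < 17, wcOK j j2 = true := by decide +kernel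

set_option maxRecDepth 100000 in
theorem y_chk0 : yOK = true := by decide +kernel

set_option maxRecDepth 100000 in
theorem n_chk0 : nOK = true := by decide +kernel

theorem iy_chk0 : path IY = [] ∧ IY < NR := by decide +kernel

theorem rs_chk0 : RS < NR := by decide +kernel

set_option maxRecDepth 100000 in
theorem ycom_chk0 : ∀ c < 4, ycomOK c = true := by decide +kernel

set_option maxRecDepth 100000 in
theorem cen_chk0 : allBelow 1024 cenOK = true := by decide +kernel

set_option maxRecDepth 100000 in
theorem exp_chk0 : allBelow 1024 expOK = true := by decide +kernel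

set_option maxRecDepth 100000 in
theorem tau_base_chk : tauBaseOK = true := by decide +kernel

set_option maxRecDepth 100000 in
theorem tau_x_chk : tauXOK = true := by decide +kernel

set_option maxRecDepth 100000 in
theorem pci0_moved : moved (PCI.getD 0 0) = true := by decide +kernel

set_option maxRecDepth 100000 in
theorem cox_chk2 : ∀ i < 7, ∀ j < 7,
    weqL 2058 PCI (relW i j (labT.getD (7 * i + j) 0)) [] = true := by decide +kernel

set_option maxRecDepth 100000 in
theorem extra_chk2 : weqL 2058 PCI [4] [5, 6, 5, 6] = true ∧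
    weqL 2058 PCI [4] [0, 1, 2, 0, 1, 2, 0, 1, 2] = true ∧
    weqL 2058 PCI [0] [2, 3, 2, 3, 2, 3, 2, 3, 2, 3] = true ∧
    weqL 2058 PCI [2, 3, 5, 6, 2, 3, 5, 6, 2, 3, 5, 6, 2, 3, 5, 6] [] = true := by
  decide +kernel

end Cfsg.Agent.Helper29.HeAu
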