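import Mathlib
import Cfsg.Agent.Lib.Helper29.Co3OutGen

set_option autoImplicit false

/-! General lemmas for the outer automorphism group of the Held group: the Sylow argument for an
element of order seventeen, and the non-existence of an element conjugating it to its cube. -/

namespace Cfsg.Agent.Helper29.HeAuG

open Cfsg.Agent.Helper29.HSXG

variable {G : Type*} [Group G] [Finite G]

/-- automorphisms move an element of order seventeen generating a Sylow subgroup, and conjugate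
to its square, to a conjugate of it or of its cube -/
theorem exists_conj_eq_of_seventeen (x n : G) (hx : x ^ 17 = 1) (hx1 : x ≠ 1)
    (h289 : ¬ 289 ∣ Nat.card G) (hn : n * x * n⁻¹ = x ^ 2) (φ : MulAut G) :
    ∃ g : G, g * φ x * g⁻¹ = x ∨ g * φ x * g⁻¹ = x ^ 3 := by
  have : Fact (Nat.Prime 17) := ⟨by norm_num⟩
  have h17 : Nat.Prime 17 := by norm_num
  have ho : orderOf x = 17 := orderOf_eq_prime hx hx1
  have hcard : Nat.card (Subgroup.zpowers x) = 17 ^ 1 := by
    rw [Nat.card_zpowers, ho, pow_one]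
  have hidx : ¬ 17 ∣ (Subgroup.zpowers x).index := by
    intro hd
    apply h289
    rw [← Subgroup.card_mul_index (Subgroup.zpowers x), hcard, pow_one]
    exact Nat.mul_dvd_mul_left 17 hd
  obtain ⟨P, hP⟩ := exists_sylow_eq 17 (Subgroup.zpowers x) 1 hcard hidx
  have hφ17 : (φ x) ^ 17 = 1 := by rw [← map_pow, hx, map_one]
  have hQ : IsPGroup 17 (Subgroup.zpowers (φ x)) := by
    intro q
    refine ⟨1, ?_⟩
    obtain ⟨q, hq⟩ := q
    obtain ⟨j, rfl⟩ := Subgroup.mem_zpowers_iff.1 hq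
    apply Subtype.ext
    show ((φ x) ^ j) ^ 17 ^ 1 = 1
    rw [pow_one, ← zpow_natCast, ← zpow_mul, mul_comm, zpow_mul, zpow_natCast, hφ17, one_zpow]
  obtain ⟨g, hg⟩ := exists_conj_le 17 P (Subgroup.zpowers (φ x)) hQ
  have hmem : g * φ x * g⁻¹ ∈ Subgroup.zpowers x := by
    rw [← hP]
    exact hg _ (Subgroup.mem_zpowers _)
  obtain ⟨k, hk⟩ := Subgroup.mem_zpowers_iff.1 hmem
  have hk' : x ^ (k % 17).toNat = g * φ x * g⁻¹ := by
    rw [← hk, ← zpow_natCast, Int.toNat_of_nonneg (Int.emod_nonneg k (by norm_num))]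
    have := zpow_mod_orderOf x k
    rw [ho] at this
    exact this
  have hlt : (k % 17).toNat < 17 := by
    have := Int.emod_lt_of_pos k (show (0 : ℤ) < 17 by norm_num)
    omega
  have hne : (k % 17).toNat ≠ 0 := by
    intro h0
    rw [h0, pow_zero] at hk'
    have h1 : φ x = 1 := by
      have : g * φ x * g⁻¹ = 1 := hk'.symm
      have h2 : φ x = g⁻¹ * (g * φ x * g⁻¹) * g := by group
      rw [h2, this]
      group
    exact hx1 (φ.injective (h1.trans (map_one φ).symm))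
  obtain ⟨j, hj⟩ : ∃ j : ℕ, 2 ^ j % 17 = (k % 17).toNat ∨ (2 ^ j * 3) % 17 = (k % 17).toNat := by
    generalize (k % 17).toNat = m at hlt hne
    interval_cases m
    · exact absurd rfl hne
    · exact ⟨0, Or.inl (by norm_num)⟩
    · exact ⟨1, Or.inl (by norm_num)⟩
    · exact ⟨0, Or.inr (by norm_num)⟩
    · exact ⟨2, Or.inl (by norm_num)⟩
    · exact ⟨6, Or.inr (by norm_num)⟩
    · exact ⟨1, Or.inr (by norm_num)⟩
    · exact ⟨3, Or.inr (by norm_num)⟩
    · exact ⟨3, Or.inl (by norm_num)⟩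
    · exact ⟨7, Or.inl (by norm_num)⟩
    · exact ⟨7, Or.inr (by norm_num)⟩
    · exact ⟨5, Or.inr (by norm_num)⟩
    · exact ⟨2, Or.inr (by norm_num)⟩
    · exact ⟨6, Or.inl (by norm_num)⟩
    · exact ⟨4, Or.inr (by norm_num)⟩
    · exact ⟨5, Or.inl (by norm_num)⟩
    · exact ⟨4, Or.inl (by norm_num)⟩
  have hc := conj_pow_eq n x 2 hn j
  refine ⟨(n ^ j)⁻¹ * g, ?_⟩
  have e : (n ^ j)⁻¹ * g * φ x * ((n ^ j)⁻¹ * g)⁻¹ = (n ^ j)⁻¹ * (g * φ x * g⁻¹) * n ^ j := by
    group
  rw [e, ← hk']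
  rcases hj with hj | hj
  · left
    have hpow : x ^ (2 ^ j) = x ^ (k % 17).toNat := by
      rw [← hj]
      have := pow_mod_orderOf x (2 ^ j)
      rw [ho] at this
      exact this.symm
    rw [← hpow, ← hc]
    group
  · right
    have hpow : x ^ (2 ^ j * 3) = x ^ (k % 17).toNat := by
      rw [← hj]
      have := pow_mod_orderOf x (2 ^ j * 3)
      rw [ho] at this
      exact this.symm
    have hc3 : n ^ j * x ^ 3 * (n ^ j)⁻¹ = x ^ (2 ^ j * 3) := by
      rw [← conj_pow, hc, ← pow_mul]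
    rw [← hpow, ← hc3]
    group

theorem three_pow_mod (o : ℕ) : 3 ^ o % 17 = 3 ^ (o % 16) % 17 := by
  have h : 3 ^ o = (3 ^ 16) ^ (o / 16) * 3 ^ (o % 16) := by
    rw [← pow_mul, ← pow_add, Nat.div_add_mod]
  rw [h, Nat.mul_mod, Nat.pow_mod]
  have h1 : 3 ^ 16 % 17 = 1 := by decide
  rw [h1, one_pow]
  generalize 3 ^ (o % 16) = t
  omega

/-- an element conjugating an element of order seventeen to its cube has order divisible by
sixteen: impossible when the Sylow 2-subgroups have exponent eight -/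
theorem no_conj_cube (x : G) (hx : x ^ 17 = 1) (hx1 : x ≠ 1) (S : Subgroup G) (k : ℕ)
    (hS : Nat.card S = 2 ^ k) (hidx : ¬ 2 ∣ S.index) (hexp : ∀ s ∈ S, s ^ 8 = 1) (g : G)
    (hg : g * x * g⁻¹ = x ^ 3) : False := by
  have : Fact (Nat.Prime 2) := ⟨Nat.prime_two⟩
  have h17 : Fact (Nat.Prime 17) := ⟨by norm_num⟩
  have ho : orderOf x = 17 := orderOf_eq_prime hx hx1
  have hc := conj_pow_eq g x 3 hg (orderOf g)
  rw [pow_orderOf_eq_one, one_mul, inv_one, mul_one] at hc
  have hmod : 3 ^ orderOf g % 17 = 1 := by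
    have h1 : x ^ 1 = x ^ (3 ^ orderOf g) := by rw [pow_one]; exact hc
    have h2 := (pow_eq_pow_iff_modEq).1 h1
    rw [ho] at h2
    have h3 : 1 % 17 = 3 ^ orderOf g % 17 := h2
    omega
  have h16 : 16 ∣ orderOf g := by
    rw [three_pow_mod] at hmod
    have hlt : orderOf g % 16 < 16 := Nat.mod_lt _ (by norm_num)
    apply Nat.dvd_of_mod_eq_zero
    generalize orderOf g % 16 = r at hmod hlt
    interval_cases r <;> first | rfl | (exfalso; revert hmod; decide)
  have hpos : 0 < orderOf g := orderOf_pos g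
  obtain ⟨q, hq⟩ := h16
  have hq0 : q ≠ 0 := by
    rintro rfl
    omega
  have hqd : q ∣ orderOf g := ⟨16, by rw [hq, mul_comm]⟩
  have hoh : orderOf (g ^ q) = 16 := by
    rw [orderOf_pow_of_dvd hq0 hqd, hq]
    exact Nat.mul_div_cancel _ (Nat.pos_of_ne_zero hq0)
  have hQ : IsPGroup 2 (Subgroup.zpowers (g ^ q)) := by
    apply IsPGroup.of_card (n := 4)
    rw [Nat.card_zpowers, hoh]
    norm_num
  obtain ⟨P, hP⟩ := exists_sylow_eq 2 S k hS hidx
  obtain ⟨c, hcj⟩ := exists_conj_le 2 P (Subgroup.zpowers (g ^ q)) hQ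
  have hm : c * g ^ q * c⁻¹ ∈ S := by
    rw [← hP]
    exact hcj _ (Subgroup.mem_zpowers _)
  have h8 := hexp _ hm
  rw [conj_pow] at h8
  have h9 : (g ^ q) ^ 8 = 1 := by
    have : (g ^ q) ^ 8 = c⁻¹ * (c * (g ^ q) ^ 8 * c⁻¹) * c := by group
    rw [this, h8]
    group
  have hd := orderOf_dvd_of_pow_eq_one h9
  rw [hoh] at hd
  omega

end Cfsg.Agent.Helper29.HeAuG
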