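import Mathlib
import Cfsg.Agent.Lib.Helper29.HeAuA
import Cfsg.Agent.Lib.Helper29.HeAuGen

set_option autoImplicit false
set_option maxRecDepth 8000
open Cfsg

/-! The automorphisms of the Held group on 2058 points which fix an element of order seventeen
are inner. -/

namespace Cfsg.Agent.Helper29.HeAu

open Cfsg.Agent.Helper29.HSP (tg force force_eq allBelow allBelow_iff)
open Cfsg.Agent.Helper29.PW Cfsg.Agent.Helper29.HeM
open Cfsg.Agent.Helper29.HeAuD Cfsg.Agent.Helper29.HeT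
open Cfsg.Agent.Helper29.HSXG Cfsg.Agent.Helper29.Co3XG Cfsg.Agent.Helper29.HeAuG

/-! ### The elements -/

def xE : ↥G2058 := ⟨xP, xP_mem⟩
def yE : ↥G2058 := ⟨yP, yP_mem⟩

theorem wn_letters : ∀ l ∈ Wn, l < 8 := by
  have h := n_chk0
  unfold nOK at h
  rw [Bool.and_eq_true, List.all_eq_true] at h
  exact fun l hl => Eq.mp Nat.blt_eq (h.1 l hl)

def nE : ↥G2058 := ⟨evalW2 Wn, evalW2_mem _ wn_letters⟩

theorem xE_pow17 : xE ^ 17 = 1 := by
  apply Subtype.ext
  rw [Subgroup.coe_pow]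
  exact xP_pow17

theorem xE_ne_one : xE ≠ 1 := fun h => xP_ne_one (congrArg Subtype.val h)

theorem ext_base {g h : ↥G2058} (hb : ∀ k < 4, g.val (bpt k) = h.val (bpt k)) : g = h :=
  Subtype.ext (eq_of_base g.2 h.2 hb)

theorem val_mul_apply (a b : ↥G2058) (u : Fin 2058) : (a * b).val u = a.val (b.val u) := rfl

theorem nE_conj : nE * xE * nE⁻¹ = xE ^ 2 := by
  rw [mul_inv_eq_iff_eq_mul]
  apply ext_base
  intro k hk
  apply Fin.ext
  have e : (xE ^ 2).val = xP ^ 2 := by
    rw [Subgroup.coe_pow]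
    rfl
  have e1 : nE.val = evalW2 Wn := rfl
  have e2 : xE.val = xP := rfl
  rw [val_mul_apply, val_mul_apply, e, e1, e2, evalW2_apply _ wn_letters, acts_xP,
    acts_xpow 2 (by norm_num), evalW2_apply _ wn_letters, bpt_val k hk]
  have h := n_chk0
  unfold nOK at h
  rw [Bool.and_eq_true, allBelow_iff] at h
  exact Nat.eq_of_beq_eq_true (h.2 k hk)

theorem yE_sq : yE * yE = 1 := Subtype.ext yP_sq

theorem yE_ne_one : yE ≠ 1 := fun h => yP_ne_one (congrArg Subtype.val h)

theorem not_289_dvd : ¬ 289 ∣ Nat.card ↥G2058 := by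
  rw [card_G2058]
  norm_num

/-- every automorphism moves `xE` to a conjugate of it or of its cube -/
theorem stepA (φ : MulAut ↥G2058) :
    ∃ g : ↥G2058, (MulAut.conj g * φ) xE = xE ∨ (MulAut.conj g * φ) xE = xE ^ 3 := by
  obtain ⟨g, hg⟩ := exists_conj_eq_of_seventeen xE nE xE_pow17 xE_ne_one not_289_dvd nE_conj φ
  refine ⟨g, ?_⟩
  rw [MulAut.mul_apply, MulAut.conj_apply]
  exact hg

/-! ### The central involution -/

theorem yE_eq : yE = D.node xg 88 := rfl

theorem yE_mem_S2 : yE ∈ S2 := node_mem 88 (by norm_num)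

theorem ycom_chk (c : ℕ) (hc : c < 4) :
    ∀ y < 2058, tg YC 12 (tg (XC c) 12 y) = tg (XC c) 12 (tg YC 12 y) := by
  have h := ycom_chk0 c hc
  unfold ycomOK at h
  rw [allBelow_iff] at h
  exact fun y hy => Nat.eq_of_beq_eq_true (h y hy)

theorem eq_of_acts_comp {a b a' b' : Pm} {A B A' B' : ℕ} (ha : Acts 2058 a A)
    (hb : Acts 2058 b B) (ha' : Acts 2058 a' A') (hb' : Acts 2058 b' B')
    (h : ∀ y < 2058, tg A 12 (tg B 12 y) = tg A' 12 (tg B' 12 y)) : a * b = a' * b' := by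
  apply Equiv.ext
  intro u
  apply Fin.ext
  show (a (b u)).val = (a' (b' u)).val
  rw [ha, hb, ha', hb', h u.val u.2]

theorem yE_comm : ∀ s ∈ S2, yE * s = s * yE := by
  intro s hs
  unfold S2 at hs
  induction hs using Subgroup.closure_induction with
  | mem g hg =>
    obtain ⟨c, hc, rfl⟩ := hg
    apply Subtype.ext
    rw [Subgroup.coe_mul, Subgroup.coe_mul]
    exact eq_of_acts_comp acts_yP (acts_xg c hc) (acts_xg c hc) acts_yP (ycom_chk c hc)
  | one => rw [mul_one, one_mul]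
  | mul a b _ _ ha hb => rw [← mul_assoc, ha, mul_assoc, hb, mul_assoc]
  | inv a _ ha =>
    have : a⁻¹ * (yE * a) * a⁻¹ = a⁻¹ * (a * yE) * a⁻¹ := by rw [ha]
    have e1 : a⁻¹ * (yE * a) * a⁻¹ = a⁻¹ * yE := by group
    have e2 : a⁻¹ * (a * yE) * a⁻¹ = yE * a⁻¹ := by group
    rw [e1, e2] at this
    exact this.symm

theorem card_S2_pow : Nat.card ↥S2 = 2 ^ 10 := by
  rw [card_S2]
  norm_num

/-- the centre of the Sylow subgroup has order two -/
theorem center_S2 (g : ↥G2058) (hg : g ∈ S2) (hc : ∀ s ∈ S2, g * s = s * g) :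
    g = 1 ∨ g = yE := by
  obtain ⟨i, hi, e⟩ := exists_node g hg
  have h := (allBelow_iff _ _).1 cen_chk0 i hi
  unfold cenOK at h
  rw [Bool.or_eq_true, Bool.or_eq_true] at h
  rcases h with (h | h) | h
  · left
    rw [e, Nat.eq_of_beq_eq_true h, D.node_zero]
  · right
    rw [e, Nat.eq_of_beq_eq_true h]
    rfl
  · exfalso
    rw [force_eq, force_eq, force_eq, Bool.and_eq_true, Bool.and_eq_true, force_eq, force_eq,
      Bool.not_eq_true'] at h
    obtain ⟨⟨h1, h2⟩, h3⟩ := h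
    have hc4 : tg cenP 14 i / 4096 < 4 := Eq.mp Nat.blt_eq h1
    have hp : tg cenP 14 i % 4096 < 2058 := Eq.mp Nat.blt_eq h2
    have hcomm := hc (xg (tg cenP 14 i / 4096))
      (Subgroup.subset_closure ⟨_, hc4, rfl⟩)
    have h4 := congrArg (fun k : ↥G2058 => (k.val ⟨tg cenP 14 i % 4096, hp⟩).val) hcomm
    have h5 : (g.val ((xg (tg cenP 14 i / 4096)).val ⟨tg cenP 14 i % 4096, hp⟩)).val =
        ((xg (tg cenP 14 i / 4096)).val (g.val ⟨tg cenP 14 i % 4096, hp⟩)).val := h4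
    have hact := acts_node i hi
    rw [← e] at hact
    rw [hact, acts_xg _ hc4, acts_xg _ hc4, hact] at h5
    rw [h5, Nat.beq_refl] at h3
    exact Bool.noConfusion h3

/-- the Sylow subgroup has exponent eight -/
theorem exp_S2 (s : ↥G2058) (hs : s ∈ S2) : s ^ 8 = 1 := by
  obtain ⟨i, hi, e⟩ := exists_node s hs
  have h := (allBelow_iff _ _).1 exp_chk0 i hi
  unfold expOK at h
  rw [force_eq, allBelow_iff] at h
  have hact := acts_node i hi
  rw [← e] at hact
  apply ext_base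
  intro k hk
  apply Fin.ext
  have e8 : (s ^ 8).val (bpt k) =
      s.val (s.val (s.val (s.val (s.val (s.val (s.val (s.val (bpt k)))))))) := by
    rw [Subgroup.coe_pow]
    rfl
  rw [e8, hact, hact, hact, hact, hact, hact, hact, hact, bpt_val k hk]
  have h1 : ((1 : ↥G2058).val (bpt k)).val = bv k := bpt_val k hk
  rw [h1]
  exact Nat.eq_of_beq_eq_true (h k hk)

/-- the image of `yE` under an automorphism is in the list -/
theorem inL_image (φ : MulAut ↥G2058) : InL (φ yE).val := by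
  obtain ⟨g, hg⟩ := exists_conj_eq_of_central S2 10 card_S2_pow not_dvd_index_S2 yE yE_mem_S2
    yE_ne_one yE_comm center_S2 φ
  have e : (φ yE).val = (g⁻¹).val * yP * ((g⁻¹).val)⁻¹ := by
    have h1 : φ yE = g⁻¹ * (g * φ yE * g⁻¹) * (g⁻¹)⁻¹ := by group
    rw [hg] at h1
    rw [h1, Subgroup.coe_mul, Subgroup.coe_mul, Subgroup.coe_inv]
    rfl
  rw [e]
  exact inL_conj _ (g⁻¹).2 _ inL_y

/-! ### The relations -/

theorem hRL : ∀ r ∈ RL, ∀ e ∈ r.1, e < 17 := by decide

theorem coe_relEl (x t : ↥G2058) (E : List ℕ) : (relEl x t E).val = relEl x.val t.val E :=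
  map_relEl G2058.subtype x t E

theorem rel_y : ∀ r ∈ RL, relEl xE yE r.1 ^ r.2 = 1 := by
  intro r hr
  apply Subtype.ext
  rw [Subgroup.coe_pow, coe_relEl]
  exact (relsOK_iff xP yP (pathApp []) acts_xpow (pathEl_apply []) RL hRL).1 y_chk.2.1 r hr

/-- conjugation by a power of `xE` of a syllable word -/
theorem relEl_conj (j : ℕ) (t : ↥G2058) (E : List ℕ) :
    (xE ^ j)⁻¹ * relEl xE t E * xE ^ j = relEl xE ((xE ^ j)⁻¹ * t * xE ^ j) E := by
  have h := map_relEl (MulAut.conj ((xE ^ j)⁻¹)).toMonoidHom xE t E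
  rw [MulEquiv.coe_toMonoidHom, MulAut.conj_apply, MulAut.conj_apply, MulAut.conj_apply,
    inv_inv] at h
  rw [h]
  congr 1
  have : Commute (xE ^ j) xE := (Commute.refl xE).pow_left j
  calc (xE ^ j)⁻¹ * xE * xE ^ j = (xE ^ j)⁻¹ * (xE * xE ^ j) := by group
    _ = (xE ^ j)⁻¹ * (xE ^ j * xE) := by rw [this.eq]
    _ = xE := by group

theorem pow_conj_one {M : Type*} [Group M] (a b : M) (m : ℕ) (h : b ^ m = 1) :
    (a⁻¹ * b * a) ^ m = 1 := by
  have : a⁻¹ * b * a = MulAut.conj a⁻¹ b := by rw [MulAut.conj_apply, inv_inv]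
  rw [this, ← map_pow, h, map_one]

/-- an automorphism fixing `xE` is the conjugation by a power of it -/
theorem image_fix (φ : MulAut ↥G2058) (hx : φ xE = xE) :
    ∃ j < 17, φ yE = xE ^ j * yE * (xE ^ j)⁻¹ := by
  obtain ⟨r, hr, j, hj, hact⟩ := inL_image φ
  have hval : ((xE ^ j)⁻¹ * φ yE * xE ^ j).val = (xP ^ j)⁻¹ * (φ yE).val * xP ^ j := by
    rw [Subgroup.coe_mul, Subgroup.coe_mul, Subgroup.coe_inv, Subgroup.coe_pow]
    rfl
  have hrel : ∀ rr ∈ RL, relEl xP (tE r) rr.1 ^ rr.2 = 1 := by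
    intro rr hrr
    have h3 : relEl xE (φ yE) rr.1 ^ rr.2 = 1 := by
      have : relEl xE (φ yE) rr.1 = φ (relEl xE yE rr.1) := by
        have := map_relEl φ.toMonoidHom xE yE rr.1
        rw [MulEquiv.coe_toMonoidHom, hx] at this
        exact this.symm
      rw [this, ← map_pow, rel_y rr hrr, map_one]
    have h4 := pow_conj_one (xE ^ j) _ rr.2 h3
    rw [relEl_conj] at h4
    have h5 := congrArg Subtype.val h4
    rw [Subgroup.coe_pow, coe_relEl, hval, hact] at h5
    exact h5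
  have hf := filt_chk0 r hr
  unfold filtOK at hf
  rw [Bool.or_eq_true] at hf
  rcases hf with hf | hf
  swap
  · exact (not_rels_of_wit xP (tE r) r _ acts_xpow (pathEl_apply (path r)) RL hRL hf hrel).elim
  · have hrIY : r = IY := Nat.eq_of_beq_eq_true hf
    rw [hrIY, tE_IY] at hact
    refine ⟨j, hj, ?_⟩
    have e2 : (xE ^ j)⁻¹ * φ yE * xE ^ j = yE := by
      apply Subtype.ext
      rw [hval, hact]
      rfl
    have e3 : φ yE = xE ^ j * ((xE ^ j)⁻¹ * φ yE * xE ^ j) * (xE ^ j)⁻¹ := by group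
    rw [e2] at e3
    exact e3

/-! ### Generation -/

theorem closure_xy : Subgroup.closure ({xE, yE} : Set ↥G2058) = ⊤ := by
  have h := Subgroup.closure_closure_coe_preimage (k := ({xP, yP} : Set Pm))
  have hG : Subgroup.closure ({xP, yP} : Set Pm) = G2058 := Gxy_eq
  rw [eq_top_iff]
  intro g _
  have hg : g.val ∈ Gxy := G2058_le g.2
  unfold Gxy at hg
  have key : ∀ p : Pm, p ∈ Subgroup.closure ({xP, yP} : Set Pm) → ∀ hp : p ∈ G2058,
      (⟨p, hp⟩ : ↥G2058) ∈ Subgroup.closure ({xE, yE} : Set ↥G2058) := by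
    intro p hp
    induction hp using Subgroup.closure_induction with
    | mem x hx =>
      intro hp
      apply Subgroup.subset_closure
      rcases hx with rfl | hx
      · left; rfl
      · right
        rw [Set.mem_singleton_iff] at hx ⊢
        exact Subtype.ext hx
    | one =>
      intro hp
      exact Subgroup.one_mem _
    | mul x y hx' hy' hx hy =>
      intro hp
      have hxm : x ∈ G2058 := Gxy_le hx'
      have hym : y ∈ G2058 := Gxy_le hy'
      have : (⟨x * y, hp⟩ : ↥G2058) = ⟨x, hxm⟩ * ⟨y, hym⟩ := rfl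
      rw [this]
      exact Subgroup.mul_mem _ (hx hxm) (hy hym)
    | inv x hx' hx =>
      intro hp
      have hxm : x ∈ G2058 := Gxy_le hx'
      have : (⟨x⁻¹, hp⟩ : ↥G2058) = (⟨x, hxm⟩ : ↥G2058)⁻¹ := rfl
      rw [this]
      exact Subgroup.inv_mem _ (hx hxm)
  exact key g.val hg g.2

theorem aut_ext {φ ψ : MulAut ↥G2058} (hx : φ xE = ψ xE) (hy : φ yE = ψ yE) : φ = ψ := by
  have key : φ.toMonoidHom = ψ.toMonoidHom := by
    apply MonoidHom.eq_of_eqOn_dense closure_xy
    rintro x (rfl | rfl)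
    · exact hx
    · exact hy
  exact MulEquiv.ext (fun x => DFunLike.congr_fun key x)

/-- an automorphism fixing `xE` is inner -/
theorem inner_of_fix (ψ : MulAut ↥G2058) (hx : ψ xE = xE) :
    ∃ j : ℕ, ψ = MulAut.conj (xE ^ j) := by
  obtain ⟨j, _, hy⟩ := image_fix ψ hx
  refine ⟨j, ?_⟩
  apply aut_ext
  · rw [hx, MulAut.conj_apply]
    have : Commute (xE ^ j) xE := (Commute.refl xE).pow_left j
    rw [this.eq]
    group
  · rw [hy, MulAut.conj_apply]

/-- no element conjugates `xE` to its cube -/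
theorem no_cube (g : ↥G2058) (hg : g * xE * g⁻¹ = xE ^ 3) : False :=
  no_conj_cube xE xE_pow17 xE_ne_one S2 10 card_S2_pow not_dvd_index_S2 exp_S2 g hg

end Cfsg.Agent.Helper29.HeAu
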