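import Mathlib
import Cfsg.Agent.Lib.Helper29.HeAuB
import Cfsg.Agent.Lib.Helper26.AutOuter

set_option autoImplicit false
set_option maxRecDepth 8000
open Cfsg

/-! The outer automorphism group of the Held group has order two: an outer automorphism is
obtained from a second family of generators satisfying the relations of the presentation. -/

namespace Cfsg.Agent.Helper29.HeAu

open Cfsg.Agent.Helper29.HSP (tg force force_eq allBelow allBelow_iff)
open Cfsg.Agent.Helper29.PW Cfsg.Agent.Helper29.HeM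
open Cfsg.Agent.Helper29.HeAuD Cfsg.Agent.Helper29.HeT
open Cfsg.Agent.Helper26
open Cfsg.Spor

/-! ### The second evaluation of the program -/

/-- the image of the involution -/
def tP : Pm := tE RS

theorem tP_mem : tP ∈ G2058 := pathEl_mem _

theorem tau_base : CL3.getD 0 0 = XP 3 ∧
    ∀ p < 2058, tg (CL3.getD 1 0) 12 p = pathApp (path RS) p := by
  have h := tau_base_chk
  unfold tauBaseOK at h
  rw [Bool.and_eq_true, allBelow_iff] at h
  exact ⟨Nat.eq_of_beq_eq_true h.1, fun p hp => Nat.eq_of_beq_eq_true (h.2 p hp)⟩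

theorem acts_tP : Acts 2058 tP (CL3.getD 1 0) := by
  intro u
  show (pathEl (path RS) u).val = _
  rw [pathEl_apply, tau_base.2 u.val u.2]

/-- the two base elements of the second evaluation -/
def base3 (l : ℕ) : Pm := if l = 0 then xP ^ 3 else tP

/-- the elements of the second evaluation -/
def el3 (l : ℕ) : Pm := elF WL2 base3 2 6 l

theorem el3_spec (l : ℕ) (hl : l < 8) : Acts 2058 (el3 l) (CL3.getD l 0) ∧ el3 l ∈ G2058 := by
  have h0 : ∀ l < 2, Acts 2058 (base3 l) (CL3.getD l 0) ∧ base3 l ∈ G2058 := by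
    intro l hl
    interval_cases l
    · refine ⟨?_, xpow_mem 3⟩
      rw [tau_base.1]
      exact acts_xpow 3 (by norm_num)
    · exact ⟨acts_tP, tP_mem⟩
  exact elF_spec G2058 h0 6 slp3_chk 6 le_rfl l (by omega)

/-- the images of the generators -/
def gi (k : ℕ) : Pm := ((WG.getD k []).map el3).prod

theorem gi_mem (k : ℕ) (hk : k < 7) : gi k ∈ G2058 := by
  apply Subgroup.list_prod_mem
  intro x hx
  obtain ⟨l, hl, rfl⟩ := List.mem_map.1 hx
  exact (el3_spec l (wg_letters k hk l hl)).2

theorem acts_gi (k : ℕ) (hk : k < 7) : Acts 2058 (gi k) (PCI.getD k 0) := by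
  have h := wgi_chk k hk
  intro u
  show (((WG.getD k []).map el3).prod u).val = _
  rw [prod_apply_of CL3 el3 _ (fun l hl => (el3_spec l (wg_letters k hk l hl)).1) u]
  unfold reprL at h
  rw [Bool.and_eq_true, allBelow_iff] at h
  exact (Nat.eq_of_beq_eq_true (h.2 u.val u.2)).symm

/-- the permutation of a word in the images -/
def evalWi (w : List ℕ) : Pm := (w.map gi).prod

theorem evalWi_eq (w v : List ℕ) (hw : ∀ l ∈ w, l < 7) (hv : ∀ l ∈ v, l < 7)
    (h : weqL 2058 PCI w v = true) : evalWi w = evalWi v :=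
  prod_eq_of_weqL PCI gi w v (fun l hl => acts_gi l (hw l hl)) (fun l hl => acts_gi l (hv l hl)) h

/-! ### The relators -/

/-- the image of a generator -/
def gmap2 (x : He.Gen) : Pm := gi (gidx x)

theorem evalWi_relW (i j m : ℕ) : evalWi (relW i j m) = (gi i * gi j) ^ m := by
  induction m with
  | zero => rfl
  | succ m ih =>
    show ((i :: j :: relW i j m).map gi).prod = _
    rw [List.map_cons, List.map_cons, List.prod_cons, List.prod_cons, pow_succ', ← mul_assoc]
    congr 1

theorem cox_rel2 (x y : He.Gen) : (gmap2 x * gmap2 y) ^ coxLabel He.edges x y = 1 := by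
  rw [lab_eq]
  unfold gmap2
  rw [← evalWi_relW]
  have h := evalWi_eq _ [] (relW_letters _ _ (gidx_lt x) (gidx_lt y) _) (by intro l hl; cases hl)
    (cox_chk2 _ (gidx_lt x) _ (gidx_lt y))
  rw [h]
  rfl

theorem extra1b : gi 4 = (gi 5 * gi 6) ^ 2 := by
  have h := evalWi_eq [4] [5, 6, 5, 6] (by decide) (by decide) extra_chk2.1
  simp only [evalWi, List.map_cons, List.map_nil, List.prod_cons, List.prod_nil, mul_one] at h
  rw [h, pow_two]
  simp only [mul_assoc]

theorem extra2b : gi 4 = (gi 0 * gi 1 * gi 2) ^ 3 := by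
  have h := evalWi_eq [4] [0, 1, 2, 0, 1, 2, 0, 1, 2] (by decide) (by decide) extra_chk2.2.1
  simp only [evalWi, List.map_cons, List.map_nil, List.prod_cons, List.prod_nil, mul_one] at h
  rw [h, pow_succ, pow_two]
  simp only [mul_assoc]

theorem extra3b : gi 0 = (gi 2 * gi 3) ^ 5 := by
  have h := evalWi_eq [0] [2, 3, 2, 3, 2, 3, 2, 3, 2, 3] (by decide) (by decide)
    extra_chk2.2.2.1
  simp only [evalWi, List.map_cons, List.map_nil, List.prod_cons, List.prod_nil, mul_one] at h
  rw [h, pow_succ, pow_succ, pow_succ, pow_two]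
  simp only [mul_assoc]

theorem extra4b : (gi 2 * gi 3 * gi 5 * gi 6) ^ 4 = 1 := by
  have h := evalWi_eq [2, 3, 5, 6, 2, 3, 5, 6, 2, 3, 5, 6, 2, 3, 5, 6] [] (by decide)
    (by decide) extra_chk2.2.2.2
  simp only [evalWi, List.map_cons, List.map_nil, List.prod_cons, List.prod_nil, mul_one] at h
  rw [pow_succ, pow_succ, pow_two]
  simp only [mul_assoc]
  exact h

theorem rels_hold2 : ∀ r ∈ coxRelators He.edges ∪ {r | r ∈ He.extra},
    FreeGroup.lift gmap2 r = 1 := by
  intro r hr
  rcases hr with hr | hr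
  · obtain ⟨x, _, y, _, rfl⟩ := hr
    rw [map_pow, map_mul, FreeGroup.lift_apply_of, FreeGroup.lift_apply_of]
    exact cox_rel2 x y
  · have hr' : r ∈ He.extra := hr
    unfold He.extra at hr'
    simp only [List.mem_cons, List.not_mem_nil, or_false] at hr'
    rcases hr' with rfl | rfl | rfl | rfl
    · simp only [map_mul, map_inv, map_pow, FreeGroup.lift_apply_of]
      show gi 4 * ((gi 5 * gi 6) ^ 2)⁻¹ = 1
      rw [← extra1b, mul_inv_cancel]
    · simp only [map_mul, map_inv, map_pow, FreeGroup.lift_apply_of]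
      show gi 4 * ((gi 0 * gi 1 * gi 2) ^ 3)⁻¹ = 1
      rw [← extra2b, mul_inv_cancel]
    · simp only [map_mul, map_inv, map_pow, FreeGroup.lift_apply_of]
      show gi 0 * ((gi 2 * gi 3) ^ 5)⁻¹ = 1
      rw [← extra3b, mul_inv_cancel]
    · simp only [map_mul, map_pow, FreeGroup.lift_apply_of]
      exact extra4b

/-- the second action of the presented group -/
def rho2 : He →* Pm := PresentedGroup.toGroup rels_hold2

theorem rho2_of (x : He.Gen) : rho2 (PresentedGroup.of x) = gmap2 x := PresentedGroup.toGroup.of _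

theorem rho2_mem (h : He) : rho2 h ∈ G2058 := by
  have hle : rho2.range ≤ G2058 := by
    rw [MonoidHom.range_eq_map, ← PresentedGroup.closure_range_of, MonoidHom.map_closure,
      Subgroup.closure_le]
    rintro _ ⟨_, ⟨x, rfl⟩, rfl⟩
    rw [SetLike.mem_coe, rho2_of]
    exact gi_mem _ (gidx_lt x)
  exact hle ⟨h, rfl⟩

/-- the second action, into the group -/
def rho2G : He →* ↥G2058 := rho2.codRestrict G2058 rho2_mem

/-! ### The outer automorphism -/

/-- the isomorphism of the presented group with the permutation group -/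
noncomputable def heEquiv : He ≃* ↥G2058 :=
  (MonoidHom.ofInjective rho_injective).trans (MulEquiv.subgroupCongr range_rho)

theorem heEquiv_val (h : He) : (heEquiv h).val = rho h := rfl

/-- the endomorphism -/
noncomputable def tauHom : ↥G2058 →* ↥G2058 := rho2G.comp heEquiv.symm.toMonoidHom

/-- the generators in the group -/
def gE (k : ℕ) : ↥G2058 := if h : k < 7 then ⟨gp k, gp_mem k h⟩ else 1

/-- the images of the generators in the group -/
def giE (k : ℕ) : ↥G2058 := if h : k < 7 then ⟨gi k, gi_mem k h⟩ else 1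

theorem gE_val (k : ℕ) (hk : k < 7) : (gE k).val = gp k := by
  unfold gE
  rw [dif_pos hk]

theorem giE_val (k : ℕ) (hk : k < 7) : (giE k).val = gi k := by
  unfold giE
  rw [dif_pos hk]

theorem tauHom_gE (k : ℕ) (hk : k < 7) : tauHom (gE k) = giE k := by
  have hx : ∃ x : He.Gen, gidx x = k := by
    interval_cases k
    · exact ⟨.a, rfl⟩
    · exact ⟨.b, rfl⟩
    · exact ⟨.c, rfl⟩
    · exact ⟨.d, rfl⟩
    · exact ⟨.e, rfl⟩
    · exact ⟨.f, rfl⟩
    · exact ⟨.g, rfl⟩
  obtain ⟨x, rfl⟩ := hx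
  have e : heEquiv (PresentedGroup.of x) = gE (gidx x) := by
    apply Subtype.ext
    rw [heEquiv_val, rho_of, gE_val _ hk]
    rfl
  have e2 : heEquiv.symm (gE (gidx x)) = PresentedGroup.of x := by
    rw [← e, MulEquiv.symm_apply_apply]
  show rho2G (heEquiv.symm (gE (gidx x))) = _
  rw [e2]
  apply Subtype.ext
  rw [giE_val _ hk]
  exact rho2_of x

instance simple_G2058 : IsSimpleGroup ↥G2058 :=
  haveI : IsSimpleGroup He := Cfsg.Agent.S1695.result.1
  heEquiv.symm.isSimpleGroup

theorem gi0_ne_one : gi 0 ≠ 1 := ne_one_of_moved (acts_gi 0 (by norm_num)) pci0_moved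

theorem tauHom_injective : Function.Injective tauHom := by
  rw [← MonoidHom.ker_eq_bot_iff]
  rcases (MonoidHom.normal_ker tauHom).eq_bot_or_eq_top with h | h
  · exact h
  · exfalso
    have hm : gE 0 ∈ tauHom.ker := by rw [h]; exact Subgroup.mem_top _
    rw [MonoidHom.mem_ker, tauHom_gE 0 (by norm_num)] at hm
    have := congrArg Subtype.val hm
    rw [giE_val 0 (by norm_num)] at this
    exact gi0_ne_one this

theorem tauHom_bijective : Function.Bijective tauHom :=
  haveI := finite_G2058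
  ⟨tauHom_injective, Finite.injective_iff_surjective.1 tauHom_injective⟩

/-- the outer automorphism -/
noncomputable def tau : MulAut ↥G2058 := MulEquiv.ofBijective tauHom tauHom_bijective

theorem tau_apply (g : ↥G2058) : tau g = tauHom g := rfl

theorem xE_eq : xE = gE 1 * gE 2 * gE 3 * gE 5 := by
  apply Subtype.ext
  rw [Subgroup.coe_mul, Subgroup.coe_mul, Subgroup.coe_mul, gE_val 1 (by norm_num),
    gE_val 2 (by norm_num), gE_val 3 (by norm_num), gE_val 5 (by norm_num)]
  show evalW [1, 2, 3, 5] = _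
  simp only [evalW, List.map_cons, List.map_nil, List.prod_cons, List.prod_nil, mul_one,
    mul_assoc]

theorem tau_xE : tau xE = xE ^ 3 := by
  rw [tau_apply, xE_eq, map_mul, map_mul, map_mul, tauHom_gE 1 (by norm_num),
    tauHom_gE 2 (by norm_num), tauHom_gE 3 (by norm_num), tauHom_gE 5 (by norm_num), ← xE_eq]
  apply Subtype.ext
  rw [Subgroup.coe_mul, Subgroup.coe_mul, Subgroup.coe_mul, giE_val 1 (by norm_num),
    giE_val 2 (by norm_num), giE_val 3 (by norm_num), giE_val 5 (by norm_num), Subgroup.coe_pow]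
  have e : gi 1 * gi 2 * gi 3 * gi 5 = evalWi [1, 2, 3, 5] := by
    simp only [evalWi, List.map_cons, List.map_nil, List.prod_cons, List.prod_nil, mul_one,
      mul_assoc]
  rw [e]
  apply eq_of_acts _ (acts_xpow 3 (by norm_num))
  intro u
  show ((([1, 2, 3, 5] : List ℕ).map gi).prod u).val = _
  rw [prod_apply_of PCI gi _ (fun l hl => acts_gi l (by
    simp only [List.mem_cons, List.not_mem_nil, or_false] at hl
    omega)) u]
  have h := tau_x_chk
  unfold tauXOK at h
  rw [allBelow_iff] at h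
  exact Nat.eq_of_beq_eq_true (h u.val u.2)

theorem tau_not_inner : ¬ ∃ g : ↥G2058, tau = MulAut.conj g := by
  rintro ⟨g, hg⟩
  have h := tau_xE
  rw [hg, MulAut.conj_apply] at h
  exact no_cube g h

/-! ### Every automorphism is inner or inner times the outer automorphism -/

theorem tau_conj (a : ↥G2058) : tau * MulAut.conj a * tau⁻¹ = MulAut.conj (tau a) := by
  apply MulEquiv.ext
  intro y
  simp only [MulAut.mul_apply, MulAut.conj_apply, map_mul, map_inv, MulAut.apply_inv_self]

theorem aut_cases (φ : MulAut ↥G2058) :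
    (∃ g : ↥G2058, φ = MulAut.conj g) ∨ ∃ g : ↥G2058, φ * tau⁻¹ = MulAut.conj g := by
  obtain ⟨g1, hx⟩ := stepA φ
  obtain ⟨ψ, hψ⟩ : ∃ ψ : MulAut ↥G2058, ψ = MulAut.conj g1 * φ := ⟨_, rfl⟩
  rw [← hψ] at hx
  have hφ : φ = MulAut.conj g1⁻¹ * ψ := by
    rw [hψ, map_inv]
    group
  rcases hx with hx | hx
  · left
    obtain ⟨j, hj⟩ := inner_of_fix ψ hx
    exact ⟨g1⁻¹ * xE ^ j, by rw [hφ, hj, map_mul]⟩
  · right
    have hx' : (tau⁻¹ * ψ) xE = xE := by
      rw [MulAut.mul_apply, hx, ← tau_xE, MulAut.inv_apply_self]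
    obtain ⟨j, hj⟩ := inner_of_fix _ hx'
    have hψ2 : ψ = tau * MulAut.conj (xE ^ j) := by
      rw [← hj]
      group
    refine ⟨g1⁻¹ * tau (xE ^ j), ?_⟩
    rw [hφ, hψ2, map_mul, ← tau_conj]
    group

theorem card_Out_G2058 : Nat.card (Cfsg.Out ↥G2058) = 2 := by
  apply AutOuter.card_Out_eq_two tau⁻¹
  · rintro ⟨g, hg⟩
    apply tau_not_inner
    refine ⟨g⁻¹, ?_⟩
    rw [map_inv, ← hg, inv_inv]
  · exact aut_cases

/-! ### Transport to the Held group -/

theorem card_Out_congr_He {Γ Δ : Type*} [Group Γ] [Group Δ] (e : Γ ≃* Δ) :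
    Nat.card (Cfsg.Out Γ) = Nat.card (Cfsg.Out Δ) := by
  have hmap : (Cfsg.Inn Γ).map (MulAut.congr e).toMonoidHom = Cfsg.Inn Δ := by
    ext ψ
    constructor
    · rintro ⟨φ, ⟨g, rfl⟩, rfl⟩
      refine ⟨e g, ?_⟩
      ext x
      simp [MulAut.congr, MulAut.conj_apply]
    · rintro ⟨d, rfl⟩
      refine ⟨MulAut.conj (e.symm d), ⟨e.symm d, rfl⟩, ?_⟩
      ext x
      simp [MulAut.congr, MulAut.conj_apply]
  exact Nat.card_congr
    (QuotientGroup.congr (Cfsg.Inn Γ) (Cfsg.Inn Δ) (MulAut.congr e) hmap).toEquiv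

/-- **The outer automorphism group of the Held group has order two.** -/
theorem card_Out_He : Nat.card (Cfsg.Out Cfsg.Spor.He) = 2 := by
  rw [← card_Out_congr_He heEquiv.symm]
  exact card_Out_G2058

end Cfsg.Agent.Helper29.HeAu
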