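import Mathlib
import Cfsg.Agent.Lib.Helper29.HeTwoA
import Cfsg.Agent.Lib.Helper29.HeMulD
import Cfsg.Agent.Lib.Helper22.DedV

set_option autoImplicit false
open Cfsg

/-! The two-part of the Schur multiplier of the Held group: the table of the Sylow 2-subgroup on a
polycyclic generating sequence, with tails, and the check functions. -/

namespace Cfsg.Agent.Helper29.HeMu

open Cfsg.Agent.Helper29.HSP (tg force force_eq allBelow allBelow_iff)
open Cfsg.Agent.Helper29.PW Cfsg.Agent.Helper29.HeM
open Cfsg.Agent.Helper29.HeMD Cfsg.Agent.Helper29.DedCheck
open Cfsg.Agent.Helper29.HeT (allR allR_iff)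

/-- the table: ten polycyclic generators and their inverses -/
def D : Tab where
  n := 1024
  k := 20
  b := 10
  inv := fun c => if c < 10 then c + 10 else c - 10
  cols := tcols
  par := fun i => tg parP 10 i
  pcol := fun i => tg pcolP 5 i

/-- the table with tails -/
def V : VT where
  D := D
  m := 55
  vcols := vcols

/-- the rotations of a word -/
def rots (w : List ℕ) : List (List ℕ) := (List.range w.length).map fun r => w.drop r ++ w.take r

/-- the inverse word -/
def winv (w : List ℕ) : List ℕ := w.reverse.map D.inv

/-- the relators obtained from one relator -/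
def relsOf (rid : ℕ) (w : List ℕ) : List (ℕ × List ℕ) :=
  (rots w ++ rots (winv w)).map fun r => (rid, r)

/-- the relator with index `j` -/
def bw (j : ℕ) : List ℕ := baseRels.getD j []

/-- all relators -/
def rels : List (ℕ × List ℕ) := (List.range 55).flatMap fun j => relsOf j (bw j)

/-- the log -/
def dlog : List (ℕ × ℕ × ℕ) := logN.map fun x => (x % 20, (x / 20) % 1024, x / (20 * 1024))

/-- the word of a column in the four involutions of the old table -/
def PW (c : ℕ) : List ℕ := PWL.getD c []

/-- the node of the old table equal to a node of the new table -/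
def pi (i : ℕ) : ℕ := tg piP 10 i

/-- the inverse correspondence -/
def piInv (i : ℕ) : ℕ := tg piInvP 10 i

/-- the codes of the second straight-line program -/
def CL2 : List ℕ := HeXD.CL ++ CLN

/-- the letter of a fusion element -/
def GI (g : ℕ) : ℕ := GIL.getD g 0

/-- the code of a fusion element -/
def GC (g : ℕ) : ℕ := CL2.getD (GI g) 0

/-- the first word of a power fact -/
def PU (s : ℕ) : List ℕ := (powF.getD s (0, [], [])).2.1
/-- the second word of a power fact -/
def PV (s : ℕ) : List ℕ := (powF.getD s (0, [], [])).2.2
/-- the conjugating element of a power fact -/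
def PG (s : ℕ) : ℕ := (powF.getD s (0, [], [])).1

/-- the tail change of a word under the new choice of lifts -/
def fx (w : List ℕ) : ℕ := w.foldr (fun c acc => Nat.xor (McL.getD (c % 10) 0) acc) 0

/-- the sum of a list of facts -/
def fxf (l : List ℕ) : ℕ := l.foldr (fun t acc => Nat.xor (factMasks.getD t 0) acc) 0

end Cfsg.Agent.Helper29.HeMu
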