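import Mathlib
import Cfsg.Agent.Lib.Helper29.HeMulDefs

set_option autoImplicit false
open Cfsg

/-! Kernel check of the deduction log with tails for the Sylow 2-subgroup of the Held group. -/

namespace Cfsg.Agent.Helper29.HeMu

open Cfsg.Agent.Helper29.HeMD Cfsg.Agent.Helper29.DedCheck

set_option maxRecDepth 1000000 in
theorem check_lit : V.check relsLit dlog = true := by decide +kernel

end Cfsg.Agent.Helper29.HeMu
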