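import Mathlib
import Cfsg.Agent.Lib.Helper29.HeMulDefs

set_option autoImplicit false
open Cfsg

/-! Kernel checks for the two-part of the Schur multiplier of the Held group: the straight-line
program of the fusion elements. -/

namespace Cfsg.Agent.Helper29.HeMu

open Cfsg.Agent.Helper29.PW Cfsg.Agent.Helper29.HeMD

set_option maxRecDepth 1000000 in
theorem slp2_chk : ∀ j < 63, slpOK 2058 CL2 WL2 85 j = true := by decide +kernel

set_option maxRecDepth 1000000 in
theorem base_codes2 : ∀ l < 85, CL2.getD l 0 = HeXD.CL.getD l 0 := by decide +kernel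

end Cfsg.Agent.Helper29.HeMu
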