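import Mathlib
import Cfsg.Agent.Lib.Helper29.HeMulChkA
import Cfsg.Agent.Lib.Helper29.HeMulChkB
import Cfsg.Agent.Lib.Helper29.HeMulChkW

set_option autoImplicit false
open Cfsg

/-! The Sylow 2-subgroup of the explicit Held group on a polycyclic generating sequence:
the table with tails holds in the group, and its nodes are the nodes of the old table. -/

namespace Cfsg.Agent.Helper29.HeMu

open Cfsg.Agent.Helper29.HSP (tg force force_eq allBelow allBelow_iff)
open Cfsg.Agent.Helper29.PW Cfsg.Agent.Helper29.HeM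
open Cfsg.Agent.Helper29.HeMD Cfsg.Agent.Helper29.DedCheck
open Cfsg.Agent.Helper29.HeT (allR allR_iff)

theorem check_ok : V.check rels dlog = true := by
  rw [← rels_eq]
  exact check_lit

theorem rels_k : ∀ r ∈ rels, ∀ y ∈ r.2, y < 20 := by
  rw [← rels_eq]
  exact rels_k_lit

/-! ### The generators -/

/-- the generators of the Sylow subgroup and their inverses -/
def xg (c : ℕ) : ↥G2058 := ((PW c).map HeT.xg).prod

theorem PWL_len : PWL.length = 20 := by decide

theorem xg_ge (c : ℕ) (hc : 20 ≤ c) : xg c = 1 := by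
  unfold xg PW
  rw [List.getD_eq_default _ _ (by rw [PWL_len]; exact hc)]
  rfl

theorem prod_flatMap (w : List ℕ) :
    (w.map xg).prod = ((w.flatMap PW).map HeT.xg).prod := by
  induction w with
  | nil => rfl
  | cons c t ih =>
    rw [List.map_cons, List.prod_cons, List.flatMap_cons, List.map_append, List.prod_append, ih]
    rfl

theorem flatMap_lt (w : List ℕ) (hw : ∀ y ∈ w, y < 20) : ∀ y ∈ w.flatMap PW, y < HeT.D.k := by
  intro y hy
  obtain ⟨c, hc, hy2⟩ := List.mem_flatMap.1 hy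
  exact (pw_chk c (hw c hc)).2.1 y hy2

theorem xg_inv (c : ℕ) (hc : c < D.k) : xg (D.inv c) = (xg c)⁻¹ := by
  have hc' : c < 20 := hc
  obtain ⟨h1, h2, h3, _, _⟩ := pw_chk c hc'
  apply eq_inv_of_mul_eq_one_right
  have h4 : ∀ y ∈ PW c ++ PW (D.inv c), y < HeT.D.k := by
    intro y hy
    rcases List.mem_append.1 hy with h | h
    · exact h2 y h
    · exact (pw_chk _ h3).2.1 y h
  have h5 := HeT.D.prod_eq_one_of_walk HeT.xg HeT.tabM (by decide) _ h4 h1
  rw [List.map_append, List.prod_append] at h5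
  exact h5

theorem hinvk : ∀ c < D.k, D.inv c < D.k := fun c hc => (pw_chk c hc).2.2.1

theorem rel_xg : ∀ r ∈ rels, (r.2.map xg).prod = 1 := by
  intro r hr
  rw [prod_flatMap]
  have hr' : r ∈ relsLit := by rw [rels_eq]; exact hr
  exact HeT.D.prod_eq_one_of_walk HeT.xg HeT.tabM (by decide) _
    (flatMap_lt _ (rels_k r hr)) (rel_chk r hr')

theorem evn_one {Γ : Type*} [Group Γ] (mask j : ℕ) : VT.evn (fun _ => (1 : Γ)) mask j = 1 := by
  induction j with
  | zero => rfl
  | succ j ih =>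
    rw [VT.evn, ih]
    simp

/-- the table holds in the group -/
theorem tabM : ∀ c < D.k, ∀ i < D.n, D.tget c i < D.n ∧
    xg c * D.node xg i = D.node xg (D.tget c i) := by
  have htab := V.table_of_check xg (fun _ => (1 : ↥G2058)) rels dlog check_ok
    (fun _ g => by rw [mul_one, one_mul]) (fun _ => one_mul 1) xg_inv rel_xg rels_k
  intro c hc i hi
  obtain ⟨h1, h2⟩ := htab c hc i hi
  refine ⟨h1, ?_⟩
  have h2' : xg c * D.node xg i =
      D.node xg (D.tget c i) * VT.evn (fun _ => (1 : ↥G2058)) (V.vget c i) V.m := h2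
  rw [h2', evn_one, mul_one]

/-! ### The nodes -/

theorem pi_chk (i : ℕ) (hi : i < 1024) (h0 : 0 < i) : D.par i < i ∧ D.pcol i < 20 ∧
    HeT.D.walkT (PW (D.pcol i)) (pi (D.par i)) = pi i := by
  have h := (allBelow_iff _ _).1 pi_chk0 i hi
  rw [Bool.or_eq_true] at h
  rcases h with h | h
  · have := Nat.eq_of_beq_eq_true h
    omega
  · rw [Bool.and_eq_true, Bool.and_eq_true] at h
    exact ⟨Eq.mp Nat.blt_eq h.1.1, Eq.mp Nat.blt_eq h.1.2, Nat.eq_of_beq_eq_true h.2⟩

theorem pi_lt (i : ℕ) (hi : i < 1024) : pi i < 1024 ∧ piInv (pi i) = i ∧ piInv i < 1024 ∧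
    pi (piInv i) = i := by
  have h := (allBelow_iff _ _).1 pi_chk1 i hi
  rw [Bool.and_eq_true, Bool.and_eq_true, Bool.and_eq_true] at h
  exact ⟨Eq.mp Nat.blt_eq h.1.1.1, Nat.eq_of_beq_eq_true h.1.1.2, Eq.mp Nat.blt_eq h.1.2,
    Nat.eq_of_beq_eq_true h.2⟩

/-- the nodes of the new table are nodes of the old table -/
theorem node_eq (i : ℕ) (hi : i < 1024) : D.node xg i = HeT.D.node HeT.xg (pi i) := by
  induction i using Nat.strong_induction_on with
  | _ i ih =>
    rcases Nat.eq_zero_or_pos i with h0 | h0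
    · subst h0
      rw [D.node_zero, pi_zero, HeT.D.node_zero]
    · obtain ⟨h1, h2, h3⟩ := pi_chk i hi h0
      rw [D.node_of_lt xg h0 h1, ih _ h1 (by omega)]
      have h4 := (HeT.D.prod_mul_node HeT.xg HeT.tabM (PW (D.pcol i))
        (pw_chk _ h2).2.1 (pi (D.par i)) (pi_lt _ (by omega)).1).2
      rw [h3] at h4
      exact h4

theorem node_inj (i j : ℕ) (hi : i < 1024) (hj : j < 1024) (h : D.node xg i = D.node xg j) :
    i = j := by
  rw [node_eq i hi, node_eq j hj] at h
  have h2 := HeT.node_inj _ _ (pi_lt i hi).1 (pi_lt j hj).1 h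
  rw [← (pi_lt i hi).2.1, ← (pi_lt j hj).2.1, h2]

theorem node_ne_one (i : ℕ) (hi : i < 1024) (h0 : i ≠ 0) : D.node xg i ≠ 1 := by
  intro h
  apply h0
  apply node_inj i 0 hi (by norm_num)
  rw [h, D.node_zero]

/-- every element of the Sylow subgroup is a node of the new table -/
theorem exists_node (g : ↥G2058) (hg : g ∈ HeT.S2) : ∃ i < 1024, g = D.node xg i := by
  obtain ⟨j, hj, e⟩ := HeT.exists_node g hg
  refine ⟨piInv j, (pi_lt j hj).2.2.1, ?_⟩
  rw [node_eq _ (pi_lt j hj).2.2.1, (pi_lt j hj).2.2.2]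
  exact e

theorem acts_node (i : ℕ) (hi : i < 1024) : Acts 2058 (D.node xg i).val (HeT.NC (pi i)) := by
  rw [node_eq i hi]
  exact HeT.acts_node _ (pi_lt i hi).1

/-- the product of a word is a node -/
theorem prod_eq_node (w : List ℕ) (hw : ∀ y ∈ w, y < 20) :
    D.walkT w 0 < 1024 ∧ (w.map xg).prod = D.node xg (D.walkT w 0) := by
  have h := D.prod_mul_node xg tabM w hw 0 (by decide)
  rw [D.node_zero, mul_one] at h
  exact h

/-! ### The fusion elements -/

/-- the elements of the second program -/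
def el2 (l : ℕ) : Equiv.Perm (Fin 2058) := elF WL2 HeT.el 85 63 l

theorem el2_spec (l : ℕ) (hl : l < 148) : Acts 2058 (el2 l) (CL2.getD l 0) ∧ el2 l ∈ G2058 := by
  have h0 : ∀ l < 85, Acts 2058 (HeT.el l) (CL2.getD l 0) ∧ HeT.el l ∈ G2058 := by
    intro l hl
    rw [base_codes2 l hl]
    exact HeT.el_spec l hl
  exact elF_spec G2058 h0 63 slp2_chk 63 le_rfl l (by omega)

/-- the fusion elements -/
def fg (g : ℕ) : ↥G2058 := if h : GI g < 148 then ⟨el2 (GI g), (el2_spec _ h).2⟩ else 1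

theorem acts_fg (g : ℕ) (hg : g < 12) : Acts 2058 (fg g).val (GC g) := by
  unfold fg
  rw [dif_pos (GI_lt g hg)]
  exact (el2_spec _ (GI_lt g hg)).1

/-- the conjugation underlying a power fact -/
theorem conj_pow (s : ℕ) (hs : s < 12) :
    fg (PG s) * ((PU s).map xg).prod * (fg (PG s))⁻¹ = ((PV s).map xg).prod := by
  obtain ⟨c1, c2, c3, _, _, _, _, _, c9, c10, c11⟩ := pow_chk s hs
  have hU : ∀ y ∈ PU s, y < 20 := fun y hy => c2 y (List.mem_append_left _ hy)
  have hV : ∀ y ∈ PV s, y < 20 := fun y hy => c3 y (List.mem_append_left _ hy)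
  obtain ⟨hu1, hu2⟩ := prod_eq_node (PU s) hU
  obtain ⟨hv1, hv2⟩ := prod_eq_node (PV s) hV
  rw [mul_inv_eq_iff_eq_mul, hu2, hv2]
  apply Subtype.ext
  rw [Subgroup.coe_mul, Subgroup.coe_mul]
  apply Equiv.ext
  intro u
  apply Fin.ext
  have hg := acts_fg (PG s) c1
  have ha := acts_node _ hu1
  have hb := acts_node _ hv1
  rw [Equiv.Perm.mul_apply, Equiv.Perm.mul_apply, hg, ha, hb, hg]
  exact c11 u.val u.2

end Cfsg.Agent.Helper29.HeMu
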