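import Mathlib
import Cfsg.Agent.Lib.Helper29.HeOddA

set_option autoImplicit false
open Cfsg

/-! Relations between the elements of the straight-line program (generated). -/

namespace Cfsg.Agent.Helper29.HeOd

open Cfsg.Agent.Helper29.PW Cfsg.Agent.Helper29.HeOD

set_option maxRecDepth 100000 in
theorem rel_0 : ([15, 23].map eg).prod = (([] : List ℕ).map eg).prod :=
  weq_prod _ _ (by decide) (by decide) (by decide +kernel)

set_option maxRecDepth 100000 in
theorem rel_1 : ([16, 24].map eg).prod = (([] : List ℕ).map eg).prod :=
  weq_prod _ _ (by decide) (by decide) (by decide +kernel)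

set_option maxRecDepth 100000 in
theorem rel_2 : ([15, 15, 15].map eg).prod = (([] : List ℕ).map eg).prod :=
  weq_prod _ _ (by decide) (by decide) (by decide +kernel)

set_option maxRecDepth 100000 in
theorem rel_3 : ([16, 16, 16].map eg).prod = (([] : List ℕ).map eg).prod :=
  weq_prod _ _ (by decide) (by decide) (by decide +kernel)

set_option maxRecDepth 100000 in
theorem rel_4 : ([15, 15, 16, 23, 24].map eg).prod = (([15, 16, 23, 24, 15] : List ℕ).map eg).prod :=
  weq_prod _ _ (by decide) (by decide) (by decide +kernel)

set_option maxRecDepth 100000 in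
theorem rel_5 : ([16, 15, 16, 23, 24].map eg).prod = (([15, 16, 23, 24, 16] : List ℕ).map eg).prod :=
  weq_prod _ _ (by decide) (by decide) (by decide +kernel)

set_option maxRecDepth 100000 in
theorem rel_6 : ([17, 15].map eg).prod = (([23, 17] : List ℕ).map eg).prod :=
  weq_prod _ _ (by decide) (by decide) (by decide +kernel)

set_option maxRecDepth 100000 in
theorem rel_7 : ([17, 16].map eg).prod = (([24, 17] : List ℕ).map eg).prod :=
  weq_prod _ _ (by decide) (by decide) (by decide +kernel)

set_option maxRecDepth 100000 in
theorem rel_8 : ([18, 18, 18, 18, 18].map eg).prod = (([] : List ℕ).map eg).prod :=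
  weq_prod _ _ (by decide) (by decide) (by decide +kernel)

set_option maxRecDepth 100000 in
theorem rel_9 : ([19, 19, 19, 19, 19].map eg).prod = (([] : List ℕ).map eg).prod :=
  weq_prod _ _ (by decide) (by decide) (by decide +kernel)

set_option maxRecDepth 100000 in
theorem rel_10 : ([19, 25].map eg).prod = (([] : List ℕ).map eg).prod :=
  weq_prod _ _ (by decide) (by decide) (by decide +kernel)

set_option maxRecDepth 100000 in
theorem rel_11 : ([18, 19].map eg).prod = (([19, 18] : List ℕ).map eg).prod :=
  weq_prod _ _ (by decide) (by decide) (by decide +kernel)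

set_option maxRecDepth 100000 in
theorem rel_12 : ([13, 18].map eg).prod = (([18, 13] : List ℕ).map eg).prod :=
  weq_prod _ _ (by decide) (by decide) (by decide +kernel)

set_option maxRecDepth 100000 in
theorem rel_13 : ([13, 19].map eg).prod = (([25, 13] : List ℕ).map eg).prod :=
  weq_prod _ _ (by decide) (by decide) (by decide +kernel)

set_option maxRecDepth 100000 in
theorem rel_14 : ([20, 26].map eg).prod = (([] : List ℕ).map eg).prod :=
  weq_prod _ _ (by decide) (by decide) (by decide +kernel)

set_option maxRecDepth 100000 in
theorem rel_15 : ([21, 27].map eg).prod = (([] : List ℕ).map eg).prod :=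
  weq_prod _ _ (by decide) (by decide) (by decide +kernel)

set_option maxRecDepth 100000 in
theorem rel_16 : ([20, 20, 20, 20, 20, 20, 20].map eg).prod = (([] : List ℕ).map eg).prod :=
  weq_prod _ _ (by decide) (by decide) (by decide +kernel)

set_option maxRecDepth 100000 in
theorem rel_17 : ([21, 21, 21, 21, 21, 21, 21].map eg).prod = (([] : List ℕ).map eg).prod :=
  weq_prod _ _ (by decide) (by decide) (by decide +kernel)

set_option maxRecDepth 100000 in
theorem rel_18 : ([20, 20, 21, 26, 27].map eg).prod = (([20, 21, 26, 27, 20] : List ℕ).map eg).prod :=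
  weq_prod _ _ (by decide) (by decide) (by decide +kernel)

set_option maxRecDepth 100000 in
theorem rel_19 : ([21, 20, 21, 26, 27].map eg).prod = (([20, 21, 26, 27, 21] : List ℕ).map eg).prod :=
  weq_prod _ _ (by decide) (by decide) (by decide +kernel)

set_option maxRecDepth 100000 in
theorem rel_20 : ([22, 20].map eg).prod = (([20, 20, 20, 20, 22] : List ℕ).map eg).prod :=
  weq_prod _ _ (by decide) (by decide) (by decide +kernel)

set_option maxRecDepth 100000 in
theorem rel_21 : ([22, 21].map eg).prod = (([21, 21, 22] : List ℕ).map eg).prod :=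
  weq_prod _ _ (by decide) (by decide) (by decide +kernel)

end Cfsg.Agent.Helper29.HeOd
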