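import Mathlib
import Cfsg.Agent.Lib.Helper19.HeisLocal

/-! The local statement at a prime `p` whose Sylow subgroup is extraspecial of order `p ^ 3` and
exponent `p`, with a normalising element acting by powers on two generators (a generalisation of
the case of an inverting element), and the analogous statement for elementary abelian groups of
rank two. -/

set_option autoImplicit false
set_option linter.unusedSectionVars false
set_option linter.unusedVariables false
set_option linter.style.haveILetI false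
set_option linter.unusedSimpArgs false

namespace Cfsg.Agent.Helper29.StemOdd

open Cfsg.Agent.Helper29.StemSylow Cfsg.Agent.Helper29.StemSplit Cfsg.Agent.Helper29.StemRank
  Cfsg.Agent.Helper29.StemTwo
open scoped commutatorElement

variable {Γ G : Type*} [Group Γ] [Group G]

/-- powers in the second argument of a commutator commuting with that argument -/
theorem comm_pow_right_of_comm (a b : Γ) (h : b * ⁅a, b⁆ = ⁅a, b⁆ * b) (m : ℕ) :
    ⁅a, b ^ m⁆ = ⁅a, b⁆ ^ m := by
  have h' : b * ⁅b, a⁆ = ⁅b, a⁆ * b := by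
    rw [← commutatorElement_inv a b]
    exact ((show Commute b ⁅a, b⁆ from h).inv_right).eq
  rw [← commutatorElement_inv (b ^ m) a, comm_pow_left_of_comm b a h' m,
    ← commutatorElement_inv a b, inv_pow, inv_inv]

/-- the commutator of powers when the commutator commutes with both elements -/
theorem comm_pow_pow (x y : Γ) (hx : x * ⁅x, y⁆ = ⁅x, y⁆ * x) (hy : y * ⁅x, y⁆ = ⁅x, y⁆ * y)
    (a b : ℕ) : ⁅x ^ a, y ^ b⁆ = ⁅x, y⁆ ^ (a * b) := by
  have e1 : ⁅x, y ^ b⁆ = ⁅x, y⁆ ^ b := comm_pow_right_of_comm x y hy b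
  have e2 : ⁅x ^ a, y ^ b⁆ = ⁅x, y ^ b⁆ ^ a := by
    apply comm_pow_left_of_comm
    rw [e1]
    exact ((show Commute x ⁅x, y⁆ from hx).pow_right b).eq
  rw [e2, e1, ← pow_mul, mul_comm]

/-- an element whose powers with two coprime exponents are trivial is trivial -/
theorem eq_one_of_pow_coprime {κ : Γ} {u v : ℕ} (hu : κ ^ u = 1) (hv : κ ^ v = 1)
    (h : Nat.Coprime u v) : κ = 1 := by
  have h1 : orderOf κ ∣ u := orderOf_dvd_of_pow_eq_one hu
  have h2 : orderOf κ ∣ v := orderOf_dvd_of_pow_eq_one hv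
  have h3 : orderOf κ ∣ Nat.gcd u v := Nat.dvd_gcd h1 h2
  rw [h] at h3
  exact orderOf_eq_one_iff.1 (Nat.dvd_one.1 h3)

/-- a central commutator, of elements the first of which has a central `p`-th power, which is
fixed by an element acting by powers on both arguments with exponents `a` and `d` such that
`a * d - 1` is prime to `p`, is trivial -/
theorem comm_eq_one_of_pow (p a d : ℕ) (had : 1 ≤ a * d) (hcop : Nat.Coprime (a * d - 1) p)
    (x c n : Γ) (hxp : x ^ p ∈ Subgroup.center Γ)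
    (hκ : ⁅x, c⁆ ∈ Subgroup.center Γ) {μ₁ μ₃ : Γ} (hμ₁ : μ₁ ∈ Subgroup.center Γ)
    (hμ₃ : μ₃ ∈ Subgroup.center Γ) (hnx : n * x * n⁻¹ = x ^ a * μ₁)
    (hnc : n * c * n⁻¹ = c ^ d * μ₃) : ⁅x, c⁆ = 1 := by
  have cκ := central_comm' hκ
  have h1 : n * ⁅x, c⁆ * n⁻¹ = ⁅x, c⁆ := conj_central hκ n
  have h2 : n * ⁅x, c⁆ * n⁻¹ = ⁅x, c⁆ ^ (a * d) := by
    rw [conjugate_commutatorElement, hnx, hnc, comm_central_left (central_comm' hμ₁),
      comm_central_right (central_comm' hμ₃)]
    exact comm_pow_pow x c (cκ x) (cκ c) a d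
  have h3 : ⁅x, c⁆ ^ (a * d - 1) = 1 := by
    have e : ⁅x, c⁆ ^ (a * d - 1) * ⁅x, c⁆ = ⁅x, c⁆ := by
      rw [← pow_succ, Nat.sub_add_cancel had, ← h2, h1]
    exact mul_eq_right.1 e
  have hcm : ⁅x, c⁆ ^ p = 1 := by
    rw [← comm_pow_left_of_comm x c (cκ x), commutatorElement_def, ← central_comm' hxp c]
    group
  exact eq_one_of_pow_coprime h3 hcm hcop

/-- **Extraspecial groups of order `p ^ 3` and exponent `p`.** If `a`, `b` of order `p`
generate a group in which `⁅a, b⁆ ≠ 1` is central, and some element acts on them by powers with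
suitable exponents, then the commutator subgroup of the preimage meets the kernel trivially. -/
theorem comm_inf_ker_of_heis_pow (p : ℕ) (hp : p.Prime) (a b : ℕ) (ha1 : 1 ≤ a) (hb1 : 1 ≤ b)
    (ha : Nat.Coprime (a * (a * b) - 1) p) (hb : Nat.Coprime (b * (a * b) - 1) p) (σ : Γ →* G)
    (hK : σ.ker ≤ Subgroup.center Γ) (x y n : Γ) (hxp : σ x ^ p = 1) (hyp : σ y ^ p = 1)
    (hcx : σ x * ⁅σ x, σ y⁆ = ⁅σ x, σ y⁆ * σ x) (hcy : σ y * ⁅σ x, σ y⁆ = ⁅σ x, σ y⁆ * σ y)
    (hnx : σ n * σ x * (σ n)⁻¹ = σ x ^ a) (hny : σ n * σ y * (σ n)⁻¹ = σ y ^ b)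
    (hc1 : ⁅σ x, σ y⁆ ≠ 1) (P : Subgroup G) (hP : P ≤ Subgroup.closure {σ x, σ y}) :
    ∀ k ∈ ⁅P.comap σ, P.comap σ⁆, k ∈ σ.ker → k = 1 := by
  have kc : ∀ {κ : Γ}, σ κ = 1 → κ ∈ Subgroup.center Γ := fun h => hK ((MonoidHom.mem_ker).2 h)
  obtain ⟨c, hc⟩ : ∃ c, c = ⁅x, y⁆ := ⟨_, rfl⟩
  have hσc : σ c = ⁅σ x, σ y⁆ := by rw [hc, map_commutatorElement]
  have hab1 : 1 ≤ a * b := Nat.mul_le_mul ha1 hb1
  -- conjugation by `n`
  obtain ⟨μ₁, hμ₁, e1⟩ := exists_ker_mul σ (n * x * n⁻¹) (x ^ a) (by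
    rw [map_mul, map_mul, map_inv, map_pow]; exact hnx)
  obtain ⟨μ₂, hμ₂, e2⟩ := exists_ker_mul σ (n * y * n⁻¹) (y ^ b) (by
    rw [map_mul, map_mul, map_inv, map_pow]; exact hny)
  obtain ⟨μ₃, hμ₃, e3⟩ := exists_ker_mul σ (n * c * n⁻¹) (c ^ (a * b)) (by
    rw [map_mul, map_mul, map_inv, map_pow, hσc, conjugate_commutatorElement, hnx, hny]
    exact comm_pow_pow (σ x) (σ y) hcx hcy a b)
  have hxp' : x ^ p ∈ Subgroup.center Γ := kc (by rw [map_pow, hxp])
  have hyp' : y ^ p ∈ Subgroup.center Γ := kc (by rw [map_pow, hyp])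
  have hxc : ⁅x, c⁆ = 1 := by
    apply comm_eq_one_of_pow p a (a * b) (Nat.mul_le_mul ha1 hab1) ha x c n hxp' _ (hK hμ₁)
      (hK hμ₃) e1 e3
    apply kc
    rw [map_commutatorElement, hσc]
    exact commutatorElement_eq_one_iff_mul_comm.2 hcx
  have hyc : ⁅y, c⁆ = 1 := by
    apply comm_eq_one_of_pow p b (a * b) (Nat.mul_le_mul hb1 hab1) hb y c n hyp' _ (hK hμ₂)
      (hK hμ₃) e2 e3
    apply kc
    rw [map_commutatorElement, hσc]
    exact commutatorElement_eq_one_iff_mul_comm.2 hcy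
  have hxc' : x * c = c * x := commutatorElement_eq_one_iff_mul_comm.1 hxc
  have hyc' : y * c = c * y := commutatorElement_eq_one_iff_mul_comm.1 hyc
  -- `c ^ p = 1`
  have hcp : c ^ p = 1 := by
    rw [hc, ← comm_pow_left_of_comm x y (by rw [← hc]; exact hxc'), commutatorElement_def,
      ← central_comm' hxp' y]
    group
  -- the derived subgroup of the preimage lies in `⟨c⟩`
  obtain ⟨M, hM⟩ : ∃ M : Set Γ, M = {x, y} ∪ (Subgroup.center Γ : Set Γ) := ⟨_, rfl⟩
  have hle : P.comap σ ≤ Subgroup.closure M := by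
    refine le_trans (Subgroup.comap_mono hP) (le_trans (comap_closure_le σ _ ?_) ?_)
    · intro s hs
      simp only [Set.mem_insert_iff, Set.mem_singleton_iff] at hs
      rcases hs with rfl | rfl
      · exact ⟨x, rfl⟩
      · exact ⟨y, rfl⟩
    · rw [Subgroup.closure_le]
      intro s hs
      have hcen' : ∀ κ ∈ σ.ker, κ ∈ Subgroup.closure M := fun κ hκ =>
        Subgroup.subset_closure (by rw [hM]; exact Or.inr (hK hκ))
      rcases hs with hs | hs
      · have hs' : σ s ∈ ({σ x, σ y} : Set G) := hs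
        simp only [Set.mem_insert_iff, Set.mem_singleton_iff] at hs'
        rcases hs' with h | h
        · obtain ⟨κ, hκ, rfl⟩ := exists_ker_mul σ s x h
          exact Subgroup.mul_mem _ (Subgroup.subset_closure (by rw [hM]; simp)) (hcen' κ hκ)
        · obtain ⟨κ, hκ, rfl⟩ := exists_ker_mul σ s y h
          exact Subgroup.mul_mem _ (Subgroup.subset_closure (by rw [hM]; simp)) (hcen' κ hκ)
      · exact hcen' s hs
  have hcomm : ⁅Subgroup.closure M, Subgroup.closure M⁆ ≤ Subgroup.zpowers c := by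
    apply commutator_closure_le
    · have hone : ∀ a b : Γ, a * b = b * a → ⁅a, b⁆ ∈ Subgroup.zpowers c := by
        intro a b h
        rw [commutatorElement_eq_one_iff_mul_comm.2 h]
        exact Subgroup.one_mem _
      intro s hs t ht
      rw [hM] at hs ht
      rcases ht with ht | ht
      · rcases hs with hs | hs
        · simp only [Set.mem_insert_iff, Set.mem_singleton_iff] at hs ht
          rcases hs with rfl | rfl <;> rcases ht with rfl | rfl
          · exact hone _ _ rfl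
          · rw [← hc]; exact Subgroup.mem_zpowers c
          · rw [← commutatorElement_inv, ← hc]
            exact Subgroup.inv_mem _ (Subgroup.mem_zpowers c)
          · exact hone _ _ rfl
        · exact hone _ _ (central_comm' hs t).symm
      · exact hone _ _ (central_comm' ht s)
    · intro c' hc' s hs
      obtain ⟨i, rfl⟩ := Subgroup.mem_zpowers_iff.1 hc'
      rw [hM] at hs
      rcases hs with hs | hs
      · simp only [Set.mem_insert_iff, Set.mem_singleton_iff] at hs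
        rcases hs with rfl | rfl
        · exact ((show Commute s c from hxc').zpow_right i).eq
        · exact ((show Commute s c from hyc').zpow_right i).eq
      · exact (central_comm' hs _).symm
  intro k hk hkK
  obtain ⟨i, rfl⟩ := Subgroup.mem_zpowers_iff.1 (hcomm (Subgroup.commutator_mono hle hle hk))
  have hσ1 : σ c ≠ 1 := by rw [hσc]; exact hc1
  have hσp : σ c ^ p = 1 := by rw [← map_pow, hcp, map_one]
  have hord : orderOf (σ c) = p := by
    haveI : Fact p.Prime := ⟨hp⟩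
    exact orderOf_eq_prime hσp hσ1
  have hσi : σ c ^ i = 1 := by
    have := (MonoidHom.mem_ker).1 hkK
    rwa [map_zpow] at this
  have hdvd : (p : ℤ) ∣ i := by
    rw [← hord]
    exact orderOf_dvd_iff_zpow_eq_one.2 hσi
  obtain ⟨j, rfl⟩ := hdvd
  rw [zpow_mul, zpow_natCast, hcp, one_zpow]

/-- the local statement at a prime `p` whose Sylow subgroup is extraspecial of order `p ^ 3` and
exponent `p`, from elements `X`, `Y` and an element acting on them by powers -/
theorem local_of_heis_pow [Finite G] (p : ℕ) (hp : p.Prime) (a b : ℕ) (ha1 : 1 ≤ a)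
    (hb1 : 1 ≤ b) (ha : Nat.Coprime (a * (a * b) - 1) p) (hb : Nat.Coprime (b * (a * b) - 1) p)
    (σ : Γ →* G) (hs : Function.Surjective σ) (hK : σ.ker ≤ Subgroup.center Γ)
    (X Y N : G) (hX : X ^ p = 1) (hY : Y ^ p = 1) (hcx : X * ⁅X, Y⁆ = ⁅X, Y⁆ * X)
    (hcy : Y * ⁅X, Y⁆ = ⁅X, Y⁆ * Y) (hnx : N * X * N⁻¹ = X ^ a) (hny : N * Y * N⁻¹ = Y ^ b)
    (hc1 : ⁅X, Y⁆ ≠ 1) (hG : ¬ p ^ 4 ∣ Nat.card G) :
    ∃ Q : Subgroup G, ¬ p ∣ Q.index ∧ ∀ k ∈ ⁅Q.comap σ, Q.comap σ⁆, k ∈ σ.ker → k = 1 := by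
  haveI : Fact p.Prime := ⟨hp⟩
  obtain ⟨C, hC⟩ : ∃ C : G, C = ⁅X, Y⁆ := ⟨_, rfl⟩
  rw [← hC] at hcx hcy hc1
  have xc : Commute X C := hcx
  have yc : Commute Y C := hcy
  have hCp : C ^ p = 1 := by
    rw [hC, ← comm_pow_left_of_comm X Y (by rw [← hC]; exact hcx), hX, commutatorElement_def]
    group
  have hCo : orderOf C = p := orderOf_eq_prime hCp hc1
  have hX1 : X ≠ 1 := by
    intro h
    apply hc1
    rw [hC, h, commutatorElement_def]
    group
  have hCX : C ∉ Subgroup.zpowers X := by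
    intro hmem
    rw [← mem_powers_iff_mem_zpowers] at hmem
    obtain ⟨m, hm⟩ := hmem
    have h1 : ⁅X ^ m, Y⁆ = C ^ m := by
      rw [hC]
      exact comm_pow_left_of_comm X Y (by rw [← hC]; exact hcx) m
    have h2 : ⁅X ^ m, Y⁆ = 1 := by
      have e : X ^ m = C := hm
      rw [e]
      exact commutatorElement_eq_one_iff_commute.2 yc.symm
    have h3 : C ^ m = 1 := by rw [← h1, h2]
    have h4 : p ∣ m := by
      rw [← hCo]
      exact orderOf_dvd_of_pow_eq_one h3
    obtain ⟨k, rfl⟩ := h4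
    apply hc1
    have e : X ^ (p * k) = C := hm
    rw [← e, pow_mul, hX, one_pow]
  let E : Subgroup G := pairSubgroup X C xc
  let D : Subgroup G := Subgroup.zpowers Y
  obtain ⟨hEp, hE2⟩ := sq_dvd_card_pair p X C xc hX hCp hX1 hCX
  have hDp : IsPGroup p D := by
    intro g
    refine ⟨1, ?_⟩
    obtain ⟨i, hi⟩ := Subgroup.mem_zpowers_iff.1 g.2
    apply Subtype.ext
    rw [pow_one, Subgroup.coe_pow, ← hi, ← zpow_natCast, ← zpow_mul, mul_comm, zpow_mul,
      zpow_natCast, hY, one_zpow]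
    rfl
  have yx : Y * X * Y⁻¹ = X * C⁻¹ := by
    have e : Y * X * Y⁻¹ = C⁻¹ * X := by
      rw [hC, commutatorElement_def]
      group
    rw [e, (xc.inv_right).eq]
  have ycc : Y * C * Y⁻¹ = C := by
    rw [yc.eq]; group
  have yx' : Y⁻¹ * X * Y = X * C := by
    have e2 : Y⁻¹ * X * Y = X * ⁅X⁻¹, Y⁻¹⁆ := by
      rw [commutatorElement_def]; group
    rw [e2, comm_inv_inv (by rw [← hC]; exact hcx) (by rw [← hC]; exact hcy), ← hC]
  have ycc' : Y⁻¹ * C * Y = C := by
    rw [mul_assoc, ← yc.eq, ← mul_assoc, inv_mul_cancel, one_mul]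
  have hconj : ∀ w ∈ E, Y * w * Y⁻¹ ∈ E := by
    rintro w ⟨i, j, rfl⟩
    refine ⟨i, -i + j, ?_⟩
    rw [heislocal_conj_pair, yx, ycc, (xc.inv_right).mul_zpow, zpow_add, inv_zpow, zpow_neg,
      mul_assoc]
  have hconj' : ∀ w ∈ E, Y⁻¹ * w * Y ∈ E := by
    rintro w ⟨i, j, rfl⟩
    refine ⟨i, i + j, ?_⟩
    rw [heislocal_conj_pair', yx', ycc', xc.mul_zpow, zpow_add, mul_assoc]
  have hYn : Y ∈ Subgroup.normalizer (E : Set G) := by
    rw [Subgroup.mem_normalizer_iff]
    intro w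
    constructor
    · exact hconj w
    · intro h
      have h2 := hconj' _ h
      have e : Y⁻¹ * (Y * w * Y⁻¹) * Y = w := by group
      rw [e] at h2
      exact h2
  have hDle : D ≤ Subgroup.normalizer (E : Set G) := by
    show Subgroup.zpowers Y ≤ _
    rw [Subgroup.zpowers_le]
    exact hYn
  have hYE : Y ∉ E := by
    rintro ⟨i, j, h⟩
    have hc : Commute X Y := by
      rw [h]
      exact ((Commute.refl X).zpow_right i).mul_right (xc.zpow_right j)
    apply hc1
    rw [hC]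
    exact commutatorElement_eq_one_iff_commute.2 hc
  have hPQ : IsPGroup p (E ⊔ D : Subgroup G) :=
    IsPGroup.to_sup_of_normal_left' hEp hDp hDle
  refine ⟨E ⊔ D, ?_, ?_⟩
  · exact not_dvd_index_of_lt p E (E ⊔ D) hPQ le_sup_left
      ⟨Y, Subgroup.mem_sup_right (Subgroup.mem_zpowers Y), hYE⟩ 2 hE2 hG
  obtain ⟨x, hx⟩ := hs X
  obtain ⟨y, hy⟩ := hs Y
  obtain ⟨n, hn⟩ := hs N
  have hxm : X ∈ Subgroup.closure ({σ x, σ y} : Set G) :=
    Subgroup.subset_closure (by rw [hx]; simp)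
  have hym : Y ∈ Subgroup.closure ({σ x, σ y} : Set G) :=
    Subgroup.subset_closure (by rw [hy]; simp)
  have hcm : C ∈ Subgroup.closure ({σ x, σ y} : Set G) := by
    rw [hC, commutatorElement_def]
    exact Subgroup.mul_mem _ (Subgroup.mul_mem _ (Subgroup.mul_mem _ hxm hym)
      (Subgroup.inv_mem _ hxm)) (Subgroup.inv_mem _ hym)
  apply comm_inf_ker_of_heis_pow p hp a b ha1 hb1 ha hb σ hK x y n
  · rw [hx]; exact hX
  · rw [hy]; exact hY
  · rw [hx, hy, ← hC]; exact hcx
  · rw [hx, hy, ← hC]; exact hcy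
  · rw [hx, hn]; exact hnx
  · rw [hy, hn]; exact hny
  · rw [hx, hy, ← hC]; exact hc1
  · apply sup_le
    · rintro _ ⟨i, j, rfl⟩
      exact Subgroup.mul_mem _ (Subgroup.zpow_mem _ hxm i) (Subgroup.zpow_mem _ hcm j)
    · show Subgroup.zpowers Y ≤ _
      rw [Subgroup.zpowers_le]
      exact hym

end Cfsg.Agent.Helper29.StemOdd
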