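import Mathlib
import Cfsg.Agent.Lib.Helper29.HeOddF
import Cfsg.Agent.Lib.Helper29.HeisPow
import Cfsg.Agent.Lib.Helper29.StemOdd

set_option autoImplicit false
open Cfsg

/-! The odd primes for the stem extensions of the Held group: the local statements. -/

namespace Cfsg.Agent.Helper29.HeOd

open Cfsg.Agent.Helper29.HSP (tg force force_eq allBelow allBelow_iff)
open Cfsg.Agent.Helper29.PW Cfsg.Agent.Helper29.HeM
open Cfsg.Agent.Helper29.HeOD
open Cfsg.Agent.Helper29.StemSylow Cfsg.Agent.Helper29.StemSplit Cfsg.Agent.Helper29.StemOdd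
open scoped commutatorElement

instance : Finite ↥G2058 := finite_G2058

/-! ### The prime three -/

def X3 : ↥G2058 := eg 15
def Y3 : ↥G2058 := eg 16
def N3 : ↥G2058 := eg 17

theorem X3_pow : X3 ^ 3 = 1 := by simpa [X3, pow_succ, mul_assoc] using rel_2
theorem Y3_pow : Y3 ^ 3 = 1 := by simpa [Y3, pow_succ, mul_assoc] using rel_3

theorem X3_inv : eg 23 = X3⁻¹ := by
  have h : X3 * eg 23 = 1 := by simpa [X3] using rel_0
  exact eq_inv_of_mul_eq_one_right h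

theorem Y3_inv : eg 24 = Y3⁻¹ := by
  have h : Y3 * eg 24 = 1 := by simpa [Y3] using rel_1
  exact eq_inv_of_mul_eq_one_right h

theorem C3_eq : ([15, 16, 23, 24].map eg).prod = ⁅X3, Y3⁆ := by
  simp only [List.map_cons, List.map_nil, List.prod_cons, List.prod_nil, mul_one]
  rw [X3_inv, Y3_inv, commutatorElement_def]
  unfold X3 Y3
  group

theorem X3_C3 : X3 * ⁅X3, Y3⁆ = ⁅X3, Y3⁆ * X3 := by
  have h := rel_4
  have e1 : ([15, 15, 16, 23, 24].map eg).prod = eg 15 * ([15, 16, 23, 24].map eg).prod := by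
    rw [List.map_cons, List.prod_cons]
  have e2 : ([15, 16, 23, 24, 15].map eg).prod = ([15, 16, 23, 24].map eg).prod * eg 15 := by
    have : ([15, 16, 23, 24, 15] : List ℕ) = [15, 16, 23, 24] ++ [15] := rfl
    rw [this, List.map_append, List.prod_append]
    simp
  rw [e1, e2, C3_eq] at h
  exact h

theorem Y3_C3 : Y3 * ⁅X3, Y3⁆ = ⁅X3, Y3⁆ * Y3 := by
  have h := rel_5
  have e1 : ([16, 15, 16, 23, 24].map eg).prod = eg 16 * ([15, 16, 23, 24].map eg).prod := by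
    rw [List.map_cons, List.prod_cons]
  have e2 : ([15, 16, 23, 24, 16].map eg).prod = ([15, 16, 23, 24].map eg).prod * eg 16 := by
    have : ([15, 16, 23, 24, 16] : List ℕ) = [15, 16, 23, 24] ++ [16] := rfl
    rw [this, List.map_append, List.prod_append]
    simp
  rw [e1, e2, C3_eq] at h
  exact h

theorem N3_X3 : N3 * X3 * N3⁻¹ = X3⁻¹ := by
  have h : N3 * X3 = eg 23 * N3 := by simpa [X3, N3] using rel_6
  rw [mul_inv_eq_iff_eq_mul, h, X3_inv]

theorem N3_Y3 : N3 * Y3 * N3⁻¹ = Y3⁻¹ := by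
  have h : N3 * Y3 = eg 24 * N3 := by simpa [Y3, N3] using rel_7
  rw [mul_inv_eq_iff_eq_mul, h, Y3_inv]

set_option maxRecDepth 100000 in
theorem C3_ne : ⁅X3, Y3⁆ ≠ 1 := by
  rw [← C3_eq]
  intro h
  have h1 := prod_acts [15, 16, 23, 24] (by decide) (⟨0, by norm_num⟩ : Fin 2058)
  rw [h] at h1
  revert h1
  show ¬ ((0 : ℕ) = appL CL [15, 16, 23, 24] 0)
  decide +kernel

theorem not_dvd3 : ¬ 3 ^ 4 ∣ Nat.card ↥G2058 := by
  rw [card_G2058]
  norm_num

theorem local3 {Γ : Type*} [Group Γ] (σ : Γ →* ↥G2058) (hs : Function.Surjective σ)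
    (hK : σ.ker ≤ Subgroup.center Γ) :
    ∃ Q : Subgroup ↥G2058, ¬ 3 ∣ Q.index ∧
      ∀ k ∈ ⁅Q.comap σ, Q.comap σ⁆, k ∈ σ.ker → k = 1 :=
  local_of_heis 3 (by norm_num) (by norm_num) σ hs hK X3 Y3 N3
    X3_pow Y3_pow X3_C3 Y3_C3 N3_X3 N3_Y3 C3_ne not_dvd3

/-! ### The prime seven -/

def X7 : ↥G2058 := eg 20
def Y7 : ↥G2058 := eg 21
def N7 : ↥G2058 := eg 22

theorem X7_pow : X7 ^ 7 = 1 := by simpa [X7, pow_succ, mul_assoc] using rel_16
theorem Y7_pow : Y7 ^ 7 = 1 := by simpa [Y7, pow_succ, mul_assoc] using rel_17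

theorem X7_inv : eg 26 = X7⁻¹ := by
  have h : X7 * eg 26 = 1 := by simpa [X7] using rel_14
  exact eq_inv_of_mul_eq_one_right h

theorem Y7_inv : eg 27 = Y7⁻¹ := by
  have h : Y7 * eg 27 = 1 := by simpa [Y7] using rel_15
  exact eq_inv_of_mul_eq_one_right h

theorem C7_eq : ([20, 21, 26, 27].map eg).prod = ⁅X7, Y7⁆ := by
  simp only [List.map_cons, List.map_nil, List.prod_cons, List.prod_nil, mul_one]
  rw [X7_inv, Y7_inv, commutatorElement_def]
  unfold X7 Y7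
  group

theorem X7_C7 : X7 * ⁅X7, Y7⁆ = ⁅X7, Y7⁆ * X7 := by
  have h := rel_18
  have e1 : ([20, 20, 21, 26, 27].map eg).prod = eg 20 * ([20, 21, 26, 27].map eg).prod := by
    rw [List.map_cons, List.prod_cons]
  have e2 : ([20, 21, 26, 27, 20].map eg).prod = ([20, 21, 26, 27].map eg).prod * eg 20 := by
    have : ([20, 21, 26, 27, 20] : List ℕ) = [20, 21, 26, 27] ++ [20] := rfl
    rw [this, List.map_append, List.prod_append]
    simp
  rw [e1, e2, C7_eq] at h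
  exact h

theorem Y7_C7 : Y7 * ⁅X7, Y7⁆ = ⁅X7, Y7⁆ * Y7 := by
  have h := rel_19
  have e1 : ([21, 20, 21, 26, 27].map eg).prod = eg 21 * ([20, 21, 26, 27].map eg).prod := by
    rw [List.map_cons, List.prod_cons]
  have e2 : ([20, 21, 26, 27, 21].map eg).prod = ([20, 21, 26, 27].map eg).prod * eg 21 := by
    have : ([20, 21, 26, 27, 21] : List ℕ) = [20, 21, 26, 27] ++ [21] := rfl
    rw [this, List.map_append, List.prod_append]
    simp
  rw [e1, e2, C7_eq] at h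
  exact h

theorem N7_X7 : N7 * X7 * N7⁻¹ = X7 ^ 4 := by
  have h : N7 * X7 = X7 ^ 4 * N7 := by simpa [X7, N7, pow_succ, mul_assoc] using rel_20
  rw [mul_inv_eq_iff_eq_mul, h]

theorem N7_Y7 : N7 * Y7 * N7⁻¹ = Y7 ^ 2 := by
  have h : N7 * Y7 = Y7 ^ 2 * N7 := by simpa [Y7, N7, pow_succ, mul_assoc] using rel_21
  rw [mul_inv_eq_iff_eq_mul, h]

set_option maxRecDepth 100000 in
theorem C7_ne : ⁅X7, Y7⁆ ≠ 1 := by
  rw [← C7_eq]
  intro h
  have h1 := prod_acts [20, 21, 26, 27] (by decide) (⟨0, by norm_num⟩ : Fin 2058)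
  rw [h] at h1
  revert h1
  show ¬ ((0 : ℕ) = appL CL [20, 21, 26, 27] 0)
  decide +kernel

theorem not_dvd7 : ¬ 7 ^ 4 ∣ Nat.card ↥G2058 := by
  rw [card_G2058]
  norm_num

theorem local7 {Γ : Type*} [Group Γ] (σ : Γ →* ↥G2058) (hs : Function.Surjective σ)
    (hK : σ.ker ≤ Subgroup.center Γ) :
    ∃ Q : Subgroup ↥G2058, ¬ 7 ∣ Q.index ∧
      ∀ k ∈ ⁅Q.comap σ, Q.comap σ⁆, k ∈ σ.ker → k = 1 :=
  local_of_heis_pow 7 (by norm_num) 4 2 (by norm_num) (by norm_num) (by decide) (by decide)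
    σ hs hK X7 Y7 N7 X7_pow Y7_pow X7_C7 Y7_C7 N7_X7 N7_Y7 C7_ne not_dvd7

/-! ### The prime five -/

def X5 : ↥G2058 := eg 18
def Y5 : ↥G2058 := eg 19
def N5 : ↥G2058 := eg 13

theorem X5_pow : X5 ^ 5 = 1 := by simpa [X5, pow_succ, mul_assoc] using rel_8
theorem Y5_pow : Y5 ^ 5 = 1 := by simpa [Y5, pow_succ, mul_assoc] using rel_9

theorem Y5_inv : eg 25 = Y5⁻¹ := by
  have h : Y5 * eg 25 = 1 := by simpa [Y5] using rel_10
  exact eq_inv_of_mul_eq_one_right h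

theorem X5_Y5 : Commute X5 Y5 := by
  have h : X5 * Y5 = Y5 * X5 := by simpa [X5, Y5] using rel_11
  exact h

theorem N5_X5 : N5 * X5 * N5⁻¹ = X5 := by
  have h : N5 * X5 = X5 * N5 := by simpa [X5, N5] using rel_12
  rw [mul_inv_eq_iff_eq_mul, h]

theorem N5_Y5 : N5 * Y5 * N5⁻¹ = Y5⁻¹ := by
  have h : N5 * Y5 = eg 25 * N5 := by simpa [Y5, N5] using rel_13
  rw [mul_inv_eq_iff_eq_mul, h, Y5_inv]

set_option maxRecDepth 100000 in
theorem x5_pts : appL CL [18] 0 ≠ 0 ∧ appL CL [18] 249 = 249 ∧ appL CL [19] 249 ≠ 249 := by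
  decide +kernel

theorem X5_ne : X5 ≠ 1 := by
  intro h
  have h1 := prod_acts [18] (by decide) (⟨0, by norm_num⟩ : Fin 2058)
  simp only [List.map_cons, List.map_nil, List.prod_cons, List.prod_nil, mul_one] at h1
  have h2 : eg 18 = 1 := h
  rw [h2] at h1
  exact x5_pts.1 h1.symm

theorem X5_fix : X5.val ⟨249, by norm_num⟩ = ⟨249, by norm_num⟩ := by
  apply Fin.ext
  have h1 := prod_acts [18] (by decide) (⟨249, by norm_num⟩ : Fin 2058)
  simp only [List.map_cons, List.map_nil, List.prod_cons, List.prod_nil, mul_one] at h1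
  exact h1.trans x5_pts.2.1

theorem Y5_moves : Y5.val ⟨249, by norm_num⟩ ≠ ⟨249, by norm_num⟩ := by
  intro h
  have h1 := prod_acts [19] (by decide) (⟨249, by norm_num⟩ : Fin 2058)
  simp only [List.map_cons, List.map_nil, List.prod_cons, List.prod_nil, mul_one] at h1
  have h2 : (Y5.val ⟨249, by norm_num⟩).val = 249 := by rw [h]
  exact x5_pts.2.2 (h1.symm.trans h2)

theorem Y5_notin : Y5 ∉ Subgroup.zpowers X5 := by
  intro hmem
  obtain ⟨k, hk⟩ := Subgroup.mem_zpowers_iff.1 hmem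
  apply Y5_moves
  rw [← hk]
  have : ((X5 ^ k : ↥G2058) : Equiv.Perm (Fin 2058)) = (X5 : Equiv.Perm (Fin 2058)) ^ k := by
    simp
  rw [this]
  exact Equiv.Perm.zpow_apply_eq_self_of_apply_eq_self X5_fix k

theorem not_dvd5 : ¬ 5 ^ 3 ∣ Nat.card ↥G2058 := by
  rw [card_G2058]
  norm_num

theorem local5 {Γ : Type*} [Group Γ] (σ : Γ →* ↥G2058) (hs : Function.Surjective σ)
    (hK : σ.ker ≤ Subgroup.center Γ) :
    ∃ Q : Subgroup ↥G2058, ¬ 5 ∣ Q.index ∧
      ∀ k ∈ ⁅Q.comap σ, Q.comap σ⁆, k ∈ σ.ker → k = 1 := by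
  haveI : Fact (Nat.Prime 5) := ⟨by norm_num⟩
  refine ⟨pairSubgroup X5 Y5 X5_Y5, ?_, ?_⟩
  · exact not_dvd_index_pair' 5 X5 Y5 X5_Y5 X5_pow Y5_pow X5_ne Y5_notin not_dvd5
  · obtain ⟨x, hx⟩ := hs X5
    obtain ⟨y, hy⟩ := hs Y5
    obtain ⟨n, hn⟩ := hs N5
    have hb := comm_eq_bot_of_odd σ hK ((pairSubgroup X5 Y5 X5_Y5).comap σ) x y n 5 (by decide)
      (by rw [hx]; exact X5_pow) (by rw [hx, hy]; exact X5_Y5.eq)
      (by rw [hn, hx]; exact N5_X5) (by rw [hn, hy]; exact N5_Y5)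
      (by
        intro u hu
        obtain ⟨i, j, hij⟩ := (mem_pairSubgroup X5 Y5 X5_Y5 (σ u)).1 hu
        exact ⟨i, j, by rw [hx, hy]; exact hij⟩)
    intro k hk _
    rw [hb] at hk
    exact Subgroup.mem_bot.1 hk

end Cfsg.Agent.Helper29.HeOd
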