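import Mathlib
import Cfsg.Prelude.Def_Spor_J2

/-!
# An integral model of the icosian ring

An icosian is written `(1/2) * Σ (p_s + q_s τ) u_s` with `u = 1, i, j, k`; the eight integers
`p_s, q_s` satisfy four parity conditions.
-/

set_option autoImplicit false

namespace Cfsg.Agent.Helper29.J2

open Quaternion Cfsg.Spor

/-- eight integer coordinates -/
structure Ic where
  c0 : ℤ
  c1 : ℤ
  c2 : ℤ
  c3 : ℤ
  c4 : ℤ
  c5 : ℤ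
  c6 : ℤ
  c7 : ℤ
deriving DecidableEq

namespace Ic

@[ext] theorem ext' {a b : Ic} (h0 : a.c0 = b.c0) (h1 : a.c1 = b.c1) (h2 : a.c2 = b.c2)
    (h3 : a.c3 = b.c3) (h4 : a.c4 = b.c4) (h5 : a.c5 = b.c5) (h6 : a.c6 = b.c6)
    (h7 : a.c7 = b.c7) : a = b := by
  cases a; cases b; simp_all

def zero : Ic := ⟨0, 0, 0, 0, 0, 0, 0, 0⟩

def add (a b : Ic) : Ic :=
  ⟨a.c0 + b.c0, a.c1 + b.c1, a.c2 + b.c2, a.c3 + b.c3, a.c4 + b.c4, a.c5 + b.c5, a.c6 + b.c6,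
    a.c7 + b.c7⟩

def neg (a : Ic) : Ic := ⟨-a.c0, -a.c1, -a.c2, -a.c3, -a.c4, -a.c5, -a.c6, -a.c7⟩

def sub (a b : Ic) : Ic :=
  ⟨a.c0 - b.c0, a.c1 - b.c1, a.c2 - b.c2, a.c3 - b.c3, a.c4 - b.c4, a.c5 - b.c5, a.c6 - b.c6,
    a.c7 - b.c7⟩

def dbl (a : Ic) : Ic :=
  ⟨2 * a.c0, 2 * a.c1, 2 * a.c2, 2 * a.c3, 2 * a.c4, 2 * a.c5, 2 * a.c6, 2 * a.c7⟩

def half (a : Ic) : Ic :=
  ⟨a.c0 / 2, a.c1 / 2, a.c2 / 2, a.c3 / 2, a.c4 / 2, a.c5 / 2, a.c6 / 2, a.c7 / 2⟩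

def conj (a : Ic) : Ic := ⟨a.c0, a.c1, -a.c2, -a.c3, -a.c4, -a.c5, -a.c6, -a.c7⟩

theorem half_dbl (a : Ic) : half (dbl a) = a := by
  ext <;> simp [half, dbl]

/-- the product of the doubled quaternions, over `ℤ[τ]` -/
def prod2 (a b : Ic) : Ic :=
  ⟨(a.c0 * b.c0 + a.c1 * b.c1) - (a.c2 * b.c2 + a.c3 * b.c3) - (a.c4 * b.c4 + a.c5 * b.c5)
      - (a.c6 * b.c6 + a.c7 * b.c7),
    (a.c0 * b.c1 + a.c1 * b.c0 + a.c1 * b.c1) - (a.c2 * b.c3 + a.c3 * b.c2 + a.c3 * b.c3)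
      - (a.c4 * b.c5 + a.c5 * b.c4 + a.c5 * b.c5) - (a.c6 * b.c7 + a.c7 * b.c6 + a.c7 * b.c7),
    (a.c0 * b.c2 + a.c1 * b.c3) + (a.c2 * b.c0 + a.c3 * b.c1) + (a.c4 * b.c6 + a.c5 * b.c7)
      - (a.c6 * b.c4 + a.c7 * b.c5),
    (a.c0 * b.c3 + a.c1 * b.c2 + a.c1 * b.c3) + (a.c2 * b.c1 + a.c3 * b.c0 + a.c3 * b.c1)
      + (a.c4 * b.c7 + a.c5 * b.c6 + a.c5 * b.c7) - (a.c6 * b.c5 + a.c7 * b.c4 + a.c7 * b.c5),
    (a.c0 * b.c4 + a.c1 * b.c5) - (a.c2 * b.c6 + a.c3 * b.c7) + (a.c4 * b.c0 + a.c5 * b.c1)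
      + (a.c6 * b.c2 + a.c7 * b.c3),
    (a.c0 * b.c5 + a.c1 * b.c4 + a.c1 * b.c5) - (a.c2 * b.c7 + a.c3 * b.c6 + a.c3 * b.c7)
      + (a.c4 * b.c1 + a.c5 * b.c0 + a.c5 * b.c1) + (a.c6 * b.c3 + a.c7 * b.c2 + a.c7 * b.c3),
    (a.c0 * b.c6 + a.c1 * b.c7) + (a.c2 * b.c4 + a.c3 * b.c5) - (a.c4 * b.c2 + a.c5 * b.c3)
      + (a.c6 * b.c0 + a.c7 * b.c1),
    (a.c0 * b.c7 + a.c1 * b.c6 + a.c1 * b.c7) + (a.c2 * b.c5 + a.c3 * b.c4 + a.c3 * b.c5)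
      - (a.c4 * b.c3 + a.c5 * b.c2 + a.c5 * b.c3) + (a.c6 * b.c1 + a.c7 * b.c0 + a.c7 * b.c1)⟩

/-- the product of two icosians, in coordinates -/
def mul (a b : Ic) : Ic := half (prod2 a b)

/-- the parity conditions singling out the icosians -/
def IsIco (c : Ic) : Prop :=
  (c.c4 - (c.c1 + c.c2 + c.c3)) % 2 = 0 ∧ (c.c5 - (c.c0 + c.c1 + c.c2)) % 2 = 0 ∧
    (c.c6 - (c.c0 + c.c1 + c.c3)) % 2 = 0 ∧ (c.c7 - (c.c0 + c.c2 + c.c3)) % 2 = 0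

instance (c : Ic) : Decidable (IsIco c) := by unfold IsIco; infer_instance

/-- the coordinates with respect to a basis of the icosians -/
def comb (n : Ic) : Ic :=
  ⟨n.c0, n.c1, n.c2, n.c3, n.c1 + n.c2 + n.c3 + 2 * n.c4, n.c0 + n.c1 + n.c2 + 2 * n.c5,
    n.c0 + n.c1 + n.c3 + 2 * n.c6, n.c0 + n.c2 + n.c3 + 2 * n.c7⟩

theorem isIco_comb (n : Ic) : IsIco (comb n) := by
  unfold IsIco comb
  refine ⟨?_, ?_, ?_, ?_⟩ <;> simp <;> omega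

theorem exists_comb {c : Ic} (h : IsIco c) : ∃ n, c = comb n := by
  obtain ⟨h4, h5, h6, h7⟩ := h
  refine ⟨⟨c.c0, c.c1, c.c2, c.c3, (c.c4 - (c.c1 + c.c2 + c.c3)) / 2,
    (c.c5 - (c.c0 + c.c1 + c.c2)) / 2, (c.c6 - (c.c0 + c.c1 + c.c3)) / 2,
    (c.c7 - (c.c0 + c.c2 + c.c3)) / 2⟩, ?_⟩
  ext <;> simp [comb] <;> omega

theorem isIco_iff (c : Ic) : IsIco c ↔ ∃ n, c = comb n :=
  ⟨exists_comb, fun ⟨n, hn⟩ => hn ▸ isIco_comb n⟩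

/-- the structure constants of the icosian ring -/
def bil (n m : Ic) : Ic :=
  ⟨-n.c0 * m.c0 - n.c0 * m.c1 - n.c0 * m.c2 - n.c0 * m.c3 - n.c0 * m.c5 - n.c0 * m.c6 - n.c0 *
      m.c7 - n.c1 * m.c0 - n.c1 * m.c1 - n.c1 * m.c2 - n.c1 * m.c3 - n.c1 * m.c4 - n.c1 * m.c5 -
      n.c1 * m.c6 - n.c2 * m.c0 - n.c2 * m.c1 - 2 * n.c2 * m.c2 - n.c2 * m.c3 - n.c2 * m.c4 - n.c2
      * m.c5 - n.c2 * m.c7 - n.c3 * m.c0 - n.c3 * m.c1 - n.c3 * m.c2 - 2 * n.c3 * m.c3 - n.c3 *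
      m.c4 - n.c3 * m.c6 - n.c3 * m.c7 - n.c4 * m.c1 - n.c4 * m.c2 - n.c4 * m.c3 - 2 * n.c4 * m.c4
      - n.c5 * m.c0 - n.c5 * m.c1 - n.c5 * m.c2 - 2 * n.c5 * m.c5 - n.c6 * m.c0 - n.c6 * m.c1 -
      n.c6 * m.c3 - 2 * n.c6 * m.c6 - n.c7 * m.c0 - n.c7 * m.c2 - n.c7 * m.c3 - 2 * n.c7 * m.c7,
      -2 * n.c0 * m.c0 - n.c0 * m.c1 - 2 * n.c0 * m.c2 - 2 * n.c0 * m.c3 - n.c0 * m.c4 - n.c0 *
      m.c5 - n.c0 * m.c6 - 2 * n.c0 * m.c7 - n.c1 * m.c0 - n.c1 * m.c1 - 2 * n.c1 * m.c2 - n.c1 *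
      m.c3 - n.c1 * m.c4 - 2 * n.c1 * m.c5 - n.c1 * m.c7 - 2 * n.c2 * m.c0 - 2 * n.c2 * m.c1 - 2 *
      n.c2 * m.c2 - 2 * n.c2 * m.c3 - n.c2 * m.c4 - 2 * n.c2 * m.c5 - n.c2 * m.c6 - n.c2 * m.c7 -
      2 * n.c3 * m.c0 - n.c3 * m.c1 - 2 * n.c3 * m.c2 - 2 * n.c3 * m.c3 - n.c3 * m.c5 - n.c3 *
      m.c6 - 2 * n.c3 * m.c7 - n.c4 * m.c0 - n.c4 * m.c1 - n.c4 * m.c2 - 2 * n.c4 * m.c5 - n.c5 *
      m.c0 - 2 * n.c5 * m.c1 - 2 * n.c5 * m.c2 - n.c5 * m.c3 - 2 * n.c5 * m.c4 - 2 * n.c5 * m.c5 -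
      n.c6 * m.c0 - n.c6 * m.c2 - n.c6 * m.c3 - 2 * n.c6 * m.c7 - 2 * n.c7 * m.c0 - n.c7 * m.c1 -
      n.c7 * m.c2 - 2 * n.c7 * m.c3 - 2 * n.c7 * m.c6 - 2 * n.c7 * m.c7,
      -n.c0 * m.c1 - n.c0 * m.c4 - n.c0 * m.c5 + n.c0 * m.c7 + n.c1 * m.c0 + n.c1 * m.c3 - n.c1 *
      m.c4 + n.c1 * m.c6 + n.c1 * m.c7 + n.c2 * m.c0 + n.c2 * m.c3 - n.c2 * m.c5 + n.c2 * m.c6 +
      n.c2 * m.c7 - n.c3 * m.c2 - n.c3 * m.c4 - n.c3 * m.c5 + n.c3 * m.c6 + n.c4 * m.c0 + n.c4 *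
      m.c1 + n.c4 * m.c3 + 2 * n.c4 * m.c6 + n.c5 * m.c0 + n.c5 * m.c2 + n.c5 * m.c3 + 2 * n.c5 *
      m.c7 - n.c6 * m.c1 - n.c6 * m.c2 - n.c6 * m.c3 - 2 * n.c6 * m.c4 - n.c7 * m.c0 - n.c7 * m.c1
      - n.c7 * m.c2 - 2 * n.c7 * m.c5,
      -n.c0 * m.c1 - n.c0 * m.c2 + n.c0 * m.c3 - n.c0 * m.c4 - 2 * n.c0 * m.c5 + n.c0 * m.c6 +
      n.c0 * m.c7 + n.c1 * m.c0 + n.c1 * m.c2 + 2 * n.c1 * m.c3 - n.c1 * m.c5 + n.c1 * m.c6 + 2 *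
      n.c1 * m.c7 + n.c2 * m.c0 + n.c2 * m.c3 - n.c2 * m.c4 - n.c2 * m.c5 + n.c2 * m.c6 + 2 * n.c2
      * m.c7 - n.c3 * m.c1 - n.c3 * m.c2 - n.c3 * m.c4 - 2 * n.c3 * m.c5 + n.c3 * m.c7 + n.c4 *
      m.c0 + n.c4 * m.c2 + n.c4 * m.c3 + 2 * n.c4 * m.c7 + 2 * n.c5 * m.c0 + n.c5 * m.c1 + n.c5 *
      m.c2 + 2 * n.c5 * m.c3 + 2 * n.c5 * m.c6 + 2 * n.c5 * m.c7 - n.c6 * m.c0 - n.c6 * m.c1 -
      n.c6 * m.c2 - 2 * n.c6 * m.c5 - n.c7 * m.c0 - 2 * n.c7 * m.c1 - 2 * n.c7 * m.c2 - n.c7 *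
      m.c3 - 2 * n.c7 * m.c4 - 2 * n.c7 * m.c5,
      n.c0 * m.c0 + 2 * n.c0 * m.c1 + 2 * n.c0 * m.c2 + n.c0 * m.c3 + 2 * n.c0 * m.c4 + 2 * n.c0 *
      m.c5 + n.c1 * m.c1 + n.c1 * m.c2 - n.c1 * m.c3 + n.c1 * m.c4 + 2 * n.c1 * m.c5 - n.c1 * m.c6
      - n.c1 * m.c7 + n.c2 * m.c1 + n.c2 * m.c2 + n.c2 * m.c4 + 2 * n.c2 * m.c5 - n.c2 * m.c6 -
      n.c2 * m.c7 + n.c3 * m.c0 + n.c3 * m.c1 + 2 * n.c3 * m.c2 + n.c3 * m.c3 + n.c3 * m.c4 + 2 *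
      n.c3 * m.c5 - n.c4 * m.c3 + n.c4 * m.c5 - n.c4 * m.c6 - n.c4 * m.c7 - n.c5 * m.c0 + n.c5 *
      m.c1 - n.c5 * m.c3 + n.c5 * m.c4 + n.c5 * m.c5 - n.c5 * m.c6 - 2 * n.c5 * m.c7 + n.c6 * m.c0
      + n.c6 * m.c1 + 2 * n.c6 * m.c2 + n.c6 * m.c3 + n.c6 * m.c4 + n.c6 * m.c5 + n.c6 * m.c7 + 2
      * n.c7 * m.c0 + 2 * n.c7 * m.c1 + 2 * n.c7 * m.c2 + 2 * n.c7 * m.c3 + n.c7 * m.c4 + 2 * n.c7
      * m.c5 + n.c7 * m.c6 + n.c7 * m.c7,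
      2 * n.c0 * m.c0 + 2 * n.c0 * m.c1 + 2 * n.c0 * m.c2 + 2 * n.c0 * m.c3 + n.c0 * m.c4 + 2 *
      n.c0 * m.c5 + n.c0 * m.c6 + n.c0 * m.c7 + n.c1 * m.c0 + 2 * n.c1 * m.c1 + 2 * n.c1 * m.c2 +
      n.c1 * m.c3 + 2 * n.c1 * m.c4 + 2 * n.c1 * m.c5 + n.c2 * m.c0 + 2 * n.c2 * m.c1 + 2 * n.c2 *
      m.c2 + n.c2 * m.c3 + n.c2 * m.c4 + 2 * n.c2 * m.c5 + n.c3 * m.c0 + n.c3 * m.c1 + 2 * n.c3 *
      m.c2 + 2 * n.c3 * m.c3 + n.c3 * m.c4 + n.c3 * m.c5 + n.c3 * m.c7 + n.c4 * m.c1 + n.c4 * m.c2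
      + n.c4 * m.c4 + n.c4 * m.c5 - n.c4 * m.c6 + n.c5 * m.c0 + 2 * n.c5 * m.c1 + n.c5 * m.c2 +
      n.c5 * m.c4 + 2 * n.c5 * m.c5 - n.c5 * m.c7 + n.c6 * m.c0 + n.c6 * m.c1 + n.c6 * m.c2 + 2 *
      n.c6 * m.c3 + n.c6 * m.c4 + n.c6 * m.c6 + n.c6 * m.c7 + 2 * n.c7 * m.c0 + n.c7 * m.c1 + 2 *
      n.c7 * m.c2 + 2 * n.c7 * m.c3 + n.c7 * m.c5 + n.c7 * m.c6 + 2 * n.c7 * m.c7,
      2 * n.c0 * m.c0 + 2 * n.c0 * m.c1 + 2 * n.c0 * m.c2 + n.c0 * m.c3 + n.c0 * m.c4 + 2 * n.c0 *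
      m.c5 + n.c0 * m.c6 + n.c0 * m.c7 + n.c1 * m.c0 + n.c1 * m.c1 + n.c1 * m.c2 + n.c1 * m.c4 + 2
      * n.c1 * m.c5 + n.c2 * m.c0 + 2 * n.c2 * m.c1 + 2 * n.c2 * m.c2 + n.c2 * m.c3 + 2 * n.c2 *
      m.c4 + 2 * n.c2 * m.c5 + 2 * n.c3 * m.c0 + 2 * n.c3 * m.c1 + 2 * n.c3 * m.c2 + 2 * n.c3 *
      m.c3 + n.c3 * m.c4 + 2 * n.c3 * m.c5 + n.c3 * m.c6 + n.c3 * m.c7 + n.c4 * m.c1 + n.c4 * m.c4
      + n.c4 * m.c5 - n.c4 * m.c7 + n.c5 * m.c1 + n.c5 * m.c2 - n.c5 * m.c3 + n.c5 * m.c4 + 2 *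
      n.c5 * m.c5 - n.c5 * m.c6 - n.c5 * m.c7 + 2 * n.c6 * m.c0 + n.c6 * m.c1 + n.c6 * m.c2 + n.c6
      * m.c3 + n.c6 * m.c5 + n.c6 * m.c6 + n.c6 * m.c7 + 2 * n.c7 * m.c0 + 2 * n.c7 * m.c1 + 2 *
      n.c7 * m.c2 + 2 * n.c7 * m.c3 + n.c7 * m.c4 + n.c7 * m.c5 + n.c7 * m.c6 + 2 * n.c7 * m.c7,
      n.c0 * m.c0 + 2 * n.c0 * m.c1 + n.c0 * m.c2 + n.c0 * m.c4 + 2 * n.c0 * m.c5 + n.c1 * m.c1 -
      n.c1 * m.c3 + n.c1 * m.c4 + n.c1 * m.c5 - n.c1 * m.c7 + n.c2 * m.c1 + n.c2 * m.c2 - n.c2 *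
      m.c3 + n.c2 * m.c4 + 2 * n.c2 * m.c5 - n.c2 * m.c6 - n.c2 * m.c7 + n.c3 * m.c0 + 2 * n.c3 *
      m.c1 + 2 * n.c3 * m.c2 + n.c3 * m.c3 + 2 * n.c3 * m.c4 + 2 * n.c3 * m.c5 - n.c4 * m.c0 -
      n.c4 * m.c3 + n.c4 * m.c4 - n.c4 * m.c6 - n.c4 * m.c7 - n.c5 * m.c0 - n.c5 * m.c2 - 2 * n.c5
      * m.c3 + n.c5 * m.c5 - n.c5 * m.c6 - 2 * n.c5 * m.c7 + n.c6 * m.c0 + 2 * n.c6 * m.c1 + n.c6
      * m.c2 + n.c6 * m.c3 + n.c6 * m.c4 + n.c6 * m.c5 + n.c6 * m.c6 + 2 * n.c7 * m.c0 + 2 * n.c7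
      * m.c1 + 2 * n.c7 * m.c2 + n.c7 * m.c3 + n.c7 * m.c4 + 2 * n.c7 * m.c5 + n.c7 * m.c7⟩

theorem prod2_comb (n m : Ic) : prod2 (comb n) (comb m) = dbl (comb (bil n m)) := by
  ext <;> simp only [prod2, comb, dbl, bil] <;> ring

theorem prod2_isIco {a b : Ic} (ha : IsIco a) (hb : IsIco b) :
    ∃ e, IsIco e ∧ prod2 a b = dbl e := by
  obtain ⟨n, rfl⟩ := exists_comb ha
  obtain ⟨m, rfl⟩ := exists_comb hb
  exact ⟨comb (bil n m), isIco_comb _, prod2_comb n m⟩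

theorem isIco_mul {a b : Ic} (ha : IsIco a) (hb : IsIco b) : IsIco (mul a b) := by
  obtain ⟨e, he, h⟩ := prod2_isIco ha hb
  unfold mul
  rw [h, half_dbl]
  exact he

theorem dbl_mul {a b : Ic} (ha : IsIco a) (hb : IsIco b) : dbl (mul a b) = prod2 a b := by
  obtain ⟨e, _, h⟩ := prod2_isIco ha hb
  unfold mul
  rw [h, half_dbl]

theorem isIco_add {a b : Ic} (ha : IsIco a) (hb : IsIco b) : IsIco (add a b) := by
  unfold IsIco add at *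
  simp only
  omega

theorem isIco_neg {a : Ic} (ha : IsIco a) : IsIco (neg a) := by
  unfold IsIco neg at *
  simp only
  omega

theorem isIco_sub {a b : Ic} (ha : IsIco a) (hb : IsIco b) : IsIco (sub a b) := by
  unfold IsIco sub at *
  simp only
  omega

theorem isIco_conj {a : Ic} (ha : IsIco a) : IsIco (conj a) := by
  unfold IsIco conj at *
  simp only
  omega

theorem isIco_zero : IsIco zero := by decide

theorem isIco_dbl {a : Ic} (ha : IsIco a) : IsIco (dbl a) := by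
  unfold IsIco dbl at *
  simp only
  omega

end Ic

/-! ### The golden ratio -/

theorem sqrt5_sq : Real.sqrt 5 * Real.sqrt 5 = 5 := Real.mul_self_sqrt (by norm_num)

theorem tau_sq : tau * tau = tau + 1 := by
  unfold tau
  linear_combination (1 / 4 : ℝ) * sqrt5_sq

theorem sig_eq : sig = 1 - tau := by
  unfold sig tau
  ring

theorem sqrt5_eq : Real.sqrt 5 = 2 * tau - 1 := by
  unfold tau
  ring

theorem irrational_sqrt5 : Irrational (Real.sqrt 5) := by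
  have h := Nat.Prime.irrational_sqrt (p := 5) (by norm_num)
  simpa using h

theorem irrational_tau : Irrational tau := by
  have h : tau = (1 / 2 : ℚ) + (1 / 2 : ℚ) * Real.sqrt 5 := by
    unfold tau
    push_cast
    ring
  rw [h]
  exact (irrational_sqrt5.ratCast_mul (by norm_num)).ratCast_add _

/-- `1` and `τ` are linearly independent over the integers -/
theorem tau_indep (a b : ℤ) (h : (a : ℝ) + b * tau = 0) : a = 0 ∧ b = 0 := by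
  have hb : b = 0 := by
    by_contra hb
    have hb' : (b : ℝ) ≠ 0 := by exact_mod_cast hb
    have : tau = ((-a / b : ℚ) : ℝ) := by
      push_cast
      field_simp
      linear_combination h
    exact irrational_tau.ne_rat _ this
  refine ⟨?_, hb⟩
  rw [hb] at h
  simpa using h

theorem tau_indep' (a b a' b' : ℤ) (h : (a : ℝ) + b * tau = a' + b' * tau) : a = a' ∧ b = b' := by
  have := tau_indep (a - a') (b - b') (by push_cast; linear_combination h)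
  omega

/-! ### The real quaternion of an integer vector -/

/-- the quaternion `(1/2) Σ (p_s + q_s τ) u_s` -/
noncomputable def toH (c : Ic) : ℍ[ℝ] :=
  ⟨((c.c0 : ℝ) + c.c1 * tau) / 2, ((c.c2 : ℝ) + c.c3 * tau) / 2, ((c.c4 : ℝ) + c.c5 * tau) / 2,
    ((c.c6 : ℝ) + c.c7 * tau) / 2⟩

@[simp] theorem toH_re (c : Ic) : (toH c).re = ((c.c0 : ℝ) + c.c1 * tau) / 2 := rfl
@[simp] theorem toH_imI (c : Ic) : (toH c).imI = ((c.c2 : ℝ) + c.c3 * tau) / 2 := rfl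
@[simp] theorem toH_imJ (c : Ic) : (toH c).imJ = ((c.c4 : ℝ) + c.c5 * tau) / 2 := rfl
@[simp] theorem toH_imK (c : Ic) : (toH c).imK = ((c.c6 : ℝ) + c.c7 * tau) / 2 := rfl

theorem toH_zero : toH Ic.zero = 0 := by
  ext <;> simp [Ic.zero]

theorem toH_add (a b : Ic) : toH (Ic.add a b) = toH a + toH b := by
  ext <;> simp [Ic.add] <;> ring

theorem toH_neg (a : Ic) : toH (Ic.neg a) = -toH a := by
  ext <;> simp [Ic.neg] <;> ring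

theorem toH_sub (a b : Ic) : toH (Ic.sub a b) = toH a - toH b := by
  ext <;> simp [Ic.sub] <;> ring

theorem toH_dbl (a : Ic) : toH (Ic.dbl a) = 2 * toH a := by
  have h2 : (2 : ℍ[ℝ]) = ((2 : ℝ) : ℍ[ℝ]) := by norm_cast
  rw [h2]
  ext <;> simp [Ic.dbl] <;> ring

theorem toH_conj (a : Ic) : toH (Ic.conj a) = star (toH a) := by
  ext <;> simp [Ic.conj] <;> ring

theorem toH_injective : Function.Injective toH := by
  intro a b h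
  have h0 := congrArg (fun q : ℍ[ℝ] => q.re) h
  have h1 := congrArg (fun q : ℍ[ℝ] => q.imI) h
  have h2 := congrArg (fun q : ℍ[ℝ] => q.imJ) h
  have h3 := congrArg (fun q : ℍ[ℝ] => q.imK) h
  simp only [toH_re, toH_imI, toH_imJ, toH_imK] at h0 h1 h2 h3
  have e0 := tau_indep' a.c0 a.c1 b.c0 b.c1 (by linarith)
  have e1 := tau_indep' a.c2 a.c3 b.c2 b.c3 (by linarith)
  have e2 := tau_indep' a.c4 a.c5 b.c4 b.c5 (by linarith)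
  have e3 := tau_indep' a.c6 a.c7 b.c6 b.c7 (by linarith)
  ext
  · exact e0.1
  · exact e0.2
  · exact e1.1
  · exact e1.2
  · exact e2.1
  · exact e2.2
  · exact e3.1
  · exact e3.2

/-- the product of the quaternions of two integer vectors -/
theorem toH_mul (a b : Ic) : toH a * toH b = (1 / 2 : ℝ) • toH (Ic.prod2 a b) := by
  ext
  · simp only [re_mul, toH_re, toH_imI, toH_imJ, toH_imK, re_smul, smul_eq_mul, Ic.prod2]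
    push_cast
    linear_combination (1 / 4 : ℝ) * ((a.c1 : ℝ) * b.c1 - a.c3 * b.c3 - a.c5 * b.c5
      - a.c7 * b.c7) * tau_sq
  · simp only [imI_mul, toH_re, toH_imI, toH_imJ, toH_imK, imI_smul, smul_eq_mul, Ic.prod2]
    push_cast
    linear_combination (1 / 4 : ℝ) * ((a.c1 : ℝ) * b.c3 + a.c3 * b.c1 + a.c5 * b.c7
      - a.c7 * b.c5) * tau_sq
  · simp only [imJ_mul, toH_re, toH_imI, toH_imJ, toH_imK, imJ_smul, smul_eq_mul, Ic.prod2]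
    push_cast
    linear_combination (1 / 4 : ℝ) * ((a.c1 : ℝ) * b.c5 - a.c3 * b.c7 + a.c5 * b.c1
      + a.c7 * b.c3) * tau_sq
  · simp only [imK_mul, toH_re, toH_imI, toH_imJ, toH_imK, imK_smul, smul_eq_mul, Ic.prod2]
    push_cast
    linear_combination (1 / 4 : ℝ) * ((a.c1 : ℝ) * b.c7 + a.c3 * b.c5 - a.c5 * b.c3
      + a.c7 * b.c1) * tau_sq

theorem toH_mul' {a b : Ic} (ha : Ic.IsIco a) (hb : Ic.IsIco b) :
    toH (Ic.mul a b) = toH a * toH b := by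
  rw [toH_mul, ← Ic.dbl_mul ha hb, toH_dbl]
  have h2 : (2 : ℍ[ℝ]) = ((2 : ℝ) : ℍ[ℝ]) := by norm_cast
  rw [h2, ← Quaternion.coe_mul_eq_smul, ← mul_assoc, ← Quaternion.coe_mul]
  norm_num


/-! ### The icosian ring -/

def ONE : Ic := ⟨2, 0, 0, 0, 0, 0, 0, 0⟩
def QI : Ic := ⟨0, 0, 2, 0, 0, 0, 0, 0⟩
def OM : Ic := ⟨1, 0, 1, -1, 0, 0, 0, 1⟩

theorem toH_ONE : toH ONE = 1 := by
  ext <;> simp [ONE]

theorem toH_QI : toH QI = qI := by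
  ext <;> simp [QI, qI]

theorem toH_OM : toH OM = ⟨1 / 2, sig / 2, 0, tau / 2⟩ := by
  ext <;> simp [OM, sig_eq] <;> ring

/-- the set of the quaternions of the integer vectors with the parity conditions, as a subring -/
noncomputable def icoRing : Subring ℍ[ℝ] where
  carrier := {x | ∃ c, Ic.IsIco c ∧ x = toH c}
  mul_mem' := by
    rintro _ _ ⟨a, ha, rfl⟩ ⟨b, hb, rfl⟩
    exact ⟨Ic.mul a b, Ic.isIco_mul ha hb, (toH_mul' ha hb).symm⟩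
  one_mem' := ⟨ONE, by decide, toH_ONE.symm⟩
  add_mem' := by
    rintro _ _ ⟨a, ha, rfl⟩ ⟨b, hb, rfl⟩
    exact ⟨Ic.add a b, Ic.isIco_add ha hb, (toH_add a b).symm⟩
  zero_mem' := ⟨Ic.zero, Ic.isIco_zero, toH_zero.symm⟩
  neg_mem' := by
    rintro _ ⟨a, ha, rfl⟩
    exact ⟨Ic.neg a, Ic.isIco_neg ha, (toH_neg a).symm⟩

theorem icosians_le : icosians ≤ icoRing := by
  unfold icosians
  rw [Subring.closure_le]
  rintro x (rfl | rfl)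
  · exact ⟨QI, by decide, toH_QI.symm⟩
  · exact ⟨OM, by decide, toH_OM.symm⟩

/-- the value of a word in the two generators (the head of the list is the last factor) -/
def wordIc : List Bool → Ic
  | [] => ONE
  | g :: w => Ic.mul (wordIc w) (cond g OM QI)

theorem wordIc_spec (w : List Bool) : Ic.IsIco (wordIc w) ∧ toH (wordIc w) ∈ icosians := by
  induction w with
  | nil => exact ⟨by decide, by rw [wordIc, toH_ONE]; exact Subring.one_mem _⟩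
  | cons g w ih =>
    have hg : Ic.IsIco (cond g OM QI) ∧ toH (cond g OM QI) ∈ icosians := by
      cases g
      · exact ⟨by decide, by
          rw [cond_false, toH_QI]; exact Subring.subset_closure (Set.mem_insert _ _)⟩
      · exact ⟨by decide, by
          rw [cond_true, toH_OM]
          exact Subring.subset_closure (Set.mem_insert_of_mem _ (Set.mem_singleton _))⟩
    refine ⟨Ic.isIco_mul ih.1 hg.1, ?_⟩
    rw [wordIc, toH_mul' ih.1 hg.1]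
    exact Subring.mul_mem _ ih.2 hg.2

theorem toH_mem_of_word (c : Ic) (w : List Bool) (h : wordIc w = c) : toH c ∈ icosians :=
  h ▸ (wordIc_spec w).2

theorem toH_mem_of_word2 (c : Ic) (w w' : List Bool) (h : Ic.add (wordIc w) (wordIc w') = c) :
    toH c ∈ icosians := by
  rw [← h, toH_add]
  exact Subring.add_mem _ (wordIc_spec w).2 (wordIc_spec w').2

theorem basis_mem :
    toH ⟨1, 0, 0, 0, 0, 1, 1, 1⟩ ∈ icosians ∧ toH ⟨0, 1, 0, 0, 1, 1, 1, 0⟩ ∈ icosians ∧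
    toH ⟨0, 0, 1, 0, 1, 1, 0, 1⟩ ∈ icosians ∧ toH ⟨0, 0, 0, 1, 1, 0, 1, 1⟩ ∈ icosians ∧
    toH ⟨0, 0, 0, 0, 2, 0, 0, 0⟩ ∈ icosians ∧ toH ⟨0, 0, 0, 0, 0, 2, 0, 0⟩ ∈ icosians ∧
    toH ⟨0, 0, 0, 0, 0, 0, 2, 0⟩ ∈ icosians ∧ toH ⟨0, 0, 0, 0, 0, 0, 0, 2⟩ ∈ icosians := by
  refine ⟨?_, ?_, ?_, ?_, ?_, ?_, ?_, ?_⟩
  · exact toH_mem_of_word2 _ [true, false, true, false, true, true, false, true, false]
      [false, true, true, false, true, false, true, false, false, false] (by decide +kernel)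
  · exact toH_mem_of_word2 _ [false, true, true]
      [false, true, true, false, true, false, true, false, false, false] (by decide +kernel)
  · exact toH_mem_of_word2 _
      [false, true, false, true, true, false, true, false, true, false, false, false]
      [false, true, true, false, true, false, true, false, false, false] (by decide +kernel)
  · exact toH_mem_of_word2 _ [false, true, false]
      [false, true, true, false, true, false, true, false, false, false] (by decide +kernel)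
  · exact toH_mem_of_word _
      [true, false, true, true, false, true, false, true, true, false, true, false]
      (by decide +kernel)
  · exact toH_mem_of_word2 _
      [false, true, false, true, true, false, true, false, true, false, false, false]
      [true, true, false, true, true, false, true, false, true, false] (by decide +kernel)
  · exact toH_mem_of_word _
      [true, false, true, true, false, true, false, true, true, false, true, false, false]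
      (by decide +kernel)
  · exact toH_mem_of_word2 _ [false, true, false] [true] (by decide +kernel)

theorem toH_comb (n : Ic) : toH (Ic.comb n) =
    n.c0 • toH ⟨1, 0, 0, 0, 0, 1, 1, 1⟩ + n.c1 • toH ⟨0, 1, 0, 0, 1, 1, 1, 0⟩ +
    n.c2 • toH ⟨0, 0, 1, 0, 1, 1, 0, 1⟩ + n.c3 • toH ⟨0, 0, 0, 1, 1, 0, 1, 1⟩ +
    n.c4 • toH ⟨0, 0, 0, 0, 2, 0, 0, 0⟩ + n.c5 • toH ⟨0, 0, 0, 0, 0, 2, 0, 0⟩ +
    n.c6 • toH ⟨0, 0, 0, 0, 0, 0, 2, 0⟩ + n.c7 • toH ⟨0, 0, 0, 0, 0, 0, 0, 2⟩ := by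
  ext <;> simp [Ic.comb] <;> ring

theorem toH_mem {c : Ic} (h : Ic.IsIco c) : toH c ∈ icosians := by
  obtain ⟨n, rfl⟩ := Ic.exists_comb h
  rw [toH_comb]
  obtain ⟨h0, h1, h2, h3, h4, h5, h6, h7⟩ := basis_mem
  exact Subring.add_mem _ (Subring.add_mem _ (Subring.add_mem _ (Subring.add_mem _
    (Subring.add_mem _ (Subring.add_mem _ (Subring.add_mem _ (Subring.zsmul_mem _ h0 _)
    (Subring.zsmul_mem _ h1 _)) (Subring.zsmul_mem _ h2 _)) (Subring.zsmul_mem _ h3 _))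
    (Subring.zsmul_mem _ h4 _)) (Subring.zsmul_mem _ h5 _)) (Subring.zsmul_mem _ h6 _))
    (Subring.zsmul_mem _ h7 _)

/-- the icosians are the quaternions of the integer vectors with the parity conditions -/
theorem mem_icosians (x : ℍ[ℝ]) : x ∈ icosians ↔ ∃ c, Ic.IsIco c ∧ x = toH c :=
  ⟨fun h => icosians_le h, fun ⟨_, hc, hx⟩ => hx ▸ toH_mem hc⟩


end Cfsg.Agent.Helper29.J2
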