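import Mathlib
import Cfsg.Agent.Lib.Helper29.J2Ico

/-!
# The icosian Leech lattice in integer coordinates
-/

set_option autoImplicit false

namespace Cfsg.Agent.Helper29.J2

open Quaternion Cfsg.Spor

/-! ### Norms -/

/-- four times the rational part of the norm -/
def Ic.A4 (c : Ic) : ℤ :=
  c.c0 * c.c0 + c.c1 * c.c1 + c.c2 * c.c2 + c.c3 * c.c3 + c.c4 * c.c4 + c.c5 * c.c5 + c.c6 * c.c6
    + c.c7 * c.c7

/-- four times the coefficient of `τ` in the norm -/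
def Ic.B4 (c : Ic) : ℤ :=
  2 * c.c0 * c.c1 + c.c1 * c.c1 + 2 * c.c2 * c.c3 + c.c3 * c.c3 + 2 * c.c4 * c.c5 + c.c5 * c.c5
    + 2 * c.c6 * c.c7 + c.c7 * c.c7

theorem normSq_toH (c : Ic) : normSq (toH c) = ((c.A4 : ℝ) + c.B4 * tau) / 4 := by
  rw [normSq_def']
  simp only [toH_re, toH_imI, toH_imJ, toH_imK, Ic.A4, Ic.B4]
  push_cast
  linear_combination (1 / 4 : ℝ) * ((c.c1 : ℝ) * c.c1 + c.c3 * c.c3 + c.c5 * c.c5 + c.c7 * c.c7)
    * tau_sq

theorem toH_mul_star (c : Ic) :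
    toH c * star (toH c) = ((((c.A4 : ℝ) + c.B4 * tau) / 4 : ℝ) : ℍ[ℝ]) := by
  rw [self_mul_star, normSq_toH]

/-! ### The element `h` -/

def H : Ic := ⟨1, -2, 1, 0, 1, 0, 1, 0⟩
def HB : Ic := ⟨1, -2, -1, 0, -1, 0, -1, 0⟩
def TWO : Ic := ⟨4, 0, 0, 0, 0, 0, 0, 0⟩

theorem toH_H : toH H = icoH := by
  ext <;> simp [H, icoH, sqrt5_eq] <;> ring

theorem toH_HB : toH HB = star icoH := by
  rw [← toH_H, ← toH_conj]
  rfl

theorem toH_TWO : toH TWO = 2 := by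
  have : TWO = Ic.dbl ONE := by decide
  rw [this, toH_dbl, toH_ONE, mul_one]

theorem icoH_mul_star : icoH * star icoH = 2 := by
  rw [← toH_HB, ← toH_H, ← toH_mul' (by decide) (by decide), ← toH_TWO]
  congr 1

theorem star_mul_icoH : star icoH * icoH = 2 := by
  rw [← toH_HB, ← toH_H, ← toH_mul' (by decide) (by decide), ← toH_TWO]
  congr 1

theorem icoH_mem : icoH ∈ icosians := by
  rw [← toH_H]; exact toH_mem (by decide)

theorem star_mem_icosians {x : ℍ[ℝ]} (hx : x ∈ icosians) : star x ∈ icosians := by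
  obtain ⟨c, hc, rfl⟩ := (mem_icosians x).1 hx
  rw [← toH_conj]
  exact toH_mem (Ic.isIco_conj hc)

theorem star_icoH_mem : star icoH ∈ icosians := star_mem_icosians icoH_mem

/-! ### Membership in `2I` and in the two ideals -/

/-- all coordinates even, and the half an icosian -/
def Ic.In2I (c : Ic) : Prop :=
  (c.c0 % 2 = 0 ∧ c.c1 % 2 = 0 ∧ c.c2 % 2 = 0 ∧ c.c3 % 2 = 0 ∧ c.c4 % 2 = 0 ∧ c.c5 % 2 = 0 ∧
    c.c6 % 2 = 0 ∧ c.c7 % 2 = 0) ∧ Ic.IsIco (Ic.half c)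

instance (c : Ic) : Decidable (Ic.In2I c) := by unfold Ic.In2I; infer_instance

theorem Ic.in2I_iff (c : Ic) : c.In2I ↔ ∃ e, Ic.IsIco e ∧ c = Ic.dbl e := by
  constructor
  · rintro ⟨⟨h0, h1, h2, h3, h4, h5, h6, h7⟩, h⟩
    refine ⟨Ic.half c, h, ?_⟩
    ext <;> simp [Ic.half, Ic.dbl] <;> omega
  · rintro ⟨e, he, rfl⟩
    refine ⟨?_, by rw [Ic.half_dbl]; exact he⟩
    simp [Ic.dbl]

/-- membership in `I h` -/
def Ic.InIh (c : Ic) : Prop := Ic.In2I (Ic.mul c HB)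
/-- membership in `I h̄` -/
def Ic.InIhb (c : Ic) : Prop := Ic.In2I (Ic.mul c H)

instance (c : Ic) : Decidable (Ic.InIh c) := by unfold Ic.InIh; infer_instance
instance (c : Ic) : Decidable (Ic.InIhb c) := by unfold Ic.InIhb; infer_instance

theorem two_mul_comm (x : ℍ[ℝ]) : x * 2 = 2 * x := by
  rw [mul_two, two_mul]

theorem two_ne_zeroH : (2 : ℍ[ℝ]) ≠ 0 := by
  have h2 : (2 : ℍ[ℝ]) = ((2 : ℝ) : ℍ[ℝ]) := by norm_cast
  rw [h2]
  intro h
  have := congrArg (fun q : ℍ[ℝ] => q.re) h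
  simp at this

theorem mem_leftIdeal_H {c : Ic} (hc : Ic.IsIco c) : toH c ∈ leftIdeal icoH ↔ c.InIh := by
  unfold Ic.InIh
  rw [Ic.in2I_iff]
  constructor
  · rintro ⟨a, ha, h⟩
    obtain ⟨e, he, rfl⟩ := (mem_icosians a).1 ha
    refine ⟨e, he, toH_injective ?_⟩
    rw [toH_mul' hc (by decide), toH_HB, h, mul_assoc, icoH_mul_star, toH_dbl, two_mul_comm]
  · rintro ⟨e, he, h⟩
    refine ⟨toH e, toH_mem he, ?_⟩
    have h1 : toH c * star icoH = 2 * toH e := by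
      rw [← toH_HB, ← toH_mul' hc (by decide), h, toH_dbl]
    have h2 : toH c * star icoH * icoH = 2 * toH e * icoH := by rw [h1]
    rw [mul_assoc, star_mul_icoH, two_mul_comm, mul_assoc] at h2
    have h3 : (2 : ℍ[ℝ]) ≠ 0 := two_ne_zeroH
    exact mul_left_cancel₀ h3 h2

theorem mem_leftIdeal_HB {c : Ic} (hc : Ic.IsIco c) :
    toH c ∈ leftIdeal (star icoH) ↔ c.InIhb := by
  unfold Ic.InIhb
  rw [Ic.in2I_iff]
  constructor
  · rintro ⟨a, ha, h⟩
    obtain ⟨e, he, rfl⟩ := (mem_icosians a).1 ha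
    refine ⟨e, he, toH_injective ?_⟩
    rw [toH_mul' hc (by decide), toH_H, h, mul_assoc, star_mul_icoH, toH_dbl, two_mul_comm]
  · rintro ⟨e, he, h⟩
    refine ⟨toH e, toH_mem he, ?_⟩
    have h1 : toH c * icoH = 2 * toH e := by
      rw [← toH_H, ← toH_mul' hc (by decide), h, toH_dbl]
    have h2 : toH c * icoH * star icoH = 2 * toH e * star icoH := by rw [h1]
    rw [mul_assoc, icoH_mul_star, two_mul_comm, mul_assoc] at h2
    have h3 : (2 : ℍ[ℝ]) ≠ 0 := two_ne_zeroH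
    exact mul_left_cancel₀ h3 h2

/-! ### Vectors -/

/-- three integer vectors -/
structure V3 where
  x : Ic
  y : Ic
  z : Ic
deriving DecidableEq

/-- the vector of quaternions -/
noncomputable def toV (v : V3) : Fin 3 → ℍ[ℝ] := ![toH v.x, toH v.y, toH v.z]

@[simp] theorem toV_zero (v : V3) : toV v 0 = toH v.x := rfl
@[simp] theorem toV_one (v : V3) : toV v 1 = toH v.y := rfl
@[simp] theorem toV_two (v : V3) : toV v 2 = toH v.z := rfl

theorem toV_injective : Function.Injective toV := by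
  intro v w h
  have h0 := toH_injective (congrFun h 0)
  have h1 := toH_injective (congrFun h 1)
  have h2 := toH_injective (congrFun h 2)
  cases v; cases w
  simp_all

/-- the conditions cutting out the lattice -/
def V3.IsLat (v : V3) : Prop :=
  Ic.IsIco v.x ∧ Ic.IsIco v.y ∧ Ic.IsIco v.z ∧ Ic.InIh (Ic.sub v.x v.y) ∧
    Ic.InIh (Ic.sub v.y v.z) ∧ Ic.InIhb (Ic.add (Ic.add v.x v.y) v.z)

instance (v : V3) : Decidable (V3.IsLat v) := by unfold V3.IsLat; infer_instance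

theorem toV_mem {v : V3} (h : v.IsLat) : toV v ∈ icoLeech := by
  obtain ⟨hx, hy, hz, h1, h2, h3⟩ := h
  refine ⟨?_, ?_, ?_, ?_⟩
  · intro t
    fin_cases t
    · exact toH_mem hx
    · exact toH_mem hy
    · exact toH_mem hz
  · rw [toV_zero, toV_one, ← toH_sub]
    exact (mem_leftIdeal_H (Ic.isIco_sub hx hy)).2 h1
  · rw [toV_one, toV_two, ← toH_sub]
    exact (mem_leftIdeal_H (Ic.isIco_sub hy hz)).2 h2
  · rw [toV_zero, toV_one, toV_two, ← toH_add, ← toH_add]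
    exact (mem_leftIdeal_HB (Ic.isIco_add (Ic.isIco_add hx hy) hz)).2 h3

theorem exists_of_mem {v : Fin 3 → ℍ[ℝ]} (h : v ∈ icoLeech) : ∃ w : V3, w.IsLat ∧ v = toV w := by
  obtain ⟨h0, h1, h2, h3⟩ := h
  obtain ⟨x, hx, ex⟩ := (mem_icosians _).1 (h0 0)
  obtain ⟨y, hy, ey⟩ := (mem_icosians _).1 (h0 1)
  obtain ⟨z, hz, ez⟩ := (mem_icosians _).1 (h0 2)
  refine ⟨⟨x, y, z⟩, ⟨hx, hy, hz, ?_, ?_, ?_⟩, ?_⟩
  · rw [ex, ey, ← toH_sub] at h1
    exact (mem_leftIdeal_H (Ic.isIco_sub hx hy)).1 h1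
  · rw [ey, ez, ← toH_sub] at h2
    exact (mem_leftIdeal_H (Ic.isIco_sub hy hz)).1 h2
  · rw [ex, ey, ez, ← toH_add, ← toH_add] at h3
    exact (mem_leftIdeal_HB (Ic.isIco_add (Ic.isIco_add hx hy) hz)).1 h3
  · funext t
    fin_cases t
    · exact ex
    · exact ey
    · exact ez

theorem mem_icoLeech (v : Fin 3 → ℍ[ℝ]) : v ∈ icoLeech ↔ ∃ w : V3, w.IsLat ∧ v = toV w :=
  ⟨exists_of_mem, fun ⟨_, hw, e⟩ => e ▸ toV_mem hw⟩

end Cfsg.Agent.Helper29.J2
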