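import Mathlib
import Cfsg.Agent.Lib.Helper29.J2Lat

/-!
# Data for the enumeration of the short icosians and of the minimal vectors
-/

set_option autoImplicit false

namespace Cfsg.Agent.Helper29.J2

/-- the pairs `(p, q)` with `2p² + 2pq + 3q² ≤ 32`, with that value -/
def pairsF : List (ℤ × ℤ × ℕ × ℕ × ℕ) := [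
  (-4, 0, 32, 0, 0), (-4, 1, 27, 0, 1), (-4, 2, 28, 0, 0), (-3, -1, 27, 1, 1), (-3, 0, 18, 1, 0),
  (-3, 1, 15, 1, 1), (-3, 2, 18, 1, 0), (-3, 3, 27, 1, 1), (-2, -2, 28, 0, 0), (-2, -1, 15, 0, 1),
  (-2, 0, 8, 0, 0), (-2, 1, 7, 0, 1), (-2, 2, 12, 0, 0), (-2, 3, 23, 0, 1), (-1, -2, 18, 1, 0),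
  (-1, -1, 7, 1, 1), (-1, 0, 2, 1, 0), (-1, 1, 3, 1, 1), (-1, 2, 10, 1, 0), (-1, 3, 23, 1, 1),
  (0, -3, 27, 0, 1), (0, -2, 12, 0, 0), (0, -1, 3, 0, 1), (0, 0, 0, 0, 0), (0, 1, 3, 0, 1),
  (0, 2, 12, 0, 0), (0, 3, 27, 0, 1), (1, -3, 23, 1, 1), (1, -2, 10, 1, 0), (1, -1, 3, 1, 1),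
  (1, 0, 2, 1, 0), (1, 1, 7, 1, 1), (1, 2, 18, 1, 0), (2, -3, 23, 0, 1), (2, -2, 12, 0, 0),
  (2, -1, 7, 0, 1), (2, 0, 8, 0, 0), (2, 1, 15, 0, 1), (2, 2, 28, 0, 0), (3, -3, 27, 1, 1),
  (3, -2, 18, 1, 0), (3, -1, 15, 1, 1), (3, 0, 18, 1, 0), (3, 1, 27, 1, 1), (4, -2, 28, 0, 0),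
  (4, -1, 27, 0, 1), (4, 0, 32, 0, 0)]

/-- the 120 units -/
def unitsL : List Ic := [
  ⟨-2, 0, 0, 0, 0, 0, 0, 0⟩, ⟨-1, 0, -1, 0, -1, 0, -1, 0⟩, ⟨-1, 0, -1, 0, -1, 0, 1, 0⟩,
  ⟨-1, 0, -1, 0, 1, 0, -1, 0⟩, ⟨-1, 0, -1, 0, 1, 0, 1, 0⟩, ⟨-1, 0, -1, 1, 0, 0, 0, -1⟩,
  ⟨-1, 0, -1, 1, 0, 0, 0, 1⟩, ⟨-1, 0, 0, -1, -1, 1, 0, 0⟩, ⟨-1, 0, 0, -1, 1, -1, 0, 0⟩,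
  ⟨-1, 0, 0, 0, 0, -1, -1, 1⟩, ⟨-1, 0, 0, 0, 0, -1, 1, -1⟩, ⟨-1, 0, 0, 0, 0, 1, -1, 1⟩,
  ⟨-1, 0, 0, 0, 0, 1, 1, -1⟩, ⟨-1, 0, 0, 1, -1, 1, 0, 0⟩, ⟨-1, 0, 0, 1, 1, -1, 0, 0⟩,
  ⟨-1, 0, 1, -1, 0, 0, 0, -1⟩, ⟨-1, 0, 1, -1, 0, 0, 0, 1⟩, ⟨-1, 0, 1, 0, -1, 0, -1, 0⟩,
  ⟨-1, 0, 1, 0, -1, 0, 1, 0⟩, ⟨-1, 0, 1, 0, 1, 0, -1, 0⟩, ⟨-1, 0, 1, 0, 1, 0, 1, 0⟩,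
  ⟨-1, 1, -1, 0, 0, -1, 0, 0⟩, ⟨-1, 1, -1, 0, 0, 1, 0, 0⟩, ⟨-1, 1, 0, -1, 0, 0, -1, 0⟩,
  ⟨-1, 1, 0, -1, 0, 0, 1, 0⟩, ⟨-1, 1, 0, 0, -1, 0, 0, -1⟩, ⟨-1, 1, 0, 0, -1, 0, 0, 1⟩,
  ⟨-1, 1, 0, 0, 1, 0, 0, -1⟩, ⟨-1, 1, 0, 0, 1, 0, 0, 1⟩, ⟨-1, 1, 0, 1, 0, 0, -1, 0⟩,
  ⟨-1, 1, 0, 1, 0, 0, 1, 0⟩, ⟨-1, 1, 1, 0, 0, -1, 0, 0⟩, ⟨-1, 1, 1, 0, 0, 1, 0, 0⟩,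
  ⟨0, -1, -1, 0, 0, 0, -1, 1⟩, ⟨0, -1, -1, 0, 0, 0, 1, -1⟩, ⟨0, -1, -1, 1, -1, 0, 0, 0⟩,
  ⟨0, -1, -1, 1, 1, 0, 0, 0⟩, ⟨0, -1, 0, 0, -1, 1, -1, 0⟩, ⟨0, -1, 0, 0, -1, 1, 1, 0⟩,
  ⟨0, -1, 0, 0, 1, -1, -1, 0⟩, ⟨0, -1, 0, 0, 1, -1, 1, 0⟩, ⟨0, -1, 1, -1, -1, 0, 0, 0⟩,
  ⟨0, -1, 1, -1, 1, 0, 0, 0⟩, ⟨0, -1, 1, 0, 0, 0, -1, 1⟩, ⟨0, -1, 1, 0, 0, 0, 1, -1⟩,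
  ⟨0, 0, -2, 0, 0, 0, 0, 0⟩, ⟨0, 0, -1, 0, -1, 1, 0, -1⟩, ⟨0, 0, -1, 0, -1, 1, 0, 1⟩,
  ⟨0, 0, -1, 0, 1, -1, 0, -1⟩, ⟨0, 0, -1, 0, 1, -1, 0, 1⟩, ⟨0, 0, -1, 1, 0, -1, -1, 0⟩,
  ⟨0, 0, -1, 1, 0, -1, 1, 0⟩, ⟨0, 0, -1, 1, 0, 1, -1, 0⟩, ⟨0, 0, -1, 1, 0, 1, 1, 0⟩,
  ⟨0, 0, 0, -1, -1, 0, -1, 1⟩, ⟨0, 0, 0, -1, -1, 0, 1, -1⟩, ⟨0, 0, 0, -1, 1, 0, -1, 1⟩,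
  ⟨0, 0, 0, -1, 1, 0, 1, -1⟩, ⟨0, 0, 0, 0, -2, 0, 0, 0⟩, ⟨0, 0, 0, 0, 0, 0, -2, 0⟩,
  ⟨0, 0, 0, 0, 0, 0, 2, 0⟩, ⟨0, 0, 0, 0, 2, 0, 0, 0⟩, ⟨0, 0, 0, 1, -1, 0, -1, 1⟩,
  ⟨0, 0, 0, 1, -1, 0, 1, -1⟩, ⟨0, 0, 0, 1, 1, 0, -1, 1⟩, ⟨0, 0, 0, 1, 1, 0, 1, -1⟩,
  ⟨0, 0, 1, -1, 0, -1, -1, 0⟩, ⟨0, 0, 1, -1, 0, -1, 1, 0⟩, ⟨0, 0, 1, -1, 0, 1, -1, 0⟩,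
  ⟨0, 0, 1, -1, 0, 1, 1, 0⟩, ⟨0, 0, 1, 0, -1, 1, 0, -1⟩, ⟨0, 0, 1, 0, -1, 1, 0, 1⟩,
  ⟨0, 0, 1, 0, 1, -1, 0, -1⟩, ⟨0, 0, 1, 0, 1, -1, 0, 1⟩, ⟨0, 0, 2, 0, 0, 0, 0, 0⟩,
  ⟨0, 1, -1, 0, 0, 0, -1, 1⟩, ⟨0, 1, -1, 0, 0, 0, 1, -1⟩, ⟨0, 1, -1, 1, -1, 0, 0, 0⟩,
  ⟨0, 1, -1, 1, 1, 0, 0, 0⟩, ⟨0, 1, 0, 0, -1, 1, -1, 0⟩, ⟨0, 1, 0, 0, -1, 1, 1, 0⟩,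
  ⟨0, 1, 0, 0, 1, -1, -1, 0⟩, ⟨0, 1, 0, 0, 1, -1, 1, 0⟩, ⟨0, 1, 1, -1, -1, 0, 0, 0⟩,
  ⟨0, 1, 1, -1, 1, 0, 0, 0⟩, ⟨0, 1, 1, 0, 0, 0, -1, 1⟩, ⟨0, 1, 1, 0, 0, 0, 1, -1⟩,
  ⟨1, -1, -1, 0, 0, -1, 0, 0⟩, ⟨1, -1, -1, 0, 0, 1, 0, 0⟩, ⟨1, -1, 0, -1, 0, 0, -1, 0⟩,
  ⟨1, -1, 0, -1, 0, 0, 1, 0⟩, ⟨1, -1, 0, 0, -1, 0, 0, -1⟩, ⟨1, -1, 0, 0, -1, 0, 0, 1⟩,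
  ⟨1, -1, 0, 0, 1, 0, 0, -1⟩, ⟨1, -1, 0, 0, 1, 0, 0, 1⟩, ⟨1, -1, 0, 1, 0, 0, -1, 0⟩,
  ⟨1, -1, 0, 1, 0, 0, 1, 0⟩, ⟨1, -1, 1, 0, 0, -1, 0, 0⟩, ⟨1, -1, 1, 0, 0, 1, 0, 0⟩,
  ⟨1, 0, -1, 0, -1, 0, -1, 0⟩, ⟨1, 0, -1, 0, -1, 0, 1, 0⟩, ⟨1, 0, -1, 0, 1, 0, -1, 0⟩,
  ⟨1, 0, -1, 0, 1, 0, 1, 0⟩, ⟨1, 0, -1, 1, 0, 0, 0, -1⟩, ⟨1, 0, -1, 1, 0, 0, 0, 1⟩,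
  ⟨1, 0, 0, -1, -1, 1, 0, 0⟩, ⟨1, 0, 0, -1, 1, -1, 0, 0⟩, ⟨1, 0, 0, 0, 0, -1, -1, 1⟩,
  ⟨1, 0, 0, 0, 0, -1, 1, -1⟩, ⟨1, 0, 0, 0, 0, 1, -1, 1⟩, ⟨1, 0, 0, 0, 0, 1, 1, -1⟩,
  ⟨1, 0, 0, 1, -1, 1, 0, 0⟩, ⟨1, 0, 0, 1, 1, -1, 0, 0⟩, ⟨1, 0, 1, -1, 0, 0, 0, -1⟩,
  ⟨1, 0, 1, -1, 0, 0, 0, 1⟩, ⟨1, 0, 1, 0, -1, 0, -1, 0⟩, ⟨1, 0, 1, 0, -1, 0, 1, 0⟩,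
  ⟨1, 0, 1, 0, 1, 0, -1, 0⟩, ⟨1, 0, 1, 0, 1, 0, 1, 0⟩, ⟨2, 0, 0, 0, 0, 0, 0, 0⟩]

/-- the short icosians congruent to `1` modulo `I h` -/
def YL : List Ic := [
  ⟨-3, 0, -1, 0, -1, 0, -1, 2⟩, ⟨-3, 0, -1, 0, -1, 2, -1, 0⟩, ⟨-3, 0, -1, 0, 1, -2, 1, 0⟩,
  ⟨-3, 0, -1, 0, 1, 0, 1, -2⟩, ⟨-3, 0, -1, 2, -1, 0, -1, 0⟩, ⟨-3, 0, -1, 2, 1, 0, 1, 0⟩,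
  ⟨-3, 0, 1, -2, -1, 0, 1, 0⟩, ⟨-3, 0, 1, -2, 1, 0, -1, 0⟩, ⟨-3, 0, 1, 0, -1, 0, 1, -2⟩,
  ⟨-3, 0, 1, 0, -1, 2, 1, 0⟩, ⟨-3, 0, 1, 0, 1, -2, -1, 0⟩, ⟨-3, 0, 1, 0, 1, 0, -1, 2⟩,
  ⟨-2, 0, -2, 0, -2, 0, 0, 0⟩, ⟨-2, 0, -2, 0, 0, 0, -2, 0⟩, ⟨-2, 0, -2, 0, 0, 0, 2, 0⟩,
  ⟨-2, 0, -2, 0, 2, 0, 0, 0⟩, ⟨-2, 0, 0, 0, -2, 0, -2, 0⟩, ⟨-2, 0, 0, 0, -2, 0, 2, 0⟩,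
  ⟨-2, 0, 0, 0, 0, 0, 0, 0⟩, ⟨-2, 0, 0, 0, 2, 0, -2, 0⟩, ⟨-2, 0, 0, 0, 2, 0, 2, 0⟩,
  ⟨-2, 0, 2, 0, -2, 0, 0, 0⟩, ⟨-2, 0, 2, 0, 0, 0, -2, 0⟩, ⟨-2, 0, 2, 0, 0, 0, 2, 0⟩,
  ⟨-2, 0, 2, 0, 2, 0, 0, 0⟩, ⟨-2, 1, -2, 1, 0, -1, 0, 1⟩, ⟨-2, 1, -2, 1, 0, 1, 0, -1⟩,
  ⟨-2, 1, 0, -1, -2, 1, 0, 1⟩, ⟨-2, 1, 0, -1, 0, -1, 2, -1⟩, ⟨-2, 1, 0, -1, 0, 1, -2, 1⟩,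
  ⟨-2, 1, 0, -1, 2, -1, 0, -1⟩, ⟨-2, 1, 0, 1, -2, 1, 0, -1⟩, ⟨-2, 1, 0, 1, 0, -1, -2, 1⟩,
  ⟨-2, 1, 0, 1, 0, 1, 2, -1⟩, ⟨-2, 1, 0, 1, 2, -1, 0, 1⟩, ⟨-2, 1, 2, -1, 0, -1, 0, -1⟩,
  ⟨-2, 1, 2, -1, 0, 1, 0, 1⟩, ⟨-2, 2, 0, -2, 0, 0, 0, 0⟩, ⟨-2, 2, 0, 0, 0, -2, 0, 0⟩,
  ⟨-2, 2, 0, 0, 0, 0, 0, -2⟩, ⟨-2, 2, 0, 0, 0, 0, 0, 2⟩, ⟨-2, 2, 0, 0, 0, 2, 0, 0⟩,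
  ⟨-2, 2, 0, 2, 0, 0, 0, 0⟩, ⟨-1, -1, -1, -1, -1, 1, -1, 1⟩, ⟨-1, -1, -1, -1, 1, -1, 1, -1⟩,
  ⟨-1, -1, -1, 1, -1, -1, -1, 1⟩, ⟨-1, -1, -1, 1, -1, 1, -1, -1⟩, ⟨-1, -1, -1, 1, 1, -1, 1, 1⟩,
  ⟨-1, -1, -1, 1, 1, 1, 1, -1⟩, ⟨-1, -1, 1, -1, -1, -1, 1, -1⟩, ⟨-1, -1, 1, -1, -1, 1, 1, 1⟩,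
  ⟨-1, -1, 1, -1, 1, -1, -1, -1⟩, ⟨-1, -1, 1, -1, 1, 1, -1, 1⟩, ⟨-1, -1, 1, 1, -1, 1, 1, -1⟩,
  ⟨-1, -1, 1, 1, 1, -1, -1, 1⟩, ⟨-1, 0, -3, 0, -1, 0, -1, 2⟩, ⟨-1, 0, -3, 0, -1, 2, -1, 0⟩,
  ⟨-1, 0, -3, 0, 1, -2, 1, 0⟩, ⟨-1, 0, -3, 0, 1, 0, 1, -2⟩, ⟨-1, 0, -1, 0, -3, 0, -1, 2⟩,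
  ⟨-1, 0, -1, 0, -1, 0, 1, -2⟩, ⟨-1, 0, -1, 0, -1, 2, -3, 0⟩, ⟨-1, 0, -1, 0, -1, 2, 1, 0⟩,
  ⟨-1, 0, -1, 0, 1, -2, -1, 0⟩, ⟨-1, 0, -1, 0, 1, -2, 3, 0⟩, ⟨-1, 0, -1, 0, 1, 0, -1, 2⟩,
  ⟨-1, 0, -1, 0, 3, 0, 1, -2⟩, ⟨-1, 0, -1, 2, -3, 0, -1, 0⟩, ⟨-1, 0, -1, 2, -1, 0, -3, 0⟩,
  ⟨-1, 0, -1, 2, -1, 0, 1, 0⟩, ⟨-1, 0, -1, 2, -1, 2, 1, -2⟩, ⟨-1, 0, -1, 2, 1, -2, -1, 2⟩,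
  ⟨-1, 0, -1, 2, 1, 0, -1, 0⟩, ⟨-1, 0, -1, 2, 1, 0, 3, 0⟩, ⟨-1, 0, -1, 2, 3, 0, 1, 0⟩,
  ⟨-1, 0, 1, -2, -3, 0, 1, 0⟩, ⟨-1, 0, 1, -2, -1, 0, -1, 0⟩, ⟨-1, 0, 1, -2, -1, 0, 3, 0⟩,
  ⟨-1, 0, 1, -2, -1, 2, -1, 2⟩, ⟨-1, 0, 1, -2, 1, -2, 1, -2⟩, ⟨-1, 0, 1, -2, 1, 0, -3, 0⟩,
  ⟨-1, 0, 1, -2, 1, 0, 1, 0⟩, ⟨-1, 0, 1, -2, 3, 0, -1, 0⟩, ⟨-1, 0, 1, 0, -3, 0, 1, -2⟩,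
  ⟨-1, 0, 1, 0, -1, 0, -1, 2⟩, ⟨-1, 0, 1, 0, -1, 2, -1, 0⟩, ⟨-1, 0, 1, 0, -1, 2, 3, 0⟩,
  ⟨-1, 0, 1, 0, 1, -2, -3, 0⟩, ⟨-1, 0, 1, 0, 1, -2, 1, 0⟩, ⟨-1, 0, 1, 0, 1, 0, 1, -2⟩,
  ⟨-1, 0, 1, 0, 3, 0, -1, 2⟩, ⟨-1, 0, 3, 0, -1, 0, 1, -2⟩, ⟨-1, 0, 3, 0, -1, 2, 1, 0⟩,
  ⟨-1, 0, 3, 0, 1, -2, -1, 0⟩, ⟨-1, 0, 3, 0, 1, 0, -1, 2⟩, ⟨-1, 1, -1, -1, -1, -1, -1, 1⟩,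
  ⟨-1, 1, -1, -1, -1, 1, -1, -1⟩, ⟨-1, 1, -1, -1, 1, -1, 1, 1⟩, ⟨-1, 1, -1, -1, 1, 1, 1, -1⟩,
  ⟨-1, 1, -1, 1, -1, -1, -1, -1⟩, ⟨-1, 1, -1, 1, -1, 1, -1, 1⟩, ⟨-1, 1, -1, 1, 1, -1, 1, -1⟩,
  ⟨-1, 1, -1, 1, 1, 1, 1, 1⟩, ⟨-1, 1, 1, -1, -1, -1, 1, 1⟩, ⟨-1, 1, 1, -1, -1, 1, 1, -1⟩,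
  ⟨-1, 1, 1, -1, 1, -1, -1, 1⟩, ⟨-1, 1, 1, -1, 1, 1, -1, -1⟩, ⟨-1, 1, 1, 1, -1, -1, 1, -1⟩,
  ⟨-1, 1, 1, 1, -1, 1, 1, 1⟩, ⟨-1, 1, 1, 1, 1, -1, -1, -1⟩, ⟨-1, 1, 1, 1, 1, 1, -1, 1⟩,
  ⟨-1, 2, -3, 0, -1, 0, -1, 0⟩, ⟨-1, 2, -3, 0, 1, 0, 1, 0⟩, ⟨-1, 2, -1, 0, -3, 0, -1, 0⟩,
  ⟨-1, 2, -1, 0, -1, 0, -3, 0⟩, ⟨-1, 2, -1, 0, -1, 0, 1, 0⟩, ⟨-1, 2, -1, 0, -1, 2, 1, -2⟩,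
  ⟨-1, 2, -1, 0, 1, -2, -1, 2⟩, ⟨-1, 2, -1, 0, 1, 0, -1, 0⟩, ⟨-1, 2, -1, 0, 1, 0, 3, 0⟩,
  ⟨-1, 2, -1, 0, 3, 0, 1, 0⟩, ⟨-1, 2, -1, 2, -1, 0, 1, -2⟩, ⟨-1, 2, -1, 2, -1, 2, 1, 0⟩,
  ⟨-1, 2, -1, 2, 1, -2, -1, 0⟩, ⟨-1, 2, -1, 2, 1, 0, -1, 2⟩, ⟨-1, 2, 1, -2, -1, 0, -1, 2⟩,
  ⟨-1, 2, 1, -2, -1, 2, -1, 0⟩, ⟨-1, 2, 1, -2, 1, -2, 1, 0⟩, ⟨-1, 2, 1, -2, 1, 0, 1, -2⟩,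
  ⟨-1, 2, 1, 0, -3, 0, 1, 0⟩, ⟨-1, 2, 1, 0, -1, 0, -1, 0⟩, ⟨-1, 2, 1, 0, -1, 0, 3, 0⟩,
  ⟨-1, 2, 1, 0, -1, 2, -1, 2⟩, ⟨-1, 2, 1, 0, 1, -2, 1, -2⟩, ⟨-1, 2, 1, 0, 1, 0, -3, 0⟩,
  ⟨-1, 2, 1, 0, 1, 0, 1, 0⟩, ⟨-1, 2, 1, 0, 3, 0, -1, 0⟩, ⟨-1, 2, 3, 0, -1, 0, 1, 0⟩,
  ⟨-1, 2, 3, 0, 1, 0, -1, 0⟩, ⟨0, -2, -2, 2, 0, 0, 0, 0⟩, ⟨0, -2, 0, 0, -2, 2, 0, 0⟩,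
  ⟨0, -2, 0, 0, 0, 0, -2, 2⟩, ⟨0, -2, 0, 0, 0, 0, 2, -2⟩, ⟨0, -2, 0, 0, 2, -2, 0, 0⟩,
  ⟨0, -2, 2, -2, 0, 0, 0, 0⟩, ⟨0, -1, -2, 1, -2, 1, 0, 1⟩, ⟨0, -1, -2, 1, 0, -1, 2, -1⟩,
  ⟨0, -1, -2, 1, 0, 1, -2, 1⟩, ⟨0, -1, -2, 1, 2, -1, 0, -1⟩, ⟨0, -1, 0, -1, -2, 1, 2, -1⟩,
  ⟨0, -1, 0, -1, 0, -1, 0, 1⟩, ⟨0, -1, 0, -1, 0, 1, 0, -1⟩, ⟨0, -1, 0, -1, 2, -1, -2, 1⟩,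
  ⟨0, -1, 0, 1, -2, 1, -2, 1⟩, ⟨0, -1, 0, 1, 0, -1, 0, -1⟩, ⟨0, -1, 0, 1, 0, 1, 0, 1⟩,
  ⟨0, -1, 0, 1, 2, -1, 2, -1⟩, ⟨0, -1, 2, -1, -2, 1, 0, -1⟩, ⟨0, -1, 2, -1, 0, -1, -2, 1⟩,
  ⟨0, -1, 2, -1, 0, 1, 2, -1⟩, ⟨0, -1, 2, -1, 2, -1, 0, 1⟩, ⟨0, 0, -2, 0, -2, 0, -2, 0⟩,
  ⟨0, 0, -2, 0, -2, 0, 2, 0⟩, ⟨0, 0, -2, 0, 0, 0, 0, 0⟩, ⟨0, 0, -2, 0, 2, 0, -2, 0⟩,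
  ⟨0, 0, -2, 0, 2, 0, 2, 0⟩, ⟨0, 0, -2, 2, 0, -2, 0, 0⟩, ⟨0, 0, -2, 2, 0, 0, 0, -2⟩,
  ⟨0, 0, -2, 2, 0, 0, 0, 2⟩, ⟨0, 0, -2, 2, 0, 2, 0, 0⟩, ⟨0, 0, 0, -2, -2, 2, 0, 0⟩,
  ⟨0, 0, 0, -2, 0, 0, -2, 2⟩, ⟨0, 0, 0, -2, 0, 0, 2, -2⟩, ⟨0, 0, 0, -2, 2, -2, 0, 0⟩,
  ⟨0, 0, 0, 0, -2, 0, 0, 0⟩, ⟨0, 0, 0, 0, -2, 2, 0, -2⟩, ⟨0, 0, 0, 0, -2, 2, 0, 2⟩,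
  ⟨0, 0, 0, 0, 0, -2, -2, 2⟩, ⟨0, 0, 0, 0, 0, -2, 2, -2⟩, ⟨0, 0, 0, 0, 0, 0, -2, 0⟩,
  ⟨0, 0, 0, 0, 0, 0, 2, 0⟩, ⟨0, 0, 0, 0, 0, 2, -2, 2⟩, ⟨0, 0, 0, 0, 0, 2, 2, -2⟩,
  ⟨0, 0, 0, 0, 2, -2, 0, -2⟩, ⟨0, 0, 0, 0, 2, -2, 0, 2⟩, ⟨0, 0, 0, 0, 2, 0, 0, 0⟩,
  ⟨0, 0, 0, 2, -2, 2, 0, 0⟩, ⟨0, 0, 0, 2, 0, 0, -2, 2⟩, ⟨0, 0, 0, 2, 0, 0, 2, -2⟩,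
  ⟨0, 0, 0, 2, 2, -2, 0, 0⟩, ⟨0, 0, 2, -2, 0, -2, 0, 0⟩, ⟨0, 0, 2, -2, 0, 0, 0, -2⟩,
  ⟨0, 0, 2, -2, 0, 0, 0, 2⟩, ⟨0, 0, 2, -2, 0, 2, 0, 0⟩, ⟨0, 0, 2, 0, -2, 0, -2, 0⟩,
  ⟨0, 0, 2, 0, -2, 0, 2, 0⟩, ⟨0, 0, 2, 0, 0, 0, 0, 0⟩, ⟨0, 0, 2, 0, 2, 0, -2, 0⟩,
  ⟨0, 0, 2, 0, 2, 0, 2, 0⟩, ⟨0, 1, -2, 1, -2, 1, 0, -1⟩, ⟨0, 1, -2, 1, 0, -1, -2, 1⟩,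
  ⟨0, 1, -2, 1, 0, 1, 2, -1⟩, ⟨0, 1, -2, 1, 2, -1, 0, 1⟩, ⟨0, 1, 0, -1, -2, 1, -2, 1⟩,
  ⟨0, 1, 0, -1, 0, -1, 0, -1⟩, ⟨0, 1, 0, -1, 0, 1, 0, 1⟩, ⟨0, 1, 0, -1, 2, -1, 2, -1⟩,
  ⟨0, 1, 0, 1, -2, 1, 2, -1⟩, ⟨0, 1, 0, 1, 0, -1, 0, 1⟩, ⟨0, 1, 0, 1, 0, 1, 0, -1⟩,
  ⟨0, 1, 0, 1, 2, -1, -2, 1⟩, ⟨0, 1, 2, -1, -2, 1, 0, 1⟩, ⟨0, 1, 2, -1, 0, -1, 2, -1⟩,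
  ⟨0, 1, 2, -1, 0, 1, -2, 1⟩, ⟨0, 1, 2, -1, 2, -1, 0, -1⟩, ⟨0, 2, -2, 2, 0, 0, 0, 0⟩,
  ⟨0, 2, 0, 0, -2, 2, 0, 0⟩, ⟨0, 2, 0, 0, 0, 0, -2, 2⟩, ⟨0, 2, 0, 0, 0, 0, 2, -2⟩,
  ⟨0, 2, 0, 0, 2, -2, 0, 0⟩, ⟨0, 2, 2, -2, 0, 0, 0, 0⟩, ⟨1, -2, -3, 0, -1, 0, 1, 0⟩,
  ⟨1, -2, -3, 0, 1, 0, -1, 0⟩, ⟨1, -2, -1, 0, -3, 0, 1, 0⟩, ⟨1, -2, -1, 0, -1, 0, -1, 0⟩,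
  ⟨1, -2, -1, 0, -1, 0, 3, 0⟩, ⟨1, -2, -1, 0, -1, 2, -1, 2⟩, ⟨1, -2, -1, 0, 1, -2, 1, -2⟩,
  ⟨1, -2, -1, 0, 1, 0, -3, 0⟩, ⟨1, -2, -1, 0, 1, 0, 1, 0⟩, ⟨1, -2, -1, 0, 3, 0, -1, 0⟩,
  ⟨1, -2, -1, 2, -1, 0, -1, 2⟩, ⟨1, -2, -1, 2, -1, 2, -1, 0⟩, ⟨1, -2, -1, 2, 1, -2, 1, 0⟩,
  ⟨1, -2, -1, 2, 1, 0, 1, -2⟩, ⟨1, -2, 1, -2, -1, 0, 1, -2⟩, ⟨1, -2, 1, -2, -1, 2, 1, 0⟩,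
  ⟨1, -2, 1, -2, 1, -2, -1, 0⟩, ⟨1, -2, 1, -2, 1, 0, -1, 2⟩, ⟨1, -2, 1, 0, -3, 0, -1, 0⟩,
  ⟨1, -2, 1, 0, -1, 0, -3, 0⟩, ⟨1, -2, 1, 0, -1, 0, 1, 0⟩, ⟨1, -2, 1, 0, -1, 2, 1, -2⟩,
  ⟨1, -2, 1, 0, 1, -2, -1, 2⟩, ⟨1, -2, 1, 0, 1, 0, -1, 0⟩, ⟨1, -2, 1, 0, 1, 0, 3, 0⟩,
  ⟨1, -2, 1, 0, 3, 0, 1, 0⟩, ⟨1, -2, 3, 0, -1, 0, -1, 0⟩, ⟨1, -2, 3, 0, 1, 0, 1, 0⟩,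
  ⟨1, -1, -1, -1, -1, -1, 1, -1⟩, ⟨1, -1, -1, -1, -1, 1, 1, 1⟩, ⟨1, -1, -1, -1, 1, -1, -1, -1⟩,
  ⟨1, -1, -1, -1, 1, 1, -1, 1⟩, ⟨1, -1, -1, 1, -1, -1, 1, 1⟩, ⟨1, -1, -1, 1, -1, 1, 1, -1⟩,
  ⟨1, -1, -1, 1, 1, -1, -1, 1⟩, ⟨1, -1, -1, 1, 1, 1, -1, -1⟩, ⟨1, -1, 1, -1, -1, -1, -1, -1⟩,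
  ⟨1, -1, 1, -1, -1, 1, -1, 1⟩, ⟨1, -1, 1, -1, 1, -1, 1, -1⟩, ⟨1, -1, 1, -1, 1, 1, 1, 1⟩,
  ⟨1, -1, 1, 1, -1, -1, -1, 1⟩, ⟨1, -1, 1, 1, -1, 1, -1, -1⟩, ⟨1, -1, 1, 1, 1, -1, 1, 1⟩,
  ⟨1, -1, 1, 1, 1, 1, 1, -1⟩, ⟨1, 0, -3, 0, -1, 0, 1, -2⟩, ⟨1, 0, -3, 0, -1, 2, 1, 0⟩,
  ⟨1, 0, -3, 0, 1, -2, -1, 0⟩, ⟨1, 0, -3, 0, 1, 0, -1, 2⟩, ⟨1, 0, -1, 0, -3, 0, 1, -2⟩,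
  ⟨1, 0, -1, 0, -1, 0, -1, 2⟩, ⟨1, 0, -1, 0, -1, 2, -1, 0⟩, ⟨1, 0, -1, 0, -1, 2, 3, 0⟩,
  ⟨1, 0, -1, 0, 1, -2, -3, 0⟩, ⟨1, 0, -1, 0, 1, -2, 1, 0⟩, ⟨1, 0, -1, 0, 1, 0, 1, -2⟩,
  ⟨1, 0, -1, 0, 3, 0, -1, 2⟩, ⟨1, 0, -1, 2, -3, 0, 1, 0⟩, ⟨1, 0, -1, 2, -1, 0, -1, 0⟩,
  ⟨1, 0, -1, 2, -1, 0, 3, 0⟩, ⟨1, 0, -1, 2, -1, 2, -1, 2⟩, ⟨1, 0, -1, 2, 1, -2, 1, -2⟩,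
  ⟨1, 0, -1, 2, 1, 0, -3, 0⟩, ⟨1, 0, -1, 2, 1, 0, 1, 0⟩, ⟨1, 0, -1, 2, 3, 0, -1, 0⟩,
  ⟨1, 0, 1, -2, -3, 0, -1, 0⟩, ⟨1, 0, 1, -2, -1, 0, -3, 0⟩, ⟨1, 0, 1, -2, -1, 0, 1, 0⟩,
  ⟨1, 0, 1, -2, -1, 2, 1, -2⟩, ⟨1, 0, 1, -2, 1, -2, -1, 2⟩, ⟨1, 0, 1, -2, 1, 0, -1, 0⟩,
  ⟨1, 0, 1, -2, 1, 0, 3, 0⟩, ⟨1, 0, 1, -2, 3, 0, 1, 0⟩, ⟨1, 0, 1, 0, -3, 0, -1, 2⟩,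
  ⟨1, 0, 1, 0, -1, 0, 1, -2⟩, ⟨1, 0, 1, 0, -1, 2, -3, 0⟩, ⟨1, 0, 1, 0, -1, 2, 1, 0⟩,
  ⟨1, 0, 1, 0, 1, -2, -1, 0⟩, ⟨1, 0, 1, 0, 1, -2, 3, 0⟩, ⟨1, 0, 1, 0, 1, 0, -1, 2⟩,
  ⟨1, 0, 1, 0, 3, 0, 1, -2⟩, ⟨1, 0, 3, 0, -1, 0, -1, 2⟩, ⟨1, 0, 3, 0, -1, 2, -1, 0⟩,
  ⟨1, 0, 3, 0, 1, -2, 1, 0⟩, ⟨1, 0, 3, 0, 1, 0, 1, -2⟩, ⟨1, 1, -1, -1, -1, 1, 1, -1⟩,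
  ⟨1, 1, -1, -1, 1, -1, -1, 1⟩, ⟨1, 1, -1, 1, -1, -1, 1, -1⟩, ⟨1, 1, -1, 1, -1, 1, 1, 1⟩,
  ⟨1, 1, -1, 1, 1, -1, -1, -1⟩, ⟨1, 1, -1, 1, 1, 1, -1, 1⟩, ⟨1, 1, 1, -1, -1, -1, -1, 1⟩,
  ⟨1, 1, 1, -1, -1, 1, -1, -1⟩, ⟨1, 1, 1, -1, 1, -1, 1, 1⟩, ⟨1, 1, 1, -1, 1, 1, 1, -1⟩,
  ⟨1, 1, 1, 1, -1, 1, -1, 1⟩, ⟨1, 1, 1, 1, 1, -1, 1, -1⟩, ⟨2, -2, 0, -2, 0, 0, 0, 0⟩,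
  ⟨2, -2, 0, 0, 0, -2, 0, 0⟩, ⟨2, -2, 0, 0, 0, 0, 0, -2⟩, ⟨2, -2, 0, 0, 0, 0, 0, 2⟩,
  ⟨2, -2, 0, 0, 0, 2, 0, 0⟩, ⟨2, -2, 0, 2, 0, 0, 0, 0⟩, ⟨2, -1, -2, 1, 0, -1, 0, -1⟩,
  ⟨2, -1, -2, 1, 0, 1, 0, 1⟩, ⟨2, -1, 0, -1, -2, 1, 0, -1⟩, ⟨2, -1, 0, -1, 0, -1, -2, 1⟩,
  ⟨2, -1, 0, -1, 0, 1, 2, -1⟩, ⟨2, -1, 0, -1, 2, -1, 0, 1⟩, ⟨2, -1, 0, 1, -2, 1, 0, 1⟩,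
  ⟨2, -1, 0, 1, 0, -1, 2, -1⟩, ⟨2, -1, 0, 1, 0, 1, -2, 1⟩, ⟨2, -1, 0, 1, 2, -1, 0, -1⟩,
  ⟨2, -1, 2, -1, 0, -1, 0, 1⟩, ⟨2, -1, 2, -1, 0, 1, 0, -1⟩, ⟨2, 0, -2, 0, -2, 0, 0, 0⟩,
  ⟨2, 0, -2, 0, 0, 0, -2, 0⟩, ⟨2, 0, -2, 0, 0, 0, 2, 0⟩, ⟨2, 0, -2, 0, 2, 0, 0, 0⟩,
  ⟨2, 0, 0, 0, -2, 0, -2, 0⟩, ⟨2, 0, 0, 0, -2, 0, 2, 0⟩, ⟨2, 0, 0, 0, 0, 0, 0, 0⟩,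
  ⟨2, 0, 0, 0, 2, 0, -2, 0⟩, ⟨2, 0, 0, 0, 2, 0, 2, 0⟩, ⟨2, 0, 2, 0, -2, 0, 0, 0⟩,
  ⟨2, 0, 2, 0, 0, 0, -2, 0⟩, ⟨2, 0, 2, 0, 0, 0, 2, 0⟩, ⟨2, 0, 2, 0, 2, 0, 0, 0⟩,
  ⟨3, 0, -1, 0, -1, 0, 1, -2⟩, ⟨3, 0, -1, 0, -1, 2, 1, 0⟩, ⟨3, 0, -1, 0, 1, -2, -1, 0⟩,
  ⟨3, 0, -1, 0, 1, 0, -1, 2⟩, ⟨3, 0, -1, 2, -1, 0, 1, 0⟩, ⟨3, 0, -1, 2, 1, 0, -1, 0⟩,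
  ⟨3, 0, 1, -2, -1, 0, -1, 0⟩, ⟨3, 0, 1, -2, 1, 0, 1, 0⟩, ⟨3, 0, 1, 0, -1, 0, -1, 2⟩,
  ⟨3, 0, 1, 0, -1, 2, -1, 0⟩, ⟨3, 0, 1, 0, 1, -2, 1, 0⟩, ⟨3, 0, 1, 0, 1, 0, 1, -2⟩]

/-- the short icosians in `I h` -/
def ZL : List Ic := [
  ⟨-4, 0, 0, 0, 0, 0, 0, 0⟩, ⟨-3, 0, -1, 0, -1, 0, 1, -2⟩, ⟨-3, 0, -1, 0, -1, 2, 1, 0⟩,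
  ⟨-3, 0, -1, 0, 1, -2, -1, 0⟩, ⟨-3, 0, -1, 0, 1, 0, -1, 2⟩, ⟨-3, 0, -1, 2, -1, 0, 1, 0⟩,
  ⟨-3, 0, -1, 2, 1, 0, -1, 0⟩, ⟨-3, 0, 1, -2, -1, 0, -1, 0⟩, ⟨-3, 0, 1, -2, 1, 0, 1, 0⟩,
  ⟨-3, 0, 1, 0, -1, 0, -1, 2⟩, ⟨-3, 0, 1, 0, -1, 2, -1, 0⟩, ⟨-3, 0, 1, 0, 1, -2, 1, 0⟩,
  ⟨-3, 0, 1, 0, 1, 0, 1, -2⟩, ⟨-3, 1, -1, -1, -1, -1, -1, 1⟩, ⟨-3, 1, -1, -1, -1, 1, -1, -1⟩,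
  ⟨-3, 1, -1, -1, 1, -1, 1, 1⟩, ⟨-3, 1, -1, -1, 1, 1, 1, -1⟩, ⟨-3, 1, -1, 1, -1, -1, -1, -1⟩,
  ⟨-3, 1, -1, 1, 1, 1, 1, 1⟩, ⟨-3, 1, 1, -1, -1, -1, 1, 1⟩, ⟨-3, 1, 1, -1, 1, 1, -1, -1⟩,
  ⟨-3, 1, 1, 1, -1, -1, 1, -1⟩, ⟨-3, 1, 1, 1, -1, 1, 1, 1⟩, ⟨-3, 1, 1, 1, 1, -1, -1, -1⟩,
  ⟨-3, 1, 1, 1, 1, 1, -1, 1⟩, ⟨-2, -1, -2, 1, -2, 1, 0, 1⟩, ⟨-2, -1, -2, 1, 0, -1, 2, -1⟩,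
  ⟨-2, -1, -2, 1, 0, 1, -2, 1⟩, ⟨-2, -1, -2, 1, 2, -1, 0, -1⟩, ⟨-2, -1, 0, -1, -2, 1, 2, -1⟩,
  ⟨-2, -1, 0, -1, 2, -1, -2, 1⟩, ⟨-2, -1, 0, 1, -2, 1, -2, 1⟩, ⟨-2, -1, 0, 1, 2, -1, 2, -1⟩,
  ⟨-2, -1, 2, -1, -2, 1, 0, -1⟩, ⟨-2, -1, 2, -1, 0, -1, -2, 1⟩, ⟨-2, -1, 2, -1, 0, 1, 2, -1⟩,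
  ⟨-2, -1, 2, -1, 2, -1, 0, 1⟩, ⟨-2, 0, -2, 0, -2, 0, -2, 0⟩, ⟨-2, 0, -2, 0, -2, 0, 2, 0⟩,
  ⟨-2, 0, -2, 0, 0, 0, 0, 0⟩, ⟨-2, 0, -2, 0, 2, 0, -2, 0⟩, ⟨-2, 0, -2, 0, 2, 0, 2, 0⟩,
  ⟨-2, 0, -2, 2, 0, -2, 0, 0⟩, ⟨-2, 0, -2, 2, 0, 0, 0, -2⟩, ⟨-2, 0, -2, 2, 0, 0, 0, 2⟩,
  ⟨-2, 0, -2, 2, 0, 2, 0, 0⟩, ⟨-2, 0, 0, -2, -2, 2, 0, 0⟩, ⟨-2, 0, 0, -2, 0, 0, -2, 2⟩,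
  ⟨-2, 0, 0, -2, 0, 0, 2, -2⟩, ⟨-2, 0, 0, -2, 2, -2, 0, 0⟩, ⟨-2, 0, 0, 0, -2, 0, 0, 0⟩,
  ⟨-2, 0, 0, 0, -2, 2, 0, -2⟩, ⟨-2, 0, 0, 0, -2, 2, 0, 2⟩, ⟨-2, 0, 0, 0, 0, -2, -2, 2⟩,
  ⟨-2, 0, 0, 0, 0, -2, 2, -2⟩, ⟨-2, 0, 0, 0, 0, 0, -2, 0⟩, ⟨-2, 0, 0, 0, 0, 0, 2, 0⟩,
  ⟨-2, 0, 0, 0, 0, 2, -2, 2⟩, ⟨-2, 0, 0, 0, 0, 2, 2, -2⟩, ⟨-2, 0, 0, 0, 2, -2, 0, -2⟩,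
  ⟨-2, 0, 0, 0, 2, -2, 0, 2⟩, ⟨-2, 0, 0, 0, 2, 0, 0, 0⟩, ⟨-2, 0, 0, 2, -2, 2, 0, 0⟩,
  ⟨-2, 0, 0, 2, 0, 0, -2, 2⟩, ⟨-2, 0, 0, 2, 0, 0, 2, -2⟩, ⟨-2, 0, 0, 2, 2, -2, 0, 0⟩,
  ⟨-2, 0, 2, -2, 0, -2, 0, 0⟩, ⟨-2, 0, 2, -2, 0, 0, 0, -2⟩, ⟨-2, 0, 2, -2, 0, 0, 0, 2⟩,
  ⟨-2, 0, 2, -2, 0, 2, 0, 0⟩, ⟨-2, 0, 2, 0, -2, 0, -2, 0⟩, ⟨-2, 0, 2, 0, -2, 0, 2, 0⟩,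
  ⟨-2, 0, 2, 0, 0, 0, 0, 0⟩, ⟨-2, 0, 2, 0, 2, 0, -2, 0⟩, ⟨-2, 0, 2, 0, 2, 0, 2, 0⟩,
  ⟨-2, 1, -2, -1, -2, 1, 0, 1⟩, ⟨-2, 1, -2, -1, 0, -1, 2, -1⟩, ⟨-2, 1, -2, -1, 0, 1, -2, 1⟩,
  ⟨-2, 1, -2, -1, 2, -1, 0, -1⟩, ⟨-2, 1, -2, 1, -2, -1, 0, 1⟩, ⟨-2, 1, -2, 1, 0, -1, 2, 1⟩,
  ⟨-2, 1, -2, 1, 0, 1, -2, -1⟩, ⟨-2, 1, -2, 1, 2, 1, 0, -1⟩, ⟨-2, 1, 0, -1, -2, -1, 2, -1⟩,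
  ⟨-2, 1, 0, -1, -2, 1, 2, 1⟩, ⟨-2, 1, 0, -1, 0, -1, 0, -1⟩, ⟨-2, 1, 0, -1, 0, 1, 0, 1⟩,
  ⟨-2, 1, 0, -1, 2, -1, -2, -1⟩, ⟨-2, 1, 0, -1, 2, 1, -2, 1⟩, ⟨-2, 1, 0, 1, -2, -1, -2, 1⟩,
  ⟨-2, 1, 0, 1, -2, 1, -2, -1⟩, ⟨-2, 1, 0, 1, 0, -1, 0, 1⟩, ⟨-2, 1, 0, 1, 0, 1, 0, -1⟩,
  ⟨-2, 1, 0, 1, 2, -1, 2, 1⟩, ⟨-2, 1, 0, 1, 2, 1, 2, -1⟩, ⟨-2, 1, 2, -1, -2, -1, 0, -1⟩,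
  ⟨-2, 1, 2, -1, 0, -1, -2, -1⟩, ⟨-2, 1, 2, -1, 0, 1, 2, 1⟩, ⟨-2, 1, 2, -1, 2, 1, 0, 1⟩,
  ⟨-2, 1, 2, 1, -2, 1, 0, -1⟩, ⟨-2, 1, 2, 1, 0, -1, -2, 1⟩, ⟨-2, 1, 2, 1, 0, 1, 2, -1⟩,
  ⟨-2, 1, 2, 1, 2, -1, 0, 1⟩, ⟨-2, 2, -2, 0, 0, -2, 0, 0⟩, ⟨-2, 2, -2, 0, 0, 0, 0, -2⟩,
  ⟨-2, 2, -2, 0, 0, 0, 0, 2⟩, ⟨-2, 2, -2, 0, 0, 2, 0, 0⟩, ⟨-2, 2, 0, -2, -2, 0, 0, 0⟩,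
  ⟨-2, 2, 0, -2, 0, 0, -2, 0⟩, ⟨-2, 2, 0, -2, 0, 0, 2, 0⟩, ⟨-2, 2, 0, -2, 2, 0, 0, 0⟩,
  ⟨-2, 2, 0, 0, -2, 0, 0, -2⟩, ⟨-2, 2, 0, 0, -2, 0, 0, 2⟩, ⟨-2, 2, 0, 0, 0, -2, -2, 0⟩,
  ⟨-2, 2, 0, 0, 0, -2, 2, 0⟩, ⟨-2, 2, 0, 0, 0, 2, -2, 0⟩, ⟨-2, 2, 0, 0, 0, 2, 2, 0⟩,
  ⟨-2, 2, 0, 0, 2, 0, 0, -2⟩, ⟨-2, 2, 0, 0, 2, 0, 0, 2⟩, ⟨-2, 2, 0, 2, -2, 0, 0, 0⟩,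
  ⟨-2, 2, 0, 2, 0, 0, -2, 0⟩, ⟨-2, 2, 0, 2, 0, 0, 2, 0⟩, ⟨-2, 2, 0, 2, 2, 0, 0, 0⟩,
  ⟨-2, 2, 2, 0, 0, -2, 0, 0⟩, ⟨-2, 2, 2, 0, 0, 0, 0, -2⟩, ⟨-2, 2, 2, 0, 0, 0, 0, 2⟩,
  ⟨-2, 2, 2, 0, 0, 2, 0, 0⟩, ⟨-2, 3, 0, -1, 0, -1, 0, 1⟩, ⟨-2, 3, 0, -1, 0, 1, 0, -1⟩,
  ⟨-2, 3, 0, 1, 0, -1, 0, -1⟩, ⟨-2, 3, 0, 1, 0, 1, 0, 1⟩, ⟨-1, -1, -3, 1, -1, -1, -1, 1⟩,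
  ⟨-1, -1, -3, 1, -1, 1, -1, -1⟩, ⟨-1, -1, -3, 1, 1, -1, 1, 1⟩, ⟨-1, -1, -3, 1, 1, 1, 1, -1⟩,
  ⟨-1, -1, -1, -1, -3, 1, -1, 1⟩, ⟨-1, -1, -1, -1, -1, 1, -3, 1⟩, ⟨-1, -1, -1, -1, 1, -1, 3, -1⟩,
  ⟨-1, -1, -1, -1, 3, -1, 1, -1⟩, ⟨-1, -1, -1, 1, -3, 1, -1, -1⟩, ⟨-1, -1, -1, 1, -1, -1, -3, 1⟩,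
  ⟨-1, -1, -1, 1, -1, 1, 1, -1⟩, ⟨-1, -1, -1, 1, 1, -1, -1, 1⟩, ⟨-1, -1, -1, 1, 1, 1, 3, -1⟩,
  ⟨-1, -1, -1, 1, 3, -1, 1, 1⟩, ⟨-1, -1, 1, -1, -3, 1, 1, 1⟩, ⟨-1, -1, 1, -1, -1, -1, 3, -1⟩,
  ⟨-1, -1, 1, -1, -1, 1, -1, 1⟩, ⟨-1, -1, 1, -1, 1, -1, 1, -1⟩, ⟨-1, -1, 1, -1, 1, 1, -3, 1⟩,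
  ⟨-1, -1, 1, -1, 3, -1, -1, -1⟩, ⟨-1, -1, 1, 1, -3, 1, 1, -1⟩, ⟨-1, -1, 1, 1, -1, 1, 3, -1⟩,
  ⟨-1, -1, 1, 1, 1, -1, -3, 1⟩, ⟨-1, -1, 1, 1, 3, -1, -1, 1⟩, ⟨-1, -1, 3, -1, -1, -1, 1, -1⟩,
  ⟨-1, -1, 3, -1, -1, 1, 1, 1⟩, ⟨-1, -1, 3, -1, 1, -1, -1, -1⟩, ⟨-1, -1, 3, -1, 1, 1, -1, 1⟩,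
  ⟨-1, 0, -3, 0, -1, 0, 1, -2⟩, ⟨-1, 0, -3, 0, -1, 2, 1, 0⟩, ⟨-1, 0, -3, 0, 1, -2, -1, 0⟩,
  ⟨-1, 0, -3, 0, 1, 0, -1, 2⟩, ⟨-1, 0, -1, 0, -3, 0, 1, -2⟩, ⟨-1, 0, -1, 0, -1, 0, -1, 2⟩,
  ⟨-1, 0, -1, 0, -1, 2, -1, 0⟩, ⟨-1, 0, -1, 0, -1, 2, 3, 0⟩, ⟨-1, 0, -1, 0, 1, -2, -3, 0⟩,
  ⟨-1, 0, -1, 0, 1, -2, 1, 0⟩, ⟨-1, 0, -1, 0, 1, 0, 1, -2⟩, ⟨-1, 0, -1, 0, 3, 0, -1, 2⟩,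
  ⟨-1, 0, -1, 2, -3, 0, 1, 0⟩, ⟨-1, 0, -1, 2, -1, 0, -1, 0⟩, ⟨-1, 0, -1, 2, -1, 0, 3, 0⟩,
  ⟨-1, 0, -1, 2, -1, 2, -1, 2⟩, ⟨-1, 0, -1, 2, 1, -2, 1, -2⟩, ⟨-1, 0, -1, 2, 1, 0, -3, 0⟩,
  ⟨-1, 0, -1, 2, 1, 0, 1, 0⟩, ⟨-1, 0, -1, 2, 3, 0, -1, 0⟩, ⟨-1, 0, 1, -2, -3, 0, -1, 0⟩,
  ⟨-1, 0, 1, -2, -1, 0, -3, 0⟩, ⟨-1, 0, 1, -2, -1, 0, 1, 0⟩, ⟨-1, 0, 1, -2, -1, 2, 1, -2⟩,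
  ⟨-1, 0, 1, -2, 1, -2, -1, 2⟩, ⟨-1, 0, 1, -2, 1, 0, -1, 0⟩, ⟨-1, 0, 1, -2, 1, 0, 3, 0⟩,
  ⟨-1, 0, 1, -2, 3, 0, 1, 0⟩, ⟨-1, 0, 1, 0, -3, 0, -1, 2⟩, ⟨-1, 0, 1, 0, -1, 0, 1, -2⟩,
  ⟨-1, 0, 1, 0, -1, 2, -3, 0⟩, ⟨-1, 0, 1, 0, -1, 2, 1, 0⟩, ⟨-1, 0, 1, 0, 1, -2, -1, 0⟩,
  ⟨-1, 0, 1, 0, 1, -2, 3, 0⟩, ⟨-1, 0, 1, 0, 1, 0, -1, 2⟩, ⟨-1, 0, 1, 0, 3, 0, 1, -2⟩,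
  ⟨-1, 0, 3, 0, -1, 0, -1, 2⟩, ⟨-1, 0, 3, 0, -1, 2, -1, 0⟩, ⟨-1, 0, 3, 0, 1, -2, 1, 0⟩,
  ⟨-1, 0, 3, 0, 1, 0, 1, -2⟩, ⟨-1, 1, -3, 1, -1, -1, -1, -1⟩, ⟨-1, 1, -3, 1, 1, 1, 1, 1⟩,
  ⟨-1, 1, -1, -1, -3, 1, -1, -1⟩, ⟨-1, 1, -1, -1, -1, -1, -3, 1⟩, ⟨-1, 1, -1, -1, -1, 1, 1, -1⟩,
  ⟨-1, 1, -1, -1, 1, -1, -1, 1⟩, ⟨-1, 1, -1, -1, 1, 1, 3, -1⟩, ⟨-1, 1, -1, -1, 3, -1, 1, 1⟩,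
  ⟨-1, 1, -1, 1, -1, -1, 1, -1⟩, ⟨-1, 1, -1, 1, -1, 1, 1, -3⟩, ⟨-1, 1, -1, 1, -1, 1, 1, 1⟩,
  ⟨-1, 1, -1, 1, -1, 3, 1, -1⟩, ⟨-1, 1, -1, 1, 1, -3, -1, 1⟩, ⟨-1, 1, -1, 1, 1, -1, -1, -1⟩,
  ⟨-1, 1, -1, 1, 1, -1, -1, 3⟩, ⟨-1, 1, -1, 1, 1, 1, -1, 1⟩, ⟨-1, 1, -1, 3, -1, 1, 1, -1⟩,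
  ⟨-1, 1, -1, 3, 1, -1, -1, 1⟩, ⟨-1, 1, 1, -3, -1, 1, -1, 1⟩, ⟨-1, 1, 1, -3, 1, -1, 1, -1⟩,
  ⟨-1, 1, 1, -1, -1, -1, -1, 1⟩, ⟨-1, 1, 1, -1, -1, 1, -1, -1⟩, ⟨-1, 1, 1, -1, -1, 1, -1, 3⟩,
  ⟨-1, 1, 1, -1, -1, 3, -1, 1⟩, ⟨-1, 1, 1, -1, 1, -3, 1, -1⟩, ⟨-1, 1, 1, -1, 1, -1, 1, -3⟩,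
  ⟨-1, 1, 1, -1, 1, -1, 1, 1⟩, ⟨-1, 1, 1, -1, 1, 1, 1, -1⟩, ⟨-1, 1, 1, 1, -3, 1, 1, 1⟩,
  ⟨-1, 1, 1, 1, -1, -1, 3, -1⟩, ⟨-1, 1, 1, 1, -1, 1, -1, 1⟩, ⟨-1, 1, 1, 1, 1, -1, 1, -1⟩,
  ⟨-1, 1, 1, 1, 1, 1, -3, 1⟩, ⟨-1, 1, 1, 1, 3, -1, -1, -1⟩, ⟨-1, 1, 3, -1, -1, -1, 1, 1⟩,
  ⟨-1, 1, 3, -1, 1, 1, -1, -1⟩, ⟨-1, 2, -3, 0, -1, 0, 1, 0⟩, ⟨-1, 2, -3, 0, 1, 0, -1, 0⟩,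
  ⟨-1, 2, -1, 0, -3, 0, 1, 0⟩, ⟨-1, 2, -1, 0, -1, 0, -1, 0⟩, ⟨-1, 2, -1, 0, -1, 0, 3, 0⟩,
  ⟨-1, 2, -1, 0, -1, 2, -1, 2⟩, ⟨-1, 2, -1, 0, 1, -2, 1, -2⟩, ⟨-1, 2, -1, 0, 1, 0, -3, 0⟩,
  ⟨-1, 2, -1, 0, 1, 0, 1, 0⟩, ⟨-1, 2, -1, 0, 3, 0, -1, 0⟩, ⟨-1, 2, -1, 2, -1, 0, -1, 2⟩,
  ⟨-1, 2, -1, 2, -1, 2, -1, 0⟩, ⟨-1, 2, -1, 2, 1, -2, 1, 0⟩, ⟨-1, 2, -1, 2, 1, 0, 1, -2⟩,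
  ⟨-1, 2, 1, -2, -1, 0, 1, -2⟩, ⟨-1, 2, 1, -2, -1, 2, 1, 0⟩, ⟨-1, 2, 1, -2, 1, -2, -1, 0⟩,
  ⟨-1, 2, 1, -2, 1, 0, -1, 2⟩, ⟨-1, 2, 1, 0, -3, 0, -1, 0⟩, ⟨-1, 2, 1, 0, -1, 0, -3, 0⟩,
  ⟨-1, 2, 1, 0, -1, 0, 1, 0⟩, ⟨-1, 2, 1, 0, -1, 2, 1, -2⟩, ⟨-1, 2, 1, 0, 1, -2, -1, 2⟩,
  ⟨-1, 2, 1, 0, 1, 0, -1, 0⟩, ⟨-1, 2, 1, 0, 1, 0, 3, 0⟩, ⟨-1, 2, 1, 0, 3, 0, 1, 0⟩,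
  ⟨-1, 2, 3, 0, -1, 0, -1, 0⟩, ⟨-1, 2, 3, 0, 1, 0, 1, 0⟩, ⟨-1, 3, -1, 1, -1, 1, 1, -1⟩,
  ⟨-1, 3, -1, 1, 1, -1, -1, 1⟩, ⟨-1, 3, 1, -1, -1, 1, -1, 1⟩, ⟨-1, 3, 1, -1, 1, -1, 1, -1⟩,
  ⟨0, -2, -2, 0, -2, 2, 0, 0⟩, ⟨0, -2, -2, 0, 0, 0, -2, 2⟩, ⟨0, -2, -2, 0, 0, 0, 2, -2⟩,
  ⟨0, -2, -2, 0, 2, -2, 0, 0⟩, ⟨0, -2, -2, 2, -2, 0, 0, 0⟩, ⟨0, -2, -2, 2, 0, 0, -2, 0⟩,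
  ⟨0, -2, -2, 2, 0, 0, 2, 0⟩, ⟨0, -2, -2, 2, 2, 0, 0, 0⟩, ⟨0, -2, 0, 0, -2, 0, -2, 2⟩,
  ⟨0, -2, 0, 0, -2, 0, 2, -2⟩, ⟨0, -2, 0, 0, -2, 2, -2, 0⟩, ⟨0, -2, 0, 0, -2, 2, 2, 0⟩,
  ⟨0, -2, 0, 0, 2, -2, -2, 0⟩, ⟨0, -2, 0, 0, 2, -2, 2, 0⟩, ⟨0, -2, 0, 0, 2, 0, -2, 2⟩,
  ⟨0, -2, 0, 0, 2, 0, 2, -2⟩, ⟨0, -2, 2, -2, -2, 0, 0, 0⟩, ⟨0, -2, 2, -2, 0, 0, -2, 0⟩,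
  ⟨0, -2, 2, -2, 0, 0, 2, 0⟩, ⟨0, -2, 2, -2, 2, 0, 0, 0⟩, ⟨0, -2, 2, 0, -2, 2, 0, 0⟩,
  ⟨0, -2, 2, 0, 0, 0, -2, 2⟩, ⟨0, -2, 2, 0, 0, 0, 2, -2⟩, ⟨0, -2, 2, 0, 2, -2, 0, 0⟩,
  ⟨0, -1, -2, -1, -2, 1, 2, -1⟩, ⟨0, -1, -2, -1, 2, -1, -2, 1⟩, ⟨0, -1, -2, 1, -2, -1, 2, -1⟩,
  ⟨0, -1, -2, 1, -2, 1, 2, 1⟩, ⟨0, -1, -2, 1, 0, -1, 0, -1⟩, ⟨0, -1, -2, 1, 0, 1, 0, 1⟩,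
  ⟨0, -1, -2, 1, 2, -1, -2, -1⟩, ⟨0, -1, -2, 1, 2, 1, -2, 1⟩, ⟨0, -1, -2, 3, 0, -1, 0, 1⟩,
  ⟨0, -1, -2, 3, 0, 1, 0, -1⟩, ⟨0, -1, 0, -1, -2, 1, 0, -1⟩, ⟨0, -1, 0, -1, -2, 3, 0, 1⟩,
  ⟨0, -1, 0, -1, 0, -1, -2, 1⟩, ⟨0, -1, 0, -1, 0, -1, 2, -3⟩, ⟨0, -1, 0, -1, 0, 1, -2, 3⟩,
  ⟨0, -1, 0, -1, 0, 1, 2, -1⟩, ⟨0, -1, 0, -1, 2, -3, 0, -1⟩, ⟨0, -1, 0, -1, 2, -1, 0, 1⟩,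
  ⟨0, -1, 0, 1, -2, 1, 0, 1⟩, ⟨0, -1, 0, 1, -2, 3, 0, -1⟩, ⟨0, -1, 0, 1, 0, -1, -2, 3⟩,
  ⟨0, -1, 0, 1, 0, -1, 2, -1⟩, ⟨0, -1, 0, 1, 0, 1, -2, 1⟩, ⟨0, -1, 0, 1, 0, 1, 2, -3⟩,
  ⟨0, -1, 0, 1, 2, -3, 0, 1⟩, ⟨0, -1, 0, 1, 2, -1, 0, -1⟩, ⟨0, -1, 2, -3, 0, -1, 0, -1⟩,
  ⟨0, -1, 2, -3, 0, 1, 0, 1⟩, ⟨0, -1, 2, -1, -2, -1, -2, 1⟩, ⟨0, -1, 2, -1, -2, 1, -2, -1⟩,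
  ⟨0, -1, 2, -1, 0, -1, 0, 1⟩, ⟨0, -1, 2, -1, 0, 1, 0, -1⟩, ⟨0, -1, 2, -1, 2, -1, 2, 1⟩,
  ⟨0, -1, 2, -1, 2, 1, 2, -1⟩, ⟨0, -1, 2, 1, -2, 1, -2, 1⟩, ⟨0, -1, 2, 1, 2, -1, 2, -1⟩,
  ⟨0, 0, -4, 0, 0, 0, 0, 0⟩, ⟨0, 0, -2, 0, -2, 0, 0, 0⟩, ⟨0, 0, -2, 0, -2, 2, 0, -2⟩,
  ⟨0, 0, -2, 0, -2, 2, 0, 2⟩, ⟨0, 0, -2, 0, 0, -2, -2, 2⟩, ⟨0, 0, -2, 0, 0, -2, 2, -2⟩,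
  ⟨0, 0, -2, 0, 0, 0, -2, 0⟩, ⟨0, 0, -2, 0, 0, 0, 2, 0⟩, ⟨0, 0, -2, 0, 0, 2, -2, 2⟩,
  ⟨0, 0, -2, 0, 0, 2, 2, -2⟩, ⟨0, 0, -2, 0, 2, -2, 0, -2⟩, ⟨0, 0, -2, 0, 2, -2, 0, 2⟩,
  ⟨0, 0, -2, 0, 2, 0, 0, 0⟩, ⟨0, 0, -2, 2, -2, 0, 0, -2⟩, ⟨0, 0, -2, 2, -2, 0, 0, 2⟩,
  ⟨0, 0, -2, 2, 0, -2, -2, 0⟩, ⟨0, 0, -2, 2, 0, -2, 2, 0⟩, ⟨0, 0, -2, 2, 0, 2, -2, 0⟩,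
  ⟨0, 0, -2, 2, 0, 2, 2, 0⟩, ⟨0, 0, -2, 2, 2, 0, 0, -2⟩, ⟨0, 0, -2, 2, 2, 0, 0, 2⟩,
  ⟨0, 0, 0, -2, -2, 0, -2, 2⟩, ⟨0, 0, 0, -2, -2, 0, 2, -2⟩, ⟨0, 0, 0, -2, -2, 2, -2, 0⟩,
  ⟨0, 0, 0, -2, -2, 2, 2, 0⟩, ⟨0, 0, 0, -2, 2, -2, -2, 0⟩, ⟨0, 0, 0, -2, 2, -2, 2, 0⟩,
  ⟨0, 0, 0, -2, 2, 0, -2, 2⟩, ⟨0, 0, 0, -2, 2, 0, 2, -2⟩, ⟨0, 0, 0, 0, -4, 0, 0, 0⟩,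
  ⟨0, 0, 0, 0, -2, 0, -2, 0⟩, ⟨0, 0, 0, 0, -2, 0, 2, 0⟩, ⟨0, 0, 0, 0, 0, 0, -4, 0⟩,
  ⟨0, 0, 0, 0, 0, 0, 0, 0⟩, ⟨0, 0, 0, 0, 0, 0, 4, 0⟩, ⟨0, 0, 0, 0, 2, 0, -2, 0⟩,
  ⟨0, 0, 0, 0, 2, 0, 2, 0⟩, ⟨0, 0, 0, 0, 4, 0, 0, 0⟩, ⟨0, 0, 0, 2, -2, 0, -2, 2⟩,
  ⟨0, 0, 0, 2, -2, 0, 2, -2⟩, ⟨0, 0, 0, 2, -2, 2, -2, 0⟩, ⟨0, 0, 0, 2, -2, 2, 2, 0⟩,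
  ⟨0, 0, 0, 2, 2, -2, -2, 0⟩, ⟨0, 0, 0, 2, 2, -2, 2, 0⟩, ⟨0, 0, 0, 2, 2, 0, -2, 2⟩,
  ⟨0, 0, 0, 2, 2, 0, 2, -2⟩, ⟨0, 0, 2, -2, -2, 0, 0, -2⟩, ⟨0, 0, 2, -2, -2, 0, 0, 2⟩,
  ⟨0, 0, 2, -2, 0, -2, -2, 0⟩, ⟨0, 0, 2, -2, 0, -2, 2, 0⟩, ⟨0, 0, 2, -2, 0, 2, -2, 0⟩,
  ⟨0, 0, 2, -2, 0, 2, 2, 0⟩, ⟨0, 0, 2, -2, 2, 0, 0, -2⟩, ⟨0, 0, 2, -2, 2, 0, 0, 2⟩,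
  ⟨0, 0, 2, 0, -2, 0, 0, 0⟩, ⟨0, 0, 2, 0, -2, 2, 0, -2⟩, ⟨0, 0, 2, 0, -2, 2, 0, 2⟩,
  ⟨0, 0, 2, 0, 0, -2, -2, 2⟩, ⟨0, 0, 2, 0, 0, -2, 2, -2⟩, ⟨0, 0, 2, 0, 0, 0, -2, 0⟩,
  ⟨0, 0, 2, 0, 0, 0, 2, 0⟩, ⟨0, 0, 2, 0, 0, 2, -2, 2⟩, ⟨0, 0, 2, 0, 0, 2, 2, -2⟩,
  ⟨0, 0, 2, 0, 2, -2, 0, -2⟩, ⟨0, 0, 2, 0, 2, -2, 0, 2⟩, ⟨0, 0, 2, 0, 2, 0, 0, 0⟩,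
  ⟨0, 0, 4, 0, 0, 0, 0, 0⟩, ⟨0, 1, -2, -1, -2, 1, -2, 1⟩, ⟨0, 1, -2, -1, 2, -1, 2, -1⟩,
  ⟨0, 1, -2, 1, -2, -1, -2, 1⟩, ⟨0, 1, -2, 1, -2, 1, -2, -1⟩, ⟨0, 1, -2, 1, 0, -1, 0, 1⟩,
  ⟨0, 1, -2, 1, 0, 1, 0, -1⟩, ⟨0, 1, -2, 1, 2, -1, 2, 1⟩, ⟨0, 1, -2, 1, 2, 1, 2, -1⟩,
  ⟨0, 1, -2, 3, 0, -1, 0, -1⟩, ⟨0, 1, -2, 3, 0, 1, 0, 1⟩, ⟨0, 1, 0, -1, -2, 1, 0, 1⟩,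
  ⟨0, 1, 0, -1, -2, 3, 0, -1⟩, ⟨0, 1, 0, -1, 0, -1, -2, 3⟩, ⟨0, 1, 0, -1, 0, -1, 2, -1⟩,
  ⟨0, 1, 0, -1, 0, 1, -2, 1⟩, ⟨0, 1, 0, -1, 0, 1, 2, -3⟩, ⟨0, 1, 0, -1, 2, -3, 0, 1⟩,
  ⟨0, 1, 0, -1, 2, -1, 0, -1⟩, ⟨0, 1, 0, 1, -2, 1, 0, -1⟩, ⟨0, 1, 0, 1, -2, 3, 0, 1⟩,
  ⟨0, 1, 0, 1, 0, -1, -2, 1⟩, ⟨0, 1, 0, 1, 0, -1, 2, -3⟩, ⟨0, 1, 0, 1, 0, 1, -2, 3⟩,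
  ⟨0, 1, 0, 1, 0, 1, 2, -1⟩, ⟨0, 1, 0, 1, 2, -3, 0, -1⟩, ⟨0, 1, 0, 1, 2, -1, 0, 1⟩,
  ⟨0, 1, 2, -3, 0, -1, 0, 1⟩, ⟨0, 1, 2, -3, 0, 1, 0, -1⟩, ⟨0, 1, 2, -1, -2, -1, 2, -1⟩,
  ⟨0, 1, 2, -1, -2, 1, 2, 1⟩, ⟨0, 1, 2, -1, 0, -1, 0, -1⟩, ⟨0, 1, 2, -1, 0, 1, 0, 1⟩,
  ⟨0, 1, 2, -1, 2, -1, -2, -1⟩, ⟨0, 1, 2, -1, 2, 1, -2, 1⟩, ⟨0, 1, 2, 1, -2, 1, 2, -1⟩,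
  ⟨0, 1, 2, 1, 2, -1, -2, 1⟩, ⟨0, 2, -2, 0, -2, 2, 0, 0⟩, ⟨0, 2, -2, 0, 0, 0, -2, 2⟩,
  ⟨0, 2, -2, 0, 0, 0, 2, -2⟩, ⟨0, 2, -2, 0, 2, -2, 0, 0⟩, ⟨0, 2, -2, 2, -2, 0, 0, 0⟩,
  ⟨0, 2, -2, 2, 0, 0, -2, 0⟩, ⟨0, 2, -2, 2, 0, 0, 2, 0⟩, ⟨0, 2, -2, 2, 2, 0, 0, 0⟩,
  ⟨0, 2, 0, 0, -2, 0, -2, 2⟩, ⟨0, 2, 0, 0, -2, 0, 2, -2⟩, ⟨0, 2, 0, 0, -2, 2, -2, 0⟩,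
  ⟨0, 2, 0, 0, -2, 2, 2, 0⟩, ⟨0, 2, 0, 0, 2, -2, -2, 0⟩, ⟨0, 2, 0, 0, 2, -2, 2, 0⟩,
  ⟨0, 2, 0, 0, 2, 0, -2, 2⟩, ⟨0, 2, 0, 0, 2, 0, 2, -2⟩, ⟨0, 2, 2, -2, -2, 0, 0, 0⟩,
  ⟨0, 2, 2, -2, 0, 0, -2, 0⟩, ⟨0, 2, 2, -2, 0, 0, 2, 0⟩, ⟨0, 2, 2, -2, 2, 0, 0, 0⟩,
  ⟨0, 2, 2, 0, -2, 2, 0, 0⟩, ⟨0, 2, 2, 0, 0, 0, -2, 2⟩, ⟨0, 2, 2, 0, 0, 0, 2, -2⟩,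
  ⟨0, 2, 2, 0, 2, -2, 0, 0⟩, ⟨1, -3, -1, 1, -1, 1, -1, 1⟩, ⟨1, -3, -1, 1, 1, -1, 1, -1⟩,
  ⟨1, -3, 1, -1, -1, 1, 1, -1⟩, ⟨1, -3, 1, -1, 1, -1, -1, 1⟩, ⟨1, -2, -3, 0, -1, 0, -1, 0⟩,
  ⟨1, -2, -3, 0, 1, 0, 1, 0⟩, ⟨1, -2, -1, 0, -3, 0, -1, 0⟩, ⟨1, -2, -1, 0, -1, 0, -3, 0⟩,
  ⟨1, -2, -1, 0, -1, 0, 1, 0⟩, ⟨1, -2, -1, 0, -1, 2, 1, -2⟩, ⟨1, -2, -1, 0, 1, -2, -1, 2⟩,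
  ⟨1, -2, -1, 0, 1, 0, -1, 0⟩, ⟨1, -2, -1, 0, 1, 0, 3, 0⟩, ⟨1, -2, -1, 0, 3, 0, 1, 0⟩,
  ⟨1, -2, -1, 2, -1, 0, 1, -2⟩, ⟨1, -2, -1, 2, -1, 2, 1, 0⟩, ⟨1, -2, -1, 2, 1, -2, -1, 0⟩,
  ⟨1, -2, -1, 2, 1, 0, -1, 2⟩, ⟨1, -2, 1, -2, -1, 0, -1, 2⟩, ⟨1, -2, 1, -2, -1, 2, -1, 0⟩,
  ⟨1, -2, 1, -2, 1, -2, 1, 0⟩, ⟨1, -2, 1, -2, 1, 0, 1, -2⟩, ⟨1, -2, 1, 0, -3, 0, 1, 0⟩,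
  ⟨1, -2, 1, 0, -1, 0, -1, 0⟩, ⟨1, -2, 1, 0, -1, 0, 3, 0⟩, ⟨1, -2, 1, 0, -1, 2, -1, 2⟩,
  ⟨1, -2, 1, 0, 1, -2, 1, -2⟩, ⟨1, -2, 1, 0, 1, 0, -3, 0⟩, ⟨1, -2, 1, 0, 1, 0, 1, 0⟩,
  ⟨1, -2, 1, 0, 3, 0, -1, 0⟩, ⟨1, -2, 3, 0, -1, 0, 1, 0⟩, ⟨1, -2, 3, 0, 1, 0, -1, 0⟩,
  ⟨1, -1, -3, 1, -1, -1, 1, 1⟩, ⟨1, -1, -3, 1, 1, 1, -1, -1⟩, ⟨1, -1, -1, -1, -3, 1, 1, 1⟩,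
  ⟨1, -1, -1, -1, -1, -1, 3, -1⟩, ⟨1, -1, -1, -1, -1, 1, -1, 1⟩, ⟨1, -1, -1, -1, 1, -1, 1, -1⟩,
  ⟨1, -1, -1, -1, 1, 1, -3, 1⟩, ⟨1, -1, -1, -1, 3, -1, -1, -1⟩, ⟨1, -1, -1, 1, -1, -1, -1, 1⟩,
  ⟨1, -1, -1, 1, -1, 1, -1, -1⟩, ⟨1, -1, -1, 1, -1, 1, -1, 3⟩, ⟨1, -1, -1, 1, -1, 3, -1, 1⟩,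
  ⟨1, -1, -1, 1, 1, -3, 1, -1⟩, ⟨1, -1, -1, 1, 1, -1, 1, -3⟩, ⟨1, -1, -1, 1, 1, -1, 1, 1⟩,
  ⟨1, -1, -1, 1, 1, 1, 1, -1⟩, ⟨1, -1, -1, 3, -1, 1, -1, 1⟩, ⟨1, -1, -1, 3, 1, -1, 1, -1⟩,
  ⟨1, -1, 1, -3, -1, 1, 1, -1⟩, ⟨1, -1, 1, -3, 1, -1, -1, 1⟩, ⟨1, -1, 1, -1, -1, -1, 1, -1⟩,
  ⟨1, -1, 1, -1, -1, 1, 1, -3⟩, ⟨1, -1, 1, -1, -1, 1, 1, 1⟩, ⟨1, -1, 1, -1, -1, 3, 1, -1⟩,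
  ⟨1, -1, 1, -1, 1, -3, -1, 1⟩, ⟨1, -1, 1, -1, 1, -1, -1, -1⟩, ⟨1, -1, 1, -1, 1, -1, -1, 3⟩,
  ⟨1, -1, 1, -1, 1, 1, -1, 1⟩, ⟨1, -1, 1, 1, -3, 1, -1, -1⟩, ⟨1, -1, 1, 1, -1, -1, -3, 1⟩,
  ⟨1, -1, 1, 1, -1, 1, 1, -1⟩, ⟨1, -1, 1, 1, 1, -1, -1, 1⟩, ⟨1, -1, 1, 1, 1, 1, 3, -1⟩,
  ⟨1, -1, 1, 1, 3, -1, 1, 1⟩, ⟨1, -1, 3, -1, -1, -1, -1, -1⟩, ⟨1, -1, 3, -1, 1, 1, 1, 1⟩,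
  ⟨1, 0, -3, 0, -1, 0, -1, 2⟩, ⟨1, 0, -3, 0, -1, 2, -1, 0⟩, ⟨1, 0, -3, 0, 1, -2, 1, 0⟩,
  ⟨1, 0, -3, 0, 1, 0, 1, -2⟩, ⟨1, 0, -1, 0, -3, 0, -1, 2⟩, ⟨1, 0, -1, 0, -1, 0, 1, -2⟩,
  ⟨1, 0, -1, 0, -1, 2, -3, 0⟩, ⟨1, 0, -1, 0, -1, 2, 1, 0⟩, ⟨1, 0, -1, 0, 1, -2, -1, 0⟩,
  ⟨1, 0, -1, 0, 1, -2, 3, 0⟩, ⟨1, 0, -1, 0, 1, 0, -1, 2⟩, ⟨1, 0, -1, 0, 3, 0, 1, -2⟩,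
  ⟨1, 0, -1, 2, -3, 0, -1, 0⟩, ⟨1, 0, -1, 2, -1, 0, -3, 0⟩, ⟨1, 0, -1, 2, -1, 0, 1, 0⟩,
  ⟨1, 0, -1, 2, -1, 2, 1, -2⟩, ⟨1, 0, -1, 2, 1, -2, -1, 2⟩, ⟨1, 0, -1, 2, 1, 0, -1, 0⟩,
  ⟨1, 0, -1, 2, 1, 0, 3, 0⟩, ⟨1, 0, -1, 2, 3, 0, 1, 0⟩, ⟨1, 0, 1, -2, -3, 0, 1, 0⟩,
  ⟨1, 0, 1, -2, -1, 0, -1, 0⟩, ⟨1, 0, 1, -2, -1, 0, 3, 0⟩, ⟨1, 0, 1, -2, -1, 2, -1, 2⟩,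
  ⟨1, 0, 1, -2, 1, -2, 1, -2⟩, ⟨1, 0, 1, -2, 1, 0, -3, 0⟩, ⟨1, 0, 1, -2, 1, 0, 1, 0⟩,
  ⟨1, 0, 1, -2, 3, 0, -1, 0⟩, ⟨1, 0, 1, 0, -3, 0, 1, -2⟩, ⟨1, 0, 1, 0, -1, 0, -1, 2⟩,
  ⟨1, 0, 1, 0, -1, 2, -1, 0⟩, ⟨1, 0, 1, 0, -1, 2, 3, 0⟩, ⟨1, 0, 1, 0, 1, -2, -3, 0⟩,
  ⟨1, 0, 1, 0, 1, -2, 1, 0⟩, ⟨1, 0, 1, 0, 1, 0, 1, -2⟩, ⟨1, 0, 1, 0, 3, 0, -1, 2⟩,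
  ⟨1, 0, 3, 0, -1, 0, 1, -2⟩, ⟨1, 0, 3, 0, -1, 2, 1, 0⟩, ⟨1, 0, 3, 0, 1, -2, -1, 0⟩,
  ⟨1, 0, 3, 0, 1, 0, -1, 2⟩, ⟨1, 1, -3, 1, -1, -1, 1, -1⟩, ⟨1, 1, -3, 1, -1, 1, 1, 1⟩,
  ⟨1, 1, -3, 1, 1, -1, -1, -1⟩, ⟨1, 1, -3, 1, 1, 1, -1, 1⟩, ⟨1, 1, -1, -1, -3, 1, 1, -1⟩,
  ⟨1, 1, -1, -1, -1, 1, 3, -1⟩, ⟨1, 1, -1, -1, 1, -1, -3, 1⟩, ⟨1, 1, -1, -1, 3, -1, -1, 1⟩,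
  ⟨1, 1, -1, 1, -3, 1, 1, 1⟩, ⟨1, 1, -1, 1, -1, -1, 3, -1⟩, ⟨1, 1, -1, 1, -1, 1, -1, 1⟩,
  ⟨1, 1, -1, 1, 1, -1, 1, -1⟩, ⟨1, 1, -1, 1, 1, 1, -3, 1⟩, ⟨1, 1, -1, 1, 3, -1, -1, -1⟩,
  ⟨1, 1, 1, -1, -3, 1, -1, -1⟩, ⟨1, 1, 1, -1, -1, -1, -3, 1⟩, ⟨1, 1, 1, -1, -1, 1, 1, -1⟩,
  ⟨1, 1, 1, -1, 1, -1, -1, 1⟩, ⟨1, 1, 1, -1, 1, 1, 3, -1⟩, ⟨1, 1, 1, -1, 3, -1, 1, 1⟩,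
  ⟨1, 1, 1, 1, -3, 1, -1, 1⟩, ⟨1, 1, 1, 1, -1, 1, -3, 1⟩, ⟨1, 1, 1, 1, 1, -1, 3, -1⟩,
  ⟨1, 1, 1, 1, 3, -1, 1, -1⟩, ⟨1, 1, 3, -1, -1, -1, -1, 1⟩, ⟨1, 1, 3, -1, -1, 1, -1, -1⟩,
  ⟨1, 1, 3, -1, 1, -1, 1, 1⟩, ⟨1, 1, 3, -1, 1, 1, 1, -1⟩, ⟨2, -3, 0, -1, 0, -1, 0, -1⟩,
  ⟨2, -3, 0, -1, 0, 1, 0, 1⟩, ⟨2, -3, 0, 1, 0, -1, 0, 1⟩, ⟨2, -3, 0, 1, 0, 1, 0, -1⟩,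
  ⟨2, -2, -2, 0, 0, -2, 0, 0⟩, ⟨2, -2, -2, 0, 0, 0, 0, -2⟩, ⟨2, -2, -2, 0, 0, 0, 0, 2⟩,
  ⟨2, -2, -2, 0, 0, 2, 0, 0⟩, ⟨2, -2, 0, -2, -2, 0, 0, 0⟩, ⟨2, -2, 0, -2, 0, 0, -2, 0⟩,
  ⟨2, -2, 0, -2, 0, 0, 2, 0⟩, ⟨2, -2, 0, -2, 2, 0, 0, 0⟩, ⟨2, -2, 0, 0, -2, 0, 0, -2⟩,
  ⟨2, -2, 0, 0, -2, 0, 0, 2⟩, ⟨2, -2, 0, 0, 0, -2, -2, 0⟩, ⟨2, -2, 0, 0, 0, -2, 2, 0⟩,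
  ⟨2, -2, 0, 0, 0, 2, -2, 0⟩, ⟨2, -2, 0, 0, 0, 2, 2, 0⟩, ⟨2, -2, 0, 0, 2, 0, 0, -2⟩,
  ⟨2, -2, 0, 0, 2, 0, 0, 2⟩, ⟨2, -2, 0, 2, -2, 0, 0, 0⟩, ⟨2, -2, 0, 2, 0, 0, -2, 0⟩,
  ⟨2, -2, 0, 2, 0, 0, 2, 0⟩, ⟨2, -2, 0, 2, 2, 0, 0, 0⟩, ⟨2, -2, 2, 0, 0, -2, 0, 0⟩,
  ⟨2, -2, 2, 0, 0, 0, 0, -2⟩, ⟨2, -2, 2, 0, 0, 0, 0, 2⟩, ⟨2, -2, 2, 0, 0, 2, 0, 0⟩,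
  ⟨2, -1, -2, -1, -2, 1, 0, -1⟩, ⟨2, -1, -2, -1, 0, -1, -2, 1⟩, ⟨2, -1, -2, -1, 0, 1, 2, -1⟩,
  ⟨2, -1, -2, -1, 2, -1, 0, 1⟩, ⟨2, -1, -2, 1, -2, -1, 0, -1⟩, ⟨2, -1, -2, 1, 0, -1, -2, -1⟩,
  ⟨2, -1, -2, 1, 0, 1, 2, 1⟩, ⟨2, -1, -2, 1, 2, 1, 0, 1⟩, ⟨2, -1, 0, -1, -2, -1, -2, 1⟩,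
  ⟨2, -1, 0, -1, -2, 1, -2, -1⟩, ⟨2, -1, 0, -1, 0, -1, 0, 1⟩, ⟨2, -1, 0, -1, 0, 1, 0, -1⟩,
  ⟨2, -1, 0, -1, 2, -1, 2, 1⟩, ⟨2, -1, 0, -1, 2, 1, 2, -1⟩, ⟨2, -1, 0, 1, -2, -1, 2, -1⟩,
  ⟨2, -1, 0, 1, -2, 1, 2, 1⟩, ⟨2, -1, 0, 1, 0, -1, 0, -1⟩, ⟨2, -1, 0, 1, 0, 1, 0, 1⟩,
  ⟨2, -1, 0, 1, 2, -1, -2, -1⟩, ⟨2, -1, 0, 1, 2, 1, -2, 1⟩, ⟨2, -1, 2, -1, -2, -1, 0, 1⟩,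
  ⟨2, -1, 2, -1, 0, -1, 2, 1⟩, ⟨2, -1, 2, -1, 0, 1, -2, -1⟩, ⟨2, -1, 2, -1, 2, 1, 0, -1⟩,
  ⟨2, -1, 2, 1, -2, 1, 0, 1⟩, ⟨2, -1, 2, 1, 0, -1, 2, -1⟩, ⟨2, -1, 2, 1, 0, 1, -2, 1⟩,
  ⟨2, -1, 2, 1, 2, -1, 0, -1⟩, ⟨2, 0, -2, 0, -2, 0, -2, 0⟩, ⟨2, 0, -2, 0, -2, 0, 2, 0⟩,
  ⟨2, 0, -2, 0, 0, 0, 0, 0⟩, ⟨2, 0, -2, 0, 2, 0, -2, 0⟩, ⟨2, 0, -2, 0, 2, 0, 2, 0⟩,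
  ⟨2, 0, -2, 2, 0, -2, 0, 0⟩, ⟨2, 0, -2, 2, 0, 0, 0, -2⟩, ⟨2, 0, -2, 2, 0, 0, 0, 2⟩,
  ⟨2, 0, -2, 2, 0, 2, 0, 0⟩, ⟨2, 0, 0, -2, -2, 2, 0, 0⟩, ⟨2, 0, 0, -2, 0, 0, -2, 2⟩,
  ⟨2, 0, 0, -2, 0, 0, 2, -2⟩, ⟨2, 0, 0, -2, 2, -2, 0, 0⟩, ⟨2, 0, 0, 0, -2, 0, 0, 0⟩,
  ⟨2, 0, 0, 0, -2, 2, 0, -2⟩, ⟨2, 0, 0, 0, -2, 2, 0, 2⟩, ⟨2, 0, 0, 0, 0, -2, -2, 2⟩,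
  ⟨2, 0, 0, 0, 0, -2, 2, -2⟩, ⟨2, 0, 0, 0, 0, 0, -2, 0⟩, ⟨2, 0, 0, 0, 0, 0, 2, 0⟩,
  ⟨2, 0, 0, 0, 0, 2, -2, 2⟩, ⟨2, 0, 0, 0, 0, 2, 2, -2⟩, ⟨2, 0, 0, 0, 2, -2, 0, -2⟩,
  ⟨2, 0, 0, 0, 2, -2, 0, 2⟩, ⟨2, 0, 0, 0, 2, 0, 0, 0⟩, ⟨2, 0, 0, 2, -2, 2, 0, 0⟩,
  ⟨2, 0, 0, 2, 0, 0, -2, 2⟩, ⟨2, 0, 0, 2, 0, 0, 2, -2⟩, ⟨2, 0, 0, 2, 2, -2, 0, 0⟩,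
  ⟨2, 0, 2, -2, 0, -2, 0, 0⟩, ⟨2, 0, 2, -2, 0, 0, 0, -2⟩, ⟨2, 0, 2, -2, 0, 0, 0, 2⟩,
  ⟨2, 0, 2, -2, 0, 2, 0, 0⟩, ⟨2, 0, 2, 0, -2, 0, -2, 0⟩, ⟨2, 0, 2, 0, -2, 0, 2, 0⟩,
  ⟨2, 0, 2, 0, 0, 0, 0, 0⟩, ⟨2, 0, 2, 0, 2, 0, -2, 0⟩, ⟨2, 0, 2, 0, 2, 0, 2, 0⟩,
  ⟨2, 1, -2, 1, -2, 1, 0, -1⟩, ⟨2, 1, -2, 1, 0, -1, -2, 1⟩, ⟨2, 1, -2, 1, 0, 1, 2, -1⟩,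
  ⟨2, 1, -2, 1, 2, -1, 0, 1⟩, ⟨2, 1, 0, -1, -2, 1, -2, 1⟩, ⟨2, 1, 0, -1, 2, -1, 2, -1⟩,
  ⟨2, 1, 0, 1, -2, 1, 2, -1⟩, ⟨2, 1, 0, 1, 2, -1, -2, 1⟩, ⟨2, 1, 2, -1, -2, 1, 0, 1⟩,
  ⟨2, 1, 2, -1, 0, -1, 2, -1⟩, ⟨2, 1, 2, -1, 0, 1, -2, 1⟩, ⟨2, 1, 2, -1, 2, -1, 0, -1⟩,
  ⟨3, -1, -1, -1, -1, -1, 1, -1⟩, ⟨3, -1, -1, -1, -1, 1, 1, 1⟩, ⟨3, -1, -1, -1, 1, -1, -1, -1⟩,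
  ⟨3, -1, -1, -1, 1, 1, -1, 1⟩, ⟨3, -1, -1, 1, -1, -1, 1, 1⟩, ⟨3, -1, -1, 1, 1, 1, -1, -1⟩,
  ⟨3, -1, 1, -1, -1, -1, -1, -1⟩, ⟨3, -1, 1, -1, 1, 1, 1, 1⟩, ⟨3, -1, 1, 1, -1, -1, -1, 1⟩,
  ⟨3, -1, 1, 1, -1, 1, -1, -1⟩, ⟨3, -1, 1, 1, 1, -1, 1, 1⟩, ⟨3, -1, 1, 1, 1, 1, 1, -1⟩,
  ⟨3, 0, -1, 0, -1, 0, -1, 2⟩, ⟨3, 0, -1, 0, -1, 2, -1, 0⟩, ⟨3, 0, -1, 0, 1, -2, 1, 0⟩,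
  ⟨3, 0, -1, 0, 1, 0, 1, -2⟩, ⟨3, 0, -1, 2, -1, 0, -1, 0⟩, ⟨3, 0, -1, 2, 1, 0, 1, 0⟩,
  ⟨3, 0, 1, -2, -1, 0, 1, 0⟩, ⟨3, 0, 1, -2, 1, 0, -1, 0⟩, ⟨3, 0, 1, 0, -1, 0, 1, -2⟩,
  ⟨3, 0, 1, 0, -1, 2, 1, 0⟩, ⟨3, 0, 1, 0, 1, -2, -1, 0⟩, ⟨3, 0, 1, 0, 1, 0, -1, 2⟩,
  ⟨4, 0, 0, 0, 0, 0, 0, 0⟩]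

/-- the 315 normalized minimal vectors -/
def repL : List V3 := [
  ⟨⟨-1, 0, -1, 0, -1, 0, 1, -2⟩, ⟨2, 0, 0, 0, 0, 0, 0, 0⟩, ⟨0, 0, -2, 0, 0, 0, 0, 0⟩⟩,
  ⟨⟨-1, 0, -1, 0, -1, 0, 1, -2⟩, ⟨2, 0, 0, 0, 0, 0, 0, 0⟩, ⟨0, 0, 2, 0, 0, 0, 0, 0⟩⟩,
  ⟨⟨-1, 0, -1, 0, -1, 2, 1, 0⟩, ⟨2, 0, 0, 0, 0, 0, 0, 0⟩, ⟨0, 0, 0, 0, -2, 0, 0, 0⟩⟩,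
  ⟨⟨-1, 0, -1, 0, -1, 2, 1, 0⟩, ⟨2, 0, 0, 0, 0, 0, 0, 0⟩, ⟨0, 0, 0, 0, 2, 0, 0, 0⟩⟩,
  ⟨⟨-1, 0, -1, 0, 1, -2, -1, 0⟩, ⟨2, 0, 0, 0, 0, 0, 0, 0⟩, ⟨0, 0, 0, 0, 0, 0, -2, 0⟩⟩,
  ⟨⟨-1, 0, -1, 0, 1, -2, -1, 0⟩, ⟨2, 0, 0, 0, 0, 0, 0, 0⟩, ⟨0, 0, 0, 0, 0, 0, 2, 0⟩⟩,
  ⟨⟨-1, 0, -1, 0, 1, 0, -1, 2⟩, ⟨2, 0, 0, 0, 0, 0, 0, 0⟩, ⟨-2, 0, 0, 0, 0, 0, 0, 0⟩⟩,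
  ⟨⟨-1, 0, -1, 0, 1, 0, -1, 2⟩, ⟨2, 0, 0, 0, 0, 0, 0, 0⟩, ⟨2, 0, 0, 0, 0, 0, 0, 0⟩⟩,
  ⟨⟨-1, 0, -1, 2, -1, 0, 1, 0⟩, ⟨2, 0, 0, 0, 0, 0, 0, 0⟩, ⟨-2, 0, 0, 0, 0, 0, 0, 0⟩⟩,
  ⟨⟨-1, 0, -1, 2, -1, 0, 1, 0⟩, ⟨2, 0, 0, 0, 0, 0, 0, 0⟩, ⟨2, 0, 0, 0, 0, 0, 0, 0⟩⟩,
  ⟨⟨-1, 0, -1, 2, 1, 0, -1, 0⟩, ⟨2, 0, 0, 0, 0, 0, 0, 0⟩, ⟨0, 0, -2, 0, 0, 0, 0, 0⟩⟩,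
  ⟨⟨-1, 0, -1, 2, 1, 0, -1, 0⟩, ⟨2, 0, 0, 0, 0, 0, 0, 0⟩, ⟨0, 0, 2, 0, 0, 0, 0, 0⟩⟩,
  ⟨⟨-1, 0, 1, -2, -1, 0, -1, 0⟩, ⟨2, 0, 0, 0, 0, 0, 0, 0⟩, ⟨0, 0, 0, 0, -2, 0, 0, 0⟩⟩,
  ⟨⟨-1, 0, 1, -2, -1, 0, -1, 0⟩, ⟨2, 0, 0, 0, 0, 0, 0, 0⟩, ⟨0, 0, 0, 0, 2, 0, 0, 0⟩⟩,
  ⟨⟨-1, 0, 1, -2, 1, 0, 1, 0⟩, ⟨2, 0, 0, 0, 0, 0, 0, 0⟩, ⟨0, 0, 0, 0, 0, 0, -2, 0⟩⟩,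
  ⟨⟨-1, 0, 1, -2, 1, 0, 1, 0⟩, ⟨2, 0, 0, 0, 0, 0, 0, 0⟩, ⟨0, 0, 0, 0, 0, 0, 2, 0⟩⟩,
  ⟨⟨-1, 0, 1, 0, -1, 0, -1, 2⟩, ⟨2, 0, 0, 0, 0, 0, 0, 0⟩, ⟨0, 0, 0, 0, 0, 0, -2, 0⟩⟩,
  ⟨⟨-1, 0, 1, 0, -1, 0, -1, 2⟩, ⟨2, 0, 0, 0, 0, 0, 0, 0⟩, ⟨0, 0, 0, 0, 0, 0, 2, 0⟩⟩,
  ⟨⟨-1, 0, 1, 0, -1, 2, -1, 0⟩, ⟨2, 0, 0, 0, 0, 0, 0, 0⟩, ⟨-2, 0, 0, 0, 0, 0, 0, 0⟩⟩,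
  ⟨⟨-1, 0, 1, 0, -1, 2, -1, 0⟩, ⟨2, 0, 0, 0, 0, 0, 0, 0⟩, ⟨2, 0, 0, 0, 0, 0, 0, 0⟩⟩,
  ⟨⟨-1, 0, 1, 0, 1, -2, 1, 0⟩, ⟨2, 0, 0, 0, 0, 0, 0, 0⟩, ⟨0, 0, -2, 0, 0, 0, 0, 0⟩⟩,
  ⟨⟨-1, 0, 1, 0, 1, -2, 1, 0⟩, ⟨2, 0, 0, 0, 0, 0, 0, 0⟩, ⟨0, 0, 2, 0, 0, 0, 0, 0⟩⟩,
  ⟨⟨-1, 0, 1, 0, 1, 0, 1, -2⟩, ⟨2, 0, 0, 0, 0, 0, 0, 0⟩, ⟨0, 0, 0, 0, -2, 0, 0, 0⟩⟩,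
  ⟨⟨-1, 0, 1, 0, 1, 0, 1, -2⟩, ⟨2, 0, 0, 0, 0, 0, 0, 0⟩, ⟨0, 0, 0, 0, 2, 0, 0, 0⟩⟩,
  ⟨⟨-1, 1, -1, 1, -1, 1, -1, 1⟩, ⟨0, -1, 0, 1, 0, 1, 0, 1⟩, ⟨2, 0, 0, 0, 0, 0, 0, 0⟩⟩,
  ⟨⟨-1, 1, -1, 1, -1, 1, -1, 1⟩, ⟨0, 1, 0, -1, 0, -1, 0, -1⟩, ⟨2, 0, 0, 0, 0, 0, 0, 0⟩⟩,
  ⟨⟨-1, 1, -1, 1, -1, 1, -1, 1⟩, ⟨2, 0, 0, 0, 0, 0, 0, 0⟩, ⟨0, -1, 0, 1, 0, 1, 0, 1⟩⟩,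
  ⟨⟨-1, 1, -1, 1, -1, 1, -1, 1⟩, ⟨2, 0, 0, 0, 0, 0, 0, 0⟩, ⟨0, 1, 0, -1, 0, -1, 0, -1⟩⟩,
  ⟨⟨-1, 1, -1, 1, 1, -1, 1, -1⟩, ⟨0, -1, 0, -1, 0, -1, 0, 1⟩, ⟨2, 0, 0, 0, 0, 0, 0, 0⟩⟩,
  ⟨⟨-1, 1, -1, 1, 1, -1, 1, -1⟩, ⟨0, 1, 0, 1, 0, 1, 0, -1⟩, ⟨2, 0, 0, 0, 0, 0, 0, 0⟩⟩,
  ⟨⟨-1, 1, -1, 1, 1, -1, 1, -1⟩, ⟨2, 0, 0, 0, 0, 0, 0, 0⟩, ⟨0, -1, 0, -1, 0, -1, 0, 1⟩⟩,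
  ⟨⟨-1, 1, -1, 1, 1, -1, 1, -1⟩, ⟨2, 0, 0, 0, 0, 0, 0, 0⟩, ⟨0, 1, 0, 1, 0, 1, 0, -1⟩⟩,
  ⟨⟨-1, 1, 1, -1, -1, 1, 1, -1⟩, ⟨0, -1, 0, 1, 0, -1, 0, -1⟩, ⟨2, 0, 0, 0, 0, 0, 0, 0⟩⟩,
  ⟨⟨-1, 1, 1, -1, -1, 1, 1, -1⟩, ⟨0, 1, 0, -1, 0, 1, 0, 1⟩, ⟨2, 0, 0, 0, 0, 0, 0, 0⟩⟩,
  ⟨⟨-1, 1, 1, -1, -1, 1, 1, -1⟩, ⟨2, 0, 0, 0, 0, 0, 0, 0⟩, ⟨0, -1, 0, 1, 0, -1, 0, -1⟩⟩,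
  ⟨⟨-1, 1, 1, -1, -1, 1, 1, -1⟩, ⟨2, 0, 0, 0, 0, 0, 0, 0⟩, ⟨0, 1, 0, -1, 0, 1, 0, 1⟩⟩,
  ⟨⟨-1, 1, 1, -1, 1, -1, -1, 1⟩, ⟨0, -1, 0, -1, 0, 1, 0, -1⟩, ⟨2, 0, 0, 0, 0, 0, 0, 0⟩⟩,
  ⟨⟨-1, 1, 1, -1, 1, -1, -1, 1⟩, ⟨0, 1, 0, 1, 0, -1, 0, 1⟩, ⟨2, 0, 0, 0, 0, 0, 0, 0⟩⟩,
  ⟨⟨-1, 1, 1, -1, 1, -1, -1, 1⟩, ⟨2, 0, 0, 0, 0, 0, 0, 0⟩, ⟨0, -1, 0, -1, 0, 1, 0, -1⟩⟩,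
  ⟨⟨-1, 1, 1, -1, 1, -1, -1, 1⟩, ⟨2, 0, 0, 0, 0, 0, 0, 0⟩, ⟨0, 1, 0, 1, 0, -1, 0, 1⟩⟩,
  ⟨⟨-1, 2, -1, 0, -1, 0, 1, 0⟩, ⟨2, 0, 0, 0, 0, 0, 0, 0⟩, ⟨0, 0, 0, 0, 0, 0, -2, 0⟩⟩,
  ⟨⟨-1, 2, -1, 0, -1, 0, 1, 0⟩, ⟨2, 0, 0, 0, 0, 0, 0, 0⟩, ⟨0, 0, 0, 0, 0, 0, 2, 0⟩⟩,
  ⟨⟨-1, 2, -1, 0, 1, 0, -1, 0⟩, ⟨2, 0, 0, 0, 0, 0, 0, 0⟩, ⟨0, 0, 0, 0, -2, 0, 0, 0⟩⟩,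
  ⟨⟨-1, 2, -1, 0, 1, 0, -1, 0⟩, ⟨2, 0, 0, 0, 0, 0, 0, 0⟩, ⟨0, 0, 0, 0, 2, 0, 0, 0⟩⟩,
  ⟨⟨-1, 2, 1, 0, -1, 0, -1, 0⟩, ⟨2, 0, 0, 0, 0, 0, 0, 0⟩, ⟨0, 0, -2, 0, 0, 0, 0, 0⟩⟩,
  ⟨⟨-1, 2, 1, 0, -1, 0, -1, 0⟩, ⟨2, 0, 0, 0, 0, 0, 0, 0⟩, ⟨0, 0, 2, 0, 0, 0, 0, 0⟩⟩,
  ⟨⟨-1, 2, 1, 0, 1, 0, 1, 0⟩, ⟨2, 0, 0, 0, 0, 0, 0, 0⟩, ⟨-2, 0, 0, 0, 0, 0, 0, 0⟩⟩,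
  ⟨⟨-1, 2, 1, 0, 1, 0, 1, 0⟩, ⟨2, 0, 0, 0, 0, 0, 0, 0⟩, ⟨2, 0, 0, 0, 0, 0, 0, 0⟩⟩,
  ⟨⟨0, -1, 0, -1, 0, -1, 0, 1⟩, ⟨-1, 1, -1, 1, 1, -1, 1, -1⟩, ⟨2, 0, 0, 0, 0, 0, 0, 0⟩⟩,
  ⟨⟨0, -1, 0, -1, 0, -1, 0, 1⟩, ⟨1, -1, 1, -1, -1, 1, -1, 1⟩, ⟨2, 0, 0, 0, 0, 0, 0, 0⟩⟩,
  ⟨⟨0, -1, 0, -1, 0, -1, 0, 1⟩, ⟨2, 0, 0, 0, 0, 0, 0, 0⟩, ⟨-1, 1, -1, 1, 1, -1, 1, -1⟩⟩,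
  ⟨⟨0, -1, 0, -1, 0, -1, 0, 1⟩, ⟨2, 0, 0, 0, 0, 0, 0, 0⟩, ⟨1, -1, 1, -1, -1, 1, -1, 1⟩⟩,
  ⟨⟨0, -1, 0, -1, 0, 1, 0, -1⟩, ⟨-1, 1, 1, -1, 1, -1, -1, 1⟩, ⟨2, 0, 0, 0, 0, 0, 0, 0⟩⟩,
  ⟨⟨0, -1, 0, -1, 0, 1, 0, -1⟩, ⟨1, -1, -1, 1, -1, 1, 1, -1⟩, ⟨2, 0, 0, 0, 0, 0, 0, 0⟩⟩,
  ⟨⟨0, -1, 0, -1, 0, 1, 0, -1⟩, ⟨2, 0, 0, 0, 0, 0, 0, 0⟩, ⟨-1, 1, 1, -1, 1, -1, -1, 1⟩⟩,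
  ⟨⟨0, -1, 0, -1, 0, 1, 0, -1⟩, ⟨2, 0, 0, 0, 0, 0, 0, 0⟩, ⟨1, -1, -1, 1, -1, 1, 1, -1⟩⟩,
  ⟨⟨0, -1, 0, 1, 0, -1, 0, -1⟩, ⟨-1, 1, 1, -1, -1, 1, 1, -1⟩, ⟨2, 0, 0, 0, 0, 0, 0, 0⟩⟩,
  ⟨⟨0, -1, 0, 1, 0, -1, 0, -1⟩, ⟨1, -1, -1, 1, 1, -1, -1, 1⟩, ⟨2, 0, 0, 0, 0, 0, 0, 0⟩⟩,
  ⟨⟨0, -1, 0, 1, 0, -1, 0, -1⟩, ⟨2, 0, 0, 0, 0, 0, 0, 0⟩, ⟨-1, 1, 1, -1, -1, 1, 1, -1⟩⟩,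
  ⟨⟨0, -1, 0, 1, 0, -1, 0, -1⟩, ⟨2, 0, 0, 0, 0, 0, 0, 0⟩, ⟨1, -1, -1, 1, 1, -1, -1, 1⟩⟩,
  ⟨⟨0, -1, 0, 1, 0, 1, 0, 1⟩, ⟨-1, 1, -1, 1, -1, 1, -1, 1⟩, ⟨2, 0, 0, 0, 0, 0, 0, 0⟩⟩,
  ⟨⟨0, -1, 0, 1, 0, 1, 0, 1⟩, ⟨1, -1, 1, -1, 1, -1, 1, -1⟩, ⟨2, 0, 0, 0, 0, 0, 0, 0⟩⟩,
  ⟨⟨0, -1, 0, 1, 0, 1, 0, 1⟩, ⟨2, 0, 0, 0, 0, 0, 0, 0⟩, ⟨-1, 1, -1, 1, -1, 1, -1, 1⟩⟩,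
  ⟨⟨0, -1, 0, 1, 0, 1, 0, 1⟩, ⟨2, 0, 0, 0, 0, 0, 0, 0⟩, ⟨1, -1, 1, -1, 1, -1, 1, -1⟩⟩,
  ⟨⟨0, 0, 0, 0, 0, 0, 0, 0⟩, ⟨0, 0, 0, 0, 0, 0, 0, 0⟩, ⟨4, 0, 0, 0, 0, 0, 0, 0⟩⟩,
  ⟨⟨0, 0, 0, 0, 0, 0, 0, 0⟩, ⟨1, -2, 1, 0, 1, 0, 1, 0⟩, ⟨-1, 0, -1, 0, 1, -2, 1, 0⟩⟩,
  ⟨⟨0, 0, 0, 0, 0, 0, 0, 0⟩, ⟨1, -2, 1, 0, 1, 0, 1, 0⟩, ⟨-1, 0, 1, -2, 1, 0, -1, 0⟩⟩,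
  ⟨⟨0, 0, 0, 0, 0, 0, 0, 0⟩, ⟨1, -2, 1, 0, 1, 0, 1, 0⟩, ⟨-1, 0, 1, 0, -1, 0, 1, -2⟩⟩,
  ⟨⟨0, 0, 0, 0, 0, 0, 0, 0⟩, ⟨1, -2, 1, 0, 1, 0, 1, 0⟩, ⟨-1, 2, -1, 0, -1, 0, -1, 0⟩⟩,
  ⟨⟨0, 0, 0, 0, 0, 0, 0, 0⟩, ⟨1, -2, 1, 0, 1, 0, 1, 0⟩, ⟨1, -2, 1, 0, 1, 0, 1, 0⟩⟩,
  ⟨⟨0, 0, 0, 0, 0, 0, 0, 0⟩, ⟨1, -2, 1, 0, 1, 0, 1, 0⟩, ⟨1, 0, -1, 0, 1, 0, -1, 2⟩⟩,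
  ⟨⟨0, 0, 0, 0, 0, 0, 0, 0⟩, ⟨1, -2, 1, 0, 1, 0, 1, 0⟩, ⟨1, 0, -1, 2, -1, 0, 1, 0⟩⟩,
  ⟨⟨0, 0, 0, 0, 0, 0, 0, 0⟩, ⟨1, -2, 1, 0, 1, 0, 1, 0⟩, ⟨1, 0, 1, 0, -1, 2, -1, 0⟩⟩,
  ⟨⟨0, 0, 0, 0, 0, 0, 0, 0⟩, ⟨4, 0, 0, 0, 0, 0, 0, 0⟩, ⟨0, 0, 0, 0, 0, 0, 0, 0⟩⟩,
  ⟨⟨0, 1, 0, -1, 0, -1, 0, -1⟩, ⟨-1, 1, -1, 1, -1, 1, -1, 1⟩, ⟨2, 0, 0, 0, 0, 0, 0, 0⟩⟩,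
  ⟨⟨0, 1, 0, -1, 0, -1, 0, -1⟩, ⟨1, -1, 1, -1, 1, -1, 1, -1⟩, ⟨2, 0, 0, 0, 0, 0, 0, 0⟩⟩,
  ⟨⟨0, 1, 0, -1, 0, -1, 0, -1⟩, ⟨2, 0, 0, 0, 0, 0, 0, 0⟩, ⟨-1, 1, -1, 1, -1, 1, -1, 1⟩⟩,
  ⟨⟨0, 1, 0, -1, 0, -1, 0, -1⟩, ⟨2, 0, 0, 0, 0, 0, 0, 0⟩, ⟨1, -1, 1, -1, 1, -1, 1, -1⟩⟩,
  ⟨⟨0, 1, 0, -1, 0, 1, 0, 1⟩, ⟨-1, 1, 1, -1, -1, 1, 1, -1⟩, ⟨2, 0, 0, 0, 0, 0, 0, 0⟩⟩,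
  ⟨⟨0, 1, 0, -1, 0, 1, 0, 1⟩, ⟨1, -1, -1, 1, 1, -1, -1, 1⟩, ⟨2, 0, 0, 0, 0, 0, 0, 0⟩⟩,
  ⟨⟨0, 1, 0, -1, 0, 1, 0, 1⟩, ⟨2, 0, 0, 0, 0, 0, 0, 0⟩, ⟨-1, 1, 1, -1, -1, 1, 1, -1⟩⟩,
  ⟨⟨0, 1, 0, -1, 0, 1, 0, 1⟩, ⟨2, 0, 0, 0, 0, 0, 0, 0⟩, ⟨1, -1, -1, 1, 1, -1, -1, 1⟩⟩,
  ⟨⟨0, 1, 0, 1, 0, -1, 0, 1⟩, ⟨-1, 1, 1, -1, 1, -1, -1, 1⟩, ⟨2, 0, 0, 0, 0, 0, 0, 0⟩⟩,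
  ⟨⟨0, 1, 0, 1, 0, -1, 0, 1⟩, ⟨1, -1, -1, 1, -1, 1, 1, -1⟩, ⟨2, 0, 0, 0, 0, 0, 0, 0⟩⟩,
  ⟨⟨0, 1, 0, 1, 0, -1, 0, 1⟩, ⟨2, 0, 0, 0, 0, 0, 0, 0⟩, ⟨-1, 1, 1, -1, 1, -1, -1, 1⟩⟩,
  ⟨⟨0, 1, 0, 1, 0, -1, 0, 1⟩, ⟨2, 0, 0, 0, 0, 0, 0, 0⟩, ⟨1, -1, -1, 1, -1, 1, 1, -1⟩⟩,
  ⟨⟨0, 1, 0, 1, 0, 1, 0, -1⟩, ⟨-1, 1, -1, 1, 1, -1, 1, -1⟩, ⟨2, 0, 0, 0, 0, 0, 0, 0⟩⟩,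
  ⟨⟨0, 1, 0, 1, 0, 1, 0, -1⟩, ⟨1, -1, 1, -1, -1, 1, -1, 1⟩, ⟨2, 0, 0, 0, 0, 0, 0, 0⟩⟩,
  ⟨⟨0, 1, 0, 1, 0, 1, 0, -1⟩, ⟨2, 0, 0, 0, 0, 0, 0, 0⟩, ⟨-1, 1, -1, 1, 1, -1, 1, -1⟩⟩,
  ⟨⟨0, 1, 0, 1, 0, 1, 0, -1⟩, ⟨2, 0, 0, 0, 0, 0, 0, 0⟩, ⟨1, -1, 1, -1, -1, 1, -1, 1⟩⟩,
  ⟨⟨1, -2, -1, 0, -1, 0, -1, 0⟩, ⟨2, 0, 0, 0, 0, 0, 0, 0⟩, ⟨-2, 0, 0, 0, 0, 0, 0, 0⟩⟩,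
  ⟨⟨1, -2, -1, 0, -1, 0, -1, 0⟩, ⟨2, 0, 0, 0, 0, 0, 0, 0⟩, ⟨2, 0, 0, 0, 0, 0, 0, 0⟩⟩,
  ⟨⟨1, -2, -1, 0, 1, 0, 1, 0⟩, ⟨2, 0, 0, 0, 0, 0, 0, 0⟩, ⟨0, 0, -2, 0, 0, 0, 0, 0⟩⟩,
  ⟨⟨1, -2, -1, 0, 1, 0, 1, 0⟩, ⟨2, 0, 0, 0, 0, 0, 0, 0⟩, ⟨0, 0, 2, 0, 0, 0, 0, 0⟩⟩,
  ⟨⟨1, -2, 1, 0, -1, 0, 1, 0⟩, ⟨2, 0, 0, 0, 0, 0, 0, 0⟩, ⟨0, 0, 0, 0, -2, 0, 0, 0⟩⟩,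
  ⟨⟨1, -2, 1, 0, -1, 0, 1, 0⟩, ⟨2, 0, 0, 0, 0, 0, 0, 0⟩, ⟨0, 0, 0, 0, 2, 0, 0, 0⟩⟩,
  ⟨⟨1, -2, 1, 0, 1, 0, -1, 0⟩, ⟨2, 0, 0, 0, 0, 0, 0, 0⟩, ⟨0, 0, 0, 0, 0, 0, -2, 0⟩⟩,
  ⟨⟨1, -2, 1, 0, 1, 0, -1, 0⟩, ⟨2, 0, 0, 0, 0, 0, 0, 0⟩, ⟨0, 0, 0, 0, 0, 0, 2, 0⟩⟩,
  ⟨⟨1, -2, 1, 0, 1, 0, 1, 0⟩, ⟨-1, 0, -1, 0, 1, -2, 1, 0⟩, ⟨0, 0, 0, 0, 0, 0, 0, 0⟩⟩,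
  ⟨⟨1, -2, 1, 0, 1, 0, 1, 0⟩, ⟨-1, 0, 1, -2, 1, 0, -1, 0⟩, ⟨0, 0, 0, 0, 0, 0, 0, 0⟩⟩,
  ⟨⟨1, -2, 1, 0, 1, 0, 1, 0⟩, ⟨-1, 0, 1, 0, -1, 0, 1, -2⟩, ⟨0, 0, 0, 0, 0, 0, 0, 0⟩⟩,
  ⟨⟨1, -2, 1, 0, 1, 0, 1, 0⟩, ⟨-1, 2, -1, 0, -1, 0, -1, 0⟩, ⟨0, 0, 0, 0, 0, 0, 0, 0⟩⟩,
  ⟨⟨1, -2, 1, 0, 1, 0, 1, 0⟩, ⟨0, 0, 0, 0, 0, 0, 0, 0⟩, ⟨-1, 0, -1, 0, 1, -2, 1, 0⟩⟩,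
  ⟨⟨1, -2, 1, 0, 1, 0, 1, 0⟩, ⟨0, 0, 0, 0, 0, 0, 0, 0⟩, ⟨-1, 0, 1, -2, 1, 0, -1, 0⟩⟩,
  ⟨⟨1, -2, 1, 0, 1, 0, 1, 0⟩, ⟨0, 0, 0, 0, 0, 0, 0, 0⟩, ⟨-1, 0, 1, 0, -1, 0, 1, -2⟩⟩,
  ⟨⟨1, -2, 1, 0, 1, 0, 1, 0⟩, ⟨0, 0, 0, 0, 0, 0, 0, 0⟩, ⟨-1, 2, -1, 0, -1, 0, -1, 0⟩⟩,
  ⟨⟨1, -2, 1, 0, 1, 0, 1, 0⟩, ⟨0, 0, 0, 0, 0, 0, 0, 0⟩, ⟨1, -2, 1, 0, 1, 0, 1, 0⟩⟩,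
  ⟨⟨1, -2, 1, 0, 1, 0, 1, 0⟩, ⟨0, 0, 0, 0, 0, 0, 0, 0⟩, ⟨1, 0, -1, 0, 1, 0, -1, 2⟩⟩,
  ⟨⟨1, -2, 1, 0, 1, 0, 1, 0⟩, ⟨0, 0, 0, 0, 0, 0, 0, 0⟩, ⟨1, 0, -1, 2, -1, 0, 1, 0⟩⟩,
  ⟨⟨1, -2, 1, 0, 1, 0, 1, 0⟩, ⟨0, 0, 0, 0, 0, 0, 0, 0⟩, ⟨1, 0, 1, 0, -1, 2, -1, 0⟩⟩,
  ⟨⟨1, -2, 1, 0, 1, 0, 1, 0⟩, ⟨1, -2, 1, 0, 1, 0, 1, 0⟩, ⟨0, 0, 0, 0, 0, 0, 0, 0⟩⟩,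
  ⟨⟨1, -2, 1, 0, 1, 0, 1, 0⟩, ⟨1, 0, -1, 0, 1, 0, -1, 2⟩, ⟨0, 0, 0, 0, 0, 0, 0, 0⟩⟩,
  ⟨⟨1, -2, 1, 0, 1, 0, 1, 0⟩, ⟨1, 0, -1, 2, -1, 0, 1, 0⟩, ⟨0, 0, 0, 0, 0, 0, 0, 0⟩⟩,
  ⟨⟨1, -2, 1, 0, 1, 0, 1, 0⟩, ⟨1, 0, 1, 0, -1, 2, -1, 0⟩, ⟨0, 0, 0, 0, 0, 0, 0, 0⟩⟩,
  ⟨⟨1, -1, -1, 1, -1, 1, 1, -1⟩, ⟨0, -1, 0, -1, 0, 1, 0, -1⟩, ⟨2, 0, 0, 0, 0, 0, 0, 0⟩⟩,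
  ⟨⟨1, -1, -1, 1, -1, 1, 1, -1⟩, ⟨0, 1, 0, 1, 0, -1, 0, 1⟩, ⟨2, 0, 0, 0, 0, 0, 0, 0⟩⟩,
  ⟨⟨1, -1, -1, 1, -1, 1, 1, -1⟩, ⟨2, 0, 0, 0, 0, 0, 0, 0⟩, ⟨0, -1, 0, -1, 0, 1, 0, -1⟩⟩,
  ⟨⟨1, -1, -1, 1, -1, 1, 1, -1⟩, ⟨2, 0, 0, 0, 0, 0, 0, 0⟩, ⟨0, 1, 0, 1, 0, -1, 0, 1⟩⟩,
  ⟨⟨1, -1, -1, 1, 1, -1, -1, 1⟩, ⟨0, -1, 0, 1, 0, -1, 0, -1⟩, ⟨2, 0, 0, 0, 0, 0, 0, 0⟩⟩,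
  ⟨⟨1, -1, -1, 1, 1, -1, -1, 1⟩, ⟨0, 1, 0, -1, 0, 1, 0, 1⟩, ⟨2, 0, 0, 0, 0, 0, 0, 0⟩⟩,
  ⟨⟨1, -1, -1, 1, 1, -1, -1, 1⟩, ⟨2, 0, 0, 0, 0, 0, 0, 0⟩, ⟨0, -1, 0, 1, 0, -1, 0, -1⟩⟩,
  ⟨⟨1, -1, -1, 1, 1, -1, -1, 1⟩, ⟨2, 0, 0, 0, 0, 0, 0, 0⟩, ⟨0, 1, 0, -1, 0, 1, 0, 1⟩⟩,
  ⟨⟨1, -1, 1, -1, -1, 1, -1, 1⟩, ⟨0, -1, 0, -1, 0, -1, 0, 1⟩, ⟨2, 0, 0, 0, 0, 0, 0, 0⟩⟩,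
  ⟨⟨1, -1, 1, -1, -1, 1, -1, 1⟩, ⟨0, 1, 0, 1, 0, 1, 0, -1⟩, ⟨2, 0, 0, 0, 0, 0, 0, 0⟩⟩,
  ⟨⟨1, -1, 1, -1, -1, 1, -1, 1⟩, ⟨2, 0, 0, 0, 0, 0, 0, 0⟩, ⟨0, -1, 0, -1, 0, -1, 0, 1⟩⟩,
  ⟨⟨1, -1, 1, -1, -1, 1, -1, 1⟩, ⟨2, 0, 0, 0, 0, 0, 0, 0⟩, ⟨0, 1, 0, 1, 0, 1, 0, -1⟩⟩,
  ⟨⟨1, -1, 1, -1, 1, -1, 1, -1⟩, ⟨0, -1, 0, 1, 0, 1, 0, 1⟩, ⟨2, 0, 0, 0, 0, 0, 0, 0⟩⟩,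
  ⟨⟨1, -1, 1, -1, 1, -1, 1, -1⟩, ⟨0, 1, 0, -1, 0, -1, 0, -1⟩, ⟨2, 0, 0, 0, 0, 0, 0, 0⟩⟩,
  ⟨⟨1, -1, 1, -1, 1, -1, 1, -1⟩, ⟨2, 0, 0, 0, 0, 0, 0, 0⟩, ⟨0, -1, 0, 1, 0, 1, 0, 1⟩⟩,
  ⟨⟨1, -1, 1, -1, 1, -1, 1, -1⟩, ⟨2, 0, 0, 0, 0, 0, 0, 0⟩, ⟨0, 1, 0, -1, 0, -1, 0, -1⟩⟩,
  ⟨⟨1, 0, -1, 0, -1, 0, -1, 2⟩, ⟨2, 0, 0, 0, 0, 0, 0, 0⟩, ⟨0, 0, 0, 0, -2, 0, 0, 0⟩⟩,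
  ⟨⟨1, 0, -1, 0, -1, 0, -1, 2⟩, ⟨2, 0, 0, 0, 0, 0, 0, 0⟩, ⟨0, 0, 0, 0, 2, 0, 0, 0⟩⟩,
  ⟨⟨1, 0, -1, 0, -1, 2, -1, 0⟩, ⟨2, 0, 0, 0, 0, 0, 0, 0⟩, ⟨0, 0, -2, 0, 0, 0, 0, 0⟩⟩,
  ⟨⟨1, 0, -1, 0, -1, 2, -1, 0⟩, ⟨2, 0, 0, 0, 0, 0, 0, 0⟩, ⟨0, 0, 2, 0, 0, 0, 0, 0⟩⟩,
  ⟨⟨1, 0, -1, 0, 1, -2, 1, 0⟩, ⟨2, 0, 0, 0, 0, 0, 0, 0⟩, ⟨-2, 0, 0, 0, 0, 0, 0, 0⟩⟩,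
  ⟨⟨1, 0, -1, 0, 1, -2, 1, 0⟩, ⟨2, 0, 0, 0, 0, 0, 0, 0⟩, ⟨2, 0, 0, 0, 0, 0, 0, 0⟩⟩,
  ⟨⟨1, 0, -1, 0, 1, 0, 1, -2⟩, ⟨2, 0, 0, 0, 0, 0, 0, 0⟩, ⟨0, 0, 0, 0, 0, 0, -2, 0⟩⟩,
  ⟨⟨1, 0, -1, 0, 1, 0, 1, -2⟩, ⟨2, 0, 0, 0, 0, 0, 0, 0⟩, ⟨0, 0, 0, 0, 0, 0, 2, 0⟩⟩,
  ⟨⟨1, 0, -1, 2, -1, 0, -1, 0⟩, ⟨2, 0, 0, 0, 0, 0, 0, 0⟩, ⟨0, 0, 0, 0, 0, 0, -2, 0⟩⟩,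
  ⟨⟨1, 0, -1, 2, -1, 0, -1, 0⟩, ⟨2, 0, 0, 0, 0, 0, 0, 0⟩, ⟨0, 0, 0, 0, 0, 0, 2, 0⟩⟩,
  ⟨⟨1, 0, -1, 2, 1, 0, 1, 0⟩, ⟨2, 0, 0, 0, 0, 0, 0, 0⟩, ⟨0, 0, 0, 0, -2, 0, 0, 0⟩⟩,
  ⟨⟨1, 0, -1, 2, 1, 0, 1, 0⟩, ⟨2, 0, 0, 0, 0, 0, 0, 0⟩, ⟨0, 0, 0, 0, 2, 0, 0, 0⟩⟩,
  ⟨⟨1, 0, 1, -2, -1, 0, 1, 0⟩, ⟨2, 0, 0, 0, 0, 0, 0, 0⟩, ⟨0, 0, -2, 0, 0, 0, 0, 0⟩⟩,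
  ⟨⟨1, 0, 1, -2, -1, 0, 1, 0⟩, ⟨2, 0, 0, 0, 0, 0, 0, 0⟩, ⟨0, 0, 2, 0, 0, 0, 0, 0⟩⟩,
  ⟨⟨1, 0, 1, -2, 1, 0, -1, 0⟩, ⟨2, 0, 0, 0, 0, 0, 0, 0⟩, ⟨-2, 0, 0, 0, 0, 0, 0, 0⟩⟩,
  ⟨⟨1, 0, 1, -2, 1, 0, -1, 0⟩, ⟨2, 0, 0, 0, 0, 0, 0, 0⟩, ⟨2, 0, 0, 0, 0, 0, 0, 0⟩⟩,
  ⟨⟨1, 0, 1, 0, -1, 0, 1, -2⟩, ⟨2, 0, 0, 0, 0, 0, 0, 0⟩, ⟨-2, 0, 0, 0, 0, 0, 0, 0⟩⟩,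
  ⟨⟨1, 0, 1, 0, -1, 0, 1, -2⟩, ⟨2, 0, 0, 0, 0, 0, 0, 0⟩, ⟨2, 0, 0, 0, 0, 0, 0, 0⟩⟩,
  ⟨⟨1, 0, 1, 0, -1, 2, 1, 0⟩, ⟨2, 0, 0, 0, 0, 0, 0, 0⟩, ⟨0, 0, 0, 0, 0, 0, -2, 0⟩⟩,
  ⟨⟨1, 0, 1, 0, -1, 2, 1, 0⟩, ⟨2, 0, 0, 0, 0, 0, 0, 0⟩, ⟨0, 0, 0, 0, 0, 0, 2, 0⟩⟩,
  ⟨⟨1, 0, 1, 0, 1, -2, -1, 0⟩, ⟨2, 0, 0, 0, 0, 0, 0, 0⟩, ⟨0, 0, 0, 0, -2, 0, 0, 0⟩⟩,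
  ⟨⟨1, 0, 1, 0, 1, -2, -1, 0⟩, ⟨2, 0, 0, 0, 0, 0, 0, 0⟩, ⟨0, 0, 0, 0, 2, 0, 0, 0⟩⟩,
  ⟨⟨1, 0, 1, 0, 1, 0, -1, 2⟩, ⟨2, 0, 0, 0, 0, 0, 0, 0⟩, ⟨0, 0, -2, 0, 0, 0, 0, 0⟩⟩,
  ⟨⟨1, 0, 1, 0, 1, 0, -1, 2⟩, ⟨2, 0, 0, 0, 0, 0, 0, 0⟩, ⟨0, 0, 2, 0, 0, 0, 0, 0⟩⟩,
  ⟨⟨2, 0, 0, 0, 0, 0, 0, 0⟩, ⟨-2, 0, 0, 0, 0, 0, 0, 0⟩, ⟨-1, 0, -1, 0, 1, 0, -1, 2⟩⟩,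
  ⟨⟨2, 0, 0, 0, 0, 0, 0, 0⟩, ⟨-2, 0, 0, 0, 0, 0, 0, 0⟩, ⟨-1, 0, -1, 2, -1, 0, 1, 0⟩⟩,
  ⟨⟨2, 0, 0, 0, 0, 0, 0, 0⟩, ⟨-2, 0, 0, 0, 0, 0, 0, 0⟩, ⟨-1, 0, 1, 0, -1, 2, -1, 0⟩⟩,
  ⟨⟨2, 0, 0, 0, 0, 0, 0, 0⟩, ⟨-2, 0, 0, 0, 0, 0, 0, 0⟩, ⟨-1, 2, 1, 0, 1, 0, 1, 0⟩⟩,
  ⟨⟨2, 0, 0, 0, 0, 0, 0, 0⟩, ⟨-2, 0, 0, 0, 0, 0, 0, 0⟩, ⟨1, -2, -1, 0, -1, 0, -1, 0⟩⟩,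
  ⟨⟨2, 0, 0, 0, 0, 0, 0, 0⟩, ⟨-2, 0, 0, 0, 0, 0, 0, 0⟩, ⟨1, 0, -1, 0, 1, -2, 1, 0⟩⟩,
  ⟨⟨2, 0, 0, 0, 0, 0, 0, 0⟩, ⟨-2, 0, 0, 0, 0, 0, 0, 0⟩, ⟨1, 0, 1, -2, 1, 0, -1, 0⟩⟩,
  ⟨⟨2, 0, 0, 0, 0, 0, 0, 0⟩, ⟨-2, 0, 0, 0, 0, 0, 0, 0⟩, ⟨1, 0, 1, 0, -1, 0, 1, -2⟩⟩,
  ⟨⟨2, 0, 0, 0, 0, 0, 0, 0⟩, ⟨-1, 0, -1, 0, -1, 0, 1, -2⟩, ⟨0, 0, -2, 0, 0, 0, 0, 0⟩⟩,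
  ⟨⟨2, 0, 0, 0, 0, 0, 0, 0⟩, ⟨-1, 0, -1, 0, -1, 0, 1, -2⟩, ⟨0, 0, 2, 0, 0, 0, 0, 0⟩⟩,
  ⟨⟨2, 0, 0, 0, 0, 0, 0, 0⟩, ⟨-1, 0, -1, 0, -1, 2, 1, 0⟩, ⟨0, 0, 0, 0, -2, 0, 0, 0⟩⟩,
  ⟨⟨2, 0, 0, 0, 0, 0, 0, 0⟩, ⟨-1, 0, -1, 0, -1, 2, 1, 0⟩, ⟨0, 0, 0, 0, 2, 0, 0, 0⟩⟩,
  ⟨⟨2, 0, 0, 0, 0, 0, 0, 0⟩, ⟨-1, 0, -1, 0, 1, -2, -1, 0⟩, ⟨0, 0, 0, 0, 0, 0, -2, 0⟩⟩,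
  ⟨⟨2, 0, 0, 0, 0, 0, 0, 0⟩, ⟨-1, 0, -1, 0, 1, -2, -1, 0⟩, ⟨0, 0, 0, 0, 0, 0, 2, 0⟩⟩,
  ⟨⟨2, 0, 0, 0, 0, 0, 0, 0⟩, ⟨-1, 0, -1, 0, 1, 0, -1, 2⟩, ⟨-2, 0, 0, 0, 0, 0, 0, 0⟩⟩,
  ⟨⟨2, 0, 0, 0, 0, 0, 0, 0⟩, ⟨-1, 0, -1, 0, 1, 0, -1, 2⟩, ⟨2, 0, 0, 0, 0, 0, 0, 0⟩⟩,
  ⟨⟨2, 0, 0, 0, 0, 0, 0, 0⟩, ⟨-1, 0, -1, 2, -1, 0, 1, 0⟩, ⟨-2, 0, 0, 0, 0, 0, 0, 0⟩⟩,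
  ⟨⟨2, 0, 0, 0, 0, 0, 0, 0⟩, ⟨-1, 0, -1, 2, -1, 0, 1, 0⟩, ⟨2, 0, 0, 0, 0, 0, 0, 0⟩⟩,
  ⟨⟨2, 0, 0, 0, 0, 0, 0, 0⟩, ⟨-1, 0, -1, 2, 1, 0, -1, 0⟩, ⟨0, 0, -2, 0, 0, 0, 0, 0⟩⟩,
  ⟨⟨2, 0, 0, 0, 0, 0, 0, 0⟩, ⟨-1, 0, -1, 2, 1, 0, -1, 0⟩, ⟨0, 0, 2, 0, 0, 0, 0, 0⟩⟩,
  ⟨⟨2, 0, 0, 0, 0, 0, 0, 0⟩, ⟨-1, 0, 1, -2, -1, 0, -1, 0⟩, ⟨0, 0, 0, 0, -2, 0, 0, 0⟩⟩,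
  ⟨⟨2, 0, 0, 0, 0, 0, 0, 0⟩, ⟨-1, 0, 1, -2, -1, 0, -1, 0⟩, ⟨0, 0, 0, 0, 2, 0, 0, 0⟩⟩,
  ⟨⟨2, 0, 0, 0, 0, 0, 0, 0⟩, ⟨-1, 0, 1, -2, 1, 0, 1, 0⟩, ⟨0, 0, 0, 0, 0, 0, -2, 0⟩⟩,
  ⟨⟨2, 0, 0, 0, 0, 0, 0, 0⟩, ⟨-1, 0, 1, -2, 1, 0, 1, 0⟩, ⟨0, 0, 0, 0, 0, 0, 2, 0⟩⟩,
  ⟨⟨2, 0, 0, 0, 0, 0, 0, 0⟩, ⟨-1, 0, 1, 0, -1, 0, -1, 2⟩, ⟨0, 0, 0, 0, 0, 0, -2, 0⟩⟩,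
  ⟨⟨2, 0, 0, 0, 0, 0, 0, 0⟩, ⟨-1, 0, 1, 0, -1, 0, -1, 2⟩, ⟨0, 0, 0, 0, 0, 0, 2, 0⟩⟩,
  ⟨⟨2, 0, 0, 0, 0, 0, 0, 0⟩, ⟨-1, 0, 1, 0, -1, 2, -1, 0⟩, ⟨-2, 0, 0, 0, 0, 0, 0, 0⟩⟩,
  ⟨⟨2, 0, 0, 0, 0, 0, 0, 0⟩, ⟨-1, 0, 1, 0, -1, 2, -1, 0⟩, ⟨2, 0, 0, 0, 0, 0, 0, 0⟩⟩,
  ⟨⟨2, 0, 0, 0, 0, 0, 0, 0⟩, ⟨-1, 0, 1, 0, 1, -2, 1, 0⟩, ⟨0, 0, -2, 0, 0, 0, 0, 0⟩⟩,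
  ⟨⟨2, 0, 0, 0, 0, 0, 0, 0⟩, ⟨-1, 0, 1, 0, 1, -2, 1, 0⟩, ⟨0, 0, 2, 0, 0, 0, 0, 0⟩⟩,
  ⟨⟨2, 0, 0, 0, 0, 0, 0, 0⟩, ⟨-1, 0, 1, 0, 1, 0, 1, -2⟩, ⟨0, 0, 0, 0, -2, 0, 0, 0⟩⟩,
  ⟨⟨2, 0, 0, 0, 0, 0, 0, 0⟩, ⟨-1, 0, 1, 0, 1, 0, 1, -2⟩, ⟨0, 0, 0, 0, 2, 0, 0, 0⟩⟩,
  ⟨⟨2, 0, 0, 0, 0, 0, 0, 0⟩, ⟨-1, 1, -1, 1, -1, 1, -1, 1⟩, ⟨0, -1, 0, 1, 0, 1, 0, 1⟩⟩,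
  ⟨⟨2, 0, 0, 0, 0, 0, 0, 0⟩, ⟨-1, 1, -1, 1, -1, 1, -1, 1⟩, ⟨0, 1, 0, -1, 0, -1, 0, -1⟩⟩,
  ⟨⟨2, 0, 0, 0, 0, 0, 0, 0⟩, ⟨-1, 1, -1, 1, 1, -1, 1, -1⟩, ⟨0, -1, 0, -1, 0, -1, 0, 1⟩⟩,
  ⟨⟨2, 0, 0, 0, 0, 0, 0, 0⟩, ⟨-1, 1, -1, 1, 1, -1, 1, -1⟩, ⟨0, 1, 0, 1, 0, 1, 0, -1⟩⟩,
  ⟨⟨2, 0, 0, 0, 0, 0, 0, 0⟩, ⟨-1, 1, 1, -1, -1, 1, 1, -1⟩, ⟨0, -1, 0, 1, 0, -1, 0, -1⟩⟩,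
  ⟨⟨2, 0, 0, 0, 0, 0, 0, 0⟩, ⟨-1, 1, 1, -1, -1, 1, 1, -1⟩, ⟨0, 1, 0, -1, 0, 1, 0, 1⟩⟩,
  ⟨⟨2, 0, 0, 0, 0, 0, 0, 0⟩, ⟨-1, 1, 1, -1, 1, -1, -1, 1⟩, ⟨0, -1, 0, -1, 0, 1, 0, -1⟩⟩,
  ⟨⟨2, 0, 0, 0, 0, 0, 0, 0⟩, ⟨-1, 1, 1, -1, 1, -1, -1, 1⟩, ⟨0, 1, 0, 1, 0, -1, 0, 1⟩⟩,
  ⟨⟨2, 0, 0, 0, 0, 0, 0, 0⟩, ⟨-1, 2, -1, 0, -1, 0, 1, 0⟩, ⟨0, 0, 0, 0, 0, 0, -2, 0⟩⟩,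
  ⟨⟨2, 0, 0, 0, 0, 0, 0, 0⟩, ⟨-1, 2, -1, 0, -1, 0, 1, 0⟩, ⟨0, 0, 0, 0, 0, 0, 2, 0⟩⟩,
  ⟨⟨2, 0, 0, 0, 0, 0, 0, 0⟩, ⟨-1, 2, -1, 0, 1, 0, -1, 0⟩, ⟨0, 0, 0, 0, -2, 0, 0, 0⟩⟩,
  ⟨⟨2, 0, 0, 0, 0, 0, 0, 0⟩, ⟨-1, 2, -1, 0, 1, 0, -1, 0⟩, ⟨0, 0, 0, 0, 2, 0, 0, 0⟩⟩,
  ⟨⟨2, 0, 0, 0, 0, 0, 0, 0⟩, ⟨-1, 2, 1, 0, -1, 0, -1, 0⟩, ⟨0, 0, -2, 0, 0, 0, 0, 0⟩⟩,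
  ⟨⟨2, 0, 0, 0, 0, 0, 0, 0⟩, ⟨-1, 2, 1, 0, -1, 0, -1, 0⟩, ⟨0, 0, 2, 0, 0, 0, 0, 0⟩⟩,
  ⟨⟨2, 0, 0, 0, 0, 0, 0, 0⟩, ⟨-1, 2, 1, 0, 1, 0, 1, 0⟩, ⟨-2, 0, 0, 0, 0, 0, 0, 0⟩⟩,
  ⟨⟨2, 0, 0, 0, 0, 0, 0, 0⟩, ⟨-1, 2, 1, 0, 1, 0, 1, 0⟩, ⟨2, 0, 0, 0, 0, 0, 0, 0⟩⟩,
  ⟨⟨2, 0, 0, 0, 0, 0, 0, 0⟩, ⟨0, -1, 0, -1, 0, -1, 0, 1⟩, ⟨-1, 1, -1, 1, 1, -1, 1, -1⟩⟩,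
  ⟨⟨2, 0, 0, 0, 0, 0, 0, 0⟩, ⟨0, -1, 0, -1, 0, -1, 0, 1⟩, ⟨1, -1, 1, -1, -1, 1, -1, 1⟩⟩,
  ⟨⟨2, 0, 0, 0, 0, 0, 0, 0⟩, ⟨0, -1, 0, -1, 0, 1, 0, -1⟩, ⟨-1, 1, 1, -1, 1, -1, -1, 1⟩⟩,
  ⟨⟨2, 0, 0, 0, 0, 0, 0, 0⟩, ⟨0, -1, 0, -1, 0, 1, 0, -1⟩, ⟨1, -1, -1, 1, -1, 1, 1, -1⟩⟩,
  ⟨⟨2, 0, 0, 0, 0, 0, 0, 0⟩, ⟨0, -1, 0, 1, 0, -1, 0, -1⟩, ⟨-1, 1, 1, -1, -1, 1, 1, -1⟩⟩,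
  ⟨⟨2, 0, 0, 0, 0, 0, 0, 0⟩, ⟨0, -1, 0, 1, 0, -1, 0, -1⟩, ⟨1, -1, -1, 1, 1, -1, -1, 1⟩⟩,
  ⟨⟨2, 0, 0, 0, 0, 0, 0, 0⟩, ⟨0, -1, 0, 1, 0, 1, 0, 1⟩, ⟨-1, 1, -1, 1, -1, 1, -1, 1⟩⟩,
  ⟨⟨2, 0, 0, 0, 0, 0, 0, 0⟩, ⟨0, -1, 0, 1, 0, 1, 0, 1⟩, ⟨1, -1, 1, -1, 1, -1, 1, -1⟩⟩,
  ⟨⟨2, 0, 0, 0, 0, 0, 0, 0⟩, ⟨0, 0, -2, 0, 0, 0, 0, 0⟩, ⟨-1, 0, -1, 0, -1, 0, 1, -2⟩⟩,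
  ⟨⟨2, 0, 0, 0, 0, 0, 0, 0⟩, ⟨0, 0, -2, 0, 0, 0, 0, 0⟩, ⟨-1, 0, -1, 2, 1, 0, -1, 0⟩⟩,
  ⟨⟨2, 0, 0, 0, 0, 0, 0, 0⟩, ⟨0, 0, -2, 0, 0, 0, 0, 0⟩, ⟨-1, 0, 1, 0, 1, -2, 1, 0⟩⟩,
  ⟨⟨2, 0, 0, 0, 0, 0, 0, 0⟩, ⟨0, 0, -2, 0, 0, 0, 0, 0⟩, ⟨-1, 2, 1, 0, -1, 0, -1, 0⟩⟩,
  ⟨⟨2, 0, 0, 0, 0, 0, 0, 0⟩, ⟨0, 0, -2, 0, 0, 0, 0, 0⟩, ⟨1, -2, -1, 0, 1, 0, 1, 0⟩⟩,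
  ⟨⟨2, 0, 0, 0, 0, 0, 0, 0⟩, ⟨0, 0, -2, 0, 0, 0, 0, 0⟩, ⟨1, 0, -1, 0, -1, 2, -1, 0⟩⟩,
  ⟨⟨2, 0, 0, 0, 0, 0, 0, 0⟩, ⟨0, 0, -2, 0, 0, 0, 0, 0⟩, ⟨1, 0, 1, -2, -1, 0, 1, 0⟩⟩,
  ⟨⟨2, 0, 0, 0, 0, 0, 0, 0⟩, ⟨0, 0, -2, 0, 0, 0, 0, 0⟩, ⟨1, 0, 1, 0, 1, 0, -1, 2⟩⟩,
  ⟨⟨2, 0, 0, 0, 0, 0, 0, 0⟩, ⟨0, 0, 0, 0, -2, 0, 0, 0⟩, ⟨-1, 0, -1, 0, -1, 2, 1, 0⟩⟩,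
  ⟨⟨2, 0, 0, 0, 0, 0, 0, 0⟩, ⟨0, 0, 0, 0, -2, 0, 0, 0⟩, ⟨-1, 0, 1, -2, -1, 0, -1, 0⟩⟩,
  ⟨⟨2, 0, 0, 0, 0, 0, 0, 0⟩, ⟨0, 0, 0, 0, -2, 0, 0, 0⟩, ⟨-1, 0, 1, 0, 1, 0, 1, -2⟩⟩,
  ⟨⟨2, 0, 0, 0, 0, 0, 0, 0⟩, ⟨0, 0, 0, 0, -2, 0, 0, 0⟩, ⟨-1, 2, -1, 0, 1, 0, -1, 0⟩⟩,
  ⟨⟨2, 0, 0, 0, 0, 0, 0, 0⟩, ⟨0, 0, 0, 0, -2, 0, 0, 0⟩, ⟨1, -2, 1, 0, -1, 0, 1, 0⟩⟩,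
  ⟨⟨2, 0, 0, 0, 0, 0, 0, 0⟩, ⟨0, 0, 0, 0, -2, 0, 0, 0⟩, ⟨1, 0, -1, 0, -1, 0, -1, 2⟩⟩,
  ⟨⟨2, 0, 0, 0, 0, 0, 0, 0⟩, ⟨0, 0, 0, 0, -2, 0, 0, 0⟩, ⟨1, 0, -1, 2, 1, 0, 1, 0⟩⟩,
  ⟨⟨2, 0, 0, 0, 0, 0, 0, 0⟩, ⟨0, 0, 0, 0, -2, 0, 0, 0⟩, ⟨1, 0, 1, 0, 1, -2, -1, 0⟩⟩,
  ⟨⟨2, 0, 0, 0, 0, 0, 0, 0⟩, ⟨0, 0, 0, 0, 0, 0, -2, 0⟩, ⟨-1, 0, -1, 0, 1, -2, -1, 0⟩⟩,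
  ⟨⟨2, 0, 0, 0, 0, 0, 0, 0⟩, ⟨0, 0, 0, 0, 0, 0, -2, 0⟩, ⟨-1, 0, 1, -2, 1, 0, 1, 0⟩⟩,
  ⟨⟨2, 0, 0, 0, 0, 0, 0, 0⟩, ⟨0, 0, 0, 0, 0, 0, -2, 0⟩, ⟨-1, 0, 1, 0, -1, 0, -1, 2⟩⟩,
  ⟨⟨2, 0, 0, 0, 0, 0, 0, 0⟩, ⟨0, 0, 0, 0, 0, 0, -2, 0⟩, ⟨-1, 2, -1, 0, -1, 0, 1, 0⟩⟩,
  ⟨⟨2, 0, 0, 0, 0, 0, 0, 0⟩, ⟨0, 0, 0, 0, 0, 0, -2, 0⟩, ⟨1, -2, 1, 0, 1, 0, -1, 0⟩⟩,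
  ⟨⟨2, 0, 0, 0, 0, 0, 0, 0⟩, ⟨0, 0, 0, 0, 0, 0, -2, 0⟩, ⟨1, 0, -1, 0, 1, 0, 1, -2⟩⟩,
  ⟨⟨2, 0, 0, 0, 0, 0, 0, 0⟩, ⟨0, 0, 0, 0, 0, 0, -2, 0⟩, ⟨1, 0, -1, 2, -1, 0, -1, 0⟩⟩,
  ⟨⟨2, 0, 0, 0, 0, 0, 0, 0⟩, ⟨0, 0, 0, 0, 0, 0, -2, 0⟩, ⟨1, 0, 1, 0, -1, 2, 1, 0⟩⟩,
  ⟨⟨2, 0, 0, 0, 0, 0, 0, 0⟩, ⟨0, 0, 0, 0, 0, 0, 2, 0⟩, ⟨-1, 0, -1, 0, 1, -2, -1, 0⟩⟩,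
  ⟨⟨2, 0, 0, 0, 0, 0, 0, 0⟩, ⟨0, 0, 0, 0, 0, 0, 2, 0⟩, ⟨-1, 0, 1, -2, 1, 0, 1, 0⟩⟩,
  ⟨⟨2, 0, 0, 0, 0, 0, 0, 0⟩, ⟨0, 0, 0, 0, 0, 0, 2, 0⟩, ⟨-1, 0, 1, 0, -1, 0, -1, 2⟩⟩,
  ⟨⟨2, 0, 0, 0, 0, 0, 0, 0⟩, ⟨0, 0, 0, 0, 0, 0, 2, 0⟩, ⟨-1, 2, -1, 0, -1, 0, 1, 0⟩⟩,
  ⟨⟨2, 0, 0, 0, 0, 0, 0, 0⟩, ⟨0, 0, 0, 0, 0, 0, 2, 0⟩, ⟨1, -2, 1, 0, 1, 0, -1, 0⟩⟩,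
  ⟨⟨2, 0, 0, 0, 0, 0, 0, 0⟩, ⟨0, 0, 0, 0, 0, 0, 2, 0⟩, ⟨1, 0, -1, 0, 1, 0, 1, -2⟩⟩,
  ⟨⟨2, 0, 0, 0, 0, 0, 0, 0⟩, ⟨0, 0, 0, 0, 0, 0, 2, 0⟩, ⟨1, 0, -1, 2, -1, 0, -1, 0⟩⟩,
  ⟨⟨2, 0, 0, 0, 0, 0, 0, 0⟩, ⟨0, 0, 0, 0, 0, 0, 2, 0⟩, ⟨1, 0, 1, 0, -1, 2, 1, 0⟩⟩,
  ⟨⟨2, 0, 0, 0, 0, 0, 0, 0⟩, ⟨0, 0, 0, 0, 2, 0, 0, 0⟩, ⟨-1, 0, -1, 0, -1, 2, 1, 0⟩⟩,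
  ⟨⟨2, 0, 0, 0, 0, 0, 0, 0⟩, ⟨0, 0, 0, 0, 2, 0, 0, 0⟩, ⟨-1, 0, 1, -2, -1, 0, -1, 0⟩⟩,
  ⟨⟨2, 0, 0, 0, 0, 0, 0, 0⟩, ⟨0, 0, 0, 0, 2, 0, 0, 0⟩, ⟨-1, 0, 1, 0, 1, 0, 1, -2⟩⟩,
  ⟨⟨2, 0, 0, 0, 0, 0, 0, 0⟩, ⟨0, 0, 0, 0, 2, 0, 0, 0⟩, ⟨-1, 2, -1, 0, 1, 0, -1, 0⟩⟩,
  ⟨⟨2, 0, 0, 0, 0, 0, 0, 0⟩, ⟨0, 0, 0, 0, 2, 0, 0, 0⟩, ⟨1, -2, 1, 0, -1, 0, 1, 0⟩⟩,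
  ⟨⟨2, 0, 0, 0, 0, 0, 0, 0⟩, ⟨0, 0, 0, 0, 2, 0, 0, 0⟩, ⟨1, 0, -1, 0, -1, 0, -1, 2⟩⟩,
  ⟨⟨2, 0, 0, 0, 0, 0, 0, 0⟩, ⟨0, 0, 0, 0, 2, 0, 0, 0⟩, ⟨1, 0, -1, 2, 1, 0, 1, 0⟩⟩,
  ⟨⟨2, 0, 0, 0, 0, 0, 0, 0⟩, ⟨0, 0, 0, 0, 2, 0, 0, 0⟩, ⟨1, 0, 1, 0, 1, -2, -1, 0⟩⟩,
  ⟨⟨2, 0, 0, 0, 0, 0, 0, 0⟩, ⟨0, 0, 2, 0, 0, 0, 0, 0⟩, ⟨-1, 0, -1, 0, -1, 0, 1, -2⟩⟩,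
  ⟨⟨2, 0, 0, 0, 0, 0, 0, 0⟩, ⟨0, 0, 2, 0, 0, 0, 0, 0⟩, ⟨-1, 0, -1, 2, 1, 0, -1, 0⟩⟩,
  ⟨⟨2, 0, 0, 0, 0, 0, 0, 0⟩, ⟨0, 0, 2, 0, 0, 0, 0, 0⟩, ⟨-1, 0, 1, 0, 1, -2, 1, 0⟩⟩,
  ⟨⟨2, 0, 0, 0, 0, 0, 0, 0⟩, ⟨0, 0, 2, 0, 0, 0, 0, 0⟩, ⟨-1, 2, 1, 0, -1, 0, -1, 0⟩⟩,
  ⟨⟨2, 0, 0, 0, 0, 0, 0, 0⟩, ⟨0, 0, 2, 0, 0, 0, 0, 0⟩, ⟨1, -2, -1, 0, 1, 0, 1, 0⟩⟩,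
  ⟨⟨2, 0, 0, 0, 0, 0, 0, 0⟩, ⟨0, 0, 2, 0, 0, 0, 0, 0⟩, ⟨1, 0, -1, 0, -1, 2, -1, 0⟩⟩,
  ⟨⟨2, 0, 0, 0, 0, 0, 0, 0⟩, ⟨0, 0, 2, 0, 0, 0, 0, 0⟩, ⟨1, 0, 1, -2, -1, 0, 1, 0⟩⟩,
  ⟨⟨2, 0, 0, 0, 0, 0, 0, 0⟩, ⟨0, 0, 2, 0, 0, 0, 0, 0⟩, ⟨1, 0, 1, 0, 1, 0, -1, 2⟩⟩,
  ⟨⟨2, 0, 0, 0, 0, 0, 0, 0⟩, ⟨0, 1, 0, -1, 0, -1, 0, -1⟩, ⟨-1, 1, -1, 1, -1, 1, -1, 1⟩⟩,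
  ⟨⟨2, 0, 0, 0, 0, 0, 0, 0⟩, ⟨0, 1, 0, -1, 0, -1, 0, -1⟩, ⟨1, -1, 1, -1, 1, -1, 1, -1⟩⟩,
  ⟨⟨2, 0, 0, 0, 0, 0, 0, 0⟩, ⟨0, 1, 0, -1, 0, 1, 0, 1⟩, ⟨-1, 1, 1, -1, -1, 1, 1, -1⟩⟩,
  ⟨⟨2, 0, 0, 0, 0, 0, 0, 0⟩, ⟨0, 1, 0, -1, 0, 1, 0, 1⟩, ⟨1, -1, -1, 1, 1, -1, -1, 1⟩⟩,
  ⟨⟨2, 0, 0, 0, 0, 0, 0, 0⟩, ⟨0, 1, 0, 1, 0, -1, 0, 1⟩, ⟨-1, 1, 1, -1, 1, -1, -1, 1⟩⟩,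
  ⟨⟨2, 0, 0, 0, 0, 0, 0, 0⟩, ⟨0, 1, 0, 1, 0, -1, 0, 1⟩, ⟨1, -1, -1, 1, -1, 1, 1, -1⟩⟩,
  ⟨⟨2, 0, 0, 0, 0, 0, 0, 0⟩, ⟨0, 1, 0, 1, 0, 1, 0, -1⟩, ⟨-1, 1, -1, 1, 1, -1, 1, -1⟩⟩,
  ⟨⟨2, 0, 0, 0, 0, 0, 0, 0⟩, ⟨0, 1, 0, 1, 0, 1, 0, -1⟩, ⟨1, -1, 1, -1, -1, 1, -1, 1⟩⟩,
  ⟨⟨2, 0, 0, 0, 0, 0, 0, 0⟩, ⟨1, -2, -1, 0, -1, 0, -1, 0⟩, ⟨-2, 0, 0, 0, 0, 0, 0, 0⟩⟩,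
  ⟨⟨2, 0, 0, 0, 0, 0, 0, 0⟩, ⟨1, -2, -1, 0, -1, 0, -1, 0⟩, ⟨2, 0, 0, 0, 0, 0, 0, 0⟩⟩,
  ⟨⟨2, 0, 0, 0, 0, 0, 0, 0⟩, ⟨1, -2, -1, 0, 1, 0, 1, 0⟩, ⟨0, 0, -2, 0, 0, 0, 0, 0⟩⟩,
  ⟨⟨2, 0, 0, 0, 0, 0, 0, 0⟩, ⟨1, -2, -1, 0, 1, 0, 1, 0⟩, ⟨0, 0, 2, 0, 0, 0, 0, 0⟩⟩,
  ⟨⟨2, 0, 0, 0, 0, 0, 0, 0⟩, ⟨1, -2, 1, 0, -1, 0, 1, 0⟩, ⟨0, 0, 0, 0, -2, 0, 0, 0⟩⟩,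
  ⟨⟨2, 0, 0, 0, 0, 0, 0, 0⟩, ⟨1, -2, 1, 0, -1, 0, 1, 0⟩, ⟨0, 0, 0, 0, 2, 0, 0, 0⟩⟩,
  ⟨⟨2, 0, 0, 0, 0, 0, 0, 0⟩, ⟨1, -2, 1, 0, 1, 0, -1, 0⟩, ⟨0, 0, 0, 0, 0, 0, -2, 0⟩⟩,
  ⟨⟨2, 0, 0, 0, 0, 0, 0, 0⟩, ⟨1, -2, 1, 0, 1, 0, -1, 0⟩, ⟨0, 0, 0, 0, 0, 0, 2, 0⟩⟩,
  ⟨⟨2, 0, 0, 0, 0, 0, 0, 0⟩, ⟨1, -1, -1, 1, -1, 1, 1, -1⟩, ⟨0, -1, 0, -1, 0, 1, 0, -1⟩⟩,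
  ⟨⟨2, 0, 0, 0, 0, 0, 0, 0⟩, ⟨1, -1, -1, 1, -1, 1, 1, -1⟩, ⟨0, 1, 0, 1, 0, -1, 0, 1⟩⟩,
  ⟨⟨2, 0, 0, 0, 0, 0, 0, 0⟩, ⟨1, -1, -1, 1, 1, -1, -1, 1⟩, ⟨0, -1, 0, 1, 0, -1, 0, -1⟩⟩,
  ⟨⟨2, 0, 0, 0, 0, 0, 0, 0⟩, ⟨1, -1, -1, 1, 1, -1, -1, 1⟩, ⟨0, 1, 0, -1, 0, 1, 0, 1⟩⟩,
  ⟨⟨2, 0, 0, 0, 0, 0, 0, 0⟩, ⟨1, -1, 1, -1, -1, 1, -1, 1⟩, ⟨0, -1, 0, -1, 0, -1, 0, 1⟩⟩,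
  ⟨⟨2, 0, 0, 0, 0, 0, 0, 0⟩, ⟨1, -1, 1, -1, -1, 1, -1, 1⟩, ⟨0, 1, 0, 1, 0, 1, 0, -1⟩⟩,
  ⟨⟨2, 0, 0, 0, 0, 0, 0, 0⟩, ⟨1, -1, 1, -1, 1, -1, 1, -1⟩, ⟨0, -1, 0, 1, 0, 1, 0, 1⟩⟩,
  ⟨⟨2, 0, 0, 0, 0, 0, 0, 0⟩, ⟨1, -1, 1, -1, 1, -1, 1, -1⟩, ⟨0, 1, 0, -1, 0, -1, 0, -1⟩⟩,
  ⟨⟨2, 0, 0, 0, 0, 0, 0, 0⟩, ⟨1, 0, -1, 0, -1, 0, -1, 2⟩, ⟨0, 0, 0, 0, -2, 0, 0, 0⟩⟩,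
  ⟨⟨2, 0, 0, 0, 0, 0, 0, 0⟩, ⟨1, 0, -1, 0, -1, 0, -1, 2⟩, ⟨0, 0, 0, 0, 2, 0, 0, 0⟩⟩,
  ⟨⟨2, 0, 0, 0, 0, 0, 0, 0⟩, ⟨1, 0, -1, 0, -1, 2, -1, 0⟩, ⟨0, 0, -2, 0, 0, 0, 0, 0⟩⟩,
  ⟨⟨2, 0, 0, 0, 0, 0, 0, 0⟩, ⟨1, 0, -1, 0, -1, 2, -1, 0⟩, ⟨0, 0, 2, 0, 0, 0, 0, 0⟩⟩,
  ⟨⟨2, 0, 0, 0, 0, 0, 0, 0⟩, ⟨1, 0, -1, 0, 1, -2, 1, 0⟩, ⟨-2, 0, 0, 0, 0, 0, 0, 0⟩⟩,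
  ⟨⟨2, 0, 0, 0, 0, 0, 0, 0⟩, ⟨1, 0, -1, 0, 1, -2, 1, 0⟩, ⟨2, 0, 0, 0, 0, 0, 0, 0⟩⟩,
  ⟨⟨2, 0, 0, 0, 0, 0, 0, 0⟩, ⟨1, 0, -1, 0, 1, 0, 1, -2⟩, ⟨0, 0, 0, 0, 0, 0, -2, 0⟩⟩,
  ⟨⟨2, 0, 0, 0, 0, 0, 0, 0⟩, ⟨1, 0, -1, 0, 1, 0, 1, -2⟩, ⟨0, 0, 0, 0, 0, 0, 2, 0⟩⟩,
  ⟨⟨2, 0, 0, 0, 0, 0, 0, 0⟩, ⟨1, 0, -1, 2, -1, 0, -1, 0⟩, ⟨0, 0, 0, 0, 0, 0, -2, 0⟩⟩,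
  ⟨⟨2, 0, 0, 0, 0, 0, 0, 0⟩, ⟨1, 0, -1, 2, -1, 0, -1, 0⟩, ⟨0, 0, 0, 0, 0, 0, 2, 0⟩⟩,
  ⟨⟨2, 0, 0, 0, 0, 0, 0, 0⟩, ⟨1, 0, -1, 2, 1, 0, 1, 0⟩, ⟨0, 0, 0, 0, -2, 0, 0, 0⟩⟩,
  ⟨⟨2, 0, 0, 0, 0, 0, 0, 0⟩, ⟨1, 0, -1, 2, 1, 0, 1, 0⟩, ⟨0, 0, 0, 0, 2, 0, 0, 0⟩⟩,
  ⟨⟨2, 0, 0, 0, 0, 0, 0, 0⟩, ⟨1, 0, 1, -2, -1, 0, 1, 0⟩, ⟨0, 0, -2, 0, 0, 0, 0, 0⟩⟩,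
  ⟨⟨2, 0, 0, 0, 0, 0, 0, 0⟩, ⟨1, 0, 1, -2, -1, 0, 1, 0⟩, ⟨0, 0, 2, 0, 0, 0, 0, 0⟩⟩,
  ⟨⟨2, 0, 0, 0, 0, 0, 0, 0⟩, ⟨1, 0, 1, -2, 1, 0, -1, 0⟩, ⟨-2, 0, 0, 0, 0, 0, 0, 0⟩⟩,
  ⟨⟨2, 0, 0, 0, 0, 0, 0, 0⟩, ⟨1, 0, 1, -2, 1, 0, -1, 0⟩, ⟨2, 0, 0, 0, 0, 0, 0, 0⟩⟩,
  ⟨⟨2, 0, 0, 0, 0, 0, 0, 0⟩, ⟨1, 0, 1, 0, -1, 0, 1, -2⟩, ⟨-2, 0, 0, 0, 0, 0, 0, 0⟩⟩,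
  ⟨⟨2, 0, 0, 0, 0, 0, 0, 0⟩, ⟨1, 0, 1, 0, -1, 0, 1, -2⟩, ⟨2, 0, 0, 0, 0, 0, 0, 0⟩⟩,
  ⟨⟨2, 0, 0, 0, 0, 0, 0, 0⟩, ⟨1, 0, 1, 0, -1, 2, 1, 0⟩, ⟨0, 0, 0, 0, 0, 0, -2, 0⟩⟩,
  ⟨⟨2, 0, 0, 0, 0, 0, 0, 0⟩, ⟨1, 0, 1, 0, -1, 2, 1, 0⟩, ⟨0, 0, 0, 0, 0, 0, 2, 0⟩⟩,
  ⟨⟨2, 0, 0, 0, 0, 0, 0, 0⟩, ⟨1, 0, 1, 0, 1, -2, -1, 0⟩, ⟨0, 0, 0, 0, -2, 0, 0, 0⟩⟩,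
  ⟨⟨2, 0, 0, 0, 0, 0, 0, 0⟩, ⟨1, 0, 1, 0, 1, -2, -1, 0⟩, ⟨0, 0, 0, 0, 2, 0, 0, 0⟩⟩,
  ⟨⟨2, 0, 0, 0, 0, 0, 0, 0⟩, ⟨1, 0, 1, 0, 1, 0, -1, 2⟩, ⟨0, 0, -2, 0, 0, 0, 0, 0⟩⟩,
  ⟨⟨2, 0, 0, 0, 0, 0, 0, 0⟩, ⟨1, 0, 1, 0, 1, 0, -1, 2⟩, ⟨0, 0, 2, 0, 0, 0, 0, 0⟩⟩,
  ⟨⟨2, 0, 0, 0, 0, 0, 0, 0⟩, ⟨2, 0, 0, 0, 0, 0, 0, 0⟩, ⟨-1, 0, -1, 0, 1, 0, -1, 2⟩⟩,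
  ⟨⟨2, 0, 0, 0, 0, 0, 0, 0⟩, ⟨2, 0, 0, 0, 0, 0, 0, 0⟩, ⟨-1, 0, -1, 2, -1, 0, 1, 0⟩⟩,
  ⟨⟨2, 0, 0, 0, 0, 0, 0, 0⟩, ⟨2, 0, 0, 0, 0, 0, 0, 0⟩, ⟨-1, 0, 1, 0, -1, 2, -1, 0⟩⟩,
  ⟨⟨2, 0, 0, 0, 0, 0, 0, 0⟩, ⟨2, 0, 0, 0, 0, 0, 0, 0⟩, ⟨-1, 2, 1, 0, 1, 0, 1, 0⟩⟩,
  ⟨⟨2, 0, 0, 0, 0, 0, 0, 0⟩, ⟨2, 0, 0, 0, 0, 0, 0, 0⟩, ⟨1, -2, -1, 0, -1, 0, -1, 0⟩⟩,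
  ⟨⟨2, 0, 0, 0, 0, 0, 0, 0⟩, ⟨2, 0, 0, 0, 0, 0, 0, 0⟩, ⟨1, 0, -1, 0, 1, -2, 1, 0⟩⟩,
  ⟨⟨2, 0, 0, 0, 0, 0, 0, 0⟩, ⟨2, 0, 0, 0, 0, 0, 0, 0⟩, ⟨1, 0, 1, -2, 1, 0, -1, 0⟩⟩,
  ⟨⟨2, 0, 0, 0, 0, 0, 0, 0⟩, ⟨2, 0, 0, 0, 0, 0, 0, 0⟩, ⟨1, 0, 1, 0, -1, 0, 1, -2⟩⟩,
  ⟨⟨4, 0, 0, 0, 0, 0, 0, 0⟩, ⟨0, 0, 0, 0, 0, 0, 0, 0⟩, ⟨0, 0, 0, 0, 0, 0, 0, 0⟩⟩]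

end Cfsg.Agent.Helper29.J2
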