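import Mathlib
import Cfsg.Agent.Lib.Helper29.J2Data

/-!
# Boolean tests on integers that evaluate quickly
-/

set_option autoImplicit false

namespace Cfsg.Agent.Helper29.J2

/-- evaluate a natural number before passing it on -/
def forceNat {α : Type} (x : ℕ) (k : ℕ → α) : α := Nat.rec (k 0) (fun y _ => k (Nat.succ y)) x

theorem forceNat_eq {α : Type} (x : ℕ) (k : ℕ → α) : forceNat x k = k x := by
  cases x <;> rfl

/-- evaluate an integer before passing it on -/
def forceInt {α : Type} (z : ℤ) (k : ℤ → α) : α :=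
  match z with
  | Int.ofNat n => forceNat n fun m => k (Int.ofNat m)
  | Int.negSucc n => forceNat n fun m => k (Int.negSucc m)

theorem forceInt_eq {α : Type} (z : ℤ) (k : ℤ → α) : forceInt z k = k z := by
  cases z <;> simp [forceInt, forceNat_eq]

/-- equality of integers -/
def ieq (a b : ℤ) : Bool :=
  match a, b with
  | Int.ofNat m, Int.ofNat n => Nat.beq m n
  | Int.negSucc m, Int.negSucc n => Nat.beq m n
  | _, _ => false

theorem ieq_iff (a b : ℤ) : ieq a b = true ↔ a = b := by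
  cases a <;> cases b <;> simp [ieq]

/-- order of integers -/
def ile (a b : ℤ) : Bool :=
  match a, b with
  | Int.ofNat m, Int.ofNat n => Nat.ble m n
  | Int.ofNat _, Int.negSucc _ => false
  | Int.negSucc _, Int.ofNat _ => true
  | Int.negSucc m, Int.negSucc n => Nat.ble n m

theorem ile_iff (a b : ℤ) : ile a b = true ↔ a ≤ b := by
  cases a <;> cases b <;> simp [ile] <;> omega

/-- evenness of integers -/
def iev (a : ℤ) : Bool :=
  match a with
  | Int.ofNat m => Nat.beq (m % 2) 0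
  | Int.negSucc m => Nat.beq (m % 2) 1

theorem iev_iff (a : ℤ) : iev a = true ↔ a % 2 = 0 := by
  cases a <;> simp [iev] <;> omega

/-- evaluate the coordinates before passing the vector on -/
def Ic.force {α : Type} (c : Ic) (k : Ic → α) : α :=
  forceInt c.c0 fun x0 => forceInt c.c1 fun x1 => forceInt c.c2 fun x2 => forceInt c.c3 fun x3 =>
  forceInt c.c4 fun x4 => forceInt c.c5 fun x5 => forceInt c.c6 fun x6 => forceInt c.c7 fun x7 =>
    k ⟨x0, x1, x2, x3, x4, x5, x6, x7⟩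

theorem Ic.force_eq {α : Type} (c : Ic) (k : Ic → α) : c.force k = k c := by
  simp [Ic.force, forceInt_eq]

/-- equality of integer vectors -/
def Ic.beq (a b : Ic) : Bool :=
  ieq a.c0 b.c0 && ieq a.c1 b.c1 && ieq a.c2 b.c2 && ieq a.c3 b.c3 && ieq a.c4 b.c4 &&
    ieq a.c5 b.c5 && ieq a.c6 b.c6 && ieq a.c7 b.c7

theorem Ic.beq_iff (a b : Ic) : Ic.beq a b = true ↔ a = b := by
  unfold Ic.beq
  simp only [Bool.and_eq_true, ieq_iff]
  constructor
  · rintro ⟨⟨⟨⟨⟨⟨⟨h0, h1⟩, h2⟩, h3⟩, h4⟩, h5⟩, h6⟩, h7⟩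
    exact Ic.ext' h0 h1 h2 h3 h4 h5 h6 h7
  · rintro rfl
    simp

/-- membership in a list of integer vectors -/
def Ic.elem (c : Ic) (L : List Ic) : Bool := L.any (Ic.beq c)

theorem Ic.elem_iff (c : Ic) (L : List Ic) : Ic.elem c L = true ↔ c ∈ L := by
  unfold Ic.elem
  rw [List.any_eq_true]
  constructor
  · rintro ⟨x, hx, h⟩
    rw [Ic.beq_iff] at h
    rw [h]; exact hx
  · intro h
    exact ⟨c, h, (Ic.beq_iff c c).2 rfl⟩

/-- the parity conditions, as a Boolean -/
def Ic.isIcoB (c : Ic) : Bool :=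
  iev (c.c4 - (c.c1 + c.c2 + c.c3)) && iev (c.c5 - (c.c0 + c.c1 + c.c2)) &&
    iev (c.c6 - (c.c0 + c.c1 + c.c3)) && iev (c.c7 - (c.c0 + c.c2 + c.c3))

theorem Ic.isIcoB_iff (c : Ic) : c.isIcoB = true ↔ c.IsIco := by
  unfold Ic.isIcoB Ic.IsIco
  simp only [Bool.and_eq_true, iev_iff, and_assoc]

/-- membership in `2I`, as a Boolean -/
def Ic.in2IB (c : Ic) : Bool :=
  iev c.c0 && iev c.c1 && iev c.c2 && iev c.c3 && iev c.c4 && iev c.c5 && iev c.c6 && iev c.c7 &&
    Ic.isIcoB (Ic.half c)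

theorem Ic.in2IB_iff (c : Ic) : c.in2IB = true ↔ c.In2I := by
  unfold Ic.in2IB Ic.In2I
  simp only [Bool.and_eq_true, iev_iff, Ic.isIcoB_iff, and_assoc]

/-- membership in `I h`, as a Boolean, the product being evaluated once -/
def Ic.inIhB (c : Ic) : Bool := Ic.force (Ic.mul c HB) Ic.in2IB

theorem Ic.inIhB_iff (c : Ic) : c.inIhB = true ↔ c.InIh := by
  unfold Ic.inIhB Ic.InIh
  rw [Ic.force_eq, Ic.in2IB_iff]

/-- membership in `I h̄`, as a Boolean -/
def Ic.inIhbB (c : Ic) : Bool := Ic.force (Ic.mul c H) Ic.in2IB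

theorem Ic.inIhbB_iff (c : Ic) : c.inIhbB = true ↔ c.InIhb := by
  unfold Ic.inIhbB Ic.InIhb
  rw [Ic.force_eq, Ic.in2IB_iff]

end Cfsg.Agent.Helper29.J2
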