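import Mathlib
import Cfsg.Agent.Lib.Helper29.J2Prim

/-!
# Membership in the two ideals through parities
-/

set_option autoImplicit false

namespace Cfsg.Agent.Helper29.J2

/-- the coordinates with respect to the basis -/
def Ic.uncomb (c : Ic) : Ic :=
  ⟨c.c0, c.c1, c.c2, c.c3, (c.c4 - (c.c1 + c.c2 + c.c3)) / 2, (c.c5 - (c.c0 + c.c1 + c.c2)) / 2,
    (c.c6 - (c.c0 + c.c1 + c.c3)) / 2, (c.c7 - (c.c0 + c.c2 + c.c3)) / 2⟩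

theorem Ic.comb_uncomb {c : Ic} (h : c.IsIco) : Ic.comb c.uncomb = c := by
  obtain ⟨h4, h5, h6, h7⟩ := h
  ext <;> simp [Ic.comb, Ic.uncomb] <;> omega

theorem Ic.in2I_comb (m : Ic) : (Ic.comb m).In2I ↔
    (m.c0 % 2 = 0 ∧ m.c1 % 2 = 0 ∧ m.c2 % 2 = 0 ∧ m.c3 % 2 = 0 ∧ m.c4 % 2 = 0 ∧ m.c5 % 2 = 0 ∧
      m.c6 % 2 = 0 ∧ m.c7 % 2 = 0) := by
  unfold Ic.In2I Ic.IsIco Ic.half Ic.comb
  simp only
  constructor
  · rintro ⟨⟨h0, h1, h2, h3, h4, h5, h6, h7⟩, g4, g5, g6, g7⟩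
    refine ⟨h0, h1, h2, h3, ?_, ?_, ?_, ?_⟩ <;> omega
  · rintro ⟨h0, h1, h2, h3, h4, h5, h6, h7⟩
    refine ⟨⟨h0, h1, h2, h3, ?_, ?_, ?_, ?_⟩, ?_, ?_, ?_, ?_⟩ <;> omega

def nHB : Ic := ⟨1, -2, -1, 0, 1, 1, 0, 0⟩
def nH : Ic := ⟨1, -2, 1, 0, 1, 0, 1, -1⟩

theorem comb_nHB : Ic.comb nHB = HB := by decide
theorem comb_nH : Ic.comb nH = H := by decide

theorem Ic.mul_comb (n m : Ic) : Ic.mul (Ic.comb n) (Ic.comb m) = Ic.comb (Ic.bil n m) := by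
  unfold Ic.mul
  rw [Ic.prod2_comb, Ic.half_dbl]

theorem Ic.inIh_comb (n : Ic) : (Ic.comb n).InIh ↔
    ((n.c0 + n.c4 + n.c5 + n.c6 + n.c7) % 2 = 0 ∧ (n.c1 + n.c4 + n.c6) % 2 = 0 ∧
      (n.c2 + n.c4 + n.c5 + n.c6 + n.c7) % 2 = 0 ∧ (n.c3 + n.c4 + n.c6) % 2 = 0) := by
  unfold Ic.InIh
  have hm := Ic.mul_comb n nHB
  rw [comb_nHB] at hm
  rw [hm, Ic.in2I_comb]
  simp only [Ic.bil, nHB]
  ring_nf
  constructor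
  · rintro ⟨h0, h1, h2, h3, h4, h5, h6, h7⟩
    refine ⟨?_, ?_, ?_, ?_⟩ <;> omega
  · rintro ⟨h0, h1, h2, h3⟩
    refine ⟨?_, ?_, ?_, ?_, ?_, ?_, ?_, ?_⟩ <;> omega

theorem Ic.inIhb_comb (n : Ic) : (Ic.comb n).InIhb ↔
    ((n.c0 + n.c5 + n.c6 + n.c7) % 2 = 0 ∧ (n.c1 + n.c4 + n.c5 + n.c6 + n.c7) % 2 = 0 ∧
      (n.c2 + n.c4 + n.c7) % 2 = 0 ∧ (n.c3 + n.c6 + n.c7) % 2 = 0) := by
  unfold Ic.InIhb
  have hm := Ic.mul_comb n nH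
  rw [comb_nH] at hm
  rw [hm, Ic.in2I_comb]
  simp only [Ic.bil, nH]
  ring_nf
  constructor
  · rintro ⟨h0, h1, h2, h3, h4, h5, h6, h7⟩
    refine ⟨?_, ?_, ?_, ?_⟩ <;> omega
  · rintro ⟨h0, h1, h2, h3⟩
    refine ⟨?_, ?_, ?_, ?_, ?_, ?_, ?_, ?_⟩ <;> omega

/-- membership in `I h` of an icosian, by parities -/
def Ic.inIhL (c : Ic) : Bool :=
  Ic.force c.uncomb fun n =>
    iev (n.c0 + n.c4 + n.c5 + n.c6 + n.c7) && iev (n.c1 + n.c4 + n.c6) &&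
      iev (n.c2 + n.c4 + n.c5 + n.c6 + n.c7) && iev (n.c3 + n.c4 + n.c6)

theorem Ic.inIhL_iff {c : Ic} (h : c.IsIco) : c.inIhL = true ↔ c.InIh := by
  unfold Ic.inIhL
  rw [Ic.force_eq]
  conv_rhs => rw [← Ic.comb_uncomb h, Ic.inIh_comb]
  simp only [Bool.and_eq_true, iev_iff, and_assoc]

/-- membership in `I h̄` of an icosian, by parities -/
def Ic.inIhbL (c : Ic) : Bool :=
  Ic.force c.uncomb fun n =>
    iev (n.c0 + n.c5 + n.c6 + n.c7) && iev (n.c1 + n.c4 + n.c5 + n.c6 + n.c7) &&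
      iev (n.c2 + n.c4 + n.c7) && iev (n.c3 + n.c6 + n.c7)

theorem Ic.inIhbL_iff {c : Ic} (h : c.IsIco) : c.inIhbL = true ↔ c.InIhb := by
  unfold Ic.inIhbL
  rw [Ic.force_eq]
  conv_rhs => rw [← Ic.comb_uncomb h, Ic.inIhb_comb]
  simp only [Bool.and_eq_true, iev_iff, and_assoc]

end Cfsg.Agent.Helper29.J2
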