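import Mathlib
import Cfsg.Agent.Lib.Helper29.J2Prim

/-!
# The enumeration of the short icosians
-/

set_option autoImplicit false

namespace Cfsg.Agent.Helper29.J2

/-- the trace form on one coordinate -/
def ff (p q : ℤ) : ℤ := 2 * p * p + 2 * p * q + 3 * q * q

theorem ff_nonneg (p q : ℤ) : 0 ≤ ff p q := by
  unfold ff
  nlinarith [sq_nonneg (p + q), sq_nonneg p, sq_nonneg q]

theorem pairsF_box : ∀ p ∈ Finset.Icc (-5 : ℤ) 5, ∀ q ∈ Finset.Icc (-4 : ℤ) 4, ff p q ≤ 32 →
    (p, q, (ff p q).toNat, (p % 2).toNat, (q % 2).toNat) ∈ pairsF := by decide +kernel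

theorem mem_pairsF (p q : ℤ) (h : ff p q ≤ 32) :
    (p, q, (ff p q).toNat, (p % 2).toNat, (q % 2).toNat) ∈ pairsF := by
  have h1 : p * p ≤ 32 := by unfold ff at h; nlinarith [sq_nonneg (p + q), sq_nonneg q]
  have h2 : q * q ≤ 16 := by unfold ff at h; nlinarith [sq_nonneg (p + q), sq_nonneg p]
  have hp : -5 ≤ p ∧ p ≤ 5 := by constructor <;> nlinarith
  have hq : -4 ≤ q ∧ q ≤ 4 := by constructor <;> nlinarith
  exact pairsF_box p (Finset.mem_Icc.2 hp) q (Finset.mem_Icc.2 hq) h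

/-- the trace form of the norm -/
def Ic.E8 (c : Ic) : ℤ := ff c.c0 c.c1 + ff c.c2 c.c3 + ff c.c4 c.c5 + ff c.c6 c.c7

/-- the search over all integer vectors of bounded trace form with the parity conditions -/
def srch (P : Ic → Bool) : Bool :=
  pairsF.all fun a => pairsF.all fun b =>
    !Nat.ble (a.2.2.1 + b.2.2.1) 32 ||
    pairsF.all fun c =>
      !(Nat.ble (a.2.2.1 + b.2.2.1 + c.2.2.1) 32 &&
        Nat.beq ((c.2.2.2.1 + a.2.2.2.2 + b.2.2.2.1 + b.2.2.2.2) % 2) 0 &&
        Nat.beq ((c.2.2.2.2 + a.2.2.2.1 + a.2.2.2.2 + b.2.2.2.1) % 2) 0) ||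
      pairsF.all fun d =>
        !(Nat.ble (a.2.2.1 + b.2.2.1 + c.2.2.1 + d.2.2.1) 32 &&
          Nat.beq ((d.2.2.2.1 + a.2.2.2.1 + a.2.2.2.2 + b.2.2.2.2) % 2) 0 &&
          Nat.beq ((d.2.2.2.2 + a.2.2.2.1 + b.2.2.2.1 + b.2.2.2.2) % 2) 0) ||
        P ⟨a.1, a.2.1, b.1, b.2.1, c.1, c.2.1, d.1, d.2.1⟩

theorem lt_of_ble_false {a b : ℕ} (h : Nat.ble a b = false) : b < a := by
  by_contra hn
  have : Nat.ble a b = true := Nat.ble_eq_true_of_le (Nat.le_of_not_lt hn)
  rw [h] at this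
  cases this

theorem ne_of_beq_false {a b : ℕ} (h : Nat.beq a b = false) : a ≠ b := by
  intro e
  rw [e, Nat.beq_refl] at h
  cases h

theorem srch_sound (P : Ic → Bool) (h : srch P = true) (c : Ic) (hb : c.E8 ≤ 32)
    (hi : Ic.IsIco c) : P c = true := by
  unfold srch at h
  rw [List.all_eq_true] at h
  obtain ⟨i4, i5, i6, i7⟩ := hi
  have n0 := ff_nonneg c.c0 c.c1
  have n1 := ff_nonneg c.c2 c.c3
  have n2 := ff_nonneg c.c4 c.c5
  have n3 := ff_nonneg c.c6 c.c7
  unfold Ic.E8 at hb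
  have h0 := h _ (mem_pairsF c.c0 c.c1 (by omega))
  rw [List.all_eq_true] at h0
  have h1 := h0 _ (mem_pairsF c.c2 c.c3 (by omega))
  simp only [Bool.or_eq_true, Bool.not_eq_true', List.all_eq_true, Bool.and_eq_false_iff] at h1
  rcases h1 with h1 | h1
  · have := lt_of_ble_false h1
    omega
  have h2 := h1 _ (mem_pairsF c.c4 c.c5 (by omega))
  rcases h2 with (h2 | h2) | h2
  · rcases h2 with h2 | h2
    · have := lt_of_ble_false h2
      dsimp only at this
      omega
    · have := ne_of_beq_false h2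
      dsimp only at this
      omega
  · have := ne_of_beq_false h2
    dsimp only at this
    omega
  have h3 := h2 _ (mem_pairsF c.c6 c.c7 (by omega))
  rcases h3 with (h3 | h3) | h3
  · rcases h3 with h3 | h3
    · have := lt_of_ble_false h3
      dsimp only at this
      omega
    · have := ne_of_beq_false h3
      dsimp only at this
      omega
  · have := ne_of_beq_false h3
    dsimp only at this
    omega
  exact h3


end Cfsg.Agent.Helper29.J2
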