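import Mathlib
import Cfsg.Agent.Lib.Helper29.J2Search
import Cfsg.Agent.Lib.Helper29.J2Par

/-!
# The short icosians
-/

set_option autoImplicit false

namespace Cfsg.Agent.Helper29.J2

/-- the integer form of: `a + bτ` and `16 - (a + bτ)` are totally non-negative -/
def TP (a b : ℤ) : Prop :=
  0 ≤ 2 * a + b ∧ 0 ≤ a * a + a * b - b * b ∧ 0 ≤ 2 * (16 - a) - b ∧
    0 ≤ (16 - a) * (16 - a) - (16 - a) * b - b * b

def tpB (a b : ℤ) : Bool :=
  ile 0 (2 * a + b) && ile 0 (a * a + a * b - b * b) && ile 0 (2 * (16 - a) - b) &&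
    ile 0 ((16 - a) * (16 - a) - (16 - a) * b - b * b)

theorem tpB_iff (a b : ℤ) : tpB a b = true ↔ TP a b := by
  unfold tpB TP
  simp only [Bool.and_eq_true, ile_iff, and_assoc]

/-- the possible norms (times four) of the coordinates of a minimal vector -/
def normsL : List (ℤ × ℤ) :=
  [(0, 0), (4, 0), (8, 0), (12, 0), (16, 0), (4, 4), (8, 4), (8, -4), (12, -4)]

def normOKB (a b : ℤ) : Bool := normsL.any fun p => ieq a p.1 && ieq b p.2

theorem normOKB_iff (a b : ℤ) : normOKB a b = true ↔ (a, b) ∈ normsL := by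
  unfold normOKB
  rw [List.any_eq_true]
  constructor
  · rintro ⟨⟨p, q⟩, hp, h⟩
    rw [Bool.and_eq_true, ieq_iff, ieq_iff] at h
    rw [h.1, h.2]; exact hp
  · intro h
    exact ⟨(a, b), h, by simp [ieq_iff]⟩

/-- what is checked for every short icosian -/
def ShortP (c : Ic) : Prop :=
  TP c.A4 c.B4 → ((c.A4, c.B4) ∈ normsL ∧ (c.A4 = 4 ∧ c.B4 = 0 → c ∈ unitsL) ∧
    (Ic.InIh (Ic.sub ONE c) → c ∈ YL) ∧ (Ic.InIh c → c ∈ ZL) ∧ (c.A4 = 0 → c = Ic.zero))

/-- the same check, with the intermediate results evaluated once -/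
def shortB (c : Ic) : Bool :=
  forceInt c.A4 fun a => forceInt c.B4 fun b =>
    !tpB a b ||
      (normOKB a b && (!(ieq a 4 && ieq b 0) || Ic.elem c unitsL) &&
        (!Ic.inIhL (Ic.sub ONE c) || Ic.elem c YL) &&
        (!Ic.inIhL c || Ic.elem c ZL) &&
        (!ieq a 0 || Ic.beq c Ic.zero))

theorem or_not_elim {p q : Bool} (h : (!p || q) = true) (hp : p = true) : q = true := by
  cases p <;> simp_all

theorem shortB_spec (c : Ic) (hc : c.IsIco) (h : shortB c = true) : ShortP c := by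
  unfold shortB at h
  simp only [forceInt_eq] at h
  intro ht
  have h' := or_not_elim h ((tpB_iff _ _).2 ht)
  simp only [Bool.and_eq_true] at h'
  obtain ⟨⟨⟨⟨h1, h2⟩, h3⟩, h4⟩, h5⟩ := h'
  refine ⟨(normOKB_iff _ _).1 h1, ?_, ?_, ?_, ?_⟩
  · intro hu
    have := or_not_elim h2 (by rw [Bool.and_eq_true, ieq_iff, ieq_iff]; exact hu)
    exact (Ic.elem_iff _ _).1 this
  · intro hu
    have := or_not_elim h3 ((Ic.inIhL_iff (Ic.isIco_sub (by decide) hc)).2 hu)
    exact (Ic.elem_iff _ _).1 this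
  · intro hu
    have := or_not_elim h4 ((Ic.inIhL_iff hc).2 hu)
    exact (Ic.elem_iff _ _).1 this
  · intro hu
    have := or_not_elim h5 ((ieq_iff _ _).2 hu)
    exact (Ic.beq_iff _ _).1 this

theorem srch_shortB : srch (fun c => Ic.force c shortB) = true := by decide +kernel

theorem shortP_of_bound (c : Ic) (hb : c.E8 ≤ 32) (hi : Ic.IsIco c) : ShortP c := by
  have h := srch_sound _ srch_shortB c hb hi
  rw [Ic.force_eq] at h
  exact shortB_spec c hi h

end Cfsg.Agent.Helper29.J2
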