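import Mathlib
import Cfsg.Agent.Lib.Helper29.J2Short

/-!
# More data for the enumeration of the minimal vectors
-/

set_option autoImplicit false

namespace Cfsg.Agent.Helper29.J2

/-- the short icosians congruent to `1` of norm `1`, `2`, `1 + τ` or `2 - τ`, with their norms -/
def YSn : List (Ic × ℤ × ℤ) := [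
  (⟨-2, 0, 0, 0, 0, 0, 0, 0⟩, 4, 0), (⟨-1, 0, -1, 0, -1, 0, 1, -2⟩, 8, 0),
  (⟨-1, 0, -1, 0, -1, 2, 1, 0⟩, 8, 0), (⟨-1, 0, -1, 0, 1, -2, -1, 0⟩, 8, 0),
  (⟨-1, 0, -1, 0, 1, 0, -1, 2⟩, 8, 0), (⟨-1, 0, -1, 2, -1, 0, 1, 0⟩, 8, 0),
  (⟨-1, 0, -1, 2, 1, 0, -1, 0⟩, 8, 0), (⟨-1, 0, 1, -2, -1, 0, -1, 0⟩, 8, 0),
  (⟨-1, 0, 1, -2, 1, 0, 1, 0⟩, 8, 0), (⟨-1, 0, 1, 0, -1, 0, -1, 2⟩, 8, 0),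
  (⟨-1, 0, 1, 0, -1, 2, -1, 0⟩, 8, 0), (⟨-1, 0, 1, 0, 1, -2, 1, 0⟩, 8, 0),
  (⟨-1, 0, 1, 0, 1, 0, 1, -2⟩, 8, 0), (⟨-1, 1, -1, 1, -1, 1, -1, 1⟩, 8, -4),
  (⟨-1, 1, -1, 1, 1, -1, 1, -1⟩, 8, -4), (⟨-1, 1, 1, -1, -1, 1, 1, -1⟩, 8, -4),
  (⟨-1, 1, 1, -1, 1, -1, -1, 1⟩, 8, -4), (⟨-1, 2, -1, 0, -1, 0, 1, 0⟩, 8, 0),
  (⟨-1, 2, -1, 0, 1, 0, -1, 0⟩, 8, 0), (⟨-1, 2, 1, 0, -1, 0, -1, 0⟩, 8, 0),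
  (⟨-1, 2, 1, 0, 1, 0, 1, 0⟩, 8, 0), (⟨0, -1, 0, -1, 0, -1, 0, 1⟩, 4, 4),
  (⟨0, -1, 0, -1, 0, 1, 0, -1⟩, 4, 4), (⟨0, -1, 0, 1, 0, -1, 0, -1⟩, 4, 4),
  (⟨0, -1, 0, 1, 0, 1, 0, 1⟩, 4, 4), (⟨0, 0, -2, 0, 0, 0, 0, 0⟩, 4, 0),
  (⟨0, 0, 0, 0, -2, 0, 0, 0⟩, 4, 0), (⟨0, 0, 0, 0, 0, 0, -2, 0⟩, 4, 0),
  (⟨0, 0, 0, 0, 0, 0, 2, 0⟩, 4, 0), (⟨0, 0, 0, 0, 2, 0, 0, 0⟩, 4, 0),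
  (⟨0, 0, 2, 0, 0, 0, 0, 0⟩, 4, 0), (⟨0, 1, 0, -1, 0, -1, 0, -1⟩, 4, 4),
  (⟨0, 1, 0, -1, 0, 1, 0, 1⟩, 4, 4), (⟨0, 1, 0, 1, 0, -1, 0, 1⟩, 4, 4),
  (⟨0, 1, 0, 1, 0, 1, 0, -1⟩, 4, 4), (⟨1, -2, -1, 0, -1, 0, -1, 0⟩, 8, 0),
  (⟨1, -2, -1, 0, 1, 0, 1, 0⟩, 8, 0), (⟨1, -2, 1, 0, -1, 0, 1, 0⟩, 8, 0),
  (⟨1, -2, 1, 0, 1, 0, -1, 0⟩, 8, 0), (⟨1, -1, -1, 1, -1, 1, 1, -1⟩, 8, -4),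
  (⟨1, -1, -1, 1, 1, -1, -1, 1⟩, 8, -4), (⟨1, -1, 1, -1, -1, 1, -1, 1⟩, 8, -4),
  (⟨1, -1, 1, -1, 1, -1, 1, -1⟩, 8, -4), (⟨1, 0, -1, 0, -1, 0, -1, 2⟩, 8, 0),
  (⟨1, 0, -1, 0, -1, 2, -1, 0⟩, 8, 0), (⟨1, 0, -1, 0, 1, -2, 1, 0⟩, 8, 0),
  (⟨1, 0, -1, 0, 1, 0, 1, -2⟩, 8, 0), (⟨1, 0, -1, 2, -1, 0, -1, 0⟩, 8, 0),
  (⟨1, 0, -1, 2, 1, 0, 1, 0⟩, 8, 0), (⟨1, 0, 1, -2, -1, 0, 1, 0⟩, 8, 0),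
  (⟨1, 0, 1, -2, 1, 0, -1, 0⟩, 8, 0), (⟨1, 0, 1, 0, -1, 0, 1, -2⟩, 8, 0),
  (⟨1, 0, 1, 0, -1, 2, 1, 0⟩, 8, 0), (⟨1, 0, 1, 0, 1, -2, -1, 0⟩, 8, 0),
  (⟨1, 0, 1, 0, 1, 0, -1, 2⟩, 8, 0), (⟨2, 0, 0, 0, 0, 0, 0, 0⟩, 4, 0)]

/-- the short icosians in `I h`, with their norms -/
def ZLn : List (Ic × ℤ × ℤ) := [
  (⟨-4, 0, 0, 0, 0, 0, 0, 0⟩, 16, 0), (⟨-3, 0, -1, 0, -1, 0, 1, -2⟩, 16, 0),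
  (⟨-3, 0, -1, 0, -1, 2, 1, 0⟩, 16, 0), (⟨-3, 0, -1, 0, 1, -2, -1, 0⟩, 16, 0),
  (⟨-3, 0, -1, 0, 1, 0, -1, 2⟩, 16, 0), (⟨-3, 0, -1, 2, -1, 0, 1, 0⟩, 16, 0),
  (⟨-3, 0, -1, 2, 1, 0, -1, 0⟩, 16, 0), (⟨-3, 0, 1, -2, -1, 0, -1, 0⟩, 16, 0),
  (⟨-3, 0, 1, -2, 1, 0, 1, 0⟩, 16, 0), (⟨-3, 0, 1, 0, -1, 0, -1, 2⟩, 16, 0),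
  (⟨-3, 0, 1, 0, -1, 2, -1, 0⟩, 16, 0), (⟨-3, 0, 1, 0, 1, -2, 1, 0⟩, 16, 0),
  (⟨-3, 0, 1, 0, 1, 0, 1, -2⟩, 16, 0), (⟨-3, 1, -1, -1, -1, -1, -1, 1⟩, 16, 0),
  (⟨-3, 1, -1, -1, -1, 1, -1, -1⟩, 16, 0), (⟨-3, 1, -1, -1, 1, -1, 1, 1⟩, 16, 0),
  (⟨-3, 1, -1, -1, 1, 1, 1, -1⟩, 16, 0), (⟨-3, 1, -1, 1, -1, -1, -1, -1⟩, 16, 0),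
  (⟨-3, 1, -1, 1, 1, 1, 1, 1⟩, 16, 0), (⟨-3, 1, 1, -1, -1, -1, 1, 1⟩, 16, 0),
  (⟨-3, 1, 1, -1, 1, 1, -1, -1⟩, 16, 0), (⟨-3, 1, 1, 1, -1, -1, 1, -1⟩, 16, 0),
  (⟨-3, 1, 1, 1, -1, 1, 1, 1⟩, 16, 0), (⟨-3, 1, 1, 1, 1, -1, -1, -1⟩, 16, 0),
  (⟨-3, 1, 1, 1, 1, 1, -1, 1⟩, 16, 0), (⟨-2, -1, -2, 1, -2, 1, 0, 1⟩, 16, 0),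
  (⟨-2, -1, -2, 1, 0, -1, 2, -1⟩, 16, 0), (⟨-2, -1, -2, 1, 0, 1, -2, 1⟩, 16, 0),
  (⟨-2, -1, -2, 1, 2, -1, 0, -1⟩, 16, 0), (⟨-2, -1, 0, -1, -2, 1, 2, -1⟩, 16, 0),
  (⟨-2, -1, 0, -1, 2, -1, -2, 1⟩, 16, 0), (⟨-2, -1, 0, 1, -2, 1, -2, 1⟩, 16, 0),
  (⟨-2, -1, 0, 1, 2, -1, 2, -1⟩, 16, 0), (⟨-2, -1, 2, -1, -2, 1, 0, -1⟩, 16, 0),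
  (⟨-2, -1, 2, -1, 0, -1, -2, 1⟩, 16, 0), (⟨-2, -1, 2, -1, 0, 1, 2, -1⟩, 16, 0),
  (⟨-2, -1, 2, -1, 2, -1, 0, 1⟩, 16, 0), (⟨-2, 0, -2, 0, -2, 0, -2, 0⟩, 16, 0),
  (⟨-2, 0, -2, 0, -2, 0, 2, 0⟩, 16, 0), (⟨-2, 0, -2, 0, 0, 0, 0, 0⟩, 8, 0),
  (⟨-2, 0, -2, 0, 2, 0, -2, 0⟩, 16, 0), (⟨-2, 0, -2, 0, 2, 0, 2, 0⟩, 16, 0),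
  (⟨-2, 0, -2, 2, 0, -2, 0, 0⟩, 16, 0), (⟨-2, 0, -2, 2, 0, 0, 0, -2⟩, 16, 0),
  (⟨-2, 0, -2, 2, 0, 0, 0, 2⟩, 16, 0), (⟨-2, 0, -2, 2, 0, 2, 0, 0⟩, 16, 0),
  (⟨-2, 0, 0, -2, -2, 2, 0, 0⟩, 16, 0), (⟨-2, 0, 0, -2, 0, 0, -2, 2⟩, 16, 0),
  (⟨-2, 0, 0, -2, 0, 0, 2, -2⟩, 16, 0), (⟨-2, 0, 0, -2, 2, -2, 0, 0⟩, 16, 0),
  (⟨-2, 0, 0, 0, -2, 0, 0, 0⟩, 8, 0), (⟨-2, 0, 0, 0, -2, 2, 0, -2⟩, 16, 0),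
  (⟨-2, 0, 0, 0, -2, 2, 0, 2⟩, 16, 0), (⟨-2, 0, 0, 0, 0, -2, -2, 2⟩, 16, 0),
  (⟨-2, 0, 0, 0, 0, -2, 2, -2⟩, 16, 0), (⟨-2, 0, 0, 0, 0, 0, -2, 0⟩, 8, 0),
  (⟨-2, 0, 0, 0, 0, 0, 2, 0⟩, 8, 0), (⟨-2, 0, 0, 0, 0, 2, -2, 2⟩, 16, 0),
  (⟨-2, 0, 0, 0, 0, 2, 2, -2⟩, 16, 0), (⟨-2, 0, 0, 0, 2, -2, 0, -2⟩, 16, 0),
  (⟨-2, 0, 0, 0, 2, -2, 0, 2⟩, 16, 0), (⟨-2, 0, 0, 0, 2, 0, 0, 0⟩, 8, 0),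
  (⟨-2, 0, 0, 2, -2, 2, 0, 0⟩, 16, 0), (⟨-2, 0, 0, 2, 0, 0, -2, 2⟩, 16, 0),
  (⟨-2, 0, 0, 2, 0, 0, 2, -2⟩, 16, 0), (⟨-2, 0, 0, 2, 2, -2, 0, 0⟩, 16, 0),
  (⟨-2, 0, 2, -2, 0, -2, 0, 0⟩, 16, 0), (⟨-2, 0, 2, -2, 0, 0, 0, -2⟩, 16, 0),
  (⟨-2, 0, 2, -2, 0, 0, 0, 2⟩, 16, 0), (⟨-2, 0, 2, -2, 0, 2, 0, 0⟩, 16, 0),
  (⟨-2, 0, 2, 0, -2, 0, -2, 0⟩, 16, 0), (⟨-2, 0, 2, 0, -2, 0, 2, 0⟩, 16, 0),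
  (⟨-2, 0, 2, 0, 0, 0, 0, 0⟩, 8, 0), (⟨-2, 0, 2, 0, 2, 0, -2, 0⟩, 16, 0),
  (⟨-2, 0, 2, 0, 2, 0, 2, 0⟩, 16, 0), (⟨-2, 1, -2, -1, -2, 1, 0, 1⟩, 16, 0),
  (⟨-2, 1, -2, -1, 0, -1, 2, -1⟩, 16, 0), (⟨-2, 1, -2, -1, 0, 1, -2, 1⟩, 16, 0),
  (⟨-2, 1, -2, -1, 2, -1, 0, -1⟩, 16, 0), (⟨-2, 1, -2, 1, -2, -1, 0, 1⟩, 16, 0),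
  (⟨-2, 1, -2, 1, 0, -1, 2, 1⟩, 16, 0), (⟨-2, 1, -2, 1, 0, 1, -2, -1⟩, 16, 0),
  (⟨-2, 1, -2, 1, 2, 1, 0, -1⟩, 16, 0), (⟨-2, 1, 0, -1, -2, -1, 2, -1⟩, 16, 0),
  (⟨-2, 1, 0, -1, -2, 1, 2, 1⟩, 16, 0), (⟨-2, 1, 0, -1, 0, -1, 0, -1⟩, 8, 0),
  (⟨-2, 1, 0, -1, 0, 1, 0, 1⟩, 8, 0), (⟨-2, 1, 0, -1, 2, -1, -2, -1⟩, 16, 0),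
  (⟨-2, 1, 0, -1, 2, 1, -2, 1⟩, 16, 0), (⟨-2, 1, 0, 1, -2, -1, -2, 1⟩, 16, 0),
  (⟨-2, 1, 0, 1, -2, 1, -2, -1⟩, 16, 0), (⟨-2, 1, 0, 1, 0, -1, 0, 1⟩, 8, 0),
  (⟨-2, 1, 0, 1, 0, 1, 0, -1⟩, 8, 0), (⟨-2, 1, 0, 1, 2, -1, 2, 1⟩, 16, 0),
  (⟨-2, 1, 0, 1, 2, 1, 2, -1⟩, 16, 0), (⟨-2, 1, 2, -1, -2, -1, 0, -1⟩, 16, 0),
  (⟨-2, 1, 2, -1, 0, -1, -2, -1⟩, 16, 0), (⟨-2, 1, 2, -1, 0, 1, 2, 1⟩, 16, 0),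
  (⟨-2, 1, 2, -1, 2, 1, 0, 1⟩, 16, 0), (⟨-2, 1, 2, 1, -2, 1, 0, -1⟩, 16, 0),
  (⟨-2, 1, 2, 1, 0, -1, -2, 1⟩, 16, 0), (⟨-2, 1, 2, 1, 0, 1, 2, -1⟩, 16, 0),
  (⟨-2, 1, 2, 1, 2, -1, 0, 1⟩, 16, 0), (⟨-2, 2, -2, 0, 0, -2, 0, 0⟩, 16, 0),
  (⟨-2, 2, -2, 0, 0, 0, 0, -2⟩, 16, 0), (⟨-2, 2, -2, 0, 0, 0, 0, 2⟩, 16, 0),
  (⟨-2, 2, -2, 0, 0, 2, 0, 0⟩, 16, 0), (⟨-2, 2, 0, -2, -2, 0, 0, 0⟩, 16, 0),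
  (⟨-2, 2, 0, -2, 0, 0, -2, 0⟩, 16, 0), (⟨-2, 2, 0, -2, 0, 0, 2, 0⟩, 16, 0),
  (⟨-2, 2, 0, -2, 2, 0, 0, 0⟩, 16, 0), (⟨-2, 2, 0, 0, -2, 0, 0, -2⟩, 16, 0),
  (⟨-2, 2, 0, 0, -2, 0, 0, 2⟩, 16, 0), (⟨-2, 2, 0, 0, 0, -2, -2, 0⟩, 16, 0),
  (⟨-2, 2, 0, 0, 0, -2, 2, 0⟩, 16, 0), (⟨-2, 2, 0, 0, 0, 2, -2, 0⟩, 16, 0),
  (⟨-2, 2, 0, 0, 0, 2, 2, 0⟩, 16, 0), (⟨-2, 2, 0, 0, 2, 0, 0, -2⟩, 16, 0),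
  (⟨-2, 2, 0, 0, 2, 0, 0, 2⟩, 16, 0), (⟨-2, 2, 0, 2, -2, 0, 0, 0⟩, 16, 0),
  (⟨-2, 2, 0, 2, 0, 0, -2, 0⟩, 16, 0), (⟨-2, 2, 0, 2, 0, 0, 2, 0⟩, 16, 0),
  (⟨-2, 2, 0, 2, 2, 0, 0, 0⟩, 16, 0), (⟨-2, 2, 2, 0, 0, -2, 0, 0⟩, 16, 0),
  (⟨-2, 2, 2, 0, 0, 0, 0, -2⟩, 16, 0), (⟨-2, 2, 2, 0, 0, 0, 0, 2⟩, 16, 0),
  (⟨-2, 2, 2, 0, 0, 2, 0, 0⟩, 16, 0), (⟨-2, 3, 0, -1, 0, -1, 0, 1⟩, 16, 0),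
  (⟨-2, 3, 0, -1, 0, 1, 0, -1⟩, 16, 0), (⟨-2, 3, 0, 1, 0, -1, 0, -1⟩, 16, 0),
  (⟨-2, 3, 0, 1, 0, 1, 0, 1⟩, 16, 0), (⟨-1, -1, -3, 1, -1, -1, -1, 1⟩, 16, 0),
  (⟨-1, -1, -3, 1, -1, 1, -1, -1⟩, 16, 0), (⟨-1, -1, -3, 1, 1, -1, 1, 1⟩, 16, 0),
  (⟨-1, -1, -3, 1, 1, 1, 1, -1⟩, 16, 0), (⟨-1, -1, -1, -1, -3, 1, -1, 1⟩, 16, 0),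
  (⟨-1, -1, -1, -1, -1, 1, -3, 1⟩, 16, 0), (⟨-1, -1, -1, -1, 1, -1, 3, -1⟩, 16, 0),
  (⟨-1, -1, -1, -1, 3, -1, 1, -1⟩, 16, 0), (⟨-1, -1, -1, 1, -3, 1, -1, -1⟩, 16, 0),
  (⟨-1, -1, -1, 1, -1, -1, -3, 1⟩, 16, 0), (⟨-1, -1, -1, 1, -1, 1, 1, -1⟩, 8, 0),
  (⟨-1, -1, -1, 1, 1, -1, -1, 1⟩, 8, 0), (⟨-1, -1, -1, 1, 1, 1, 3, -1⟩, 16, 0),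
  (⟨-1, -1, -1, 1, 3, -1, 1, 1⟩, 16, 0), (⟨-1, -1, 1, -1, -3, 1, 1, 1⟩, 16, 0),
  (⟨-1, -1, 1, -1, -1, -1, 3, -1⟩, 16, 0), (⟨-1, -1, 1, -1, -1, 1, -1, 1⟩, 8, 0),
  (⟨-1, -1, 1, -1, 1, -1, 1, -1⟩, 8, 0), (⟨-1, -1, 1, -1, 1, 1, -3, 1⟩, 16, 0),
  (⟨-1, -1, 1, -1, 3, -1, -1, -1⟩, 16, 0), (⟨-1, -1, 1, 1, -3, 1, 1, -1⟩, 16, 0),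
  (⟨-1, -1, 1, 1, -1, 1, 3, -1⟩, 16, 0), (⟨-1, -1, 1, 1, 1, -1, -3, 1⟩, 16, 0),
  (⟨-1, -1, 1, 1, 3, -1, -1, 1⟩, 16, 0), (⟨-1, -1, 3, -1, -1, -1, 1, -1⟩, 16, 0),
  (⟨-1, -1, 3, -1, -1, 1, 1, 1⟩, 16, 0), (⟨-1, -1, 3, -1, 1, -1, -1, -1⟩, 16, 0),
  (⟨-1, -1, 3, -1, 1, 1, -1, 1⟩, 16, 0), (⟨-1, 0, -3, 0, -1, 0, 1, -2⟩, 16, 0),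
  (⟨-1, 0, -3, 0, -1, 2, 1, 0⟩, 16, 0), (⟨-1, 0, -3, 0, 1, -2, -1, 0⟩, 16, 0),
  (⟨-1, 0, -3, 0, 1, 0, -1, 2⟩, 16, 0), (⟨-1, 0, -1, 0, -3, 0, 1, -2⟩, 16, 0),
  (⟨-1, 0, -1, 0, -1, 0, -1, 2⟩, 8, 0), (⟨-1, 0, -1, 0, -1, 2, -1, 0⟩, 8, 0),
  (⟨-1, 0, -1, 0, -1, 2, 3, 0⟩, 16, 0), (⟨-1, 0, -1, 0, 1, -2, -3, 0⟩, 16, 0),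
  (⟨-1, 0, -1, 0, 1, -2, 1, 0⟩, 8, 0), (⟨-1, 0, -1, 0, 1, 0, 1, -2⟩, 8, 0),
  (⟨-1, 0, -1, 0, 3, 0, -1, 2⟩, 16, 0), (⟨-1, 0, -1, 2, -3, 0, 1, 0⟩, 16, 0),
  (⟨-1, 0, -1, 2, -1, 0, -1, 0⟩, 8, 0), (⟨-1, 0, -1, 2, -1, 0, 3, 0⟩, 16, 0),
  (⟨-1, 0, -1, 2, -1, 2, -1, 2⟩, 16, 0), (⟨-1, 0, -1, 2, 1, -2, 1, -2⟩, 16, 0),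
  (⟨-1, 0, -1, 2, 1, 0, -3, 0⟩, 16, 0), (⟨-1, 0, -1, 2, 1, 0, 1, 0⟩, 8, 0),
  (⟨-1, 0, -1, 2, 3, 0, -1, 0⟩, 16, 0), (⟨-1, 0, 1, -2, -3, 0, -1, 0⟩, 16, 0),
  (⟨-1, 0, 1, -2, -1, 0, -3, 0⟩, 16, 0), (⟨-1, 0, 1, -2, -1, 0, 1, 0⟩, 8, 0),
  (⟨-1, 0, 1, -2, -1, 2, 1, -2⟩, 16, 0), (⟨-1, 0, 1, -2, 1, -2, -1, 2⟩, 16, 0),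
  (⟨-1, 0, 1, -2, 1, 0, -1, 0⟩, 8, 0), (⟨-1, 0, 1, -2, 1, 0, 3, 0⟩, 16, 0),
  (⟨-1, 0, 1, -2, 3, 0, 1, 0⟩, 16, 0), (⟨-1, 0, 1, 0, -3, 0, -1, 2⟩, 16, 0),
  (⟨-1, 0, 1, 0, -1, 0, 1, -2⟩, 8, 0), (⟨-1, 0, 1, 0, -1, 2, -3, 0⟩, 16, 0),
  (⟨-1, 0, 1, 0, -1, 2, 1, 0⟩, 8, 0), (⟨-1, 0, 1, 0, 1, -2, -1, 0⟩, 8, 0),
  (⟨-1, 0, 1, 0, 1, -2, 3, 0⟩, 16, 0), (⟨-1, 0, 1, 0, 1, 0, -1, 2⟩, 8, 0),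
  (⟨-1, 0, 1, 0, 3, 0, 1, -2⟩, 16, 0), (⟨-1, 0, 3, 0, -1, 0, -1, 2⟩, 16, 0),
  (⟨-1, 0, 3, 0, -1, 2, -1, 0⟩, 16, 0), (⟨-1, 0, 3, 0, 1, -2, 1, 0⟩, 16, 0),
  (⟨-1, 0, 3, 0, 1, 0, 1, -2⟩, 16, 0), (⟨-1, 1, -3, 1, -1, -1, -1, -1⟩, 16, 0),
  (⟨-1, 1, -3, 1, 1, 1, 1, 1⟩, 16, 0), (⟨-1, 1, -1, -1, -3, 1, -1, -1⟩, 16, 0),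
  (⟨-1, 1, -1, -1, -1, -1, -3, 1⟩, 16, 0), (⟨-1, 1, -1, -1, -1, 1, 1, -1⟩, 8, 0),
  (⟨-1, 1, -1, -1, 1, -1, -1, 1⟩, 8, 0), (⟨-1, 1, -1, -1, 1, 1, 3, -1⟩, 16, 0),
  (⟨-1, 1, -1, -1, 3, -1, 1, 1⟩, 16, 0), (⟨-1, 1, -1, 1, -1, -1, 1, -1⟩, 8, 0),
  (⟨-1, 1, -1, 1, -1, 1, 1, -3⟩, 16, 0), (⟨-1, 1, -1, 1, -1, 1, 1, 1⟩, 8, 0),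
  (⟨-1, 1, -1, 1, -1, 3, 1, -1⟩, 16, 0), (⟨-1, 1, -1, 1, 1, -3, -1, 1⟩, 16, 0),
  (⟨-1, 1, -1, 1, 1, -1, -1, -1⟩, 8, 0), (⟨-1, 1, -1, 1, 1, -1, -1, 3⟩, 16, 0),
  (⟨-1, 1, -1, 1, 1, 1, -1, 1⟩, 8, 0), (⟨-1, 1, -1, 3, -1, 1, 1, -1⟩, 16, 0),
  (⟨-1, 1, -1, 3, 1, -1, -1, 1⟩, 16, 0), (⟨-1, 1, 1, -3, -1, 1, -1, 1⟩, 16, 0),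
  (⟨-1, 1, 1, -3, 1, -1, 1, -1⟩, 16, 0), (⟨-1, 1, 1, -1, -1, -1, -1, 1⟩, 8, 0),
  (⟨-1, 1, 1, -1, -1, 1, -1, -1⟩, 8, 0), (⟨-1, 1, 1, -1, -1, 1, -1, 3⟩, 16, 0),
  (⟨-1, 1, 1, -1, -1, 3, -1, 1⟩, 16, 0), (⟨-1, 1, 1, -1, 1, -3, 1, -1⟩, 16, 0),
  (⟨-1, 1, 1, -1, 1, -1, 1, -3⟩, 16, 0), (⟨-1, 1, 1, -1, 1, -1, 1, 1⟩, 8, 0),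
  (⟨-1, 1, 1, -1, 1, 1, 1, -1⟩, 8, 0), (⟨-1, 1, 1, 1, -3, 1, 1, 1⟩, 16, 0),
  (⟨-1, 1, 1, 1, -1, -1, 3, -1⟩, 16, 0), (⟨-1, 1, 1, 1, -1, 1, -1, 1⟩, 8, 0),
  (⟨-1, 1, 1, 1, 1, -1, 1, -1⟩, 8, 0), (⟨-1, 1, 1, 1, 1, 1, -3, 1⟩, 16, 0),
  (⟨-1, 1, 1, 1, 3, -1, -1, -1⟩, 16, 0), (⟨-1, 1, 3, -1, -1, -1, 1, 1⟩, 16, 0),
  (⟨-1, 1, 3, -1, 1, 1, -1, -1⟩, 16, 0), (⟨-1, 2, -3, 0, -1, 0, 1, 0⟩, 16, 0),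
  (⟨-1, 2, -3, 0, 1, 0, -1, 0⟩, 16, 0), (⟨-1, 2, -1, 0, -3, 0, 1, 0⟩, 16, 0),
  (⟨-1, 2, -1, 0, -1, 0, -1, 0⟩, 8, 0), (⟨-1, 2, -1, 0, -1, 0, 3, 0⟩, 16, 0),
  (⟨-1, 2, -1, 0, -1, 2, -1, 2⟩, 16, 0), (⟨-1, 2, -1, 0, 1, -2, 1, -2⟩, 16, 0),
  (⟨-1, 2, -1, 0, 1, 0, -3, 0⟩, 16, 0), (⟨-1, 2, -1, 0, 1, 0, 1, 0⟩, 8, 0),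
  (⟨-1, 2, -1, 0, 3, 0, -1, 0⟩, 16, 0), (⟨-1, 2, -1, 2, -1, 0, -1, 2⟩, 16, 0),
  (⟨-1, 2, -1, 2, -1, 2, -1, 0⟩, 16, 0), (⟨-1, 2, -1, 2, 1, -2, 1, 0⟩, 16, 0),
  (⟨-1, 2, -1, 2, 1, 0, 1, -2⟩, 16, 0), (⟨-1, 2, 1, -2, -1, 0, 1, -2⟩, 16, 0),
  (⟨-1, 2, 1, -2, -1, 2, 1, 0⟩, 16, 0), (⟨-1, 2, 1, -2, 1, -2, -1, 0⟩, 16, 0),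
  (⟨-1, 2, 1, -2, 1, 0, -1, 2⟩, 16, 0), (⟨-1, 2, 1, 0, -3, 0, -1, 0⟩, 16, 0),
  (⟨-1, 2, 1, 0, -1, 0, -3, 0⟩, 16, 0), (⟨-1, 2, 1, 0, -1, 0, 1, 0⟩, 8, 0),
  (⟨-1, 2, 1, 0, -1, 2, 1, -2⟩, 16, 0), (⟨-1, 2, 1, 0, 1, -2, -1, 2⟩, 16, 0),
  (⟨-1, 2, 1, 0, 1, 0, -1, 0⟩, 8, 0), (⟨-1, 2, 1, 0, 1, 0, 3, 0⟩, 16, 0),
  (⟨-1, 2, 1, 0, 3, 0, 1, 0⟩, 16, 0), (⟨-1, 2, 3, 0, -1, 0, -1, 0⟩, 16, 0),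
  (⟨-1, 2, 3, 0, 1, 0, 1, 0⟩, 16, 0), (⟨-1, 3, -1, 1, -1, 1, 1, -1⟩, 16, 0),
  (⟨-1, 3, -1, 1, 1, -1, -1, 1⟩, 16, 0), (⟨-1, 3, 1, -1, -1, 1, -1, 1⟩, 16, 0),
  (⟨-1, 3, 1, -1, 1, -1, 1, -1⟩, 16, 0), (⟨0, -2, -2, 0, -2, 2, 0, 0⟩, 16, 0),
  (⟨0, -2, -2, 0, 0, 0, -2, 2⟩, 16, 0), (⟨0, -2, -2, 0, 0, 0, 2, -2⟩, 16, 0),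
  (⟨0, -2, -2, 0, 2, -2, 0, 0⟩, 16, 0), (⟨0, -2, -2, 2, -2, 0, 0, 0⟩, 16, 0),
  (⟨0, -2, -2, 2, 0, 0, -2, 0⟩, 16, 0), (⟨0, -2, -2, 2, 0, 0, 2, 0⟩, 16, 0),
  (⟨0, -2, -2, 2, 2, 0, 0, 0⟩, 16, 0), (⟨0, -2, 0, 0, -2, 0, -2, 2⟩, 16, 0),
  (⟨0, -2, 0, 0, -2, 0, 2, -2⟩, 16, 0), (⟨0, -2, 0, 0, -2, 2, -2, 0⟩, 16, 0),
  (⟨0, -2, 0, 0, -2, 2, 2, 0⟩, 16, 0), (⟨0, -2, 0, 0, 2, -2, -2, 0⟩, 16, 0),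
  (⟨0, -2, 0, 0, 2, -2, 2, 0⟩, 16, 0), (⟨0, -2, 0, 0, 2, 0, -2, 2⟩, 16, 0),
  (⟨0, -2, 0, 0, 2, 0, 2, -2⟩, 16, 0), (⟨0, -2, 2, -2, -2, 0, 0, 0⟩, 16, 0),
  (⟨0, -2, 2, -2, 0, 0, -2, 0⟩, 16, 0), (⟨0, -2, 2, -2, 0, 0, 2, 0⟩, 16, 0),
  (⟨0, -2, 2, -2, 2, 0, 0, 0⟩, 16, 0), (⟨0, -2, 2, 0, -2, 2, 0, 0⟩, 16, 0),
  (⟨0, -2, 2, 0, 0, 0, -2, 2⟩, 16, 0), (⟨0, -2, 2, 0, 0, 0, 2, -2⟩, 16, 0),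
  (⟨0, -2, 2, 0, 2, -2, 0, 0⟩, 16, 0), (⟨0, -1, -2, -1, -2, 1, 2, -1⟩, 16, 0),
  (⟨0, -1, -2, -1, 2, -1, -2, 1⟩, 16, 0), (⟨0, -1, -2, 1, -2, -1, 2, -1⟩, 16, 0),
  (⟨0, -1, -2, 1, -2, 1, 2, 1⟩, 16, 0), (⟨0, -1, -2, 1, 0, -1, 0, -1⟩, 8, 0),
  (⟨0, -1, -2, 1, 0, 1, 0, 1⟩, 8, 0), (⟨0, -1, -2, 1, 2, -1, -2, -1⟩, 16, 0),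
  (⟨0, -1, -2, 1, 2, 1, -2, 1⟩, 16, 0), (⟨0, -1, -2, 3, 0, -1, 0, 1⟩, 16, 0),
  (⟨0, -1, -2, 3, 0, 1, 0, -1⟩, 16, 0), (⟨0, -1, 0, -1, -2, 1, 0, -1⟩, 8, 0),
  (⟨0, -1, 0, -1, -2, 3, 0, 1⟩, 16, 0), (⟨0, -1, 0, -1, 0, -1, -2, 1⟩, 8, 0),
  (⟨0, -1, 0, -1, 0, -1, 2, -3⟩, 16, 0), (⟨0, -1, 0, -1, 0, 1, -2, 3⟩, 16, 0),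
  (⟨0, -1, 0, -1, 0, 1, 2, -1⟩, 8, 0), (⟨0, -1, 0, -1, 2, -3, 0, -1⟩, 16, 0),
  (⟨0, -1, 0, -1, 2, -1, 0, 1⟩, 8, 0), (⟨0, -1, 0, 1, -2, 1, 0, 1⟩, 8, 0),
  (⟨0, -1, 0, 1, -2, 3, 0, -1⟩, 16, 0), (⟨0, -1, 0, 1, 0, -1, -2, 3⟩, 16, 0),
  (⟨0, -1, 0, 1, 0, -1, 2, -1⟩, 8, 0), (⟨0, -1, 0, 1, 0, 1, -2, 1⟩, 8, 0),
  (⟨0, -1, 0, 1, 0, 1, 2, -3⟩, 16, 0), (⟨0, -1, 0, 1, 2, -3, 0, 1⟩, 16, 0),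
  (⟨0, -1, 0, 1, 2, -1, 0, -1⟩, 8, 0), (⟨0, -1, 2, -3, 0, -1, 0, -1⟩, 16, 0),
  (⟨0, -1, 2, -3, 0, 1, 0, 1⟩, 16, 0), (⟨0, -1, 2, -1, -2, -1, -2, 1⟩, 16, 0),
  (⟨0, -1, 2, -1, -2, 1, -2, -1⟩, 16, 0), (⟨0, -1, 2, -1, 0, -1, 0, 1⟩, 8, 0),
  (⟨0, -1, 2, -1, 0, 1, 0, -1⟩, 8, 0), (⟨0, -1, 2, -1, 2, -1, 2, 1⟩, 16, 0),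
  (⟨0, -1, 2, -1, 2, 1, 2, -1⟩, 16, 0), (⟨0, -1, 2, 1, -2, 1, -2, 1⟩, 16, 0),
  (⟨0, -1, 2, 1, 2, -1, 2, -1⟩, 16, 0), (⟨0, 0, -4, 0, 0, 0, 0, 0⟩, 16, 0),
  (⟨0, 0, -2, 0, -2, 0, 0, 0⟩, 8, 0), (⟨0, 0, -2, 0, -2, 2, 0, -2⟩, 16, 0),
  (⟨0, 0, -2, 0, -2, 2, 0, 2⟩, 16, 0), (⟨0, 0, -2, 0, 0, -2, -2, 2⟩, 16, 0),
  (⟨0, 0, -2, 0, 0, -2, 2, -2⟩, 16, 0), (⟨0, 0, -2, 0, 0, 0, -2, 0⟩, 8, 0),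
  (⟨0, 0, -2, 0, 0, 0, 2, 0⟩, 8, 0), (⟨0, 0, -2, 0, 0, 2, -2, 2⟩, 16, 0),
  (⟨0, 0, -2, 0, 0, 2, 2, -2⟩, 16, 0), (⟨0, 0, -2, 0, 2, -2, 0, -2⟩, 16, 0),
  (⟨0, 0, -2, 0, 2, -2, 0, 2⟩, 16, 0), (⟨0, 0, -2, 0, 2, 0, 0, 0⟩, 8, 0),
  (⟨0, 0, -2, 2, -2, 0, 0, -2⟩, 16, 0), (⟨0, 0, -2, 2, -2, 0, 0, 2⟩, 16, 0),
  (⟨0, 0, -2, 2, 0, -2, -2, 0⟩, 16, 0), (⟨0, 0, -2, 2, 0, -2, 2, 0⟩, 16, 0),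
  (⟨0, 0, -2, 2, 0, 2, -2, 0⟩, 16, 0), (⟨0, 0, -2, 2, 0, 2, 2, 0⟩, 16, 0),
  (⟨0, 0, -2, 2, 2, 0, 0, -2⟩, 16, 0), (⟨0, 0, -2, 2, 2, 0, 0, 2⟩, 16, 0),
  (⟨0, 0, 0, -2, -2, 0, -2, 2⟩, 16, 0), (⟨0, 0, 0, -2, -2, 0, 2, -2⟩, 16, 0),
  (⟨0, 0, 0, -2, -2, 2, -2, 0⟩, 16, 0), (⟨0, 0, 0, -2, -2, 2, 2, 0⟩, 16, 0),
  (⟨0, 0, 0, -2, 2, -2, -2, 0⟩, 16, 0), (⟨0, 0, 0, -2, 2, -2, 2, 0⟩, 16, 0),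
  (⟨0, 0, 0, -2, 2, 0, -2, 2⟩, 16, 0), (⟨0, 0, 0, -2, 2, 0, 2, -2⟩, 16, 0),
  (⟨0, 0, 0, 0, -4, 0, 0, 0⟩, 16, 0), (⟨0, 0, 0, 0, -2, 0, -2, 0⟩, 8, 0),
  (⟨0, 0, 0, 0, -2, 0, 2, 0⟩, 8, 0), (⟨0, 0, 0, 0, 0, 0, -4, 0⟩, 16, 0),
  (⟨0, 0, 0, 0, 0, 0, 0, 0⟩, 0, 0), (⟨0, 0, 0, 0, 0, 0, 4, 0⟩, 16, 0),
  (⟨0, 0, 0, 0, 2, 0, -2, 0⟩, 8, 0), (⟨0, 0, 0, 0, 2, 0, 2, 0⟩, 8, 0),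
  (⟨0, 0, 0, 0, 4, 0, 0, 0⟩, 16, 0), (⟨0, 0, 0, 2, -2, 0, -2, 2⟩, 16, 0),
  (⟨0, 0, 0, 2, -2, 0, 2, -2⟩, 16, 0), (⟨0, 0, 0, 2, -2, 2, -2, 0⟩, 16, 0),
  (⟨0, 0, 0, 2, -2, 2, 2, 0⟩, 16, 0), (⟨0, 0, 0, 2, 2, -2, -2, 0⟩, 16, 0),
  (⟨0, 0, 0, 2, 2, -2, 2, 0⟩, 16, 0), (⟨0, 0, 0, 2, 2, 0, -2, 2⟩, 16, 0),
  (⟨0, 0, 0, 2, 2, 0, 2, -2⟩, 16, 0), (⟨0, 0, 2, -2, -2, 0, 0, -2⟩, 16, 0),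
  (⟨0, 0, 2, -2, -2, 0, 0, 2⟩, 16, 0), (⟨0, 0, 2, -2, 0, -2, -2, 0⟩, 16, 0),
  (⟨0, 0, 2, -2, 0, -2, 2, 0⟩, 16, 0), (⟨0, 0, 2, -2, 0, 2, -2, 0⟩, 16, 0),
  (⟨0, 0, 2, -2, 0, 2, 2, 0⟩, 16, 0), (⟨0, 0, 2, -2, 2, 0, 0, -2⟩, 16, 0),
  (⟨0, 0, 2, -2, 2, 0, 0, 2⟩, 16, 0), (⟨0, 0, 2, 0, -2, 0, 0, 0⟩, 8, 0),
  (⟨0, 0, 2, 0, -2, 2, 0, -2⟩, 16, 0), (⟨0, 0, 2, 0, -2, 2, 0, 2⟩, 16, 0),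
  (⟨0, 0, 2, 0, 0, -2, -2, 2⟩, 16, 0), (⟨0, 0, 2, 0, 0, -2, 2, -2⟩, 16, 0),
  (⟨0, 0, 2, 0, 0, 0, -2, 0⟩, 8, 0), (⟨0, 0, 2, 0, 0, 0, 2, 0⟩, 8, 0),
  (⟨0, 0, 2, 0, 0, 2, -2, 2⟩, 16, 0), (⟨0, 0, 2, 0, 0, 2, 2, -2⟩, 16, 0),
  (⟨0, 0, 2, 0, 2, -2, 0, -2⟩, 16, 0), (⟨0, 0, 2, 0, 2, -2, 0, 2⟩, 16, 0),
  (⟨0, 0, 2, 0, 2, 0, 0, 0⟩, 8, 0), (⟨0, 0, 4, 0, 0, 0, 0, 0⟩, 16, 0),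
  (⟨0, 1, -2, -1, -2, 1, -2, 1⟩, 16, 0), (⟨0, 1, -2, -1, 2, -1, 2, -1⟩, 16, 0),
  (⟨0, 1, -2, 1, -2, -1, -2, 1⟩, 16, 0), (⟨0, 1, -2, 1, -2, 1, -2, -1⟩, 16, 0),
  (⟨0, 1, -2, 1, 0, -1, 0, 1⟩, 8, 0), (⟨0, 1, -2, 1, 0, 1, 0, -1⟩, 8, 0),
  (⟨0, 1, -2, 1, 2, -1, 2, 1⟩, 16, 0), (⟨0, 1, -2, 1, 2, 1, 2, -1⟩, 16, 0),
  (⟨0, 1, -2, 3, 0, -1, 0, -1⟩, 16, 0), (⟨0, 1, -2, 3, 0, 1, 0, 1⟩, 16, 0),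
  (⟨0, 1, 0, -1, -2, 1, 0, 1⟩, 8, 0), (⟨0, 1, 0, -1, -2, 3, 0, -1⟩, 16, 0),
  (⟨0, 1, 0, -1, 0, -1, -2, 3⟩, 16, 0), (⟨0, 1, 0, -1, 0, -1, 2, -1⟩, 8, 0),
  (⟨0, 1, 0, -1, 0, 1, -2, 1⟩, 8, 0), (⟨0, 1, 0, -1, 0, 1, 2, -3⟩, 16, 0),
  (⟨0, 1, 0, -1, 2, -3, 0, 1⟩, 16, 0), (⟨0, 1, 0, -1, 2, -1, 0, -1⟩, 8, 0),
  (⟨0, 1, 0, 1, -2, 1, 0, -1⟩, 8, 0), (⟨0, 1, 0, 1, -2, 3, 0, 1⟩, 16, 0),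
  (⟨0, 1, 0, 1, 0, -1, -2, 1⟩, 8, 0), (⟨0, 1, 0, 1, 0, -1, 2, -3⟩, 16, 0),
  (⟨0, 1, 0, 1, 0, 1, -2, 3⟩, 16, 0), (⟨0, 1, 0, 1, 0, 1, 2, -1⟩, 8, 0),
  (⟨0, 1, 0, 1, 2, -3, 0, -1⟩, 16, 0), (⟨0, 1, 0, 1, 2, -1, 0, 1⟩, 8, 0),
  (⟨0, 1, 2, -3, 0, -1, 0, 1⟩, 16, 0), (⟨0, 1, 2, -3, 0, 1, 0, -1⟩, 16, 0),
  (⟨0, 1, 2, -1, -2, -1, 2, -1⟩, 16, 0), (⟨0, 1, 2, -1, -2, 1, 2, 1⟩, 16, 0),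
  (⟨0, 1, 2, -1, 0, -1, 0, -1⟩, 8, 0), (⟨0, 1, 2, -1, 0, 1, 0, 1⟩, 8, 0),
  (⟨0, 1, 2, -1, 2, -1, -2, -1⟩, 16, 0), (⟨0, 1, 2, -1, 2, 1, -2, 1⟩, 16, 0),
  (⟨0, 1, 2, 1, -2, 1, 2, -1⟩, 16, 0), (⟨0, 1, 2, 1, 2, -1, -2, 1⟩, 16, 0),
  (⟨0, 2, -2, 0, -2, 2, 0, 0⟩, 16, 0), (⟨0, 2, -2, 0, 0, 0, -2, 2⟩, 16, 0),
  (⟨0, 2, -2, 0, 0, 0, 2, -2⟩, 16, 0), (⟨0, 2, -2, 0, 2, -2, 0, 0⟩, 16, 0),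
  (⟨0, 2, -2, 2, -2, 0, 0, 0⟩, 16, 0), (⟨0, 2, -2, 2, 0, 0, -2, 0⟩, 16, 0),
  (⟨0, 2, -2, 2, 0, 0, 2, 0⟩, 16, 0), (⟨0, 2, -2, 2, 2, 0, 0, 0⟩, 16, 0),
  (⟨0, 2, 0, 0, -2, 0, -2, 2⟩, 16, 0), (⟨0, 2, 0, 0, -2, 0, 2, -2⟩, 16, 0),
  (⟨0, 2, 0, 0, -2, 2, -2, 0⟩, 16, 0), (⟨0, 2, 0, 0, -2, 2, 2, 0⟩, 16, 0),
  (⟨0, 2, 0, 0, 2, -2, -2, 0⟩, 16, 0), (⟨0, 2, 0, 0, 2, -2, 2, 0⟩, 16, 0),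
  (⟨0, 2, 0, 0, 2, 0, -2, 2⟩, 16, 0), (⟨0, 2, 0, 0, 2, 0, 2, -2⟩, 16, 0),
  (⟨0, 2, 2, -2, -2, 0, 0, 0⟩, 16, 0), (⟨0, 2, 2, -2, 0, 0, -2, 0⟩, 16, 0),
  (⟨0, 2, 2, -2, 0, 0, 2, 0⟩, 16, 0), (⟨0, 2, 2, -2, 2, 0, 0, 0⟩, 16, 0),
  (⟨0, 2, 2, 0, -2, 2, 0, 0⟩, 16, 0), (⟨0, 2, 2, 0, 0, 0, -2, 2⟩, 16, 0),
  (⟨0, 2, 2, 0, 0, 0, 2, -2⟩, 16, 0), (⟨0, 2, 2, 0, 2, -2, 0, 0⟩, 16, 0),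
  (⟨1, -3, -1, 1, -1, 1, -1, 1⟩, 16, 0), (⟨1, -3, -1, 1, 1, -1, 1, -1⟩, 16, 0),
  (⟨1, -3, 1, -1, -1, 1, 1, -1⟩, 16, 0), (⟨1, -3, 1, -1, 1, -1, -1, 1⟩, 16, 0),
  (⟨1, -2, -3, 0, -1, 0, -1, 0⟩, 16, 0), (⟨1, -2, -3, 0, 1, 0, 1, 0⟩, 16, 0),
  (⟨1, -2, -1, 0, -3, 0, -1, 0⟩, 16, 0), (⟨1, -2, -1, 0, -1, 0, -3, 0⟩, 16, 0),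
  (⟨1, -2, -1, 0, -1, 0, 1, 0⟩, 8, 0), (⟨1, -2, -1, 0, -1, 2, 1, -2⟩, 16, 0),
  (⟨1, -2, -1, 0, 1, -2, -1, 2⟩, 16, 0), (⟨1, -2, -1, 0, 1, 0, -1, 0⟩, 8, 0),
  (⟨1, -2, -1, 0, 1, 0, 3, 0⟩, 16, 0), (⟨1, -2, -1, 0, 3, 0, 1, 0⟩, 16, 0),
  (⟨1, -2, -1, 2, -1, 0, 1, -2⟩, 16, 0), (⟨1, -2, -1, 2, -1, 2, 1, 0⟩, 16, 0),
  (⟨1, -2, -1, 2, 1, -2, -1, 0⟩, 16, 0), (⟨1, -2, -1, 2, 1, 0, -1, 2⟩, 16, 0),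
  (⟨1, -2, 1, -2, -1, 0, -1, 2⟩, 16, 0), (⟨1, -2, 1, -2, -1, 2, -1, 0⟩, 16, 0),
  (⟨1, -2, 1, -2, 1, -2, 1, 0⟩, 16, 0), (⟨1, -2, 1, -2, 1, 0, 1, -2⟩, 16, 0),
  (⟨1, -2, 1, 0, -3, 0, 1, 0⟩, 16, 0), (⟨1, -2, 1, 0, -1, 0, -1, 0⟩, 8, 0),
  (⟨1, -2, 1, 0, -1, 0, 3, 0⟩, 16, 0), (⟨1, -2, 1, 0, -1, 2, -1, 2⟩, 16, 0),
  (⟨1, -2, 1, 0, 1, -2, 1, -2⟩, 16, 0), (⟨1, -2, 1, 0, 1, 0, -3, 0⟩, 16, 0),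
  (⟨1, -2, 1, 0, 1, 0, 1, 0⟩, 8, 0), (⟨1, -2, 1, 0, 3, 0, -1, 0⟩, 16, 0),
  (⟨1, -2, 3, 0, -1, 0, 1, 0⟩, 16, 0), (⟨1, -2, 3, 0, 1, 0, -1, 0⟩, 16, 0),
  (⟨1, -1, -3, 1, -1, -1, 1, 1⟩, 16, 0), (⟨1, -1, -3, 1, 1, 1, -1, -1⟩, 16, 0),
  (⟨1, -1, -1, -1, -3, 1, 1, 1⟩, 16, 0), (⟨1, -1, -1, -1, -1, -1, 3, -1⟩, 16, 0),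
  (⟨1, -1, -1, -1, -1, 1, -1, 1⟩, 8, 0), (⟨1, -1, -1, -1, 1, -1, 1, -1⟩, 8, 0),
  (⟨1, -1, -1, -1, 1, 1, -3, 1⟩, 16, 0), (⟨1, -1, -1, -1, 3, -1, -1, -1⟩, 16, 0),
  (⟨1, -1, -1, 1, -1, -1, -1, 1⟩, 8, 0), (⟨1, -1, -1, 1, -1, 1, -1, -1⟩, 8, 0),
  (⟨1, -1, -1, 1, -1, 1, -1, 3⟩, 16, 0), (⟨1, -1, -1, 1, -1, 3, -1, 1⟩, 16, 0),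
  (⟨1, -1, -1, 1, 1, -3, 1, -1⟩, 16, 0), (⟨1, -1, -1, 1, 1, -1, 1, -3⟩, 16, 0),
  (⟨1, -1, -1, 1, 1, -1, 1, 1⟩, 8, 0), (⟨1, -1, -1, 1, 1, 1, 1, -1⟩, 8, 0),
  (⟨1, -1, -1, 3, -1, 1, -1, 1⟩, 16, 0), (⟨1, -1, -1, 3, 1, -1, 1, -1⟩, 16, 0),
  (⟨1, -1, 1, -3, -1, 1, 1, -1⟩, 16, 0), (⟨1, -1, 1, -3, 1, -1, -1, 1⟩, 16, 0),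
  (⟨1, -1, 1, -1, -1, -1, 1, -1⟩, 8, 0), (⟨1, -1, 1, -1, -1, 1, 1, -3⟩, 16, 0),
  (⟨1, -1, 1, -1, -1, 1, 1, 1⟩, 8, 0), (⟨1, -1, 1, -1, -1, 3, 1, -1⟩, 16, 0),
  (⟨1, -1, 1, -1, 1, -3, -1, 1⟩, 16, 0), (⟨1, -1, 1, -1, 1, -1, -1, -1⟩, 8, 0),
  (⟨1, -1, 1, -1, 1, -1, -1, 3⟩, 16, 0), (⟨1, -1, 1, -1, 1, 1, -1, 1⟩, 8, 0),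
  (⟨1, -1, 1, 1, -3, 1, -1, -1⟩, 16, 0), (⟨1, -1, 1, 1, -1, -1, -3, 1⟩, 16, 0),
  (⟨1, -1, 1, 1, -1, 1, 1, -1⟩, 8, 0), (⟨1, -1, 1, 1, 1, -1, -1, 1⟩, 8, 0),
  (⟨1, -1, 1, 1, 1, 1, 3, -1⟩, 16, 0), (⟨1, -1, 1, 1, 3, -1, 1, 1⟩, 16, 0),
  (⟨1, -1, 3, -1, -1, -1, -1, -1⟩, 16, 0), (⟨1, -1, 3, -1, 1, 1, 1, 1⟩, 16, 0),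
  (⟨1, 0, -3, 0, -1, 0, -1, 2⟩, 16, 0), (⟨1, 0, -3, 0, -1, 2, -1, 0⟩, 16, 0),
  (⟨1, 0, -3, 0, 1, -2, 1, 0⟩, 16, 0), (⟨1, 0, -3, 0, 1, 0, 1, -2⟩, 16, 0),
  (⟨1, 0, -1, 0, -3, 0, -1, 2⟩, 16, 0), (⟨1, 0, -1, 0, -1, 0, 1, -2⟩, 8, 0),
  (⟨1, 0, -1, 0, -1, 2, -3, 0⟩, 16, 0), (⟨1, 0, -1, 0, -1, 2, 1, 0⟩, 8, 0),
  (⟨1, 0, -1, 0, 1, -2, -1, 0⟩, 8, 0), (⟨1, 0, -1, 0, 1, -2, 3, 0⟩, 16, 0),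
  (⟨1, 0, -1, 0, 1, 0, -1, 2⟩, 8, 0), (⟨1, 0, -1, 0, 3, 0, 1, -2⟩, 16, 0),
  (⟨1, 0, -1, 2, -3, 0, -1, 0⟩, 16, 0), (⟨1, 0, -1, 2, -1, 0, -3, 0⟩, 16, 0),
  (⟨1, 0, -1, 2, -1, 0, 1, 0⟩, 8, 0), (⟨1, 0, -1, 2, -1, 2, 1, -2⟩, 16, 0),
  (⟨1, 0, -1, 2, 1, -2, -1, 2⟩, 16, 0), (⟨1, 0, -1, 2, 1, 0, -1, 0⟩, 8, 0),
  (⟨1, 0, -1, 2, 1, 0, 3, 0⟩, 16, 0), (⟨1, 0, -1, 2, 3, 0, 1, 0⟩, 16, 0),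
  (⟨1, 0, 1, -2, -3, 0, 1, 0⟩, 16, 0), (⟨1, 0, 1, -2, -1, 0, -1, 0⟩, 8, 0),
  (⟨1, 0, 1, -2, -1, 0, 3, 0⟩, 16, 0), (⟨1, 0, 1, -2, -1, 2, -1, 2⟩, 16, 0),
  (⟨1, 0, 1, -2, 1, -2, 1, -2⟩, 16, 0), (⟨1, 0, 1, -2, 1, 0, -3, 0⟩, 16, 0),
  (⟨1, 0, 1, -2, 1, 0, 1, 0⟩, 8, 0), (⟨1, 0, 1, -2, 3, 0, -1, 0⟩, 16, 0),
  (⟨1, 0, 1, 0, -3, 0, 1, -2⟩, 16, 0), (⟨1, 0, 1, 0, -1, 0, -1, 2⟩, 8, 0),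
  (⟨1, 0, 1, 0, -1, 2, -1, 0⟩, 8, 0), (⟨1, 0, 1, 0, -1, 2, 3, 0⟩, 16, 0),
  (⟨1, 0, 1, 0, 1, -2, -3, 0⟩, 16, 0), (⟨1, 0, 1, 0, 1, -2, 1, 0⟩, 8, 0),
  (⟨1, 0, 1, 0, 1, 0, 1, -2⟩, 8, 0), (⟨1, 0, 1, 0, 3, 0, -1, 2⟩, 16, 0),
  (⟨1, 0, 3, 0, -1, 0, 1, -2⟩, 16, 0), (⟨1, 0, 3, 0, -1, 2, 1, 0⟩, 16, 0),
  (⟨1, 0, 3, 0, 1, -2, -1, 0⟩, 16, 0), (⟨1, 0, 3, 0, 1, 0, -1, 2⟩, 16, 0),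
  (⟨1, 1, -3, 1, -1, -1, 1, -1⟩, 16, 0), (⟨1, 1, -3, 1, -1, 1, 1, 1⟩, 16, 0),
  (⟨1, 1, -3, 1, 1, -1, -1, -1⟩, 16, 0), (⟨1, 1, -3, 1, 1, 1, -1, 1⟩, 16, 0),
  (⟨1, 1, -1, -1, -3, 1, 1, -1⟩, 16, 0), (⟨1, 1, -1, -1, -1, 1, 3, -1⟩, 16, 0),
  (⟨1, 1, -1, -1, 1, -1, -3, 1⟩, 16, 0), (⟨1, 1, -1, -1, 3, -1, -1, 1⟩, 16, 0),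
  (⟨1, 1, -1, 1, -3, 1, 1, 1⟩, 16, 0), (⟨1, 1, -1, 1, -1, -1, 3, -1⟩, 16, 0),
  (⟨1, 1, -1, 1, -1, 1, -1, 1⟩, 8, 0), (⟨1, 1, -1, 1, 1, -1, 1, -1⟩, 8, 0),
  (⟨1, 1, -1, 1, 1, 1, -3, 1⟩, 16, 0), (⟨1, 1, -1, 1, 3, -1, -1, -1⟩, 16, 0),
  (⟨1, 1, 1, -1, -3, 1, -1, -1⟩, 16, 0), (⟨1, 1, 1, -1, -1, -1, -3, 1⟩, 16, 0),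
  (⟨1, 1, 1, -1, -1, 1, 1, -1⟩, 8, 0), (⟨1, 1, 1, -1, 1, -1, -1, 1⟩, 8, 0),
  (⟨1, 1, 1, -1, 1, 1, 3, -1⟩, 16, 0), (⟨1, 1, 1, -1, 3, -1, 1, 1⟩, 16, 0),
  (⟨1, 1, 1, 1, -3, 1, -1, 1⟩, 16, 0), (⟨1, 1, 1, 1, -1, 1, -3, 1⟩, 16, 0),
  (⟨1, 1, 1, 1, 1, -1, 3, -1⟩, 16, 0), (⟨1, 1, 1, 1, 3, -1, 1, -1⟩, 16, 0),
  (⟨1, 1, 3, -1, -1, -1, -1, 1⟩, 16, 0), (⟨1, 1, 3, -1, -1, 1, -1, -1⟩, 16, 0),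
  (⟨1, 1, 3, -1, 1, -1, 1, 1⟩, 16, 0), (⟨1, 1, 3, -1, 1, 1, 1, -1⟩, 16, 0),
  (⟨2, -3, 0, -1, 0, -1, 0, -1⟩, 16, 0), (⟨2, -3, 0, -1, 0, 1, 0, 1⟩, 16, 0),
  (⟨2, -3, 0, 1, 0, -1, 0, 1⟩, 16, 0), (⟨2, -3, 0, 1, 0, 1, 0, -1⟩, 16, 0),
  (⟨2, -2, -2, 0, 0, -2, 0, 0⟩, 16, 0), (⟨2, -2, -2, 0, 0, 0, 0, -2⟩, 16, 0),
  (⟨2, -2, -2, 0, 0, 0, 0, 2⟩, 16, 0), (⟨2, -2, -2, 0, 0, 2, 0, 0⟩, 16, 0),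
  (⟨2, -2, 0, -2, -2, 0, 0, 0⟩, 16, 0), (⟨2, -2, 0, -2, 0, 0, -2, 0⟩, 16, 0),
  (⟨2, -2, 0, -2, 0, 0, 2, 0⟩, 16, 0), (⟨2, -2, 0, -2, 2, 0, 0, 0⟩, 16, 0),
  (⟨2, -2, 0, 0, -2, 0, 0, -2⟩, 16, 0), (⟨2, -2, 0, 0, -2, 0, 0, 2⟩, 16, 0),
  (⟨2, -2, 0, 0, 0, -2, -2, 0⟩, 16, 0), (⟨2, -2, 0, 0, 0, -2, 2, 0⟩, 16, 0),
  (⟨2, -2, 0, 0, 0, 2, -2, 0⟩, 16, 0), (⟨2, -2, 0, 0, 0, 2, 2, 0⟩, 16, 0),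
  (⟨2, -2, 0, 0, 2, 0, 0, -2⟩, 16, 0), (⟨2, -2, 0, 0, 2, 0, 0, 2⟩, 16, 0),
  (⟨2, -2, 0, 2, -2, 0, 0, 0⟩, 16, 0), (⟨2, -2, 0, 2, 0, 0, -2, 0⟩, 16, 0),
  (⟨2, -2, 0, 2, 0, 0, 2, 0⟩, 16, 0), (⟨2, -2, 0, 2, 2, 0, 0, 0⟩, 16, 0),
  (⟨2, -2, 2, 0, 0, -2, 0, 0⟩, 16, 0), (⟨2, -2, 2, 0, 0, 0, 0, -2⟩, 16, 0),
  (⟨2, -2, 2, 0, 0, 0, 0, 2⟩, 16, 0), (⟨2, -2, 2, 0, 0, 2, 0, 0⟩, 16, 0),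
  (⟨2, -1, -2, -1, -2, 1, 0, -1⟩, 16, 0), (⟨2, -1, -2, -1, 0, -1, -2, 1⟩, 16, 0),
  (⟨2, -1, -2, -1, 0, 1, 2, -1⟩, 16, 0), (⟨2, -1, -2, -1, 2, -1, 0, 1⟩, 16, 0),
  (⟨2, -1, -2, 1, -2, -1, 0, -1⟩, 16, 0), (⟨2, -1, -2, 1, 0, -1, -2, -1⟩, 16, 0),
  (⟨2, -1, -2, 1, 0, 1, 2, 1⟩, 16, 0), (⟨2, -1, -2, 1, 2, 1, 0, 1⟩, 16, 0),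
  (⟨2, -1, 0, -1, -2, -1, -2, 1⟩, 16, 0), (⟨2, -1, 0, -1, -2, 1, -2, -1⟩, 16, 0),
  (⟨2, -1, 0, -1, 0, -1, 0, 1⟩, 8, 0), (⟨2, -1, 0, -1, 0, 1, 0, -1⟩, 8, 0),
  (⟨2, -1, 0, -1, 2, -1, 2, 1⟩, 16, 0), (⟨2, -1, 0, -1, 2, 1, 2, -1⟩, 16, 0),
  (⟨2, -1, 0, 1, -2, -1, 2, -1⟩, 16, 0), (⟨2, -1, 0, 1, -2, 1, 2, 1⟩, 16, 0),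
  (⟨2, -1, 0, 1, 0, -1, 0, -1⟩, 8, 0), (⟨2, -1, 0, 1, 0, 1, 0, 1⟩, 8, 0),
  (⟨2, -1, 0, 1, 2, -1, -2, -1⟩, 16, 0), (⟨2, -1, 0, 1, 2, 1, -2, 1⟩, 16, 0),
  (⟨2, -1, 2, -1, -2, -1, 0, 1⟩, 16, 0), (⟨2, -1, 2, -1, 0, -1, 2, 1⟩, 16, 0),
  (⟨2, -1, 2, -1, 0, 1, -2, -1⟩, 16, 0), (⟨2, -1, 2, -1, 2, 1, 0, -1⟩, 16, 0),
  (⟨2, -1, 2, 1, -2, 1, 0, 1⟩, 16, 0), (⟨2, -1, 2, 1, 0, -1, 2, -1⟩, 16, 0),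
  (⟨2, -1, 2, 1, 0, 1, -2, 1⟩, 16, 0), (⟨2, -1, 2, 1, 2, -1, 0, -1⟩, 16, 0),
  (⟨2, 0, -2, 0, -2, 0, -2, 0⟩, 16, 0), (⟨2, 0, -2, 0, -2, 0, 2, 0⟩, 16, 0),
  (⟨2, 0, -2, 0, 0, 0, 0, 0⟩, 8, 0), (⟨2, 0, -2, 0, 2, 0, -2, 0⟩, 16, 0),
  (⟨2, 0, -2, 0, 2, 0, 2, 0⟩, 16, 0), (⟨2, 0, -2, 2, 0, -2, 0, 0⟩, 16, 0),
  (⟨2, 0, -2, 2, 0, 0, 0, -2⟩, 16, 0), (⟨2, 0, -2, 2, 0, 0, 0, 2⟩, 16, 0),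
  (⟨2, 0, -2, 2, 0, 2, 0, 0⟩, 16, 0), (⟨2, 0, 0, -2, -2, 2, 0, 0⟩, 16, 0),
  (⟨2, 0, 0, -2, 0, 0, -2, 2⟩, 16, 0), (⟨2, 0, 0, -2, 0, 0, 2, -2⟩, 16, 0),
  (⟨2, 0, 0, -2, 2, -2, 0, 0⟩, 16, 0), (⟨2, 0, 0, 0, -2, 0, 0, 0⟩, 8, 0),
  (⟨2, 0, 0, 0, -2, 2, 0, -2⟩, 16, 0), (⟨2, 0, 0, 0, -2, 2, 0, 2⟩, 16, 0),
  (⟨2, 0, 0, 0, 0, -2, -2, 2⟩, 16, 0), (⟨2, 0, 0, 0, 0, -2, 2, -2⟩, 16, 0),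
  (⟨2, 0, 0, 0, 0, 0, -2, 0⟩, 8, 0), (⟨2, 0, 0, 0, 0, 0, 2, 0⟩, 8, 0),
  (⟨2, 0, 0, 0, 0, 2, -2, 2⟩, 16, 0), (⟨2, 0, 0, 0, 0, 2, 2, -2⟩, 16, 0),
  (⟨2, 0, 0, 0, 2, -2, 0, -2⟩, 16, 0), (⟨2, 0, 0, 0, 2, -2, 0, 2⟩, 16, 0),
  (⟨2, 0, 0, 0, 2, 0, 0, 0⟩, 8, 0), (⟨2, 0, 0, 2, -2, 2, 0, 0⟩, 16, 0),
  (⟨2, 0, 0, 2, 0, 0, -2, 2⟩, 16, 0), (⟨2, 0, 0, 2, 0, 0, 2, -2⟩, 16, 0),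
  (⟨2, 0, 0, 2, 2, -2, 0, 0⟩, 16, 0), (⟨2, 0, 2, -2, 0, -2, 0, 0⟩, 16, 0),
  (⟨2, 0, 2, -2, 0, 0, 0, -2⟩, 16, 0), (⟨2, 0, 2, -2, 0, 0, 0, 2⟩, 16, 0),
  (⟨2, 0, 2, -2, 0, 2, 0, 0⟩, 16, 0), (⟨2, 0, 2, 0, -2, 0, -2, 0⟩, 16, 0),
  (⟨2, 0, 2, 0, -2, 0, 2, 0⟩, 16, 0), (⟨2, 0, 2, 0, 0, 0, 0, 0⟩, 8, 0),
  (⟨2, 0, 2, 0, 2, 0, -2, 0⟩, 16, 0), (⟨2, 0, 2, 0, 2, 0, 2, 0⟩, 16, 0),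
  (⟨2, 1, -2, 1, -2, 1, 0, -1⟩, 16, 0), (⟨2, 1, -2, 1, 0, -1, -2, 1⟩, 16, 0),
  (⟨2, 1, -2, 1, 0, 1, 2, -1⟩, 16, 0), (⟨2, 1, -2, 1, 2, -1, 0, 1⟩, 16, 0),
  (⟨2, 1, 0, -1, -2, 1, -2, 1⟩, 16, 0), (⟨2, 1, 0, -1, 2, -1, 2, -1⟩, 16, 0),
  (⟨2, 1, 0, 1, -2, 1, 2, -1⟩, 16, 0), (⟨2, 1, 0, 1, 2, -1, -2, 1⟩, 16, 0),
  (⟨2, 1, 2, -1, -2, 1, 0, 1⟩, 16, 0), (⟨2, 1, 2, -1, 0, -1, 2, -1⟩, 16, 0),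
  (⟨2, 1, 2, -1, 0, 1, -2, 1⟩, 16, 0), (⟨2, 1, 2, -1, 2, -1, 0, -1⟩, 16, 0),
  (⟨3, -1, -1, -1, -1, -1, 1, -1⟩, 16, 0), (⟨3, -1, -1, -1, -1, 1, 1, 1⟩, 16, 0),
  (⟨3, -1, -1, -1, 1, -1, -1, -1⟩, 16, 0), (⟨3, -1, -1, -1, 1, 1, -1, 1⟩, 16, 0),
  (⟨3, -1, -1, 1, -1, -1, 1, 1⟩, 16, 0), (⟨3, -1, -1, 1, 1, 1, -1, -1⟩, 16, 0),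
  (⟨3, -1, 1, -1, -1, -1, -1, -1⟩, 16, 0), (⟨3, -1, 1, -1, 1, 1, 1, 1⟩, 16, 0),
  (⟨3, -1, 1, 1, -1, -1, -1, 1⟩, 16, 0), (⟨3, -1, 1, 1, -1, 1, -1, -1⟩, 16, 0),
  (⟨3, -1, 1, 1, 1, -1, 1, 1⟩, 16, 0), (⟨3, -1, 1, 1, 1, 1, 1, -1⟩, 16, 0),
  (⟨3, 0, -1, 0, -1, 0, -1, 2⟩, 16, 0), (⟨3, 0, -1, 0, -1, 2, -1, 0⟩, 16, 0),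
  (⟨3, 0, -1, 0, 1, -2, 1, 0⟩, 16, 0), (⟨3, 0, -1, 0, 1, 0, 1, -2⟩, 16, 0),
  (⟨3, 0, -1, 2, -1, 0, -1, 0⟩, 16, 0), (⟨3, 0, -1, 2, 1, 0, 1, 0⟩, 16, 0),
  (⟨3, 0, 1, -2, -1, 0, 1, 0⟩, 16, 0), (⟨3, 0, 1, -2, 1, 0, -1, 0⟩, 16, 0),
  (⟨3, 0, 1, 0, -1, 0, 1, -2⟩, 16, 0), (⟨3, 0, 1, 0, -1, 2, 1, 0⟩, 16, 0),
  (⟨3, 0, 1, 0, 1, -2, -1, 0⟩, 16, 0), (⟨3, 0, 1, 0, 1, 0, -1, 2⟩, 16, 0),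
  (⟨4, 0, 0, 0, 0, 0, 0, 0⟩, 16, 0)]

end Cfsg.Agent.Helper29.J2
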