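import Mathlib
import Cfsg.Agent.Lib.Helper29.J2Data2

/-!
# The finite checks for the enumeration of the minimal vectors
-/

set_option autoImplicit false

namespace Cfsg.Agent.Helper29.J2

def V3.A4 (v : V3) : ℤ := v.x.A4 + v.y.A4 + v.z.A4
def V3.B4 (v : V3) : ℤ := v.x.B4 + v.y.B4 + v.z.B4

/-- the norm is `4` -/
def V3.N16 (v : V3) : Prop := v.A4 = 16 ∧ v.B4 = 0

/-- the product of a vector by an icosian on the left -/
def V3.lmul (u : Ic) (v : V3) : V3 := ⟨Ic.mul u v.x, Ic.mul u v.y, Ic.mul u v.z⟩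

def V3.beq (a b : V3) : Bool := Ic.beq a.x b.x && Ic.beq a.y b.y && Ic.beq a.z b.z

theorem V3.beq_iff (a b : V3) : V3.beq a b = true ↔ a = b := by
  unfold V3.beq
  simp only [Bool.and_eq_true, Ic.beq_iff]
  constructor
  · rintro ⟨⟨h0, h1⟩, h2⟩
    cases a; cases b; simp_all
  · rintro rfl
    simp

def V3.elem (v : V3) (L : List V3) : Bool := L.any (V3.beq v)

theorem V3.elem_iff (v : V3) (L : List V3) : V3.elem v L = true ↔ v ∈ L := by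
  unfold V3.elem
  rw [List.any_eq_true]
  constructor
  · rintro ⟨x, hx, h⟩
    rw [V3.beq_iff] at h
    rw [h]; exact hx
  · intro h
    exact ⟨v, h, (V3.beq_iff v v).2 rfl⟩

def V3.isLatB (v : V3) : Bool :=
  v.x.isIcoB && v.y.isIcoB && v.z.isIcoB && (Ic.sub v.x v.y).inIhL && (Ic.sub v.y v.z).inIhL &&
    (Ic.add (Ic.add v.x v.y) v.z).inIhbL

theorem V3.isLatB_iff (v : V3) : v.isLatB = true ↔ v.IsLat := by
  unfold V3.isLatB V3.IsLat
  simp only [Bool.and_eq_true, Ic.isIcoB_iff, and_assoc]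
  constructor
  · rintro ⟨hx, hy, hz, h1, h2, h3⟩
    exact ⟨hx, hy, hz, (Ic.inIhL_iff (Ic.isIco_sub hx hy)).1 h1,
      (Ic.inIhL_iff (Ic.isIco_sub hy hz)).1 h2,
      (Ic.inIhbL_iff (Ic.isIco_add (Ic.isIco_add hx hy) hz)).1 h3⟩
  · rintro ⟨hx, hy, hz, h1, h2, h3⟩
    exact ⟨hx, hy, hz, (Ic.inIhL_iff (Ic.isIco_sub hx hy)).2 h1,
      (Ic.inIhL_iff (Ic.isIco_sub hy hz)).2 h2,
      (Ic.inIhbL_iff (Ic.isIco_add (Ic.isIco_add hx hy) hz)).2 h3⟩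

/-! ### The attached norms -/

theorem YSn_ok : ∀ t ∈ YSn, t.2.1 = t.1.A4 ∧ t.2.2 = t.1.B4 := by decide +kernel
theorem ZLn_ok : ∀ t ∈ ZLn, t.2.1 = t.1.A4 ∧ t.2.2 = t.1.B4 := by decide +kernel

/-- the norms `1`, `2`, `1 + τ`, `2 - τ` -/
def smallL : List (ℤ × ℤ) := [(4, 0), (8, 0), (4, 4), (8, -4)]

theorem YL_small : YL.all (fun c => forceInt c.A4 fun a => forceInt c.B4 fun b =>
    !(smallL.any fun p => ieq a p.1 && ieq b p.2) ||
      YSn.any fun t => Ic.beq c t.1 && ieq a t.2.1 && ieq b t.2.2) = true := by decide +kernel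

theorem ZL_norm : ZL.all (fun c => forceInt c.A4 fun a => forceInt c.B4 fun b =>
    ZLn.any fun t => Ic.beq c t.1 && ieq a t.2.1 && ieq b t.2.2) = true := by decide +kernel

/-! ### The checks -/

def chkA0 : Bool := YSn.all fun y => YSn.all fun z =>
  !(ieq (y.2.1 + z.2.1) 12 && ieq (y.2.2 + z.2.2) 0) || !V3.isLatB ⟨ONE, y.1, z.1⟩ ||
    V3.elem ⟨ONE, y.1, z.1⟩ repL

def chkA1 : Bool := YSn.all fun x => YSn.all fun z =>
  !(ieq (x.2.1 + z.2.1) 12 && ieq (x.2.2 + z.2.2) 0 && !(ieq x.2.1 4 && ieq x.2.2 0)) ||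
    !V3.isLatB ⟨x.1, ONE, z.1⟩ || V3.elem ⟨x.1, ONE, z.1⟩ repL

def chkA2 : Bool := YSn.all fun x => YSn.all fun y =>
  !(ieq (x.2.1 + y.2.1) 12 && ieq (x.2.2 + y.2.2) 0 && !(ieq x.2.1 4 && ieq x.2.2 0) &&
      !(ieq y.2.1 4 && ieq y.2.2 0)) ||
    !V3.isLatB ⟨x.1, y.1, ONE⟩ || V3.elem ⟨x.1, y.1, ONE⟩ repL

/-- the two possible normalized pivots, with their norms -/
def pivL : List (Ic × ℤ × ℤ) := [(H, 8, 0), (TWO, 16, 0)]

def chkB : Bool := pivL.all fun p => ZLn.all fun z =>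
  !(ieq (p.2.1 + z.2.1) 16 && ieq (p.2.2 + z.2.2) 0) ||
    ((!V3.isLatB ⟨p.1, Ic.zero, z.1⟩ || V3.elem ⟨p.1, Ic.zero, z.1⟩ repL) &&
     (!V3.isLatB ⟨p.1, z.1, Ic.zero⟩ || V3.elem ⟨p.1, z.1, Ic.zero⟩ repL) &&
     (!V3.isLatB ⟨Ic.zero, p.1, z.1⟩ || V3.elem ⟨Ic.zero, p.1, z.1⟩ repL))

def chkB2 : Bool := pivL.all fun p =>
  !(ieq p.2.1 16) || !V3.isLatB ⟨Ic.zero, Ic.zero, p.1⟩ || V3.elem ⟨Ic.zero, Ic.zero, p.1⟩ repL

theorem chkA0_ok : chkA0 = true := by decide +kernel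
theorem chkA1_ok : chkA1 = true := by decide +kernel
theorem chkA2_ok : chkA2 = true := by decide +kernel
theorem chkB_ok : chkB = true := by decide +kernel
theorem chkB2_ok : chkB2 = true := by decide +kernel

end Cfsg.Agent.Helper29.J2
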