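import Mathlib
import Cfsg.Agent.Lib.Helper29.J2Enum

/-!
# The minimal vectors of the icosian Leech lattice: the enumeration
-/

set_option autoImplicit false

namespace Cfsg.Agent.Helper29.J2

open Quaternion Cfsg.Spor

/-! ### Total positivity -/

theorem sig_sq : sig * sig = sig + 1 := by
  rw [sig_eq]
  linear_combination tau_sq

theorem tau_add_sig : tau + sig = 1 := by rw [sig_eq]; ring

theorem tau_mul_sig : tau * sig = -1 := by
  rw [sig_eq]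
  linear_combination (-1 : ℝ) * tau_sq

theorem normX_nonneg (c : Ic) : 0 ≤ (c.A4 : ℝ) + c.B4 * tau := by
  have h1 := normSq_toH c
  have h2 : 0 ≤ normSq (toH c) := normSq_nonneg
  linarith

theorem normY_nonneg (c : Ic) : 0 ≤ (c.A4 : ℝ) + c.B4 * sig := by
  have h : (c.A4 : ℝ) + c.B4 * sig = ((c.c0 : ℝ) + c.c1 * sig) ^ 2 + ((c.c2 : ℝ) + c.c3 * sig) ^ 2 +
      ((c.c4 : ℝ) + c.c5 * sig) ^ 2 + ((c.c6 : ℝ) + c.c7 * sig) ^ 2 := by
    simp only [Ic.A4, Ic.B4]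
    push_cast
    linear_combination (-1 : ℝ) * ((c.c1 : ℝ) * c.c1 + c.c3 * c.c3 + c.c5 * c.c5 + c.c7 * c.c7)
      * sig_sq
  rw [h]
  positivity

theorem Ic.E8_eq (c : Ic) : c.E8 = 2 * c.A4 + c.B4 := by
  unfold Ic.E8 ff Ic.A4 Ic.B4
  ring

/-- from the positivity of two conjugate real numbers and of their complements to `16` -/
theorem tp_aux (a b a' b' : ℤ) (ha : a + a' = 16) (hb : b + b' = 0)
    (hX : 0 ≤ (a : ℝ) + b * tau) (hY : 0 ≤ (a : ℝ) + b * sig)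
    (hX' : 0 ≤ (a' : ℝ) + b' * tau) (hY' : 0 ≤ (a' : ℝ) + b' * sig) : TP a b := by
  have ea : (a' : ℝ) = 16 - a := by
    have : ((a + a' : ℤ) : ℝ) = 16 := by rw [ha]; norm_num
    push_cast at this; linarith
  have eb : (b' : ℝ) = -b := by
    have : ((b + b' : ℤ) : ℝ) = 0 := by rw [hb]; norm_num
    push_cast at this; linarith
  rw [ea, eb] at hX' hY'
  have e1 : ((a : ℝ) + b * tau) * (a + b * sig) = a * a + a * b - b * b := by
    linear_combination ((a : ℝ) * b) * tau_add_sig + ((b : ℝ) * b) * tau_mul_sig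
  have e2 : ((16 - a : ℝ) + -b * tau) * (16 - a + -b * sig) =
      (16 - a) * (16 - a) - (16 - a) * b - b * b := by
    linear_combination (-(16 - a : ℝ) * b) * tau_add_sig + ((b : ℝ) * b) * tau_mul_sig
  have p1 := mul_nonneg hX hY
  have p2 := mul_nonneg hX' hY'
  rw [e1] at p1
  rw [e2] at p2
  refine ⟨?_, ?_, ?_, ?_⟩
  · have : (0 : ℝ) ≤ ((2 * a + b : ℤ) : ℝ) := by
      push_cast; linarith [tau_add_sig, mul_comm (b : ℝ) tau, mul_comm (b : ℝ) sig,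
        show (b : ℝ) * tau + b * sig = b by rw [← mul_add, tau_add_sig, mul_one]]
    exact_mod_cast this
  · have : (0 : ℝ) ≤ ((a * a + a * b - b * b : ℤ) : ℝ) := by push_cast; exact p1
    exact_mod_cast this
  · have : (0 : ℝ) ≤ ((2 * (16 - a) - b : ℤ) : ℝ) := by
      push_cast; linarith [show (-b : ℝ) * tau + -b * sig = -b by
        rw [← mul_add, tau_add_sig, mul_one]]
    exact_mod_cast this
  · have : (0 : ℝ) ≤ (((16 - a) * (16 - a) - (16 - a) * b - b * b : ℤ) : ℝ) := by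
      push_cast; exact p2
    exact_mod_cast this

theorem tp_blocks (v : V3) (hn : v.N16) :
    TP v.x.A4 v.x.B4 ∧ TP v.y.A4 v.y.B4 ∧ TP v.z.A4 v.z.B4 := by
  obtain ⟨h1, h2⟩ := hn
  unfold V3.A4 at h1
  unfold V3.B4 at h2
  have x1 := normX_nonneg v.x
  have x2 := normY_nonneg v.x
  have y1 := normX_nonneg v.y
  have y2 := normY_nonneg v.y
  have z1 := normX_nonneg v.z
  have z2 := normY_nonneg v.z
  refine ⟨?_, ?_, ?_⟩
  · refine tp_aux _ _ (v.y.A4 + v.z.A4) (v.y.B4 + v.z.B4) (by omega) (by omega) x1 x2 ?_ ?_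
    · push_cast; linarith
    · push_cast; linarith
  · refine tp_aux _ _ (v.x.A4 + v.z.A4) (v.x.B4 + v.z.B4) (by omega) (by omega) y1 y2 ?_ ?_
    · push_cast; linarith
    · push_cast; linarith
  · refine tp_aux _ _ (v.x.A4 + v.y.A4) (v.x.B4 + v.y.B4) (by omega) (by omega) z1 z2 ?_ ?_
    · push_cast; linarith
    · push_cast; linarith

theorem shortP_of_tp (c : Ic) (hc : c.IsIco) (ht : TP c.A4 c.B4) :
    (c.A4, c.B4) ∈ normsL ∧ (c.A4 = 4 ∧ c.B4 = 0 → c ∈ unitsL) ∧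
    (Ic.InIh (Ic.sub ONE c) → c ∈ YL) ∧ (Ic.InIh c → c ∈ ZL) ∧ (c.A4 = 0 → c = Ic.zero) := by
  have hb : c.E8 ≤ 32 := by
    rw [Ic.E8_eq]
    obtain ⟨_, _, h3, _⟩ := ht
    omega
  exact shortP_of_bound c hb hc ht

/-! ### The lattice is a left module over the icosians -/

theorem leftIdeal_add {q x y : ℍ[ℝ]} (hx : x ∈ leftIdeal q) (hy : y ∈ leftIdeal q) :
    x + y ∈ leftIdeal q := by
  obtain ⟨a, ha, rfl⟩ := hx
  obtain ⟨b, hb, rfl⟩ := hy
  exact ⟨a + b, Subring.add_mem _ ha hb, by rw [add_mul]⟩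

theorem leftIdeal_neg {q x : ℍ[ℝ]} (hx : x ∈ leftIdeal q) : -x ∈ leftIdeal q := by
  obtain ⟨a, ha, rfl⟩ := hx
  exact ⟨-a, Subring.neg_mem _ ha, by rw [neg_mul]⟩

theorem leftIdeal_sub {q x y : ℍ[ℝ]} (hx : x ∈ leftIdeal q) (hy : y ∈ leftIdeal q) :
    x - y ∈ leftIdeal q := by
  rw [sub_eq_add_neg]
  exact leftIdeal_add hx (leftIdeal_neg hy)

theorem leftIdeal_mul {q x a : ℍ[ℝ]} (ha : a ∈ icosians) (hx : x ∈ leftIdeal q) :
    a * x ∈ leftIdeal q := by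
  obtain ⟨b, hb, rfl⟩ := hx
  exact ⟨a * b, Subring.mul_mem _ ha hb, by rw [mul_assoc]⟩

theorem smul_mem_icoLeech {a : ℍ[ℝ]} (ha : a ∈ icosians) {v : Fin 3 → ℍ[ℝ]} (hv : v ∈ icoLeech) :
    (fun t => a * v t) ∈ icoLeech := by
  obtain ⟨h0, h1, h2, h3⟩ := hv
  refine ⟨fun t => Subring.mul_mem _ ha (h0 t), ?_, ?_, ?_⟩
  · show a * v 0 - a * v 1 ∈ _
    rw [← mul_sub]; exact leftIdeal_mul ha h1
  · show a * v 1 - a * v 2 ∈ _
    rw [← mul_sub]; exact leftIdeal_mul ha h2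
  · show a * v 0 + a * v 1 + a * v 2 ∈ _
    rw [← mul_add, ← mul_add]; exact leftIdeal_mul ha h3

theorem toV_lmul {u : Ic} {v : V3} (hu : u.IsIco) (hv : v.IsLat) :
    toV (V3.lmul u v) = fun t => toH u * toV v t := by
  funext t
  fin_cases t
  · exact toH_mul' hu hv.1
  · exact toH_mul' hu hv.2.1
  · exact toH_mul' hu hv.2.2.1

theorem isLat_lmul {u : Ic} {v : V3} (hu : u.IsIco) (hv : v.IsLat) : (V3.lmul u v).IsLat := by
  have h := smul_mem_icoLeech (toH_mem hu) (toV_mem hv)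
  rw [← toV_lmul hu hv] at h
  obtain ⟨w, hw, e⟩ := exists_of_mem h
  rw [toV_injective e]
  exact hw

theorem Ic.inIh_add {a b : Ic} (ha : a.IsIco) (hb : b.IsIco) (h1 : a.InIh) (h2 : b.InIh) :
    (Ic.add a b).InIh := by
  rw [← mem_leftIdeal_H (Ic.isIco_add ha hb), toH_add]
  exact leftIdeal_add ((mem_leftIdeal_H ha).2 h1) ((mem_leftIdeal_H hb).2 h2)

theorem Ic.inIh_neg {a : Ic} (ha : a.IsIco) (h1 : a.InIh) : (Ic.neg a).InIh := by
  rw [← mem_leftIdeal_H (Ic.isIco_neg ha), toH_neg]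
  exact leftIdeal_neg ((mem_leftIdeal_H ha).2 h1)

/-! ### Units -/

/-- an icosian of norm one -/
def Ic.IsUnit1 (u : Ic) : Prop := u.IsIco ∧ u.A4 = 4 ∧ u.B4 = 0

theorem Ic.IsUnit1.normSq {u : Ic} (hu : u.IsUnit1) : normSq (toH u) = 1 := by
  rw [normSq_toH, hu.2.1, hu.2.2]
  norm_num

theorem Ic.IsUnit1.star_mul {u : Ic} (hu : u.IsUnit1) : star (toH u) * toH u = 1 := by
  rw [star_mul_self, hu.normSq]
  norm_cast

theorem Ic.IsUnit1.mul_star {u : Ic} (hu : u.IsUnit1) : toH u * star (toH u) = 1 := by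
  rw [self_mul_star, hu.normSq]
  norm_cast

theorem Ic.IsUnit1.conj {u : Ic} (hu : u.IsUnit1) : (Ic.conj u).IsUnit1 := by
  refine ⟨Ic.isIco_conj hu.1, ?_, ?_⟩
  · rw [← hu.2.1]; simp only [Ic.A4, Ic.conj]; ring
  · rw [← hu.2.2]; simp only [Ic.B4, Ic.conj]; ring

theorem Ic.conj_mul_cancel {u c : Ic} (hu : u.IsUnit1) (hc : c.IsIco) :
    Ic.mul (Ic.conj u) (Ic.mul u c) = c := by
  apply toH_injective
  rw [toH_mul' (Ic.isIco_conj hu.1) (Ic.isIco_mul hu.1 hc), toH_mul' hu.1 hc, toH_conj,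
    ← mul_assoc, hu.star_mul, one_mul]

theorem Ic.mul_conj_cancel {u c : Ic} (hu : u.IsUnit1) (hc : c.IsIco) :
    Ic.mul u (Ic.mul (Ic.conj u) c) = c := by
  apply toH_injective
  rw [toH_mul' hu.1 (Ic.isIco_mul (Ic.isIco_conj hu.1) hc), toH_mul' (Ic.isIco_conj hu.1) hc,
    toH_conj, ← mul_assoc, hu.mul_star, one_mul]

theorem Ic.norm_mul_unit {u c : Ic} (hu : u.IsUnit1) (hc : c.IsIco) :
    (Ic.mul u c).A4 = c.A4 ∧ (Ic.mul u c).B4 = c.B4 := by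
  have h1 := normSq_toH (Ic.mul u c)
  rw [toH_mul' hu.1 hc, map_mul, hu.normSq, one_mul, normSq_toH] at h1
  exact tau_indep' _ _ _ _ (by linarith)

theorem V3.lmul_conj_cancel {u : Ic} {v : V3} (hu : u.IsUnit1) (hv : v.IsLat) :
    V3.lmul u (V3.lmul (Ic.conj u) v) = v := by
  unfold V3.lmul
  simp only [Ic.mul_conj_cancel hu hv.1, Ic.mul_conj_cancel hu hv.2.1,
    Ic.mul_conj_cancel hu hv.2.2.1]

theorem V3.n16_lmul {u : Ic} {v : V3} (hu : u.IsUnit1) (hv : v.IsLat) (hn : v.N16) :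
    (V3.lmul u v).N16 := by
  unfold V3.N16 V3.A4 V3.B4 V3.lmul at *
  simp only [(Ic.norm_mul_unit hu hv.1).1, (Ic.norm_mul_unit hu hv.1).2,
    (Ic.norm_mul_unit hu hv.2.1).1, (Ic.norm_mul_unit hu hv.2.1).2,
    (Ic.norm_mul_unit hu hv.2.2.1).1, (Ic.norm_mul_unit hu hv.2.2.1).2]
  exact hn

theorem Ic.mul_zero' (u : Ic) : Ic.mul u Ic.zero = Ic.zero := by
  ext <;> simp [Ic.mul, Ic.prod2, Ic.half, Ic.zero]

theorem unitsL_unit : ∀ u ∈ unitsL, u.IsIco ∧ u.A4 = 4 ∧ u.B4 = 0 := by decide +kernel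


/-! ### The cases -/

theorem norm_cases : ∀ p ∈ normsL, ∀ q ∈ normsL, ∀ r ∈ normsL, p.1 + q.1 + r.1 = 16 →
    p.2 + q.2 + r.2 = 0 → (p = (4, 0) ∨ q = (4, 0) ∨ r = (4, 0)) ∨
      (p = (0, 0) ∨ q = (0, 0) ∨ r = (0, 0)) := by decide +kernel

theorem small_of_sum' : ∀ p ∈ normsL, ∀ q ∈ normsL, p.1 + q.1 = 12 → p.2 + q.2 = 0 →
    p.1 ≠ 0 → q.1 ≠ 0 → (p = (4, 0) ∨ p = (8, 0) ∨ p = (4, 4) ∨ p = (8, -4)) ∧
      (q = (4, 0) ∨ q = (8, 0) ∨ q = (4, 4) ∨ q = (8, -4)) := by decide +kernel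

theorem small_of_sum (p : ℤ × ℤ) (hp : p ∈ normsL) (q : ℤ × ℤ) (hq : q ∈ normsL)
    (h1 : p.1 + q.1 = 12) (h2 : p.2 + q.2 = 0) (h3 : p.1 ≠ 0) (h4 : q.1 ≠ 0) :
    p ∈ smallL ∧ q ∈ smallL := by
  have := small_of_sum' p hp q hq h1 h2 h3 h4
  unfold smallL
  simp only [List.mem_cons, List.not_mem_nil, or_false]
  exact this

theorem zero_not_YL : Ic.elem Ic.zero YL = false := by decide +kernel

theorem A4_ONE : ONE.A4 = 4 ∧ ONE.B4 = 0 := by decide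

/-- membership in the short list with norms attached -/
theorem mem_YSn {c : Ic} (hc : c ∈ YL) (hs : (c.A4, c.B4) ∈ smallL) : (c, c.A4, c.B4) ∈ YSn := by
  have h := YL_small
  rw [List.all_eq_true] at h
  have h1 := h c hc
  simp only [forceInt_eq] at h1
  have h2 : (smallL.any fun p => ieq c.A4 p.1 && ieq c.B4 p.2) = true := by
    rw [List.any_eq_true]
    exact ⟨_, hs, by simp [ieq_iff]⟩
  have h3 := or_not_elim h1 h2
  rw [List.any_eq_true] at h3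
  obtain ⟨t, ht, e⟩ := h3
  simp only [Bool.and_eq_true, Ic.beq_iff, ieq_iff] at e
  obtain ⟨⟨e1, e2⟩, e3⟩ := e
  have : t = (c, c.A4, c.B4) := by
    rcases t with ⟨t1, t2, t3⟩
    simp only at e1 e2 e3
    subst e1 e2 e3
    rfl
  rw [← this]; exact ht

theorem mem_ZLn {c : Ic} (hc : c ∈ ZL) : (c, c.A4, c.B4) ∈ ZLn := by
  have h := ZL_norm
  rw [List.all_eq_true] at h
  have h1 := h c hc
  simp only [forceInt_eq] at h1
  rw [List.any_eq_true] at h1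
  obtain ⟨t, ht, e⟩ := h1
  simp only [Bool.and_eq_true, Ic.beq_iff, ieq_iff] at e
  obtain ⟨⟨e1, e2⟩, e3⟩ := e
  have : t = (c, c.A4, c.B4) := by
    rcases t with ⟨t1, t2, t3⟩
    simp only at e1 e2 e3
    subst e1 e2 e3
    rfl
  rw [← this]; exact ht

/-- the information on the coordinates of a minimal vector -/
theorem block_info (v : V3) (hl : v.IsLat) (hn : v.N16) :
    ((v.x.A4, v.x.B4) ∈ normsL ∧ (v.x.A4 = 4 ∧ v.x.B4 = 0 → v.x ∈ unitsL) ∧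
      (Ic.InIh (Ic.sub ONE v.x) → v.x ∈ YL) ∧ (Ic.InIh v.x → v.x ∈ ZL) ∧
      (v.x.A4 = 0 → v.x = Ic.zero)) ∧
    ((v.y.A4, v.y.B4) ∈ normsL ∧ (v.y.A4 = 4 ∧ v.y.B4 = 0 → v.y ∈ unitsL) ∧
      (Ic.InIh (Ic.sub ONE v.y) → v.y ∈ YL) ∧ (Ic.InIh v.y → v.y ∈ ZL) ∧
      (v.y.A4 = 0 → v.y = Ic.zero)) ∧
    ((v.z.A4, v.z.B4) ∈ normsL ∧ (v.z.A4 = 4 ∧ v.z.B4 = 0 → v.z ∈ unitsL) ∧
      (Ic.InIh (Ic.sub ONE v.z) → v.z ∈ YL) ∧ (Ic.InIh v.z → v.z ∈ ZL) ∧
      (v.z.A4 = 0 → v.z = Ic.zero)) := by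
  obtain ⟨tx, ty, tz⟩ := tp_blocks v hn
  exact ⟨shortP_of_tp _ hl.1 tx, shortP_of_tp _ hl.2.1 ty, shortP_of_tp _ hl.2.2.1 tz⟩

theorem sub_sub_add (a b c : Ic) : Ic.add (Ic.sub a b) (Ic.sub b c) = Ic.sub a c := by
  ext <;> simp [Ic.add, Ic.sub]

theorem neg_sub' (a b : Ic) : Ic.neg (Ic.sub a b) = Ic.sub b a := by
  ext <;> simp [Ic.neg, Ic.sub]

/-- a coordinate congruent to `1` of a minimal vector with a coordinate `1` is in the list -/
theorem ys_pair (a b : Ic)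
    (ha : (a.A4, a.B4) ∈ normsL) (hb : (b.A4, b.B4) ∈ normsL)
    (haY : a ∈ YL) (hbY : b ∈ YL) (hs1 : a.A4 + b.A4 = 12) (hs2 : a.B4 + b.B4 = 0)
    (ha0 : a.A4 = 0 → a = Ic.zero) (hb0 : b.A4 = 0 → b = Ic.zero) :
    (a, a.A4, a.B4) ∈ YSn ∧ (b, b.A4, b.B4) ∈ YSn := by
  have na : a.A4 ≠ 0 := by
    intro h
    have := ha0 h
    rw [this] at haY
    exact absurd ((Ic.elem_iff _ _).2 haY) (by rw [zero_not_YL]; exact Bool.false_ne_true)
  have nb : b.A4 ≠ 0 := by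
    intro h
    have := hb0 h
    rw [this] at hbY
    exact absurd ((Ic.elem_iff _ _).2 hbY) (by rw [zero_not_YL]; exact Bool.false_ne_true)
  have := small_of_sum _ ha _ hb hs1 hs2 na nb
  exact ⟨mem_YSn haY this.1, mem_YSn hbY this.2⟩


theorem or3_elim {a b c : Bool} (h : (!a || !b || c) = true) (ha : a = true) (hb : b = true) :
    c = true := by
  cases a <;> cases b <;> simp_all

theorem sum_of_n16 {v : V3} (hn : v.N16) :
    v.x.A4 + v.y.A4 + v.z.A4 = 16 ∧ v.x.B4 + v.y.B4 + v.z.B4 = 0 := hn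

theorem caseA0 (v : V3) (hl : v.IsLat) (hn : v.N16) (hx : v.x = ONE) : v ∈ repL := by
  obtain ⟨_, by', bz⟩ := block_info v hl hn
  obtain ⟨ix, iy, iz, l1, l2, _⟩ := id hl
  have hyY : v.y ∈ YL := by'.2.2.1 (by rw [← hx]; exact l1)
  have hzY : v.z ∈ YL := bz.2.2.1 (by
    have := Ic.inIh_add (Ic.isIco_sub ix iy) (Ic.isIco_sub iy iz) l1 l2
    rw [sub_sub_add, hx] at this; exact this)
  obtain ⟨h1, h2⟩ := sum_of_n16 hn
  rw [hx, A4_ONE.1] at h1
  rw [hx, A4_ONE.2] at h2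
  obtain ⟨my, mz⟩ := ys_pair v.y v.z by'.1 bz.1 hyY hzY (by omega) (by omega) by'.2.2.2.2
    bz.2.2.2.2
  have hc := chkA0_ok
  unfold chkA0 at hc
  rw [List.all_eq_true] at hc
  have g1 := hc _ my
  rw [List.all_eq_true] at g1
  have g2 := g1 _ mz
  have hv : v = ⟨ONE, v.y, v.z⟩ := by cases v; simp only at hx; rw [hx]
  have g3 := or3_elim g2 (by simp only [Bool.and_eq_true, ieq_iff]; omega)
    ((V3.isLatB_iff _).2 (hv ▸ hl))
  rw [hv]
  exact (V3.elem_iff _ _).1 g3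

theorem caseA1 (v : V3) (hl : v.IsLat) (hn : v.N16) (hx : ¬(v.x.A4 = 4 ∧ v.x.B4 = 0))
    (hy : v.y = ONE) : v ∈ repL := by
  obtain ⟨bx, _, bz⟩ := block_info v hl hn
  obtain ⟨ix, iy, iz, l1, l2, _⟩ := id hl
  have hxY : v.x ∈ YL := bx.2.2.1 (by
    have := Ic.inIh_neg (Ic.isIco_sub ix iy) l1
    rw [neg_sub', hy] at this; exact this)
  have hzY : v.z ∈ YL := bz.2.2.1 (by rw [← hy]; exact l2)
  obtain ⟨h1, h2⟩ := sum_of_n16 hn
  rw [hy, A4_ONE.1] at h1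
  rw [hy, A4_ONE.2] at h2
  obtain ⟨mx, mz⟩ := ys_pair v.x v.z bx.1 bz.1 hxY hzY (by omega) (by omega) bx.2.2.2.2
    bz.2.2.2.2
  have hc := chkA1_ok
  unfold chkA1 at hc
  rw [List.all_eq_true] at hc
  have g1 := hc _ mx
  rw [List.all_eq_true] at g1
  have g2 := g1 _ mz
  have hv : v = ⟨v.x, ONE, v.z⟩ := by cases v; simp only at hy; rw [hy]
  have g3 := or3_elim g2 (by
    simp only [Bool.and_eq_true, ieq_iff, Bool.not_eq_true', Bool.and_eq_false_iff]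
    refine ⟨⟨by omega, by omega⟩, ?_⟩
    by_cases h : v.x.A4 = 4
    · right
      rw [← Bool.not_eq_true, ieq_iff]
      exact fun h' => hx ⟨h, h'⟩
    · left
      rw [← Bool.not_eq_true, ieq_iff]
      exact h)
    ((V3.isLatB_iff _).2 (hv ▸ hl))
  rw [hv]
  exact (V3.elem_iff _ _).1 g3

theorem caseA2 (v : V3) (hl : v.IsLat) (hn : v.N16) (hx : ¬(v.x.A4 = 4 ∧ v.x.B4 = 0))
    (hy : ¬(v.y.A4 = 4 ∧ v.y.B4 = 0)) (hz : v.z = ONE) : v ∈ repL := by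
  obtain ⟨bx, by', _⟩ := block_info v hl hn
  obtain ⟨ix, iy, iz, l1, l2, _⟩ := id hl
  have hyY : v.y ∈ YL := by'.2.2.1 (by
    have := Ic.inIh_neg (Ic.isIco_sub iy iz) l2
    rw [neg_sub', hz] at this; exact this)
  have hxY : v.x ∈ YL := bx.2.2.1 (by
    have := Ic.inIh_neg (Ic.isIco_sub ix iz) (by
      have := Ic.inIh_add (Ic.isIco_sub ix iy) (Ic.isIco_sub iy iz) l1 l2
      rw [sub_sub_add] at this; exact this)
    rw [neg_sub', hz] at this; exact this)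
  obtain ⟨h1, h2⟩ := sum_of_n16 hn
  rw [hz, A4_ONE.1] at h1
  rw [hz, A4_ONE.2] at h2
  obtain ⟨mx, my⟩ := ys_pair v.x v.y bx.1 by'.1 hxY hyY (by omega) (by omega) bx.2.2.2.2
    by'.2.2.2.2
  have hc := chkA2_ok
  unfold chkA2 at hc
  rw [List.all_eq_true] at hc
  have g1 := hc _ mx
  rw [List.all_eq_true] at g1
  have g2 := g1 _ my
  have hv : v = ⟨v.x, v.y, ONE⟩ := by cases v; simp only at hz; rw [hz]
  have nu : ∀ c : Ic, ¬(c.A4 = 4 ∧ c.B4 = 0) → (!(ieq c.A4 4 && ieq c.B4 0)) = true := by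
    intro c hc
    rw [Bool.not_eq_true', Bool.and_eq_false_iff]
    by_cases h : c.A4 = 4
    · right
      rw [← Bool.not_eq_true, ieq_iff]
      exact fun h' => hc ⟨h, h'⟩
    · left
      rw [← Bool.not_eq_true, ieq_iff]
      exact h
  have g3 := or3_elim g2 (by
    simp only [Bool.and_eq_true, ieq_iff]
    exact ⟨⟨⟨by omega, by omega⟩, by simpa using nu _ hx⟩, by simpa using nu _ hy⟩)
    ((V3.isLatB_iff _).2 (hv ▸ hl))
  rw [hv]
  exact (V3.elem_iff _ _).1 g3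


/-! ### Vectors with a zero coordinate -/

theorem all_inIh (v : V3) (hl : v.IsLat) (h0 : v.x = Ic.zero ∨ v.y = Ic.zero ∨ v.z = Ic.zero) :
    v.x.InIh ∧ v.y.InIh ∧ v.z.InIh := by
  obtain ⟨ix, iy, iz, l1, l2, _⟩ := hl
  have r1 := (mem_leftIdeal_H (Ic.isIco_sub ix iy)).2 l1
  have r2 := (mem_leftIdeal_H (Ic.isIco_sub iy iz)).2 l2
  rw [toH_sub] at r1 r2
  rw [← mem_leftIdeal_H ix, ← mem_leftIdeal_H iy, ← mem_leftIdeal_H iz]
  rcases h0 with h | h | h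
  · rw [h, toH_zero] at r1 ⊢
    have hy : toH v.y ∈ leftIdeal icoH := by
      have := leftIdeal_neg r1
      rwa [zero_sub, neg_neg] at this
    refine ⟨⟨0, Subring.zero_mem _, by rw [zero_mul]⟩, hy, ?_⟩
    have := leftIdeal_sub hy r2
    rwa [sub_sub_cancel] at this
  · rw [h, toH_zero] at r1 r2 ⊢
    rw [sub_zero] at r1
    refine ⟨r1, ⟨0, Subring.zero_mem _, by rw [zero_mul]⟩, ?_⟩
    have := leftIdeal_neg r2
    rwa [zero_sub, neg_neg] at this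
  · rw [h, toH_zero] at r2 ⊢
    rw [sub_zero] at r2
    refine ⟨?_, r2, ⟨0, Subring.zero_mem _, by rw [zero_mul]⟩⟩
    have := leftIdeal_add r1 r2
    rwa [sub_add_cancel] at this

theorem pivL_ok : ∀ p ∈ pivL, p.2.1 = p.1.A4 ∧ p.2.2 = p.1.B4 := by decide +kernel

theorem A4_zero : Ic.zero.A4 = 0 ∧ Ic.zero.B4 = 0 := by decide

theorem chkB_spec (p : Ic × ℤ × ℤ) (hp : p ∈ pivL) (z : Ic) (hz : z ∈ ZL)
    (h1 : p.1.A4 + z.A4 = 16) (h2 : p.1.B4 + z.B4 = 0) :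
    ((⟨p.1, Ic.zero, z⟩ : V3).IsLat → (⟨p.1, Ic.zero, z⟩ : V3) ∈ repL) ∧
    ((⟨p.1, z, Ic.zero⟩ : V3).IsLat → (⟨p.1, z, Ic.zero⟩ : V3) ∈ repL) ∧
    ((⟨Ic.zero, p.1, z⟩ : V3).IsLat → (⟨Ic.zero, p.1, z⟩ : V3) ∈ repL) := by
  have hc := chkB_ok
  unfold chkB at hc
  rw [List.all_eq_true] at hc
  have g1 := hc _ hp
  rw [List.all_eq_true] at g1
  have g2 := g1 _ (mem_ZLn hz)
  obtain ⟨e1, e2⟩ := pivL_ok p hp
  have g3 := or_not_elim g2 (by
    simp only [Bool.and_eq_true, ieq_iff]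
    rw [e1, e2]; exact ⟨h1, h2⟩)
  simp only [Bool.and_eq_true] at g3
  obtain ⟨⟨a1, a2⟩, a3⟩ := g3
  refine ⟨fun h => ?_, fun h => ?_, fun h => ?_⟩
  · exact (V3.elem_iff _ _).1 (or_not_elim a1 ((V3.isLatB_iff _).2 h))
  · exact (V3.elem_iff _ _).1 (or_not_elim a2 ((V3.isLatB_iff _).2 h))
  · exact (V3.elem_iff _ _).1 (or_not_elim a3 ((V3.isLatB_iff _).2 h))

theorem chkB2_spec (p : Ic × ℤ × ℤ) (hp : p ∈ pivL) (h1 : p.1.A4 = 16)
    (hl : (⟨Ic.zero, Ic.zero, p.1⟩ : V3).IsLat) : (⟨Ic.zero, Ic.zero, p.1⟩ : V3) ∈ repL := by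
  have hc := chkB2_ok
  unfold chkB2 at hc
  rw [List.all_eq_true] at hc
  have g1 := hc _ hp
  obtain ⟨e1, _⟩ := pivL_ok p hp
  exact (V3.elem_iff _ _).1 (or3_elim g1 (by rw [ieq_iff, e1]; exact h1)
    ((V3.isLatB_iff _).2 hl))

/-- the unit normalizing a non-zero short element of `I h` -/
def pivChk : Bool := ZLn.all fun t =>
  Ic.beq t.1 Ic.zero ||
    (if ieq t.2.1 8 then
      Ic.force (Ic.half (Ic.mul t.1 HB)) fun u =>
        Ic.elem u unitsL && Ic.force (Ic.mul (Ic.conj u) t.1) fun w => Ic.beq w H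
    else
      !Ic.inIhbL t.1 || Ic.force (Ic.half t.1) fun u =>
        Ic.elem u unitsL && Ic.force (Ic.mul (Ic.conj u) t.1) fun w => Ic.beq w TWO)

theorem pivChk_ok : pivChk = true := by decide +kernel

theorem exists_piv (c : Ic) (hc : c ∈ ZL) (h0 : c ≠ Ic.zero) (hi : c.IsIco)
    (hb : c.A4 ≠ 8 → c.InIhb) : ∃ u ∈ unitsL, ∃ p ∈ pivL, Ic.mul (Ic.conj u) c = p.1 := by
  have h := pivChk_ok
  unfold pivChk at h
  rw [List.all_eq_true] at h
  have h1 := h _ (mem_ZLn hc)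
  rw [Bool.or_eq_true, Ic.beq_iff] at h1
  rcases h1 with h1 | h1
  · exact absurd h1 h0
  · split at h1
    · simp only [Ic.force_eq, Bool.and_eq_true, Ic.elem_iff, Ic.beq_iff] at h1
      exact ⟨_, h1.1, (H, 8, 0), by simp [pivL], h1.2⟩
    · rename_i hne
      rw [ieq_iff] at hne
      have h2 := or_not_elim h1 ((Ic.inIhbL_iff hi).2 (hb hne))
      simp only [Ic.force_eq, Bool.and_eq_true, Ic.elem_iff, Ic.beq_iff] at h2
      exact ⟨_, h2.1, (TWO, 16, 0), by simp [pivL], h2.2⟩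


theorem Ic.conj_mul_self {u : Ic} (hu : u.IsUnit1) : Ic.mul (Ic.conj u) u = ONE := by
  apply toH_injective
  rw [toH_mul' (Ic.isIco_conj hu.1) hu.1, toH_conj, hu.star_mul, toH_ONE]

theorem Ic.A4_nonneg (c : Ic) : 0 ≤ c.A4 := by
  unfold Ic.A4
  nlinarith [mul_self_nonneg c.c0, mul_self_nonneg c.c1, mul_self_nonneg c.c2,
    mul_self_nonneg c.c3, mul_self_nonneg c.c4, mul_self_nonneg c.c5, mul_self_nonneg c.c6,
    mul_self_nonneg c.c7]

theorem ZLn_norms : ∀ t ∈ ZLn, t.2.1 = 0 ∨ t.2.1 = 8 ∨ t.2.1 = 16 := by decide +kernel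

theorem ZL_norms {c : Ic} (hc : c ∈ ZL) : c.A4 = 0 ∨ c.A4 = 8 ∨ c.A4 = 16 :=
  ZLn_norms _ (mem_ZLn hc)

theorem add_zero_zero (c : Ic) : Ic.add (Ic.add c Ic.zero) Ic.zero = c := by
  ext <;> simp [Ic.add, Ic.zero]

theorem add_zero_mid (c : Ic) : Ic.add (Ic.add Ic.zero c) Ic.zero = c := by
  ext <;> simp [Ic.add, Ic.zero]

theorem add_zero_last (c : Ic) : Ic.add (Ic.add Ic.zero Ic.zero) c = c := by
  ext <;> simp [Ic.add, Ic.zero]

/-- the case of a zero coordinate -/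
theorem caseB (v : V3) (hl : v.IsLat) (hn : v.N16)
    (h0 : v.x = Ic.zero ∨ v.y = Ic.zero ∨ v.z = Ic.zero) :
    ∃ u ∈ unitsL, V3.lmul (Ic.conj u) v ∈ repL := by
  obtain ⟨bx, by', bz⟩ := block_info v hl hn
  obtain ⟨ihx, ihy, ihz⟩ := all_inIh v hl h0
  have zx := bx.2.2.2.1 ihx
  have zy := by'.2.2.2.1 ihy
  have zz := bz.2.2.2.1 ihz
  obtain ⟨s1, s2⟩ := sum_of_n16 hn
  have l3 := hl.2.2.2.2.2
  -- what is known of the image of `v`
  have img : ∀ u ∈ unitsL, (V3.lmul (Ic.conj u) v).IsLat ∧ (V3.lmul (Ic.conj u) v).N16 := by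
    intro u hu
    have hu1 : u.IsUnit1 := unitsL_unit u hu
    exact ⟨isLat_lmul (Ic.isIco_conj hu1.1) hl, V3.n16_lmul hu1.conj hl hn⟩
  by_cases ex : v.x = Ic.zero
  · by_cases ey : v.y = Ic.zero
    · -- the pivot is the last coordinate
      have ez : v.z ≠ Ic.zero := by
        intro h
        rw [ex, ey, h, A4_zero.1] at s1
        omega
      obtain ⟨u, hu, p, hp, e⟩ := exists_piv v.z zz ez hl.2.2.1 (fun _ => by
        rw [ex, ey, add_zero_last] at l3; exact l3)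
      refine ⟨u, hu, ?_⟩
      obtain ⟨hl', hn'⟩ := img u hu
      have hv' : V3.lmul (Ic.conj u) v = ⟨Ic.zero, Ic.zero, p.1⟩ := by
        unfold V3.lmul; rw [ex, ey, Ic.mul_zero', e]
      rw [hv'] at hl' hn' ⊢
      obtain ⟨n1, _⟩ := sum_of_n16 hn'
      dsimp only at n1
      simp only [A4_zero.1] at n1
      exact chkB2_spec p hp (by omega) hl'
    · -- the pivot is the middle coordinate
      obtain ⟨u, hu, p, hp, e⟩ := exists_piv v.y zy ey hl.2.1 (fun hne => by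
        have hy16 : v.y.A4 = 16 := by
          rcases ZL_norms zy with h | h | h
          · exact absurd (by'.2.2.2.2 h) ey
          · exact absurd h hne
          · exact h
        have hz0 : v.z = Ic.zero := bz.2.2.2.2 (by
          have := Ic.A4_nonneg v.z
          rw [ex, A4_zero.1] at s1; omega)
        rw [ex, hz0, add_zero_mid] at l3; exact l3)
      refine ⟨u, hu, ?_⟩
      obtain ⟨hl', hn'⟩ := img u hu
      have hv' : V3.lmul (Ic.conj u) v = ⟨Ic.zero, p.1, Ic.mul (Ic.conj u) v.z⟩ := by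
        unfold V3.lmul; rw [ex, Ic.mul_zero', e]
      rw [hv'] at hl' hn' ⊢
      obtain ⟨_, _, bz'⟩ := block_info _ hl' hn'
      obtain ⟨_, _, ihz'⟩ := all_inIh _ hl' (Or.inl rfl)
      obtain ⟨n1, n2⟩ := sum_of_n16 hn'
      dsimp only at n1 n2
      simp only [A4_zero.1, A4_zero.2] at n1 n2
      exact (chkB_spec p hp (Ic.mul (Ic.conj u) v.z) (bz'.2.2.2.1 ihz') (by omega) (by omega)).2.2 hl'
  · -- the pivot is the first coordinate
    obtain ⟨u, hu, p, hp, e⟩ := exists_piv v.x zx ex hl.1 (fun hne => by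
      have hx16 : v.x.A4 = 16 := by
        rcases ZL_norms zx with h | h | h
        · exact absurd (bx.2.2.2.2 h) ex
        · exact absurd h hne
        · exact h
      have hy := Ic.A4_nonneg v.y
      have hz := Ic.A4_nonneg v.z
      have hy0 : v.y = Ic.zero := by'.2.2.2.2 (by omega)
      have hz0 : v.z = Ic.zero := bz.2.2.2.2 (by omega)
      rw [hy0, hz0, add_zero_zero] at l3; exact l3)
    refine ⟨u, hu, ?_⟩
    obtain ⟨hl', hn'⟩ := img u hu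
    rcases h0 with h | h | h
    · exact absurd h ex
    · have hv' : V3.lmul (Ic.conj u) v = ⟨p.1, Ic.zero, Ic.mul (Ic.conj u) v.z⟩ := by
        unfold V3.lmul; rw [h, Ic.mul_zero', e]
      rw [hv'] at hl' hn' ⊢
      obtain ⟨_, _, bz'⟩ := block_info _ hl' hn'
      obtain ⟨_, _, ihz'⟩ := all_inIh _ hl' (Or.inr (Or.inl rfl))
      obtain ⟨n1, n2⟩ := sum_of_n16 hn'
      dsimp only at n1 n2
      simp only [A4_zero.1, A4_zero.2] at n1 n2
      exact (chkB_spec p hp (Ic.mul (Ic.conj u) v.z) (bz'.2.2.2.1 ihz') (by omega) (by omega)).1 hl'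
    · have hv' : V3.lmul (Ic.conj u) v = ⟨p.1, Ic.mul (Ic.conj u) v.y, Ic.zero⟩ := by
        unfold V3.lmul; rw [h, Ic.mul_zero', e]
      rw [hv'] at hl' hn' ⊢
      obtain ⟨_, by'', _⟩ := block_info _ hl' hn'
      obtain ⟨_, ihy', _⟩ := all_inIh _ hl' (Or.inr (Or.inr rfl))
      obtain ⟨n1, n2⟩ := sum_of_n16 hn'
      dsimp only at n1 n2
      simp only [A4_zero.1, A4_zero.2] at n1 n2
      exact (chkB_spec p hp (Ic.mul (Ic.conj u) v.y) (by''.2.2.2.1 ihy') (by omega) (by omega)).2.1 hl'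

/-- every minimal vector is a unit multiple of one of the 315 normalized vectors -/
theorem enum (v : V3) (hl : v.IsLat) (hn : v.N16) :
    ∃ u ∈ unitsL, ∃ r ∈ repL, v = V3.lmul u r := by
  obtain ⟨bx, by', bz⟩ := block_info v hl hn
  have key : ∀ u ∈ unitsL, V3.lmul (Ic.conj u) v ∈ repL →
      ∃ u ∈ unitsL, ∃ r ∈ repL, v = V3.lmul u r := by
    intro u hu hr
    have hu1 : u.IsUnit1 := unitsL_unit u hu
    exact ⟨u, hu, _, hr, (V3.lmul_conj_cancel hu1 hl).symm⟩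
  obtain ⟨s1, s2⟩ := sum_of_n16 hn
  rcases norm_cases _ bx.1 _ by'.1 _ bz.1 s1 s2 with hU | hZ
  · by_cases ux : v.x.A4 = 4 ∧ v.x.B4 = 0
    · have hu := bx.2.1 ux
      have hu1 : v.x.IsUnit1 := unitsL_unit _ hu
      apply key _ hu
      exact caseA0 _ (isLat_lmul (Ic.isIco_conj hu1.1) hl) (V3.n16_lmul hu1.conj hl hn)
        (Ic.conj_mul_self hu1)
    · by_cases uy : v.y.A4 = 4 ∧ v.y.B4 = 0
      · have hu := by'.2.1 uy
        have hu1 : v.y.IsUnit1 := unitsL_unit _ hu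
        apply key _ hu
        refine caseA1 _ (isLat_lmul (Ic.isIco_conj hu1.1) hl) (V3.n16_lmul hu1.conj hl hn) ?_
          (Ic.conj_mul_self hu1)
        show ¬((Ic.mul (Ic.conj v.y) v.x).A4 = 4 ∧ (Ic.mul (Ic.conj v.y) v.x).B4 = 0)
        rw [(Ic.norm_mul_unit hu1.conj hl.1).1, (Ic.norm_mul_unit hu1.conj hl.1).2]
        exact ux
      · have uz : v.z.A4 = 4 ∧ v.z.B4 = 0 := by
          rcases hU with h | h | h
          · exact absurd (Prod.mk.inj h) ux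
          · exact absurd (Prod.mk.inj h) uy
          · exact Prod.mk.inj h
        have hu := bz.2.1 uz
        have hu1 : v.z.IsUnit1 := unitsL_unit _ hu
        apply key _ hu
        refine caseA2 _ (isLat_lmul (Ic.isIco_conj hu1.1) hl) (V3.n16_lmul hu1.conj hl hn) ?_ ?_
          (Ic.conj_mul_self hu1)
        · show ¬((Ic.mul (Ic.conj v.z) v.x).A4 = 4 ∧ (Ic.mul (Ic.conj v.z) v.x).B4 = 0)
          rw [(Ic.norm_mul_unit hu1.conj hl.1).1, (Ic.norm_mul_unit hu1.conj hl.1).2]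
          exact ux
        · show ¬((Ic.mul (Ic.conj v.z) v.y).A4 = 4 ∧ (Ic.mul (Ic.conj v.z) v.y).B4 = 0)
          rw [(Ic.norm_mul_unit hu1.conj hl.2.1).1, (Ic.norm_mul_unit hu1.conj hl.2.1).2]
          exact uy
  · have h0 : v.x = Ic.zero ∨ v.y = Ic.zero ∨ v.z = Ic.zero := by
      rcases hZ with h | h | h
      · exact Or.inl (bx.2.2.2.2 (Prod.mk.inj h).1)
      · exact Or.inr (Or.inl (by'.2.2.2.2 (Prod.mk.inj h).1))
      · exact Or.inr (Or.inr (bz.2.2.2.2 (Prod.mk.inj h).1))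
    obtain ⟨u, hu, hr⟩ := caseB v hl hn h0
    exact key u hu hr


end Cfsg.Agent.Helper29.J2
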