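import Mathlib
import Cfsg.Agent.Lib.Helper29.J2Min

/-!
# The 37800 minimal vectors and their 315 lines
-/

set_option autoImplicit false
set_option linter.constructorNameAsVariable false

namespace Cfsg.Agent.Helper29.J2

open Quaternion Cfsg.Spor

/-! ### The normalized vectors are minimal vectors -/

def V3.n16B (v : V3) : Bool :=
  ieq (v.x.A4 + v.y.A4 + v.z.A4) 16 && ieq (v.x.B4 + v.y.B4 + v.z.B4) 0

theorem V3.n16B_iff (v : V3) : v.n16B = true ↔ v.N16 := by
  unfold V3.n16B V3.N16 V3.A4 V3.B4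
  simp only [Bool.and_eq_true, ieq_iff]

theorem repL_chk : repL.all (fun r => r.isLatB && r.n16B) = true := by decide +kernel

theorem repL_ok {r : V3} (hr : r ∈ repL) : r.IsLat ∧ r.N16 := by
  have h := repL_chk
  rw [List.all_eq_true] at h
  have := h r hr
  rw [Bool.and_eq_true, V3.isLatB_iff, V3.n16B_iff] at this
  exact this

/-! ### The pivot of a vector -/

def V3.blk (v : V3) (t : Fin 3) : Ic :=
  match t with
  | 0 => v.x
  | 1 => v.y
  | 2 => v.z

theorem toV_blk (v : V3) (t : Fin 3) : toV v t = toH (v.blk t) := by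
  fin_cases t <;> rfl

/-- norm one -/
def Ic.isU (c : Ic) : Bool := ieq c.A4 4 && ieq c.B4 0

/-- the position of the pivot: the first unit, or else the first non-zero coordinate -/
def V3.pivIdx (v : V3) : Fin 3 :=
  if v.x.isU then 0 else if v.y.isU then 1 else if v.z.isU then 2
  else if !ieq v.x.A4 0 then 0 else if !ieq v.y.A4 0 then 1 else 2

/-- the normalized pivot of a given norm -/
def normPiv (a : ℤ) : Ic := if ieq a 4 then ONE else if ieq a 8 then H else TWO

theorem repL_piv : repL.all (fun r => Ic.force (r.blk r.pivIdx) fun c =>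
    Ic.beq c (normPiv c.A4)) = true := by decide +kernel

theorem repL_piv' {r : V3} (hr : r ∈ repL) : r.blk r.pivIdx = normPiv (r.blk r.pivIdx).A4 := by
  have h := repL_piv
  rw [List.all_eq_true] at h
  have := h r hr
  rw [Ic.force_eq, Ic.beq_iff] at this
  exact this

theorem pivIdx_congr (v w : V3) (h : ∀ t, (v.blk t).A4 = (w.blk t).A4 ∧ (v.blk t).B4 = (w.blk t).B4) :
    v.pivIdx = w.pivIdx := by
  have h0 := h 0
  have h1 := h 1
  have h2 := h 2
  simp only [V3.blk] at h0 h1 h2
  unfold V3.pivIdx Ic.isU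
  rw [h0.1, h0.2, h1.1, h1.2, h2.1, h2.2]

theorem normPiv_ne (a : ℤ) : toH (normPiv a) ≠ 0 := by
  have h : normPiv a ≠ Ic.zero := by
    unfold normPiv
    split_ifs <;> decide
  intro h'
  rw [← toH_zero] at h'
  exact h (toH_injective h')

/-- the sum of the norms of the coordinates of a minimal vector -/
theorem sum_normSq {v : V3} (hn : v.N16) :
    normSq (toH v.x) + normSq (toH v.y) + normSq (toH v.z) = 4 := by
  obtain ⟨h1, h2⟩ := sum_of_n16 hn
  rw [normSq_toH, normSq_toH, normSq_toH]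
  have e1 : (v.x.A4 : ℝ) + v.y.A4 + v.z.A4 = 16 := by exact_mod_cast h1
  have e2 : (v.x.B4 : ℝ) + v.y.B4 + v.z.B4 = 0 := by exact_mod_cast h2
  linear_combination (1 / 4 : ℝ) * e1 + (tau / 4) * e2

/-- two normalized vectors on the same quaternionic line are equal -/
theorem rep_unique {r r' : V3} (hr : r ∈ repL) (hr' : r' ∈ repL) (a : ℍ[ℝ])
    (h : ∀ t, toV r t = a * toV r' t) : a = 1 := by
  obtain ⟨_, n⟩ := repL_ok hr
  obtain ⟨_, n'⟩ := repL_ok hr'
  have hnorm : ∀ t, normSq (toH (r.blk t)) = normSq a * normSq (toH (r'.blk t)) := by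
    intro t
    rw [← toV_blk, ← toV_blk, h t, map_mul]
  have s := sum_normSq n
  have s' := sum_normSq n'
  have g0 := hnorm 0
  have g1 := hnorm 1
  have g2 := hnorm 2
  simp only [V3.blk] at g0 g1 g2
  have ha : normSq a = 1 := by
    have : normSq a * 4 = 4 := by
      rw [← s'] 
      nlinarith
    linarith
  have hsig : ∀ t, (r.blk t).A4 = (r'.blk t).A4 ∧ (r.blk t).B4 = (r'.blk t).B4 := by
    intro t
    have := hnorm t
    rw [ha, one_mul, normSq_toH, normSq_toH] at this
    exact tau_indep' _ _ _ _ (by linarith)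
  have hp := pivIdx_congr r r' hsig
  have e1 := repL_piv' hr
  have e2 := repL_piv' hr'
  rw [← hp, ← (hsig r.pivIdx).1] at e2
  have e3 := h r.pivIdx
  rw [toV_blk, toV_blk, e1, e2, ← e1] at e3
  have e4 : (a - 1) * toH (normPiv (r.blk r.pivIdx).A4) = 0 := by
    rw [sub_mul, one_mul, ← e1, ← e3, e1, sub_self]
  rcases mul_eq_zero.1 e4 with h5 | h5
  · exact sub_eq_zero.1 h5
  · exact absurd h5 (normPiv_ne _)

/-! ### The count of the minimal vectors -/

theorem V3.conj_lmul_cancel {u : Ic} {v : V3} (hu : u.IsUnit1) (hv : v.IsLat) :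
    V3.lmul (Ic.conj u) (V3.lmul u v) = v := by
  unfold V3.lmul
  simp only [Ic.conj_mul_cancel hu hv.1, Ic.conj_mul_cancel hu hv.2.1,
    Ic.conj_mul_cancel hu hv.2.2.1]

theorem lmul_injective {u u' : Ic} {r r' : V3} (hu : u ∈ unitsL) (hu' : u' ∈ unitsL)
    (hr : r ∈ repL) (hr' : r' ∈ repL) (h : V3.lmul u r = V3.lmul u' r') : u = u' ∧ r = r' := by
  have hu1 : u.IsUnit1 := unitsL_unit u hu
  have hu1' : u'.IsUnit1 := unitsL_unit u' hu'
  obtain ⟨l, _⟩ := repL_ok hr
  obtain ⟨l', _⟩ := repL_ok hr'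
  have e : ∀ t, toV r t = (star (toH u) * toH u') * toV r' t := by
    intro t
    have h1 := congrFun (congrArg toV h) t
    rw [toV_lmul hu1.1 l, toV_lmul hu1'.1 l'] at h1
    beta_reduce at h1
    rw [mul_assoc, ← h1, ← mul_assoc, hu1.star_mul, one_mul]
  have ha := rep_unique hr hr' _ e
  have huu : toH u' = toH u := by
    have := congrArg (fun q => toH u * q) ha
    simp only [← mul_assoc, hu1.mul_star, one_mul, mul_one] at this
    exact this
  have huu' : u = u' := (toH_injective huu).symm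
  refine ⟨huu', ?_⟩
  rw [← huu'] at h
  have := congrArg (V3.lmul (Ic.conj u)) h
  rwa [V3.conj_lmul_cancel hu1 l, V3.conj_lmul_cancel hu1 l'] at this

/-- a list without repetition, checked with the fast equality test -/
def nodupI : List Ic → Bool
  | [] => true
  | a :: l => !Ic.elem a l && nodupI l

theorem nodupI_spec : ∀ L : List Ic, nodupI L = true → L.Nodup
  | [], _ => List.nodup_nil
  | a :: l, h => by
    rw [nodupI, Bool.and_eq_true, Bool.not_eq_true'] at h
    refine List.nodup_cons.2 ⟨?_, nodupI_spec l h.2⟩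
    intro hm
    rw [(Ic.elem_iff a l).2 hm] at h
    exact absurd h.1 (by decide)

def nodupV : List V3 → Bool
  | [] => true
  | a :: l => !V3.elem a l && nodupV l

theorem nodupV_spec : ∀ L : List V3, nodupV L = true → L.Nodup
  | [], _ => List.nodup_nil
  | a :: l, h => by
    rw [nodupV, Bool.and_eq_true, Bool.not_eq_true'] at h
    refine List.nodup_cons.2 ⟨?_, nodupV_spec l h.2⟩
    intro hm
    rw [(V3.elem_iff a l).2 hm] at h
    exact absurd h.1 (by decide)

theorem unitsL_nodup : unitsL.Nodup := nodupI_spec _ (by decide +kernel)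
theorem repL_nodup : repL.Nodup := nodupV_spec _ (by decide +kernel)
theorem unitsL_length : unitsL.length = 120 := by decide +kernel
theorem repL_length : repL.length = 315 := by decide +kernel

/-- the minimal vectors, in coordinates -/
def minSet : Set V3 := {v | v.IsLat ∧ v.N16}

theorem minSet_eq : minSet =
    (fun p : Ic × V3 => V3.lmul p.1 p.2) '' ((unitsL.toFinset ×ˢ repL.toFinset : Finset (Ic × V3)) :
      Set (Ic × V3)) := by
  ext v
  constructor
  · rintro ⟨hl, hn⟩
    obtain ⟨u, hu, r, hr, e⟩ := enum v hl hn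
    refine ⟨(u, r), ?_, e.symm⟩
    simp only [Finset.coe_product, Set.mem_prod, Finset.mem_coe, List.mem_toFinset]
    exact ⟨hu, hr⟩
  · rintro ⟨⟨u, r⟩, hm, rfl⟩
    simp only [Finset.coe_product, Set.mem_prod, Finset.mem_coe, List.mem_toFinset] at hm
    have hu1 : u.IsUnit1 := unitsL_unit u hm.1
    obtain ⟨l, n⟩ := repL_ok hm.2
    exact ⟨isLat_lmul hu1.1 l, V3.n16_lmul hu1 l n⟩

theorem ncard_minSet : minSet.ncard = 37800 := by
  rw [minSet_eq, Set.InjOn.ncard_image, Set.ncard_coe_finset, Finset.card_product,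
    List.toFinset_card_of_nodup unitsL_nodup, List.toFinset_card_of_nodup repL_nodup,
    unitsL_length, repL_length]
  rintro ⟨u, r⟩ hm ⟨u', r'⟩ hm' h
  simp only [Finset.coe_product, Set.mem_prod, Finset.mem_coe, List.mem_toFinset] at hm hm'
  obtain ⟨e1, e2⟩ := lmul_injective hm.1 hm'.1 hm.2 hm'.2 h
  rw [e1, e2]

/-- the norm of the vector of quaternions -/
theorem qip_self (v : V3) :
    qip (toV v) (toV v) = ((((v.A4 : ℝ) + v.B4 * tau) / 4 : ℝ) : ℍ[ℝ]) := by
  unfold qip
  rw [Fin.sum_univ_three, toV_zero, toV_one, toV_two, toH_mul_star, toH_mul_star, toH_mul_star,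
    ← coe_add, ← coe_add]
  congr 1
  unfold V3.A4 V3.B4
  push_cast
  ring

theorem qip_self_eq_four (v : V3) : qip (toV v) (toV v) = 4 ↔ v.N16 := by
  rw [qip_self]
  have h4 : (4 : ℍ[ℝ]) = ((4 : ℝ) : ℍ[ℝ]) := by norm_cast
  rw [h4, coe_inj]
  unfold V3.N16
  constructor
  · intro h
    have := tau_indep' v.A4 v.B4 16 0 (by push_cast; linarith)
    exact this
  · rintro ⟨h1, h2⟩
    rw [h1, h2]; norm_num

/-- the minimal vectors are the images of the integer minimal vectors -/
theorem minimal_eq : {r : Fin 3 → ℍ[ℝ] | r ∈ icoLeech ∧ qip r r = 4} = toV '' minSet := by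
  ext r
  constructor
  · rintro ⟨hl, hq⟩
    obtain ⟨w, hw, rfl⟩ := exists_of_mem hl
    exact ⟨w, ⟨hw, (qip_self_eq_four w).1 hq⟩, rfl⟩
  · rintro ⟨w, ⟨hw, hn⟩, rfl⟩
    exact ⟨toV_mem hw, (qip_self_eq_four w).2 hn⟩

theorem ncard_minimal : {r : Fin 3 → ℍ[ℝ] | r ∈ icoLeech ∧ qip r r = 4}.ncard = 37800 := by
  rw [minimal_eq, Set.ncard_image_of_injective _ toV_injective, ncard_minSet]


end Cfsg.Agent.Helper29.J2
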