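import Mathlib
import Cfsg.Agent.Lib.Helper29.J2Count

/-!
# The quaternionic reflections of the icosian Leech lattice
-/

set_option autoImplicit false

namespace Cfsg.Agent.Helper29.J2

open Quaternion Cfsg.Spor

/-! ### The Hermitian product -/

theorem qip_def (x r : Fin 3 → ℍ[ℝ]) :
    qip x r = x 0 * star (r 0) + x 1 * star (r 1) + x 2 * star (r 2) := by
  unfold qip
  rw [Fin.sum_univ_three]

theorem qip_smul_left (a : ℍ[ℝ]) (x r : Fin 3 → ℍ[ℝ]) :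
    qip (fun t => a * x t) r = a * qip x r := by
  rw [qip_def, qip_def]
  simp only [mul_add, mul_assoc]

theorem qip_smul_right (a : ℍ[ℝ]) (x r : Fin 3 → ℍ[ℝ]) :
    qip x (fun t => a * r t) = qip x r * star a := by
  rw [qip_def, qip_def]
  simp only [star_mul, add_mul, mul_assoc]

theorem qip_sub_left (x y r : Fin 3 → ℍ[ℝ]) :
    qip (fun t => x t - y t) r = qip x r - qip y r := by
  rw [qip_def, qip_def, qip_def]
  noncomm_ring

theorem star_qip (x r : Fin 3 → ℍ[ℝ]) : star (qip x r) = qip r x := by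
  rw [qip_def, qip_def]
  simp only [star_add, star_mul, star_star]

/-! ### The lattice is closed under the operations -/

theorem sub_mem_icoLeech {v w : Fin 3 → ℍ[ℝ]} (hv : v ∈ icoLeech) (hw : w ∈ icoLeech) :
    (fun t => v t - w t) ∈ icoLeech := by
  obtain ⟨h0, h1, h2, h3⟩ := hv
  obtain ⟨g0, g1, g2, g3⟩ := hw
  refine ⟨fun t => Subring.sub_mem _ (h0 t) (g0 t), ?_, ?_, ?_⟩
  · have := leftIdeal_sub h1 g1
    have e : v 0 - w 0 - (v 1 - w 1) = v 0 - v 1 - (w 0 - w 1) := by abel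
    rw [e]; exact this
  · have := leftIdeal_sub h2 g2
    have e : v 1 - w 1 - (v 2 - w 2) = v 1 - v 2 - (w 1 - w 2) := by abel
    rw [e]; exact this
  · have := leftIdeal_sub h3 g3
    have e : v 0 - w 0 + (v 1 - w 1) + (v 2 - w 2) = v 0 + v 1 + v 2 - (w 0 + w 1 + w 2) := by abel
    rw [e]; exact this

/-- the multiples of `2` by icosians -/
def twoI : Set ℍ[ℝ] := {x | ∃ a ∈ icosians, x = 2 * a}

theorem twoI_add {x y : ℍ[ℝ]} (hx : x ∈ twoI) (hy : y ∈ twoI) : x + y ∈ twoI := by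
  obtain ⟨a, ha, rfl⟩ := hx
  obtain ⟨b, hb, rfl⟩ := hy
  exact ⟨a + b, Subring.add_mem _ ha hb, by rw [mul_add]⟩

theorem twoI_sub {x y : ℍ[ℝ]} (hx : x ∈ twoI) (hy : y ∈ twoI) : x - y ∈ twoI := by
  obtain ⟨a, ha, rfl⟩ := hx
  obtain ⟨b, hb, rfl⟩ := hy
  exact ⟨a - b, Subring.sub_mem _ ha hb, by rw [mul_sub]⟩

theorem prod_H_mem {x y : ℍ[ℝ]} (hx : x ∈ leftIdeal icoH) (hy : y ∈ leftIdeal icoH) :
    x * star y ∈ twoI := by
  obtain ⟨a, ha, rfl⟩ := hx
  obtain ⟨b, hb, rfl⟩ := hy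
  refine ⟨a * star b, Subring.mul_mem _ ha (star_mem_icosians hb), ?_⟩
  rw [star_mul, mul_assoc, ← mul_assoc icoH, icoH_mul_star, ← mul_assoc, two_mul_comm,
    mul_assoc]

theorem prod_HB_mem {x y : ℍ[ℝ]} (hx : x ∈ leftIdeal (star icoH)) (hy : y ∈ leftIdeal (star icoH)) :
    x * star y ∈ twoI := by
  obtain ⟨a, ha, rfl⟩ := hx
  obtain ⟨b, hb, rfl⟩ := hy
  refine ⟨a * star b, Subring.mul_mem _ ha (star_mem_icosians hb), ?_⟩
  rw [star_mul, star_star, mul_assoc, ← mul_assoc (star icoH), star_mul_icoH, ← mul_assoc,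
    two_mul_comm, mul_assoc]

theorem three_qip (x0 x1 x2 y0 y1 y2 : ℍ[ℝ]) :
    3 * (x0 * y0 + x1 * y1 + x2 * y2) = (x0 + x1 + x2) * (y0 + y1 + y2) +
      (x0 - x1) * (y0 - y1) + (x1 - x2) * (y1 - y2) + (x0 - x2) * (y0 - y2) := by
  noncomm_ring

/-- the Hermitian product of two lattice vectors is in `2I` -/
theorem qip_mem_twoI {x y : Fin 3 → ℍ[ℝ]} (hx : x ∈ icoLeech) (hy : y ∈ icoLeech) :
    qip x y ∈ twoI := by
  obtain ⟨h0, h1, h2, h3⟩ := hx
  obtain ⟨g0, g1, g2, g3⟩ := hy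
  have h4 : x 0 - x 2 ∈ leftIdeal icoH := by
    have := leftIdeal_add h1 h2
    rwa [sub_add_sub_cancel] at this
  have g4 : y 0 - y 2 ∈ leftIdeal icoH := by
    have := leftIdeal_add g1 g2
    rwa [sub_add_sub_cancel] at this
  have e3 : 3 * qip x y ∈ twoI := by
    rw [qip_def, three_qip]
    have p0 := prod_HB_mem h3 g3
    have p1 := prod_H_mem h1 g1
    have p2 := prod_H_mem h2 g2
    have p3 := prod_H_mem h4 g4
    simp only [star_add, star_sub] at p0 p1 p2 p3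
    exact twoI_add (twoI_add (twoI_add p0 p1) p2) p3
  have e2 : 2 * qip x y ∈ twoI := by
    refine ⟨qip x y, ?_, rfl⟩
    rw [qip_def]
    exact Subring.add_mem _ (Subring.add_mem _
      (Subring.mul_mem _ (h0 0) (star_mem_icosians (g0 0)))
      (Subring.mul_mem _ (h0 1) (star_mem_icosians (g0 1))))
      (Subring.mul_mem _ (h0 2) (star_mem_icosians (g0 2)))
  have := twoI_sub e3 e2
  have e : 3 * qip x y - 2 * qip x y = qip x y := by noncomm_ring
  rwa [e] at this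

theorem half_smul_two (a : ℍ[ℝ]) : (1 / 2 : ℝ) • (2 * a) = a := by
  have h2 : (2 : ℍ[ℝ]) = ((2 : ℝ) : ℍ[ℝ]) := by norm_cast
  rw [h2, ← coe_mul_eq_smul, ← mul_assoc, ← coe_mul]
  norm_num

/-- half the Hermitian product of two lattice vectors is an icosian -/
theorem half_qip_mem {x y : Fin 3 → ℍ[ℝ]} (hx : x ∈ icoLeech) (hy : y ∈ icoLeech) :
    (1 / 2 : ℝ) • qip x y ∈ icosians := by
  obtain ⟨a, ha, e⟩ := qip_mem_twoI hx hy
  rw [e, half_smul_two]
  exact ha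

/-! ### The reflections -/

theorem qrefl_def (r x : Fin 3 → ℍ[ℝ]) :
    qrefl r x = fun t => x t - (fun t => ((1 / 2 : ℝ) • qip x r) * r t) t := rfl

theorem qrefl_mem {r x : Fin 3 → ℍ[ℝ]} (hr : r ∈ icoLeech) (hx : x ∈ icoLeech) :
    qrefl r x ∈ icoLeech := by
  rw [qrefl_def]
  exact sub_mem_icoLeech hx (smul_mem_icoLeech (half_qip_mem hx hr) hr)

theorem smul_comm_half (a b : ℍ[ℝ]) : ((1 / 2 : ℝ) • a) * b = (1 / 2 : ℝ) • (a * b) :=
  smul_mul_assoc _ _ _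

theorem qip_qrefl (r x : Fin 3 → ℍ[ℝ]) (hr : qip r r = 4) : qip (qrefl r x) r = -qip x r := by
  rw [qrefl_def, qip_sub_left, qip_smul_left, hr, smul_comm_half]
  have h4 : (4 : ℍ[ℝ]) = ((4 : ℝ) : ℍ[ℝ]) := by norm_cast
  rw [h4, ← coe_mul_eq_smul, ← coe_commutes, ← mul_assoc, ← coe_mul]
  have : ((1 / 2 : ℝ) * 4) = 2 := by norm_num
  rw [this]
  have h2 : ((2 : ℝ) : ℍ[ℝ]) = 2 := by norm_cast
  rw [h2, two_mul]
  abel

theorem qrefl_qrefl (r x : Fin 3 → ℍ[ℝ]) (hr : qip r r = 4) : qrefl r (qrefl r x) = x := by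
  funext t
  show qrefl r x t - ((1 / 2 : ℝ) • qip (qrefl r x) r) * r t = x t
  rw [qip_qrefl r x hr]
  show x t - ((1 / 2 : ℝ) • qip x r) * r t - ((1 / 2 : ℝ) • -qip x r) * r t = x t
  rw [smul_neg, neg_mul]
  abel

/-- the reflection in a minimal vector, as a permutation of the lattice -/
noncomputable def reflPerm (r : icoLeech) (hr : qip (r : Fin 3 → ℍ[ℝ]) r = 4) :
    Equiv.Perm icoLeech where
  toFun x := ⟨qrefl r x, qrefl_mem r.2 x.2⟩
  invFun x := ⟨qrefl r x, qrefl_mem r.2 x.2⟩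
  left_inv x := Subtype.ext (qrefl_qrefl r x hr)
  right_inv x := Subtype.ext (qrefl_qrefl r x hr)

theorem reflPerm_apply (r : icoLeech) (hr : qip (r : Fin 3 → ℍ[ℝ]) r = 4) (x : icoLeech) :
    ((reflPerm r hr x : icoLeech) : Fin 3 → ℍ[ℝ]) = qrefl r x := rfl

theorem isIcoReflection_reflPerm (r : icoLeech) (hr : qip (r : Fin 3 → ℍ[ℝ]) r = 4) :
    IsIcoReflection (reflPerm r hr) :=
  ⟨r, hr, fun _ => rfl⟩

theorem eq_reflPerm {f : Equiv.Perm icoLeech} (r : icoLeech) (hr : qip (r : Fin 3 → ℍ[ℝ]) r = 4)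
    (h : ∀ x : icoLeech, ((f x : icoLeech) : Fin 3 → ℍ[ℝ]) = qrefl r x) : f = reflPerm r hr := by
  ext x : 1
  exact Subtype.ext (h x)

end Cfsg.Agent.Helper29.J2
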