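import Mathlib
import Cfsg.Agent.Lib.Helper29.J2Refl

/-!
# The 315 reflections
-/

set_option autoImplicit false
set_option linter.constructorNameAsVariable false

namespace Cfsg.Agent.Helper29.J2

open Quaternion Cfsg.Spor

/-- the lattice vector of an integer vector -/
noncomputable def vecOf (v : V3) (h : v.IsLat) : icoLeech := ⟨toV v, toV_mem h⟩

open Classical in
/-- the reflection in an integer minimal vector -/
noncomputable def reflOf (v : V3) : Equiv.Perm icoLeech :=
  if h : v.IsLat ∧ v.N16 then reflPerm (vecOf v h.1) ((qip_self_eq_four v).2 h.2) else 1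

theorem reflOf_apply {v : V3} (hl : v.IsLat) (hn : v.N16) (x : icoLeech) :
    ((reflOf v x : icoLeech) : Fin 3 → ℍ[ℝ]) = qrefl (toV v) x := by
  unfold reflOf
  rw [dif_pos ⟨hl, hn⟩]
  rfl

theorem isIcoReflection_reflOf {v : V3} (hl : v.IsLat) (hn : v.N16) :
    IsIcoReflection (reflOf v) :=
  ⟨vecOf v hl, (qip_self_eq_four v).2 hn, fun x => reflOf_apply hl hn x⟩

/-- the reflection does not change when the vector is multiplied by a unit -/
theorem qrefl_smul_unit (a : ℍ[ℝ]) (ha : star a * a = 1) (r x : Fin 3 → ℍ[ℝ]) :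
    qrefl (fun t => a * r t) x = qrefl r x := by
  funext t
  show x t - ((1 / 2 : ℝ) • qip x (fun t => a * r t)) * (a * r t) =
    x t - ((1 / 2 : ℝ) • qip x r) * r t
  rw [qip_smul_right, smul_comm_half, smul_comm_half, mul_assoc, ← mul_assoc (star a), ha, one_mul]

theorem reflOf_lmul {u : Ic} {r : V3} (hu : u.IsUnit1) (hl : r.IsLat) (hn : r.N16) :
    reflOf (V3.lmul u r) = reflOf r := by
  ext x : 1
  apply Subtype.ext
  rw [reflOf_apply (isLat_lmul hu.1 hl) (V3.n16_lmul hu hl hn), reflOf_apply hl hn,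
    toV_lmul hu.1 hl, qrefl_smul_unit _ hu.star_mul]

/-- every reflection is the reflection in one of the 315 normalized vectors -/
theorem exists_rep_of_reflection {f : Equiv.Perm icoLeech} (hf : IsIcoReflection f) :
    ∃ r ∈ repL, f = reflOf r := by
  obtain ⟨⟨rv, hrv⟩, hq, hfx⟩ := hf
  obtain ⟨w, hw, e⟩ := exists_of_mem hrv
  simp only at hq hfx
  rw [e] at hq hfx
  have hn := (qip_self_eq_four w).1 hq
  obtain ⟨u, hu, r, hr, e2⟩ := enum w hw hn
  have hu1 : u.IsUnit1 := unitsL_unit u hu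
  obtain ⟨l, n⟩ := repL_ok hr
  refine ⟨r, hr, ?_⟩
  rw [← reflOf_lmul hu1 l n, ← e2]
  ext x : 1
  apply Subtype.ext
  rw [reflOf_apply hw hn]
  exact hfx x

theorem qrefl_self (r : Fin 3 → ℍ[ℝ]) (hr : qip r r = 4) : qrefl r r = fun t => -r t := by
  funext t
  show r t - ((1 / 2 : ℝ) • qip r r) * r t = -r t
  rw [hr]
  have h4 : (4 : ℍ[ℝ]) = ((4 : ℝ) : ℍ[ℝ]) := by norm_cast
  rw [h4, ← coe_mul_eq_smul, ← coe_mul]
  have : ((1 / 2 : ℝ) * 4) = 2 := by norm_num
  rw [this]
  have h2 : ((2 : ℝ) : ℍ[ℝ]) = 2 := by norm_cast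
  rw [h2, two_mul]
  abel

theorem reflOf_injOn {r r' : V3} (hr : r ∈ repL) (hr' : r' ∈ repL) (h : reflOf r = reflOf r') :
    r = r' := by
  obtain ⟨l, n⟩ := repL_ok hr
  obtain ⟨l', n'⟩ := repL_ok hr'
  have h1 := congrArg (fun f : Equiv.Perm icoLeech => ((f (vecOf r l) : icoLeech) : Fin 3 → ℍ[ℝ])) h
  beta_reduce at h1
  rw [reflOf_apply l n, reflOf_apply l' n'] at h1
  have h2 : ((vecOf r l : icoLeech) : Fin 3 → ℍ[ℝ]) = toV r := rfl
  rw [h2, qrefl_self _ ((qip_self_eq_four r).2 n)] at h1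
  have key : ∀ t, toV r t = ((1 / 4 : ℝ) • qip (toV r) (toV r')) * toV r' t := by
    intro t
    have h3 := congrFun h1 t
    have h4 : -toV r t = toV r t - ((1 / 2 : ℝ) • qip (toV r) (toV r')) * toV r' t := h3
    have h5 : ((1 / 2 : ℝ) • qip (toV r) (toV r')) * toV r' t = 2 * toV r t := by
      rw [two_mul]
      have := congrArg (fun q => toV r t - q) h4
      simp only [sub_neg_eq_add, sub_sub_cancel] at this
      exact this.symm
    have h6 : ((1 / 4 : ℝ) • qip (toV r) (toV r')) = (1 / 2 : ℝ) • ((1 / 2 : ℝ) •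
        qip (toV r) (toV r')) := by
      rw [smul_smul]; norm_num
    rw [h6, smul_comm_half, h5, half_smul_two]
  have ha := rep_unique hr hr' _ key
  apply toV_injective
  funext t
  rw [key t, ha, one_mul]

/-- there are exactly 315 reflections -/
theorem ncard_reflections :
    {f : Equiv.Perm icoLeech | IsIcoReflection f}.ncard = 315 := by
  have e : {f : Equiv.Perm icoLeech | IsIcoReflection f} =
      reflOf '' ((repL.toFinset : Finset V3) : Set V3) := by
    ext f
    constructor
    · intro hf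
      obtain ⟨r, hr, rfl⟩ := exists_rep_of_reflection hf
      exact ⟨r, by simpa using hr, rfl⟩
    · rintro ⟨r, hr, rfl⟩
      have hr' : r ∈ repL := by simpa using hr
      obtain ⟨l, n⟩ := repL_ok hr'
      exact isIcoReflection_reflOf l n
  rw [e, Set.InjOn.ncard_image, Set.ncard_coe_finset, List.toFinset_card_of_nodup repL_nodup,
    repL_length]
  intro r hr r' hr' h
  exact reflOf_injOn (by simpa using hr) (by simpa using hr') h

end Cfsg.Agent.Helper29.J2
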