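import Mathlib
import Cfsg.Agent.Lib.Helper29.J2ReflCount

/-!
# Linear isometries of the icosian Leech lattice
-/

set_option autoImplicit false

namespace Cfsg.Agent.Helper29.J2

open Quaternion Cfsg.Spor

theorem add_mem_icoLeech {v w : Fin 3 → ℍ[ℝ]} (hv : v ∈ icoLeech) (hw : w ∈ icoLeech) :
    (fun t => v t + w t) ∈ icoLeech := by
  obtain ⟨h0, h1, h2, h3⟩ := hv
  obtain ⟨g0, g1, g2, g3⟩ := hw
  refine ⟨fun t => Subring.add_mem _ (h0 t) (g0 t), ?_, ?_, ?_⟩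
  · have := leftIdeal_add h1 g1
    have e : v 0 + w 0 - (v 1 + w 1) = v 0 - v 1 + (w 0 - w 1) := by abel
    rw [e]; exact this
  · have := leftIdeal_add h2 g2
    have e : v 1 + w 1 - (v 2 + w 2) = v 1 - v 2 + (w 1 - w 2) := by abel
    rw [e]; exact this
  · have := leftIdeal_add h3 g3
    have e : v 0 + w 0 + (v 1 + w 1) + (v 2 + w 2) = v 0 + v 1 + v 2 + (w 0 + w 1 + w 2) := by abel
    rw [e]; exact this

theorem perm_apply_inv {α : Type*} (g : Equiv.Perm α) (x : α) : g (g⁻¹ x) = x :=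
  g.apply_symm_apply x

theorem perm_inv_apply {α : Type*} (g : Equiv.Perm α) (x : α) : g⁻¹ (g x) = x :=
  g.symm_apply_apply x

/-- the sum of two lattice vectors -/
noncomputable def ladd (x y : icoLeech) : icoLeech :=
  ⟨fun t => (x : Fin 3 → ℍ[ℝ]) t + (y : Fin 3 → ℍ[ℝ]) t, add_mem_icoLeech x.2 y.2⟩

/-- an icosian multiple of a lattice vector -/
noncomputable def lsmul (a : icosians) (x : icoLeech) : icoLeech :=
  ⟨fun t => (a : ℍ[ℝ]) * (x : Fin 3 → ℍ[ℝ]) t, smul_mem_icoLeech a.2 x.2⟩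

theorem ladd_apply (x y : icoLeech) (t : Fin 3) :
    (ladd x y : Fin 3 → ℍ[ℝ]) t = (x : Fin 3 → ℍ[ℝ]) t + (y : Fin 3 → ℍ[ℝ]) t := rfl

theorem lsmul_apply (a : icosians) (x : icoLeech) (t : Fin 3) :
    (lsmul a x : Fin 3 → ℍ[ℝ]) t = (a : ℍ[ℝ]) * (x : Fin 3 → ℍ[ℝ]) t := rfl

/-- linear isometries -/
structure IsLin (g : Equiv.Perm icoLeech) : Prop where
  add : ∀ x y, g (ladd x y) = ladd (g x) (g y)
  smul : ∀ a x, g (lsmul a x) = lsmul a (g x)
  iso : ∀ x y : icoLeech, qip (g x : Fin 3 → ℍ[ℝ]) (g y : Fin 3 → ℍ[ℝ]) =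
    qip (x : Fin 3 → ℍ[ℝ]) (y : Fin 3 → ℍ[ℝ])

/-- the group of linear isometries -/
def linSub : Subgroup (Equiv.Perm icoLeech) where
  carrier := {g | IsLin g}
  one_mem' := ⟨fun _ _ => rfl, fun _ _ => rfl, fun _ _ => rfl⟩
  mul_mem' := by
    intro g h hg hh
    refine ⟨fun x y => ?_, fun a x => ?_, fun x y => ?_⟩
    · show g (h (ladd x y)) = ladd (g (h x)) (g (h y))
      rw [hh.add, hg.add]
    · show g (h (lsmul a x)) = lsmul a (g (h x))
      rw [hh.smul, hg.smul]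
    · show qip (g (h x) : Fin 3 → ℍ[ℝ]) (g (h y) : Fin 3 → ℍ[ℝ]) = _
      rw [hg.iso, hh.iso]
  inv_mem' := by
    intro g hg
    refine ⟨fun x y => ?_, fun a x => ?_, fun x y => ?_⟩
    · apply g.injective
      rw [perm_apply_inv, hg.add, perm_apply_inv, perm_apply_inv]
    · apply g.injective
      rw [perm_apply_inv, hg.smul, perm_apply_inv]
    · have := hg.iso (g⁻¹ x) (g⁻¹ y)
      rw [perm_apply_inv, perm_apply_inv] at this
      exact this.symm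

theorem mem_linSub {g : Equiv.Perm icoLeech} : g ∈ linSub ↔ IsLin g := Iff.rfl

theorem qip_add_left (x y r : Fin 3 → ℍ[ℝ]) :
    qip (fun t => x t + y t) r = qip x r + qip y r := by
  rw [qip_def, qip_def, qip_def]
  noncomm_ring

theorem qip_sub_right (x r s : Fin 3 → ℍ[ℝ]) :
    qip x (fun t => r t - s t) = qip x r - qip x s := by
  rw [qip_def, qip_def, qip_def]
  simp only [star_sub]
  noncomm_ring

theorem half_mul (a q : ℍ[ℝ]) : (1 / 2 : ℝ) • (a * q) = a * ((1 / 2 : ℝ) • q) :=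
  (mul_smul_comm _ _ _).symm

theorem star_half (q : ℍ[ℝ]) : star ((1 / 2 : ℝ) • q) = (1 / 2 : ℝ) • star q := by
  rw [Quaternion.star_smul]

theorem qip_qrefl_qrefl (r x y : Fin 3 → ℍ[ℝ]) (hr : qip r r = 4) :
    qip (qrefl r x) (qrefl r y) = qip x y := by
  rw [qrefl_def r y, qip_sub_right, qip_smul_right, qip_qrefl r x hr, qrefl_def r x, qip_sub_left,
    qip_smul_left, star_half, star_qip]
  have h1 : ((1 / 2 : ℝ) • qip x r) * qip r y = (1 / 2 : ℝ) • (qip x r * qip r y) :=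
    smul_mul_assoc _ _ _
  have h2 : -qip x r * ((1 / 2 : ℝ) • qip r y) = -((1 / 2 : ℝ) • (qip x r * qip r y)) := by
    rw [neg_mul, mul_smul_comm]
  rw [h1, h2]
  abel

/-- minus half the Hermitian product, as an icosian -/
noncomputable def nhq (y r : icoLeech) : icosians :=
  ⟨-((1 / 2 : ℝ) • qip (y : Fin 3 → ℍ[ℝ]) (r : Fin 3 → ℍ[ℝ])),
    Subring.neg_mem _ (half_qip_mem y.2 r.2)⟩

theorem reflPerm_eq (r : icoLeech) (hr : qip (r : Fin 3 → ℍ[ℝ]) r = 4) (y : icoLeech) :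
    reflPerm r hr y = ladd y (lsmul (nhq y r) r) := by
  apply Subtype.ext
  funext t
  rw [reflPerm_apply, ladd_apply, lsmul_apply]
  show (y : Fin 3 → ℍ[ℝ]) t - _ = _
  unfold nhq
  simp only [neg_mul]
  rw [sub_eq_add_neg]

theorem isLin_reflPerm (r : icoLeech) (hr : qip (r : Fin 3 → ℍ[ℝ]) r = 4) :
    IsLin (reflPerm r hr) := by
  refine ⟨fun x y => ?_, fun a x => ?_, fun x y => ?_⟩
  · apply Subtype.ext
    funext t
    rw [reflPerm_apply, ladd_apply, reflPerm_apply, reflPerm_apply]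
    show (ladd x y : Fin 3 → ℍ[ℝ]) t - ((1 / 2 : ℝ) • qip (ladd x y : Fin 3 → ℍ[ℝ]) r) * _ =
      ((x : Fin 3 → ℍ[ℝ]) t - ((1 / 2 : ℝ) • qip (x : Fin 3 → ℍ[ℝ]) r) * _) +
      ((y : Fin 3 → ℍ[ℝ]) t - ((1 / 2 : ℝ) • qip (y : Fin 3 → ℍ[ℝ]) r) * _)
    have e : qip (ladd x y : Fin 3 → ℍ[ℝ]) r =
        qip (x : Fin 3 → ℍ[ℝ]) r + qip (y : Fin 3 → ℍ[ℝ]) r := qip_add_left _ _ _
    rw [e, ladd_apply, smul_add, add_mul]
    abel
  · apply Subtype.ext
    funext t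
    rw [reflPerm_apply, lsmul_apply, reflPerm_apply]
    show (lsmul a x : Fin 3 → ℍ[ℝ]) t - ((1 / 2 : ℝ) • qip (lsmul a x : Fin 3 → ℍ[ℝ]) r) * _ =
      (a : ℍ[ℝ]) * ((x : Fin 3 → ℍ[ℝ]) t - ((1 / 2 : ℝ) • qip (x : Fin 3 → ℍ[ℝ]) r) * _)
    have e : qip (lsmul a x : Fin 3 → ℍ[ℝ]) r = (a : ℍ[ℝ]) * qip (x : Fin 3 → ℍ[ℝ]) r :=
      qip_smul_left _ _ _
    rw [e, lsmul_apply, half_mul, mul_sub, mul_assoc]
  · exact qip_qrefl_qrefl _ _ _ hr

theorem twoJ2_le_linSub : twoJ2 ≤ linSub := by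
  unfold twoJ2
  rw [Subgroup.closure_le]
  rintro f ⟨r, hr, hf⟩
  rw [eq_reflPerm r hr hf]
  exact isLin_reflPerm r hr

/-- conjugating a reflection by a linear isometry -/
theorem conj_reflPerm {g : Equiv.Perm icoLeech} (hg : IsLin g) (r : icoLeech)
    (hr : qip (r : Fin 3 → ℍ[ℝ]) r = 4) :
    g * reflPerm r hr * g⁻¹ = reflPerm (g r) (by rw [hg.iso]; exact hr) := by
  ext x : 1
  show g (reflPerm r hr (g⁻¹ x)) = _
  rw [reflPerm_eq, reflPerm_eq, hg.add, hg.smul, perm_apply_inv]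
  have e : nhq (g⁻¹ x) r = nhq x (g r) := by
    apply Subtype.ext
    unfold nhq
    simp only
    have := hg.iso (g⁻¹ x) r
    rw [perm_apply_inv] at this
    rw [this]
  rw [e]

end Cfsg.Agent.Helper29.J2
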