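import Mathlib
import Cfsg.Agent.Lib.Helper29.J2Lin

/-!
# The action of the linear isometries on the 315 reflections
-/

set_option autoImplicit false

namespace Cfsg.Agent.Helper29.J2

open Quaternion Cfsg.Spor

/-- the zero vector -/
def V3.zero : V3 := ⟨Ic.zero, Ic.zero, Ic.zero⟩

/-- the `i`-th normalized minimal vector -/
def repN (i : ℕ) : V3 := repL.getD i V3.zero

theorem repN_mem {i : ℕ} (hi : i < 315) : repN i ∈ repL := by
  unfold repN
  have h : i < repL.length := by rw [repL_length]; exact hi
  rw [List.getD_eq_getElem _ _ h]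
  exact List.getElem_mem h

theorem repN_lat {i : ℕ} (hi : i < 315) : (repN i).IsLat := (repL_ok (repN_mem hi)).1
theorem repN_n16 {i : ℕ} (hi : i < 315) : (repN i).N16 := (repL_ok (repN_mem hi)).2

theorem repN_inj {i j : ℕ} (hi : i < 315) (hj : j < 315) (h : repN i = repN j) : i = j := by
  unfold repN at h
  have h1 : i < repL.length := by rw [repL_length]; exact hi
  have h2 : j < repL.length := by rw [repL_length]; exact hj
  rw [List.getD_eq_getElem _ _ h1, List.getD_eq_getElem _ _ h2] at h
  exact (List.Nodup.getElem_inj_iff repL_nodup).1 h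

theorem exists_repN {r : V3} (hr : r ∈ repL) : ∃ i, i < 315 ∧ repN i = r := by
  obtain ⟨i, hi, e⟩ := List.mem_iff_getElem.1 hr
  refine ⟨i, by rw [← repL_length]; exact hi, ?_⟩
  unfold repN
  rw [List.getD_eq_getElem _ _ hi, e]

/-- the `i`-th reflection -/
noncomputable def rho (i : Fin 315) : Equiv.Perm icoLeech := reflOf (repN i.val)

theorem isIcoReflection_rho (i : Fin 315) : IsIcoReflection (rho i) :=
  isIcoReflection_reflOf (repN_lat i.isLt) (repN_n16 i.isLt)

theorem rho_injective : Function.Injective rho := by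
  intro i j h
  exact Fin.ext (repN_inj i.isLt j.isLt (reflOf_injOn (repN_mem i.isLt) (repN_mem j.isLt) h))

theorem exists_rho {f : Equiv.Perm icoLeech} (hf : IsIcoReflection f) : ∃ i, f = rho i := by
  obtain ⟨r, hr, e⟩ := exists_rep_of_reflection hf
  obtain ⟨i, hi, e2⟩ := exists_repN hr
  exact ⟨⟨i, hi⟩, by rw [e]; unfold rho; rw [e2]⟩

theorem rho_mem (i : Fin 315) : rho i ∈ twoJ2 :=
  Subgroup.subset_closure (isIcoReflection_rho i)

theorem qip_vecOf {v : V3} (hl : v.IsLat) (hn : v.N16) :
    qip ((vecOf v hl : icoLeech) : Fin 3 → ℍ[ℝ]) ((vecOf v hl : icoLeech) : Fin 3 → ℍ[ℝ]) = 4 :=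
  (qip_self_eq_four v).2 hn

theorem reflOf_eq {v : V3} (hl : v.IsLat) (hn : v.N16) :
    reflOf v = reflPerm (vecOf v hl) (qip_vecOf hl hn) := by
  unfold reflOf
  rw [dif_pos ⟨hl, hn⟩]

theorem reflPerm_congr {r r' : icoLeech} (h : r = r') (hr : qip (r : Fin 3 → ℍ[ℝ]) r = 4)
    (hr' : qip (r' : Fin 3 → ℍ[ℝ]) r' = 4) : reflPerm r hr = reflPerm r' hr' := by
  subst h
  rfl

/-- conjugation of reflections, in terms of integer vectors -/
theorem conj_reflOf {g : Equiv.Perm icoLeech} (hg : IsLin g) {v w : V3} (hl : v.IsLat)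
    (hn : v.N16) (hl' : w.IsLat) (hn' : w.N16)
    (h : ((g (vecOf v hl) : icoLeech) : Fin 3 → ℍ[ℝ]) = toV w) :
    g * reflOf v * g⁻¹ = reflOf w := by
  rw [reflOf_eq hl hn, reflOf_eq hl' hn', conj_reflPerm hg]
  exact reflPerm_congr (Subtype.ext h) _ _

theorem isIcoReflection_conj {g : Equiv.Perm icoLeech} (hg : IsLin g)
    {f : Equiv.Perm icoLeech} (hf : IsIcoReflection f) : IsIcoReflection (g * f * g⁻¹) := by
  obtain ⟨r, hr, h⟩ := hf
  rw [eq_reflPerm r hr h, conj_reflPerm hg]
  exact isIcoReflection_reflPerm _ _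

theorem exists_act (g : linSub) (i : Fin 315) :
    ∃ j, (g : Equiv.Perm icoLeech) * rho i * (g : Equiv.Perm icoLeech)⁻¹ = rho j :=
  exists_rho (isIcoReflection_conj g.2 (isIcoReflection_rho i))

/-- the action on the indices of the reflections -/
noncomputable def act (g : linSub) (i : Fin 315) : Fin 315 := Classical.choose (exists_act g i)

theorem act_spec (g : linSub) (i : Fin 315) :
    (g : Equiv.Perm icoLeech) * rho i * (g : Equiv.Perm icoLeech)⁻¹ = rho (act g i) :=
  Classical.choose_spec (exists_act g i)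

theorem act_eq {g : linSub} {i j : Fin 315}
    (h : (g : Equiv.Perm icoLeech) * rho i * (g : Equiv.Perm icoLeech)⁻¹ = rho j) :
    act g i = j :=
  rho_injective (by rw [← act_spec, h])

noncomputable instance actionLin : MulAction linSub (Fin 315) where
  smul := act
  one_smul i := act_eq (by simp)
  mul_smul g h i := by
    show act (g * h) i = act g (act h i)
    apply act_eq
    rw [← act_spec, ← act_spec]
    simp only [Subgroup.coe_mul, mul_inv_rev, mul_assoc]

theorem smul_def (g : linSub) (i : Fin 315) : g • i = act g i := rfl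

/-- the permutation representation on the reflections -/
noncomputable def psiL : linSub →* Equiv.Perm (Fin 315) := MulAction.toPermHom linSub (Fin 315)

theorem psiL_apply (g : linSub) (i : Fin 315) : psiL g i = act g i := rfl

theorem psiL_spec (g : linSub) (i : Fin 315) :
    (g : Equiv.Perm icoLeech) * rho i * (g : Equiv.Perm icoLeech)⁻¹ = rho (psiL g i) :=
  act_spec g i

/-- the permutation representation of the reflection group -/
noncomputable def psi : twoJ2 →* Equiv.Perm (Fin 315) :=
  psiL.comp (Subgroup.inclusion twoJ2_le_linSub)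

theorem psi_spec (g : twoJ2) (i : Fin 315) :
    (g : Equiv.Perm icoLeech) * rho i * (g : Equiv.Perm icoLeech)⁻¹ = rho (psi g i) :=
  psiL_spec (Subgroup.inclusion twoJ2_le_linSub g) i

theorem psi_eq {g : twoJ2} {i j : Fin 315}
    (h : (g : Equiv.Perm icoLeech) * rho i * (g : Equiv.Perm icoLeech)⁻¹ = rho j) :
    psi g i = j :=
  rho_injective (by rw [← psi_spec, h])

/-- the kernel is the centre -/
theorem ker_psi : psi.ker = Subgroup.center twoJ2 := by
  ext g
  rw [MonoidHom.mem_ker, Subgroup.mem_center_iff]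
  constructor
  · intro hg h
    have hc : ∀ i, (g : Equiv.Perm icoLeech) * rho i = rho i * (g : Equiv.Perm icoLeech) := by
      intro i
      have := psi_spec g i
      rw [hg, Equiv.Perm.one_apply] at this
      exact mul_inv_eq_iff_eq_mul.1 this
    have hle : twoJ2 ≤ Subgroup.centralizer {(g : Equiv.Perm icoLeech)} := by
      unfold twoJ2
      rw [Subgroup.closure_le]
      intro f hf
      obtain ⟨i, rfl⟩ := exists_rho hf
      rw [SetLike.mem_coe, Subgroup.mem_centralizer_iff]
      intro k hk
      rw [Set.mem_singleton_iff] at hk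
      rw [hk]
      exact hc i
    have := hle h.2
    rw [Subgroup.mem_centralizer_iff] at this
    apply Subtype.ext
    have h2 := this g rfl
    simp only [Subgroup.coe_mul]
    exact h2.symm
  · intro hg
    ext i : 1
    rw [Equiv.Perm.one_apply]
    apply psi_eq
    have := hg ⟨rho i, rho_mem i⟩
    have h2 := congrArg Subtype.val this
    simp only [Subgroup.coe_mul] at h2
    rw [← h2]
    group

end Cfsg.Agent.Helper29.J2
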