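import Cfsg.Agent.Lib.Helper29.J2GDefs

/-! Kernel-evaluated checks for the Hall-Janko group on 315 points (generated). -/

set_option autoImplicit false

namespace Cfsg.Agent.Helper29.J2K

open Cfsg.Agent.Helper26 Cfsg.Agent.Helper29.PP9 Cfsg.Agent.Helper29.J2D Cfsg.Agent.Helper29.J2C

theorem tree_all' : allR 1 323 treeOK = true := by decide +kernel
theorem base_all' : allB 315 baseOK = true := by decide +kernel
theorem node_all' : allB 315 nodeOK = true := by decide +kernel
theorem pt_all' : allB 315 ptOK = true := by decide +kernel
theorem valid_x1 : validOK X1P = true := by decide +kernel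
theorem valid_x2 : validOK X2P = true := by decide +kernel
theorem orb_all' : allR 1 314 orbOK = true := by decide +kernel
theorem prim_all' : allB 64 primOK = true := by decide +kernel
theorem ukey_all' : allB 1920 ukeyOK = true := by decide +kernel
theorem usort_all' : allB 1919 usortOK = true := by decide +kernel
theorem ufix_all' : allB 1920 ufixOK = true := by decide +kernel
theorem TT_zero : TT 0 = pid 315 := by decide +kernel
theorem UU_zero : UU 0 = pid 315 := by decide +kernel
theorem PT_zero : PT 0 = 0 := by decide +kernel
theorem CLS_zero : CLS 0 = 0 := by decide +kernel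
theorem GP0_eq : GP0 = UU k0 := by decide +kernel

end Cfsg.Agent.Helper29.J2K
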