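import Mathlib
import Cfsg.Agent.Lib.Helper26.Schreier
import Cfsg.Agent.Lib.Helper29.PermPack9
import Cfsg.Agent.Lib.Helper29.J2GData
import Cfsg.Agent.Lib.Helper29.J2GDataU

/-!
# Boolean checks on the data for the Hall-Janko group on 315 points
-/

set_option autoImplicit false

namespace Cfsg.Agent.Helper29.J2C

open Cfsg.Agent.Helper26 Cfsg.Agent.Helper29.PP9 Cfsg.Agent.Helper29.J2D

/-- Forced product of packed permutations of 315 points. -/
def pmF (P Q : ℕ) : ℕ := seqN P fun P => seqN Q fun Q => pmul 315 P Q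

theorem pmF_eq (P Q : ℕ) : pmF P Q = pmul 315 P Q := by
  simp only [pmF, seqN_eq]

/-- Packed generator. -/
def gP (g : ℕ) : ℕ := cond (Nat.beq g 0) X1P X2P

/-- The node of the image of the node `i` under the generator `g`. -/
def tau (g i : ℕ) : ℕ := cond (Nat.beq g 0) (TAU0 i) (TAU1 i)

/-- `SIG`. -/
def sig (g i : ℕ) : ℕ := cond (Nat.beq g 0) (SIG0 i) (SIG1 i)

/-- All entries are points. -/
def validOK (P : ℕ) : Bool := allB 315 fun i => Nat.blt (ent P i) 315

/-- The tree check at index `i`. -/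
def treeOK (i : ℕ) : Bool :=
  Nat.blt (PAR i) i && Nat.beq (TT i) (pmF (gP (LAB i)) (TT (PAR i)))

/-- The transversal element of the node `i` maps `0` to the point of the node. -/
def baseOK (i : ℕ) : Bool := Nat.beq (ent (TT i) 0) (PT i)

/-- The nodes are determined by their points. -/
def nodeOK (i : ℕ) : Bool := Nat.beq (NODE (PT i)) i

/-- Every point has a node. -/
def ptOK (p : ℕ) : Bool := Nat.blt (NODE p) 315 && Nat.beq (PT (NODE p)) p

/-- The Schreier check. -/
def schOK (g i : ℕ) : Bool :=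
  Nat.blt (tau g i) nPts && Nat.blt (sig g i) nH &&
    Nat.beq (pmF (gP g) (TT i)) (pmF (TT (tau g i)) (UU (sig g i)))

/-- Packed generators of the stabilizer. -/
def hP (s : ℕ) : ℕ := cond (Nat.beq s 0) (TT idx_h1) (TT idx_h2)

/-- `UTAU`. -/
def utau (s k : ℕ) : ℕ := cond (Nat.beq s 0) (UTAU0 k) (UTAU1 k)

/-- The tree check in the stabilizer. -/
def utreeOK (k : ℕ) : Bool :=
  Nat.blt (UPAR k) k && Nat.beq (UU k) (pmF (hP (ULAB k)) (UU (UPAR k)))

/-- Closure check in the stabilizer. -/
def uschOK (s k : ℕ) : Bool :=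
  Nat.blt (utau s k) nH && Nat.beq (pmF (hP s) (UU k)) (UU (utau s k))

/-- Key check in the stabilizer. -/
def ukeyOK (k : ℕ) : Bool := Nat.blt (UPI k) nH && Nat.beq (UPINV (UPI k)) k

/-- Sortedness in the stabilizer. -/
def usortOK (m : ℕ) : Bool := Nat.blt (UU (UPINV m)) (UU (UPINV (m + 1)))

/-- The stabilizer elements fix the point `0`. -/
def ufixOK (k : ℕ) : Bool := Nat.beq (ent (UU k) 0) 0

/-- Every point other than `0` is the image of its class point under a stabilizer element. -/
def orbOK (x : ℕ) : Bool :=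
  Nat.blt (KX x) nH && Nat.beq (ent (UU (KX x)) (clsPt (CLS x))) x &&
    Nat.blt 0 (CLS x) && Nat.blt (CLS x) 6

/-- The number of points whose class belongs to the set with bit mask `m`. -/
def clsCnt (m : ℕ) : ℕ :=
  Nat.rec 0 (fun x acc => cond (Nat.testBit m (CLS x)) (acc + 1) acc) 315

/-- No proper union of classes containing the class of `0` has a size dividing `315`. -/
def primOK (m : ℕ) : Bool :=
  seqN (clsCnt m) fun c =>
    !(Nat.testBit m 0) || !(Nat.beq (315 % c) 0) || Nat.beq c 1 || Nat.beq c 315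

end Cfsg.Agent.Helper29.J2C
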