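import Mathlib
import Cfsg.Agent.Lib.Helper29.J2GMain

/-!
# The Hall-Janko group on 315 points is primitive and simple
-/

set_option autoImplicit false

namespace Cfsg.Agent.Helper29.J2G

open MulAction
open scoped Pointwise
open Cfsg.Spor
open Cfsg.Agent.Helper26 Cfsg.Agent.Helper29.PP9 Cfsg.Agent.Helper29.J2D
  Cfsg.Agent.Helper29.J2C Cfsg.Agent.Helper29.J2K Cfsg.Agent.Helper29.J2

theorem x1_mem : psi x1L ∈ G := Subgroup.subset_closure (by simp [SG])
theorem x2_mem : psi x2L ∈ G := Subgroup.subset_closure (by simp [SG])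

/-- first generator in `G` -/
noncomputable def cG : G := ⟨psi x1L, x1_mem⟩
/-- second generator in `G` -/
noncomputable def dG : G := ⟨psi x2L, x2_mem⟩

theorem closure_cd : Subgroup.closure ({cG, dG} : Set G) = ⊤ := by
  rw [eq_top_iff]
  intro g _
  let K : Subgroup A := (Subgroup.closure ({cG, dG} : Set G)).map G.subtype
  have haK : psi x1L ∈ K := ⟨cG, Subgroup.subset_closure (by simp), rfl⟩
  have hbK : psi x2L ∈ K := ⟨dG, Subgroup.subset_closure (by simp), rfl⟩
  have hle : G ≤ K := by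
    unfold G
    rw [Subgroup.closure_le]
    intro y hy
    rcases hy with rfl | rfl
    · exact haK
    · exact hbK
  obtain ⟨k, hk, hkg⟩ := hle g.2
  have : k = g := Subtype.ext hkg
  rw [← this]; exact hk

theorem c_pow : (psi x1L) ^ 7 = 1 := by
  apply val_inj
  rw [map_pow, val_x1, map_one, ← d_one, ← pow_x1, d_mul, d_mul, d_mul, d_mul, d_mul, d_mul]
  simp only [pow_succ, pow_zero, one_mul]

theorem d_pow : (psi x2L) ^ 7 = 1 := by
  apply val_inj
  rw [map_pow, val_x2, map_one, ← d_one, ← pow_x2, d_mul, d_mul, d_mul, d_mul, d_mul, d_mul]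
  simp only [pow_succ, pow_zero, one_mul]

theorem cG_pow : cG ^ 7 = 1 := Subtype.ext c_pow
theorem dG_pow : dG ^ 7 = 1 := Subtype.ext d_pow

theorem smul_G (g : G) (x : Fin 315) : g • x = (g : A) x := rfl

instance pretransitive_G : IsPretransitive G (Fin 315) := by
  refine ⟨fun x y => ⟨⟨E (nodeOf y) * (E (nodeOf x))⁻¹,
    Subgroup.mul_mem _ (E_mem _) (Subgroup.inv_mem _ (E_mem _))⟩, ?_⟩⟩
  rw [smul_G]
  show (E (nodeOf y) * (E (nodeOf x))⁻¹) x = y
  rw [Equiv.Perm.mul_apply]
  have h : (E (nodeOf x))⁻¹ x = 0 := by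
    rw [Equiv.Perm.inv_def, Equiv.symm_apply_eq, E_nodeOf]
  rw [h, E_nodeOf]

/-- The stabilizer elements as elements of `G`. -/
noncomputable def UG (k : ℕ) : G := ⟨U k, H_le (U_mem k)⟩

theorem orbOK_spec (x : Fin 315) (hx : x ≠ 0) :
    KX x.val < J2D.nH ∧ ent (UU (KX x.val)) (clsPt (CLS x.val)) = x.val ∧
      0 < CLS x.val ∧ CLS x.val < 6 := by
  have h1 : 1 ≤ x.val := by
    rcases Nat.eq_zero_or_pos x.val with h | h
    · exact absurd (Fin.ext h) hx
    · exact h
  have h := allR_true orb_all' x.val h1 (by have := x.isLt; omega)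
  unfold orbOK at h
  rw [Bool.and_eq_true, Bool.and_eq_true, Bool.and_eq_true] at h
  obtain ⟨⟨⟨h1, h2⟩, h3⟩, h4⟩ := h
  exact ⟨blt_lt h1, Nat.eq_of_beq_eq_true h2, blt_lt h3, blt_lt h4⟩

theorem clsPt_lt (c : ℕ) : clsPt c < 315 := by
  unfold clsPt
  cases Nat.ble 3 c <;> cases Nat.ble 4 c <;> cases Nat.ble 5 c <;> cases Nat.ble 2 c <;> decide

/-- Every point other than `0` is the image of its class point under a stabilizer element. -/
theorem U_orb (x : Fin 315) (hx : x ≠ 0) :
    U (KX x.val) ⟨clsPt (CLS x.val), clsPt_lt _⟩ = x := by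
  obtain ⟨h1, h2, _⟩ := orbOK_spec x hx
  apply Fin.ext
  have e : (val (U (KX x.val)) ⟨clsPt (CLS x.val), clsPt_lt _⟩).val =
      ent (UU (KX x.val)) (clsPt (CLS x.val)) % 315 := by
    rw [U_val _ h1]; rfl
  rw [val_apply] at e
  rw [e, h2]
  exact Nat.mod_eq_of_lt x.isLt

theorem CLS_lt (x : Fin 315) : CLS x.val < 6 := by
  by_cases hx : x = 0
  · rw [hx]
    show CLS 0 < 6
    rw [CLS_zero]; norm_num
  · exact (orbOK_spec x hx).2.2.2

theorem CLS_eq_zero {x : Fin 315} (h : CLS x.val = 0) : x = 0 := by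
  by_contra hx
  have := (orbOK_spec x hx).2.2.1
  omega

/-! ### Counting -/

/-- the number of `x < n` with `p x` -/
def cntB (p : ℕ → Bool) (n : ℕ) : ℕ := Nat.rec 0 (fun x acc => cond (p x) (acc + 1) acc) n

theorem cntB_succ (p : ℕ → Bool) (n : ℕ) : cntB p (n + 1) = cond (p n) (cntB p n + 1) (cntB p n) :=
  rfl

theorem cntB_eq (p : ℕ → Bool) (n : ℕ) :
    cntB p n = ((Finset.range n).filter (fun x => p x = true)).card := by
  induction n with
  | zero => rfl
  | succ n ih =>
    rw [cntB_succ, Finset.range_add_one, Finset.filter_insert]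
    cases h : p n
    · simp [ih]
    · rw [if_pos rfl, Finset.card_insert_of_notMem (by simp), ih]
      rfl

theorem card_filter_fin (p : ℕ → Bool) (n : ℕ) :
    (Finset.univ.filter (fun y : Fin n => p y.val = true)).card = cntB p n := by
  rw [cntB_eq]
  have e : (Finset.univ.filter (fun y : Fin n => p y.val = true)).map Fin.valEmbedding =
      (Finset.range n).filter (fun x => p x = true) := by
    ext x
    simp only [Finset.mem_map, Finset.mem_filter, Finset.mem_univ, true_and, Finset.mem_range,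
      Fin.valEmbedding_apply]
    constructor
    · rintro ⟨y, hy, rfl⟩
      exact ⟨y.isLt, hy⟩
    · rintro ⟨hx, hp⟩
      exact ⟨⟨x, hx⟩, hp, rfl⟩
  rw [← e, Finset.card_map]

theorem clsCnt_eq_aux (m n : ℕ) :
    (Nat.rec 0 (fun x acc => cond (Nat.testBit m (CLS x)) (acc + 1) acc) n : ℕ) =
      cntB (fun x => Nat.testBit m (CLS x)) n := rfl

theorem clsCnt_eq (m : ℕ) : clsCnt m = cntB (fun x => Nat.testBit m (CLS x)) 315 :=
  clsCnt_eq_aux m 315

/-- the number with given six bits -/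
def bitsN (b0 b1 b2 b3 b4 b5 : Bool) : ℕ :=
  b0.toNat + 2 * b1.toNat + 4 * b2.toNat + 8 * b3.toNat + 16 * b4.toNat + 32 * b5.toNat

/-- selecting one of six bits -/
def selB (b0 b1 b2 b3 b4 b5 : Bool) (c : ℕ) : Bool :=
  match c with
  | 0 => b0 | 1 => b1 | 2 => b2 | 3 => b3 | 4 => b4 | 5 => b5 | _ => false

theorem testBit_bitsN : ∀ b0 b1 b2 b3 b4 b5 : Bool, ∀ c, c < 6 →
    Nat.testBit (bitsN b0 b1 b2 b3 b4 b5) c = selB b0 b1 b2 b3 b4 b5 c := by
  intro b0 b1 b2 b3 b4 b5 c hc
  interval_cases c <;> cases b0 <;> cases b1 <;> cases b2 <;> cases b3 <;> cases b4 <;>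
    cases b5 <;> rfl

theorem bitsN_lt : ∀ b0 b1 b2 b3 b4 b5 : Bool, bitsN b0 b1 b2 b3 b4 b5 < 64 := by
  intro b0 b1 b2 b3 b4 b5
  cases b0 <;> cases b1 <;> cases b2 <;> cases b3 <;> cases b4 <;> cases b5 <;> decide

section Blocks

variable {B : Set (Fin 315)} (h0 : (0 : Fin 315) ∈ B) (hB : IsBlock G B)

include h0 hB

theorem UG_smul (k : ℕ) (hk : k < J2D.nH) : UG k • B = B := by
  apply hB.smul_eq_of_mem h0
  rw [smul_G]
  show U k 0 ∈ B
  rw [U_fix k hk]
  exact h0

theorem U_mem_B (k : ℕ) (hk : k < J2D.nH) {x : Fin 315} (hx : x ∈ B) : U k x ∈ B := by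
  have h := UG_smul h0 hB k hk
  rw [← h]
  exact ⟨x, hx, rfl⟩

theorem U_inv_mem_B (k : ℕ) (hk : k < J2D.nH) {x : Fin 315} (hx : U k x ∈ B) : x ∈ B := by
  have h := UG_smul h0 hB k hk
  rw [← h] at hx
  obtain ⟨y, hy, hyx⟩ := hx
  have : y = x := (U k).injective hyx
  rw [← this]; exact hy

/-- A block containing `0` and a point of some class contains the whole class. -/
theorem class_mem {x y : Fin 315} (hx : x ∈ B) (hx0 : x ≠ 0) (hy0 : y ≠ 0)
    (hc : CLS x.val = CLS y.val) : y ∈ B := by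
  have hp : (⟨clsPt (CLS x.val), clsPt_lt _⟩ : Fin 315) ∈ B := by
    apply U_inv_mem_B h0 hB (KX x.val) (orbOK_spec x hx0).1
    rw [U_orb x hx0]
    exact hx
  have e : (⟨clsPt (CLS x.val), clsPt_lt _⟩ : Fin 315) = ⟨clsPt (CLS y.val), clsPt_lt _⟩ :=
    Fin.ext (by rw [hc])
  rw [e] at hp
  have := U_mem_B h0 hB (KX y.val) (orbOK_spec y hy0).1 hp
  rw [U_orb y hy0] at this
  exact this

theorem block_trivial : IsTrivialBlock B := by
  classical
  have hdvd : B.ncard ∣ 315 := by
    have := hB.ncard_dvd_card ⟨0, h0⟩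
    rwa [Nat.card_eq_fintype_card, Fintype.card_fin] at this
  -- the classes meeting the block
  obtain ⟨bc, hbc⟩ : ∃ bc : ℕ → Bool, ∀ c, bc c = true ↔ ∃ x ∈ B, CLS x.val = c :=
    ⟨fun c => decide (∃ x ∈ B, CLS x.val = c), fun c => by simp⟩
  obtain ⟨m, hm⟩ : ∃ m : ℕ, m = bitsN (bc 0) (bc 1) (bc 2) (bc 3) (bc 4) (bc 5) := ⟨_, rfl⟩
  have hsel : ∀ c, c < 6 → Nat.testBit m c = bc c := by
    intro c hc
    rw [hm, testBit_bitsN _ _ _ _ _ _ c hc]
    interval_cases c <;> rfl
  have hBeq : B = ↑(Finset.univ.filter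
      (fun y : Fin 315 => (fun x => Nat.testBit m (CLS x)) y.val = true)) := by
    ext y
    simp only [Finset.coe_filter, Finset.mem_univ, true_and, Set.mem_ofPred_eq]
    rw [hsel _ (CLS_lt y), hbc]
    constructor
    · intro hy
      exact ⟨y, hy, rfl⟩
    · rintro ⟨x, hx, hc⟩
      by_cases hy0 : y = 0
      · rw [hy0]; exact h0
      · have hx0 : x ≠ 0 := by
          intro h
          rw [h] at hc
          have : CLS y.val = 0 := by rw [← hc]; exact CLS_zero
          exact hy0 (CLS_eq_zero this)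
        exact class_mem h0 hB hx hx0 hy0 hc
  have hcard : B.ncard = clsCnt m := by
    have h1 := card_filter_fin (fun x => Nat.testBit m (CLS x)) 315
    rw [hBeq, Set.ncard_coe_finset, clsCnt_eq]
    exact h1
  have hm0 : Nat.testBit m 0 = true := by
    rw [hsel 0 (by norm_num), hbc]
    exact ⟨0, h0, CLS_zero⟩
  have hp := allB_true prim_all' m (by rw [hm]; exact bitsN_lt _ _ _ _ _ _)
  unfold primOK at hp
  rw [seqN_eq, hm0] at hp
  rw [hcard] at hdvd
  have hmod : Nat.beq (315 % clsCnt m) 0 = true := by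
    rw [Nat.mod_eq_zero_of_dvd hdvd]
    rfl
  rw [hmod] at hp
  simp only [Bool.not_true, Bool.false_or, Bool.or_eq_true] at hp
  rcases hp with hp | hp
  · left
    have hp := Nat.eq_of_beq_eq_true hp
    rw [← hcard] at hp
    obtain ⟨a, ha⟩ := Set.ncard_eq_one.1 hp
    rw [ha]
    exact Set.subsingleton_singleton
  · right
    have hp := Nat.eq_of_beq_eq_true hp
    rw [← hcard] at hp
    apply Set.eq_of_subset_of_ncard_le (Set.subset_univ _)
    · rw [Set.ncard_univ, Nat.card_eq_fintype_card, Fintype.card_fin, hp]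

end Blocks

instance preprimitive_G : IsPreprimitive G (Fin 315) :=
  IsPreprimitive.of_isTrivialBlock_base 0 (fun h0 hB => block_trivial h0 hB)

/-- The group is simple. -/
theorem simple_G : IsSimpleGroup G := by
  have hnt : Nontrivial G := by
    have : 1 < Nat.card G := by rw [card_G]; norm_num
    have hfin : Finite G := Nat.finite_of_card_ne_zero (by rw [card_G]; norm_num)
    exact Finite.one_lt_card_iff_nontrivial.mp this
  refine { eq_bot_or_eq_top_of_normal := fun N hN => ?_ }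
  by_cases hbot : N = ⊥
  · left; exact hbot
  right
  have hfix : fixedPoints N (Fin 315) ≠ Set.univ := by
    intro h
    apply hbot
    rw [Subgroup.eq_bot_iff_forall]
    intro n hn
    apply Subtype.ext
    apply Equiv.ext
    intro x
    have hx : x ∈ fixedPoints N (Fin 315) := by rw [h]; trivial
    exact hx ⟨n, hn⟩
  have htr : IsPretransitive N (Fin 315) :=
    IsQuasiPreprimitive.isPretransitive_of_normal hfix
  have hidx : (stabilizer N (0 : Fin 315)).index = 315 := by
    rw [index_stabilizer_of_transitive, Nat.card_eq_fintype_card, Fintype.card_fin]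
  have hdvd : 315 ∣ Nat.card N := by
    have h := Subgroup.index_dvd_card (stabilizer N (0 : Fin 315))
    rw [hidx] at h
    exact h
  have hcard : Nat.card (G ⧸ N) * Nat.card N = 604800 := by
    rw [← card_G]
    exact (Subgroup.card_eq_card_quotient_mul_card_subgroup N).symm
  have hq : Nat.Coprime 7 (Nat.card (G ⧸ N)) := by
    obtain ⟨m, hm⟩ := hdvd
    rw [hm] at hcard
    have h1920 : Nat.card (G ⧸ N) * m = 1920 := by
      have : Nat.card (G ⧸ N) * m * 315 = 1920 * 315 := by
        have e : (1920 * 315 : ℕ) = 604800 := by norm_num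
        rw [e, ← hcard]; ring
      exact Nat.eq_of_mul_eq_mul_right (by norm_num) this
    have hd : Nat.card (G ⧸ N) ∣ 1920 := Dvd.intro _ h1920
    exact Nat.Coprime.coprime_dvd_right hd (by norm_num)
  have hfinq : Finite (G ⧸ N) :=
    Nat.finite_of_card_ne_zero (by intro h; rw [h] at hcard; omega)
  have key : ∀ x : G, x ^ 7 = 1 → x ∈ N := by
    intro x hx
    have h1 : (QuotientGroup.mk' N x) ^ 7 = 1 := by rw [← map_pow, hx, map_one]
    have h2 : orderOf (QuotientGroup.mk' N x) ∣ 7 := orderOf_dvd_of_pow_eq_one h1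
    have h3 : orderOf (QuotientGroup.mk' N x) ∣ Nat.card (G ⧸ N) := orderOf_dvd_natCard _
    have h4 : orderOf (QuotientGroup.mk' N x) = 1 :=
      Nat.eq_one_of_dvd_coprimes hq h2 h3
    rw [orderOf_eq_one_iff] at h4
    exact (QuotientGroup.eq_one_iff x).mp h4
  rw [eq_top_iff, ← closure_cd, Subgroup.closure_le]
  intro g hg
  rcases hg with rfl | rfl
  · exact key _ cG_pow
  · exact key _ dG_pow

/-- The Hall-Janko group is simple. -/
theorem simple_J2 : IsSimpleGroup J2 := by
  have := simple_G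
  exact j2Equiv.isSimpleGroup

theorem not_comm_J2 : ∃ a b : J2, a * b ≠ b * a := by
  by_contra h
  push Not at h
  let _ : CommGroup J2 := { (inferInstance : Group J2) with mul_comm := h }
  have : IsSimpleGroup J2 := simple_J2
  have hp := IsSimpleGroup.prime_card (α := J2)
  rw [card_J2] at hp
  norm_num at hp

end Cfsg.Agent.Helper29.J2G
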