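import Mathlib
import Cfsg.Agent.Lib.Helper29.J2Act

/-!
# The kernel of the action on the reflections
-/

set_option autoImplicit false

namespace Cfsg.Agent.Helper29.J2

open Quaternion Cfsg.Spor

theorem neg_mem_icoLeech {v : Fin 3 → ℍ[ℝ]} (hv : v ∈ icoLeech) : (fun t => -v t) ∈ icoLeech := by
  have h := smul_mem_icoLeech (Subring.neg_mem _ (Subring.one_mem icosians)) hv
  have e : (fun t => -1 * v t) = fun t => -v t := by
    funext t
    rw [neg_one_mul]
  rw [← e]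
  exact h

/-- the central involution -/
noncomputable def negPerm : Equiv.Perm icoLeech where
  toFun x := ⟨fun t => -(x : Fin 3 → ℍ[ℝ]) t, neg_mem_icoLeech x.2⟩
  invFun x := ⟨fun t => -(x : Fin 3 → ℍ[ℝ]) t, neg_mem_icoLeech x.2⟩
  left_inv x := by
    apply Subtype.ext
    funext t
    simp
  right_inv x := by
    apply Subtype.ext
    funext t
    simp

theorem negPerm_apply (x : icoLeech) (t : Fin 3) :
    ((negPerm x : icoLeech) : Fin 3 → ℍ[ℝ]) t = -(x : Fin 3 → ℍ[ℝ]) t := rfl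

/-- the lattice vector `-1`, as an icosian -/
def negOne : icosians := ⟨-1, Subring.neg_mem _ (Subring.one_mem _)⟩

theorem negPerm_eq (x : icoLeech) : negPerm x = lsmul negOne x := by
  apply Subtype.ext
  funext t
  rw [negPerm_apply, lsmul_apply]
  show _ = (-1 : ℍ[ℝ]) * _
  rw [neg_one_mul]

theorem negPerm_comm {g : Equiv.Perm icoLeech} (hg : IsLin g) : g * negPerm = negPerm * g := by
  ext x : 1
  show g (negPerm x) = negPerm (g x)
  rw [negPerm_eq, negPerm_eq, hg.smul]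

theorem negPerm_ne_one : negPerm ≠ 1 := by
  intro h
  have hl : (repN 314).IsLat := repN_lat (by norm_num)
  have h1 := congrArg (fun f : Equiv.Perm icoLeech => ((f (vecOf (repN 314) hl) : icoLeech) :
    Fin 3 → ℍ[ℝ]) 0) h
  simp only [Equiv.Perm.one_apply] at h1
  rw [negPerm_apply] at h1
  have h2 : ((vecOf (repN 314) hl : icoLeech) : Fin 3 → ℍ[ℝ]) 0 = 2 := by
    show toV (repN 314) 0 = 2
    have : repN 314 = ⟨TWO, Ic.zero, Ic.zero⟩ := by decide +kernel
    rw [this, toV_zero, toH_TWO]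
  rw [h2] at h1
  have h3 : (2 : ℍ[ℝ]) + 2 = 0 := by
    nth_rewrite 1 [← h1]
    simp
  have h4 : (2 : ℍ[ℝ]) * 2 = 0 := by rw [mul_two]; exact h3
  rcases mul_eq_zero.1 h4 with h5 | h5 <;> exact two_ne_zeroH h5

/-- an isometry commuting with a reflection maps its vector to a unit multiple -/
theorem fix_line {z : Equiv.Perm icoLeech} (hz : IsLin z) {i : ℕ} (hi : i < 315)
    (hc : z * reflOf (repN i) * z⁻¹ = reflOf (repN i)) :
    ∃ u ∈ unitsL, ((z (vecOf (repN i) (repN_lat hi)) : icoLeech) : Fin 3 → ℍ[ℝ]) =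
      toV (V3.lmul u (repN i)) := by
  obtain ⟨w, hw, e⟩ := exists_of_mem (z (vecOf (repN i) (repN_lat hi))).2
  have hn : w.N16 := by
    apply (qip_self_eq_four w).1
    rw [← e, hz.iso]
    exact qip_vecOf (repN_lat hi) (repN_n16 hi)
  obtain ⟨u, hu, r', hr', e2⟩ := enum w hw hn
  have h1 : z * reflOf (repN i) * z⁻¹ = reflOf w :=
    conj_reflOf hz (repN_lat hi) (repN_n16 hi) hw hn e
  rw [hc, e2, reflOf_lmul (unitsL_unit u hu) (repL_ok hr').1 (repL_ok hr').2] at h1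
  have h2 := reflOf_injOn (repN_mem hi) hr' h1
  exact ⟨u, hu, by rw [e, e2, h2]⟩

theorem repN_314 : repN 314 = ⟨TWO, Ic.zero, Ic.zero⟩ := by decide +kernel
theorem repN_73 : repN 73 = ⟨Ic.zero, TWO, Ic.zero⟩ := by decide +kernel
theorem repN_64 : repN 64 = ⟨Ic.zero, Ic.zero, TWO⟩ := by decide +kernel

theorem toV_E0 : toV (repN 314) = ![2, 0, 0] := by
  rw [repN_314]; unfold toV; rw [toH_TWO, toH_zero]
theorem toV_E1 : toV (repN 73) = ![0, 2, 0] := by
  rw [repN_73]; unfold toV; rw [toH_TWO, toH_zero]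
theorem toV_E2 : toV (repN 64) = ![0, 0, 2] := by
  rw [repN_64]; unfold toV; rw [toH_TWO, toH_zero]

theorem two_mem : (2 : ℍ[ℝ]) ∈ icosians := by
  rw [← one_add_one_eq_two]
  exact Subring.add_mem _ (Subring.one_mem _) (Subring.one_mem _)

/-- the coordinates of a lattice vector, as icosians -/
def coordI (x : icoLeech) (t : Fin 3) : icosians := ⟨(x : Fin 3 → ℍ[ℝ]) t, x.2.1 t⟩

theorem two_smul_eq (x : icoLeech) :
    lsmul ⟨2, two_mem⟩ x =
      ladd (ladd (lsmul (coordI x 0) (vecOf (repN 314) (repN_lat (by norm_num))))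
        (lsmul (coordI x 1) (vecOf (repN 73) (repN_lat (by norm_num)))))
        (lsmul (coordI x 2) (vecOf (repN 64) (repN_lat (by norm_num)))) := by
  apply Subtype.ext
  funext t
  rw [ladd_apply, ladd_apply, lsmul_apply, lsmul_apply, lsmul_apply, lsmul_apply]
  show (2 : ℍ[ℝ]) * _ = (x : Fin 3 → ℍ[ℝ]) 0 * toV (repN 314) t +
    (x : Fin 3 → ℍ[ℝ]) 1 * toV (repN 73) t + (x : Fin 3 → ℍ[ℝ]) 2 * toV (repN 64) t
  rw [toV_E0, toV_E1, toV_E2]
  fin_cases t
  · simp [two_mul_comm]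
  · simp [two_mul_comm]
  · simp [two_mul_comm]

theorem coords {z : Equiv.Perm icoLeech} (hz : IsLin z)
    (hc : ∀ i, i < 315 → z * reflOf (repN i) * z⁻¹ = reflOf (repN i)) :
    ∃ u0 ∈ unitsL, ∃ u1 ∈ unitsL, ∃ u2 ∈ unitsL, ∀ x : icoLeech,
      ((z x : icoLeech) : Fin 3 → ℍ[ℝ]) 0 = (x : Fin 3 → ℍ[ℝ]) 0 * toH u0 ∧
      ((z x : icoLeech) : Fin 3 → ℍ[ℝ]) 1 = (x : Fin 3 → ℍ[ℝ]) 1 * toH u1 ∧
      ((z x : icoLeech) : Fin 3 → ℍ[ℝ]) 2 = (x : Fin 3 → ℍ[ℝ]) 2 * toH u2 := by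
  obtain ⟨u0, hu0, e0⟩ := fix_line hz (by norm_num : 314 < 315) (hc _ (by norm_num))
  obtain ⟨u1, hu1, e1⟩ := fix_line hz (by norm_num : 73 < 315) (hc _ (by norm_num))
  obtain ⟨u2, hu2, e2⟩ := fix_line hz (by norm_num : 64 < 315) (hc _ (by norm_num))
  rw [toV_lmul (unitsL_unit u0 hu0).1 (repN_lat (by norm_num)), toV_E0] at e0
  rw [toV_lmul (unitsL_unit u1 hu1).1 (repN_lat (by norm_num)), toV_E1] at e1
  rw [toV_lmul (unitsL_unit u2 hu2).1 (repN_lat (by norm_num)), toV_E2] at e2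
  refine ⟨u0, hu0, u1, hu1, u2, hu2, fun x => ?_⟩
  have h := congrArg z (two_smul_eq x)
  rw [hz.smul, hz.add, hz.add, hz.smul, hz.smul, hz.smul] at h
  have hv := congrArg Subtype.val h
  have key : ∀ t, (2 : ℍ[ℝ]) * ((z x : icoLeech) : Fin 3 → ℍ[ℝ]) t =
      (x : Fin 3 → ℍ[ℝ]) 0 * (toH u0 * (![2, 0, 0] : Fin 3 → ℍ[ℝ]) t) +
      (x : Fin 3 → ℍ[ℝ]) 1 * (toH u1 * (![0, 2, 0] : Fin 3 → ℍ[ℝ]) t) +
      (x : Fin 3 → ℍ[ℝ]) 2 * (toH u2 * (![0, 0, 2] : Fin 3 → ℍ[ℝ]) t) := by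
    intro t
    have ht := congrFun hv t
    rw [lsmul_apply, ladd_apply, ladd_apply, lsmul_apply, lsmul_apply, lsmul_apply, e0, e1, e2]
      at ht
    exact ht
  have cancel : ∀ a b c : ℍ[ℝ], 2 * a = b * (c * 2) → a = b * c := by
    intro a b c h
    rw [two_mul_comm, ← mul_assoc, two_mul_comm, mul_assoc] at h
    exact mul_left_cancel₀ two_ne_zeroH h
  refine ⟨cancel _ _ _ ?_, cancel _ _ _ ?_, cancel _ _ _ ?_⟩
  · have := key 0
    simpa using this
  · have := key 1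
    simpa using this
  · have := key 2
    simpa using this

/-- an icosian of norm `2` commuting only with `±1` among the units -/
def Y0 : Ic := ⟨-1, 0, -1, 0, 1, 0, -1, 2⟩

theorem repN_306 : repN 306 = ⟨ONE, ONE, Y0⟩ := by decide +kernel
theorem repN_169 : repN 169 = ⟨ONE, Y0, ONE⟩ := by decide +kernel

theorem comm_chk : ∀ u ∈ unitsL, Ic.mul Y0 u = Ic.mul u Y0 → u = ONE ∨ u = Ic.neg ONE := by
  decide +kernel

theorem isIco_Y0 : Y0.IsIco := by
  have h := (repN_lat (by norm_num : 169 < 315)).2.1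
  rw [repN_169] at h
  exact h

theorem ker_cases {z : Equiv.Perm icoLeech} (hz : IsLin z)
    (hc : ∀ i, i < 315 → z * reflOf (repN i) * z⁻¹ = reflOf (repN i)) :
    z = 1 ∨ z = negPerm := by
  obtain ⟨u0, hu0, u1, hu1, u2, hu2, hx⟩ := coords hz hc
  obtain ⟨v, hv, e⟩ := fix_line hz (by norm_num : 306 < 315) (hc _ (by norm_num))
  obtain ⟨v', hv', e'⟩ := fix_line hz (by norm_num : 169 < 315) (hc _ (by norm_num))
  rw [toV_lmul (unitsL_unit v hv).1 (repN_lat (by norm_num))] at e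
  rw [toV_lmul (unitsL_unit v' hv').1 (repN_lat (by norm_num))] at e'
  have a0 := congrFun e 0
  have a1 := congrFun e 1
  have b0 := congrFun e' 0
  have b1 := congrFun e' 1
  have b2 := congrFun e' 2
  rw [(hx _).1] at a0 b0
  rw [(hx _).2.1] at a1 b1
  rw [(hx _).2.2] at b2
  have c0 : ((vecOf (repN 306) (repN_lat (by norm_num)) : icoLeech) : Fin 3 → ℍ[ℝ]) =
      toV ⟨ONE, ONE, Y0⟩ := by rw [← repN_306]; rfl
  have c1 : ((vecOf (repN 169) (repN_lat (by norm_num)) : icoLeech) : Fin 3 → ℍ[ℝ]) =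
      toV ⟨ONE, Y0, ONE⟩ := by rw [← repN_169]; rfl
  rw [c0, repN_306] at a0 a1
  rw [c1, repN_169] at b0 b1 b2
  simp only [toV_zero, toV_one, toV_two, toH_ONE, one_mul, mul_one] at a0 a1 b0 b1 b2
  have h10 : toH u1 = toH u0 := by rw [a1, a0]
  have h20 : toH u2 = toH u0 := by rw [b2, b0]
  have hcomm : toH Y0 * toH u0 = toH u0 * toH Y0 := by rw [← h10, b1, h10, b0]
  have hu0i : u0.IsIco := (unitsL_unit u0 hu0).1
  rw [← toH_mul' isIco_Y0 hu0i, ← toH_mul' hu0i isIco_Y0] at hcomm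
  rcases comm_chk u0 hu0 (toH_injective hcomm) with h | h
  · left
    have hu : toH u0 = 1 := by rw [h, toH_ONE]
    ext x : 1
    apply Subtype.ext
    funext t
    rw [Equiv.Perm.one_apply]
    have ht : t = 0 ∨ t = 1 ∨ t = 2 := by fin_cases t <;> simp
    rcases ht with rfl | rfl | rfl
    · rw [(hx x).1, hu, mul_one]
    · rw [(hx x).2.1, h10, hu, mul_one]
    · rw [(hx x).2.2, h20, hu, mul_one]
  · right
    have hu : toH u0 = -1 := by rw [h, toH_neg, toH_ONE]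
    ext x : 1
    apply Subtype.ext
    funext t
    rw [negPerm_apply]
    have ht : t = 0 ∨ t = 1 ∨ t = 2 := by fin_cases t <;> simp
    rcases ht with rfl | rfl | rfl
    · rw [(hx x).1, hu, mul_neg, mul_one]
    · rw [(hx x).2.1, h10, hu, mul_neg, mul_one]
    · rw [(hx x).2.2, h20, hu, mul_neg, mul_one]

/-! ### The central involution is a product of three reflections -/

theorem star_two : star (2 : ℍ[ℝ]) = 2 := by
  have h2 : (2 : ℍ[ℝ]) = ((2 : ℝ) : ℍ[ℝ]) := by norm_cast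
  rw [h2, Quaternion.star_coe]

theorem half_mul_two (a : ℍ[ℝ]) : (1 / 2 : ℝ) • (a * 2) = a := by
  rw [two_mul_comm, half_smul_two]

theorem sub_mul_two (a : ℍ[ℝ]) : a - a * 2 = -a := by
  rw [mul_two]; abel

theorem qrefl_E0 (x : Fin 3 → ℍ[ℝ]) : qrefl ![2, 0, 0] x = ![-x 0, x 1, x 2] := by
  have hq : (1 / 2 : ℝ) • qip x ![2, 0, 0] = x 0 := by
    rw [qip_def]
    show (1 / 2 : ℝ) • (x 0 * star (2 : ℍ[ℝ]) + x 1 * star (0 : ℍ[ℝ]) + x 2 * star (0 : ℍ[ℝ])) = x 0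
    rw [star_two, star_zero, mul_zero, mul_zero, add_zero, add_zero, half_mul_two]
  funext t
  show x t - ((1 / 2 : ℝ) • qip x ![2, 0, 0]) * (![2, 0, 0] : Fin 3 → ℍ[ℝ]) t = _
  rw [hq]
  fin_cases t <;> simp [sub_mul_two]

theorem qrefl_E1 (x : Fin 3 → ℍ[ℝ]) : qrefl ![0, 2, 0] x = ![x 0, -x 1, x 2] := by
  have hq : (1 / 2 : ℝ) • qip x ![0, 2, 0] = x 1 := by
    rw [qip_def]
    show (1 / 2 : ℝ) • (x 0 * star (0 : ℍ[ℝ]) + x 1 * star (2 : ℍ[ℝ]) + x 2 * star (0 : ℍ[ℝ])) = x 1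
    rw [star_two, star_zero, mul_zero, mul_zero, zero_add, add_zero, half_mul_two]
  funext t
  show x t - ((1 / 2 : ℝ) • qip x ![0, 2, 0]) * (![0, 2, 0] : Fin 3 → ℍ[ℝ]) t = _
  rw [hq]
  fin_cases t <;> simp [sub_mul_two]

theorem qrefl_E2 (x : Fin 3 → ℍ[ℝ]) : qrefl ![0, 0, 2] x = ![x 0, x 1, -x 2] := by
  have hq : (1 / 2 : ℝ) • qip x ![0, 0, 2] = x 2 := by
    rw [qip_def]
    show (1 / 2 : ℝ) • (x 0 * star (0 : ℍ[ℝ]) + x 1 * star (0 : ℍ[ℝ]) + x 2 * star (2 : ℍ[ℝ])) = x 2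
    rw [star_two, star_zero, mul_zero, mul_zero, zero_add, zero_add, half_mul_two]
  funext t
  show x t - ((1 / 2 : ℝ) • qip x ![0, 0, 2]) * (![0, 0, 2] : Fin 3 → ℍ[ℝ]) t = _
  rw [hq]
  fin_cases t <;> simp [sub_mul_two]

theorem negPerm_eq_prod :
    negPerm = reflOf (repN 314) * reflOf (repN 73) * reflOf (repN 64) := by
  ext x : 1
  apply Subtype.ext
  show _ = ((reflOf (repN 314) (reflOf (repN 73) (reflOf (repN 64) x)) : icoLeech) :
    Fin 3 → ℍ[ℝ])
  rw [reflOf_apply (repN_lat (by norm_num)) (repN_n16 (by norm_num)),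
    reflOf_apply (repN_lat (by norm_num)) (repN_n16 (by norm_num)),
    reflOf_apply (repN_lat (by norm_num)) (repN_n16 (by norm_num)),
    toV_E0, toV_E1, toV_E2, qrefl_E2, qrefl_E1, qrefl_E0]
  funext t
  rw [negPerm_apply]
  fin_cases t <;> simp

theorem negPerm_mem : negPerm ∈ twoJ2 := by
  rw [negPerm_eq_prod]
  have h : ∀ i, i < 315 → reflOf (repN i) ∈ twoJ2 := fun i hi => rho_mem ⟨i, hi⟩
  exact Subgroup.mul_mem _ (Subgroup.mul_mem _ (h _ (by norm_num)) (h _ (by norm_num)))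
    (h _ (by norm_num))

/-- the central involution as an element of the group -/
noncomputable def negEl : twoJ2 := ⟨negPerm, negPerm_mem⟩

theorem negEl_ne_one : negEl ≠ 1 := by
  intro h
  exact negPerm_ne_one (congrArg Subtype.val h)

theorem negEl_mem_center : negEl ∈ Subgroup.center twoJ2 := by
  rw [Subgroup.mem_center_iff]
  intro g
  apply Subtype.ext
  exact negPerm_comm (twoJ2_le_linSub g.2)

theorem center_cases (g : twoJ2) (hg : g ∈ Subgroup.center twoJ2) : g = 1 ∨ g = negEl := by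
  rw [← ker_psi, MonoidHom.mem_ker] at hg
  have hc : ∀ i, i < 315 → (g : Equiv.Perm icoLeech) * reflOf (repN i) *
      (g : Equiv.Perm icoLeech)⁻¹ = reflOf (repN i) := by
    intro i hi
    have := psi_spec g ⟨i, hi⟩
    rw [hg, Equiv.Perm.one_apply] at this
    exact this
  rcases ker_cases (twoJ2_le_linSub g.2) hc with h | h
  · left; exact Subtype.ext h
  · right; exact Subtype.ext h

theorem card_center : Nat.card (Subgroup.center twoJ2) = 2 := by
  rw [Nat.card_eq_two_iff]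
  refine ⟨1, ⟨negEl, negEl_mem_center⟩, ?_, ?_⟩
  · intro h
    exact negEl_ne_one (congrArg Subtype.val h).symm
  · ext g
    simp only [Set.mem_insert_iff, Set.mem_singleton_iff, Set.mem_univ, iff_true]
    rcases center_cases g.1 g.2 with h | h
    · left; exact Subtype.ext h
    · right; exact Subtype.ext h

end Cfsg.Agent.Helper29.J2
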