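import Cfsg.Agent.Lib.Helper29.J2LDefs

/-! Kernel-evaluated checks for the local analysis of the Hall-Janko group (generated). -/

set_option autoImplicit false

namespace Cfsg.Agent.Helper29.J2LK

open Cfsg.Agent.Helper26 Cfsg.Agent.Helper29.PP9 Cfsg.Agent.Helper29.J2D
  Cfsg.Agent.Helper29.J2C Cfsg.Agent.Helper29.J2L Cfsg.Agent.Helper29.J2LC

theorem qcom_1 : allR 8 8 (fun a => allB 32 (qcomOK a)) = true := by decide +kernel

end Cfsg.Agent.Helper29.J2LK
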