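import Cfsg.Agent.Lib.Helper29.J2LDefs

/-! Kernel-evaluated checks for the local analysis of the Hall-Janko group (generated). -/

set_option autoImplicit false

namespace Cfsg.Agent.Helper29.J2LK

open Cfsg.Agent.Helper26 Cfsg.Agent.Helper29.PP9 Cfsg.Agent.Helper29.J2D
  Cfsg.Agent.Helper29.J2C Cfsg.Agent.Helper29.J2L Cfsg.Agent.Helper29.J2LC

theorem hcomm_all : allB 2 hcommOK = true := by decide +kernel
theorem ncomm_all : allR 1 314 ncommOK = true := by decide +kernel
theorem blk_all : allB 1920 blkOK = true := by decide +kernel
theorem blkTab_all : allB 315 blkTabOK = true := by decide +kernel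
theorem brep_all : allB 5 brepOK = true := by decide +kernel
theorem ker_all : allB 1920 kerOK = true := by decide +kernel
theorem qidx_all : allB 32 qidxOK = true := by decide +kernel
theorem qinv_all : allB 1920 qinvOK = true := by decide +kernel
theorem qinj_all : allB 32 qinjOK = true := by decide +kernel
theorem qsq_all : allB 32 qsqOK = true := by decide +kernel
theorem qcen_all : allR 2 30 qcenOK = true := by decide +kernel
theorem fix10_all : allB 1920 fix10OK = true := by decide +kernel
theorem qsyl_all : allB 32 qsylOK = true := by decide +kernel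
theorem sidx_all : allB 128 sidxOK = true := by decide +kernel
theorem QIDX_zero : QIDX 0 = 0 := by decide +kernel
theorem QIDX_one : QIDX 1 = k0 := by decide +kernel
theorem SIDX_zero : SIDX 0 = 0 := by decide +kernel
theorem SIDX_jz : SIDX jz = k0 := by decide +kernel
theorem refl298 : reflOK RN298 RK298 = true := by decide +kernel
theorem refl162 : reflOK RN162 RK162 = true := by decide +kernel
theorem refl152 : reflOK RN152 RK152 = true := by decide +kernel
theorem refl258 : reflOK RN258 RK258 = true := by decide +kernel
theorem conjB1 : conjOK sgB1n RK162 RK152 sgB1 = true := by decide +kernel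
theorem conjB2 : conjOK sgB2n RK258 RK152 sgB2 = true := by decide +kernel
theorem sgA_eq : sgA = RK298 := by decide +kernel
theorem pow_h1 : pmul 315 (pmul 315 (pmul 315 (hP 0) (hP 0)) (hP 0)) (hP 0) = pid 315 := by
  decide +kernel
theorem fact_h2 : hP 1 = pmul 315 (UU fA) (UU fB) := by decide +kernel
theorem pow_fA : pmul 315 (pmul 315 (pmul 315 (pmul 315 (pmul 315 (pmul 315 (pmul 315 (UU fA) (UU fA)) (UU fA)) (UU fA)) (UU fA)) (UU fA)) (UU fA)) (UU fA) = pid 315 := by
  decide +kernel
theorem pow_fB : pmul 315 (UU fB) (UU fB) = pid 315 := by decide +kernel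
theorem fAB_lt : fA < 1920 ∧ fB < 1920 := by decide +kernel

end Cfsg.Agent.Helper29.J2LK
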