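import Mathlib
import Cfsg.Agent.Lib.Helper29.J2GMain
import Cfsg.Agent.Lib.Helper29.J2LChkA

/-!
# The centralizer of a reflection in the Hall-Janko group: the action on five blocks
-/

set_option autoImplicit false

namespace Cfsg.Agent.Helper29.J2G

open Cfsg.Spor
open Cfsg.Agent.Helper26 Cfsg.Agent.Helper29.PP9 Cfsg.Agent.Helper29.J2D
  Cfsg.Agent.Helper29.J2C Cfsg.Agent.Helper29.J2K Cfsg.Agent.Helper29.J2
  Cfsg.Agent.Helper29.J2L Cfsg.Agent.Helper29.J2LC Cfsg.Agent.Helper29.J2LK

theorem allB_intro {n : ℕ} {f : ℕ → Bool} (h : ∀ i < n, f i = true) : allB n f = true := by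
  induction n with
  | zero => rfl
  | succ n ih =>
    rw [allB_succ, h n (Nat.lt_succ_self n), ih (fun i hi => h i (Nat.lt_succ_of_lt hi))]
    rfl

/-! ### Equivariance -/

/-- the image of the reflection number `i` -/
noncomputable def Pm (i : Fin 315) : A := psi (rhoE i.val i.isLt)

theorem Pm_conj (γ : twoJ2) (i : Fin 315) : psi γ * Pm i * (psi γ)⁻¹ = Pm (psi γ i) := by
  unfold Pm
  rw [← map_inv, ← map_mul, ← map_mul]
  congr 1
  apply Subtype.ext
  exact psi_spec γ i

theorem Pm_conj_G {g : A} (hg : g ∈ G) (i : Fin 315) : g * Pm i * g⁻¹ = Pm (g i) := by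
  rw [← range_psi] at hg
  obtain ⟨γ, rfl⟩ := hg
  exact Pm_conj γ i

theorem Pm_mem (i : Fin 315) : Pm i ∈ G := psi_mem _

/-- the central involution of the stabilizer -/
noncomputable def zE : A := U k0

theorem Pm_zero : Pm 0 = zE := psi_rho0

theorem zE_val : val zE = d315 GP0 := by
  unfold zE
  rw [U_val k0 (by decide), GP0_eq]

/-- the point stabilizer -/
def Hs : Subgroup A := Subgroup.closure SH

theorem Hs_le : Hs ≤ G := H_le

theorem hgen_comm (s : ℕ) (hs : s < 2) : hgen s * zE = zE * hgen s := by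
  have h := allB_true hcomm_all s hs
  unfold hcommOK at h
  rw [pmF_eq, pmF_eq] at h
  apply val_inj
  rw [map_mul, map_mul, hgen_val, zE_val, ← d_mul, ← d_mul, Nat.eq_of_beq_eq_true h]

theorem Hs_comm {h : A} (hh : h ∈ Hs) : h * zE = zE * h := by
  have hle : Hs ≤ Subgroup.centralizer {zE} := by
    unfold Hs
    rw [Subgroup.closure_le]
    intro g hg
    obtain ⟨s, hs, rfl⟩ := mem_SH hg
    rw [SetLike.mem_coe, Subgroup.mem_centralizer_iff]
    intro k hk
    rw [Set.mem_singleton_iff] at hk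
    rw [hk]
    exact (hgen_comm s hs).symm
  have := hle hh
  rw [Subgroup.mem_centralizer_iff] at this
  exact (this zE rfl).symm

theorem E_ncomm (n : ℕ) (h1 : 1 ≤ n) (hn : n < 315) : E n * zE ≠ zE * E n := by
  intro h
  have hc := allR_true ncomm_all n h1 (by omega)
  unfold ncommOK at hc
  rw [pmF_eq, pmF_eq] at hc
  have h2 := congrArg val h
  rw [map_mul, map_mul, E_val n (lt_trans hn (by decide)), zE_val, ← d_mul, ← d_mul] at h2
  have h3 := dec_inj (canon_pmul 315 _ _ (TT_canon n (lt_trans hn (by decide))).2 (by norm_num))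
    (canon_pmul 315 _ _ (by
      have := UU_canon k0 (by decide)
      rw [← GP0_eq] at this
      exact this.2) (by norm_num)) h2
  rw [h3] at hc
  simp at hc

/-- the centralizer of the central involution is the stabilizer -/
theorem cent_z {g : A} (hg : g ∈ G) (hc : g * zE = zE * g) : g ∈ Hs := by
  obtain ⟨i, hi, h, hh, rfl⟩ := level1.1 g hg
  have hh' : h * zE = zE * h := Hs_comm hh
  have hE : E i * zE = zE * E i := by
    have e1 : E i * zE = (E i * h) * zE * h⁻¹ := by
      rw [mul_assoc (E i) h zE, hh']; group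
    rw [e1, hc]; group
  have hi0 : i = 0 := by
    by_contra hne
    exact E_ncomm i (by omega) hi hE
  rw [hi0, E_zero, one_mul]
  exact hh

theorem Pm_injective : Function.Injective Pm := by
  intro i j hij
  have hi := Pm_conj_G (E_mem (nodeOf i)) 0
  have hj := Pm_conj_G (E_mem (nodeOf j)) 0
  rw [E_nodeOf, Pm_zero] at hi hj
  rw [← hi, ← hj] at hij
  have hc : ((E (nodeOf j))⁻¹ * E (nodeOf i)) * zE = zE * ((E (nodeOf j))⁻¹ * E (nodeOf i)) := by
    have e1 : (E (nodeOf j))⁻¹ * E (nodeOf i) * zE =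
        (E (nodeOf j))⁻¹ * (E (nodeOf i) * zE * (E (nodeOf i))⁻¹) * E (nodeOf i) := by group
    rw [e1, hij]; group
  have hm := cent_z (Subgroup.mul_mem _ (Subgroup.inv_mem _ (E_mem _)) (E_mem _)) hc
  have := E_inj _ (nodeOf_lt i) _ (nodeOf_lt j) hm
  have e2 := E_nodeOf i
  rw [this, E_nodeOf] at e2
  exact e2.symm

theorem fix_of_comm {g : A} (hg : g ∈ G) (i : Fin 315) (hc : g * Pm i = Pm i * g) : g i = i := by
  apply Pm_injective
  rw [← Pm_conj_G hg i, hc]
  group

/-! ### The action on the five blocks -/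

theorem U_apply (k : ℕ) (hk : k < J2D.nH) (x : Fin 315) : (U k x).val = ent (UU k) x.val := by
  have e : (val (U k) x).val = ent (UU k) x.val % 315 := by rw [U_val k hk]; rfl
  rw [val_apply] at e
  rw [e]
  exact Nat.mod_eq_of_lt ((UU_canon k hk).2 x.val x.isLt)

theorem exists_U {h : A} (hh : h ∈ Hs) : ∃ k < J2D.nH, h = U k := level2.1 h hh

theorem brep_spec (b : Fin 5) :
    BLK (BREP b.val) = b.val ∧ BREP b.val < 315 ∧ BPAR (BREP b.val) < 315 := by
  have h := allB_true brep_all b.val b.isLt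
  unfold brepOK at h
  rw [Bool.and_eq_true, Bool.and_eq_true] at h
  exact ⟨Nat.eq_of_beq_eq_true h.1.1, blt_lt h.1.2, blt_lt h.2⟩

/-- the representative of a block -/
def brep (b : Fin 5) : Fin 315 := ⟨BREP b.val, (brep_spec b).2.1⟩

/-- the other point of a block -/
def bpar (b : Fin 5) : Fin 315 := ⟨BPAR (BREP b.val), (brep_spec b).2.2⟩

theorem blk_spec {h : A} (hh : h ∈ Hs) (b : Fin 5) :
    BLK (h (brep b)).val < 5 ∧ BLK (h (bpar b)).val = BLK (h (brep b)).val := by
  obtain ⟨k, hk, rfl⟩ := exists_U hh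
  have hc := allB_true blk_all k hk
  unfold blkOK at hc
  rw [seqN_eq] at hc
  have hb := allB_true hc b.val b.isLt
  rw [Bool.and_eq_true] at hb
  rw [U_apply k hk, U_apply k hk]
  exact ⟨blt_lt hb.1, Nat.eq_of_beq_eq_true hb.2⟩

theorem blk_pt (x : Fin 315) (hx : BLK x.val < 5) :
    x = brep ⟨BLK x.val, hx⟩ ∨ x = bpar ⟨BLK x.val, hx⟩ := by
  have h := allB_true blkTab_all x.val x.isLt
  unfold blkTabOK at h
  have hx' : Nat.blt (BLK x.val) 5 = true := by
    unfold Nat.blt
    exact Nat.ble_eq_true_of_le hx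
  rw [hx', Bool.not_true, Bool.false_or, Bool.or_eq_true] at h
  rcases h with h | h
  · left; exact Fin.ext (Nat.eq_of_beq_eq_true h)
  · right; exact Fin.ext (Nat.eq_of_beq_eq_true h)

theorem blk_brep (b : Fin 5) : BLK (brep b).val = b.val := (brep_spec b).1

theorem blk_key {h : A} (hh : h ∈ Hs) (x : Fin 315) (hx : BLK x.val < 5) :
    BLK (h x).val = BLK (h (brep ⟨BLK x.val, hx⟩)).val := by
  rcases blk_pt x hx with e | e
  · rw [← e]
  · rw [← (blk_spec hh ⟨BLK x.val, hx⟩).2, ← e]

noncomputable instance actionBlocks : MulAction Hs (Fin 5) where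
  smul h b := ⟨BLK (h.1 (brep b)).val % 5, Nat.mod_lt _ (by norm_num)⟩
  one_smul b := by
    apply Fin.ext
    show BLK ((1 : A) (brep b)).val % 5 = b.val
    rw [Equiv.Perm.one_apply, blk_brep]
    exact Nat.mod_eq_of_lt b.isLt
  mul_smul h h' b := by
    apply Fin.ext
    show BLK ((h.1 * h'.1) (brep b)).val % 5 =
      BLK (h.1 (brep ⟨BLK (h'.1 (brep b)).val % 5, Nat.mod_lt _ (by norm_num)⟩)).val % 5
    rw [Equiv.Perm.mul_apply]
    have hx := (blk_spec h'.2 b).1
    rw [blk_key h.2 (h'.1 (brep b)) hx]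
    have e : (⟨BLK (h'.1 (brep b)).val % 5, Nat.mod_lt _ (by norm_num)⟩ : Fin 5) =
        ⟨BLK (h'.1 (brep b)).val, hx⟩ := Fin.ext (Nat.mod_eq_of_lt hx)
    rw [e]

theorem smul_blocks_val (h : Hs) (b : Fin 5) : (h • b).val = BLK (h.1 (brep b)).val := by
  show BLK (h.1 (brep b)).val % 5 = _
  exact Nat.mod_eq_of_lt (blk_spec h.2 b).1

/-- the action on the blocks -/
noncomputable def phi : Hs →* Equiv.Perm (Fin 5) := MulAction.toPermHom Hs (Fin 5)

theorem phi_apply_val (h : Hs) (b : Fin 5) : (phi h b).val = BLK (h.1 (brep b)).val :=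
  smul_blocks_val h b

/-- the elements of the stabilizer, in the stabilizer -/
noncomputable def UH (k : ℕ) : Hs := ⟨U k, U_mem k⟩

theorem phi_UH (k : ℕ) (hk : k < J2D.nH) (b : Fin 5) : (phi (UH k) b).val = phiN (UU k) b.val := by
  rw [phi_apply_val]
  show BLK (U k (brep b)).val = _
  rw [U_apply k hk]
  rfl

/-! ### The kernel -/

theorem mem_ker_iff (k : ℕ) (hk : k < J2D.nH) : UH k ∈ phi.ker ↔ INQ k = 1 := by
  have hc := allB_true ker_all k hk
  unfold kerOK at hc
  rw [seqN_eq] at hc
  have hc := Nat.eq_of_beq_eq_true hc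
  rw [MonoidHom.mem_ker]
  constructor
  · intro h
    have ht : trivB (UU k) = true := by
      unfold trivB
      apply allB_intro
      intro b hb
      rw [← phi_UH k hk ⟨b, hb⟩, h, Equiv.Perm.one_apply]
      exact Nat.beq_refl b
    rw [ht] at hc
    exact hc
  · intro h
    rw [h] at hc
    have ht : trivB (UU k) = true := by
      cases hh : trivB (UU k)
      · rw [hh] at hc; exact absurd hc (by decide)
      · rfl
    ext b : 1
    apply Fin.ext
    rw [phi_UH k hk, Equiv.Perm.one_apply]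
    exact Nat.eq_of_beq_eq_true (allB_true ht b.val b.isLt)

/-- the normal subgroup of order 32 -/
noncomputable def Qs : Subgroup Hs := phi.ker

instance Qs_normal : Qs.Normal := MonoidHom.normal_ker phi

theorem qidx_spec (j : ℕ) (hj : j < 32) : QIDX j < J2D.nH ∧ INQ (QIDX j) = 1 := by
  have h := allB_true qidx_all j hj
  unfold qidxOK at h
  rw [Bool.and_eq_true] at h
  exact ⟨blt_lt h.1, Nat.eq_of_beq_eq_true h.2⟩

theorem qidx_inj {a b : ℕ} (ha : a < 32) (hb : b < 32) (h : QIDX a = QIDX b) : a = b := by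
  have h1 := allB_true (allB_true qinj_all a ha) b hb
  rw [Bool.or_eq_true] at h1
  rcases h1 with h1 | h1
  · exact Nat.eq_of_beq_eq_true h1
  · rw [h, Nat.beq_refl] at h1
    simp at h1

theorem qinv_spec (k : ℕ) (hk : k < J2D.nH) (h : INQ k = 1) : ∃ j < 32, QIDX j = k := by
  have h1 := allB_true qinv_all k hk
  unfold qinvOK at h1
  rw [h, Bool.or_eq_true] at h1
  rcases h1 with h1 | h1
  · exact absurd h1 (by decide)
  · obtain ⟨j, hj, e⟩ := anyB_true h1
    exact ⟨j, hj, Nat.eq_of_beq_eq_true e⟩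

/-- the elements of the normal subgroup -/
noncomputable def qEl (j : Fin 32) : Qs :=
  ⟨UH (QIDX j.val), (mem_ker_iff _ (qidx_spec j.val j.isLt).1).2 (qidx_spec j.val j.isLt).2⟩

theorem qEl_bijective : Function.Bijective qEl := by
  constructor
  · intro a b h
    have h1 : U (QIDX a.val) = U (QIDX b.val) := congrArg (fun q : Qs => (q.1.1 : A)) h
    exact Fin.ext (qidx_inj a.isLt b.isLt
      (U_inj _ (qidx_spec a.val a.isLt).1 _ (qidx_spec b.val b.isLt).1 h1))
  · rintro ⟨⟨h, hh⟩, hq⟩
    obtain ⟨k, hk, rfl⟩ := exists_U hh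
    have hq' : UH k ∈ phi.ker := hq
    obtain ⟨j, hj, e⟩ := qinv_spec k hk ((mem_ker_iff k hk).1 hq')
    refine ⟨⟨j, hj⟩, ?_⟩
    apply Subtype.ext
    apply Subtype.ext
    show U (QIDX j) = U k
    rw [e]

theorem card_Qs : Nat.card Qs = 32 := by
  rw [← Nat.card_congr (Equiv.ofBijective qEl qEl_bijective), Nat.card_fin]

theorem card_Hs : Nat.card Hs = 1920 := level2.2

theorem card_range_phi : Nat.card phi.range = 60 := by
  have h1 := Subgroup.card_mul_index phi.ker
  rw [Subgroup.index_ker, card_Hs] at h1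
  have h2 : Nat.card phi.ker = 32 := card_Qs
  rw [h2] at h1
  omega

/-- a subgroup of order 60 of the symmetric group of degree 5 is the alternating group -/
theorem eq_alternating_of_card {K : Subgroup (Equiv.Perm (Fin 5))} (hK : Nat.card K = 60) :
    K = alternatingGroup (Fin 5) := by
  have hidx : K.index = 2 := by
    have h1 := Subgroup.card_mul_index K
    rw [hK, Nat.card_perm, Nat.card_fin] at h1
    have : (5 : ℕ).factorial = 120 := by decide
    rw [this] at h1
    omega
  have hle : alternatingGroup (Fin 5) ≤ K := by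
    rw [← Equiv.Perm.closure_three_cycles_eq_alternating, Subgroup.closure_le]
    intro σ hσ
    have h3 : σ ^ 3 = 1 := by
      rw [← hσ.orderOf]; exact pow_orderOf_eq_one σ
    have h4 : σ = (σ ^ 2) ^ 2 := by
      rw [← pow_mul]
      calc σ = σ ^ 3 * σ := by rw [h3, one_mul]
        _ = σ ^ (2 * 2) := by rw [← pow_succ]
    rw [SetLike.mem_coe, h4]
    exact Subgroup.sq_mem_of_index_two hidx _
  symm
  apply Subgroup.eq_of_le_of_card_ge hle
  rw [hK]
  have h2 := two_mul_card_alternatingGroup (α := Fin 5)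
  rw [Fintype.card_perm, Fintype.card_fin] at h2
  have : (5 : ℕ).factorial = 120 := by decide
  rw [this] at h2
  rw [Nat.card_eq_fintype_card]
  omega

theorem range_phi : phi.range = alternatingGroup (Fin 5) := eq_alternating_of_card card_range_phi

/-- the quotient of the stabilizer by the normal subgroup of order 32 -/
noncomputable def quotEquiv : Hs ⧸ Qs ≃* alternatingGroup (Fin 5) :=
  (QuotientGroup.quotientKerEquivRange phi).trans (MulEquiv.subgroupCongr range_phi)

end Cfsg.Agent.Helper29.J2G
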