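import Mathlib
import Cfsg.Agent.Lib.Helper27.ExtraCrit
import Cfsg.Agent.Lib.Helper29.J2LCore
import Cfsg.Agent.Lib.Helper29.J2LChkQ0
import Cfsg.Agent.Lib.Helper29.J2LChkQ1
import Cfsg.Agent.Lib.Helper29.J2LChkQ2
import Cfsg.Agent.Lib.Helper29.J2LChkQ3

/-!
# The normal subgroup of order 32 of the centralizer of a reflection is extraspecial
-/

set_option autoImplicit false

namespace Cfsg.Agent.Helper29.J2G

open Cfsg Cfsg.Spor
open scoped commutatorElement
open Cfsg.Agent.Helper26 Cfsg.Agent.Helper29.PP9 Cfsg.Agent.Helper29.J2D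
  Cfsg.Agent.Helper29.J2C Cfsg.Agent.Helper29.J2K Cfsg.Agent.Helper29.J2
  Cfsg.Agent.Helper29.J2L Cfsg.Agent.Helper29.J2LC Cfsg.Agent.Helper29.J2LK

/-- elementwise data making a group of order 32 extraspecial -/
structure ESData (P : Type*) [Group P] : Prop where
  card : Nat.card P = 32
  ex : ∃ z : P, z ≠ 1 ∧ (∀ a : P, a * z = z * a) ∧
    (∀ c : P, (∀ a : P, a * c = c * a) → c = 1 ∨ c = z) ∧
    (∀ a b : P, a * b = b * a ∨ a * b = z * (b * a)) ∧ (∀ a : P, a ^ 2 = 1 ∨ a ^ 2 = z) ∧
    ∃ a b : P, a * b ≠ b * a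

theorem ESData.of_equiv {P P' : Type*} [Group P] [Group P'] (e : P ≃* P') (h : ESData P) :
    ESData P' := by
  obtain ⟨hc, z, hz1, hzc, hcen, hcomm, hsq, a0, b0, hab⟩ := h
  refine ⟨by rw [← hc]; exact Nat.card_congr e.symm.toEquiv, e z, ?_, ?_, ?_, ?_, ?_, ?_⟩
  · intro h
    apply hz1
    apply e.injective
    rw [h, map_one]
  · intro a
    obtain ⟨a, rfl⟩ := e.surjective a
    rw [← map_mul, ← map_mul, hzc]
  · intro c hc'
    obtain ⟨c, rfl⟩ := e.surjective c
    have : ∀ a, a * c = c * a := by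
      intro a
      apply e.injective
      rw [map_mul, map_mul]
      exact hc' (e a)
    rcases hcen c this with h | h
    · left; rw [h, map_one]
    · right; rw [h]
  · intro a b
    obtain ⟨a, rfl⟩ := e.surjective a
    obtain ⟨b, rfl⟩ := e.surjective b
    rcases hcomm a b with h | h
    · left; rw [← map_mul, ← map_mul, h]
    · right; rw [← map_mul, ← map_mul, ← map_mul, h]
  · intro a
    obtain ⟨a, rfl⟩ := e.surjective a
    rcases hsq a with h | h
    · left; rw [← map_pow, h, map_one]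
    · right; rw [← map_pow, h]
  · refine ⟨e a0, e b0, ?_⟩
    intro h
    apply hab
    apply e.injective
    rw [map_mul, map_mul, h]

theorem ESData.isExtraspecial {P : Type*} [Group P] (h : ESData P) : IsExtraspecial 2 P := by
  obtain ⟨hc, z, hz1, hzc, hcen, hcomm, hsq, a0, b0, hab⟩ := h
  have hfin : Finite P := Nat.finite_of_card_ne_zero (by rw [hc]; norm_num)
  have : Fact (Nat.Prime 2) := ⟨Nat.prime_two⟩
  have hP : IsPGroup 2 P := IsPGroup.of_card (n := 5) (by rw [hc]; norm_num)
  apply Cfsg.Agent.Helper27.isExtraspecial_two_of_data hP z hz1 hzc hcen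
  · intro a b
    rcases hcomm a b with h | h
    · left
      exact commutatorElement_eq_one_iff_mul_comm.2 h
    · right
      rw [commutatorElement_def, h]
      group
  · exact hsq
  · refine ⟨a0, b0, ?_⟩
    intro h
    exact hab (commutatorElement_eq_one_iff_mul_comm.1 h)

/-! ### The data for the normal subgroup of order 32 -/

theorem zpow_val (e : Bool) : d315 (zpow e) = val (cond e zE 1) := by
  cases e
  · show d315 (pid 315) = val 1
    rw [d_one, map_one]
  · show d315 GP0 = val zE
    rw [zE_val]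

theorem qcom_all (a : ℕ) (ha : a < 32) (b : ℕ) (hb : b < 32) : qcomOK a b = true := by
  have key : allB 32 (qcomOK a) = true := by
    by_cases c0 : a < 8
    · exact allR_true qcom_0 a (by omega) (by omega)
    by_cases c1 : a < 16
    · exact allR_true qcom_1 a (by omega) (by omega)
    by_cases c2 : a < 24
    · exact allR_true qcom_2 a (by omega) (by omega)
    · exact allR_true qcom_3 a (by omega) (by omega)
  exact allB_true key b hb

/-- the underlying permutations of the normal subgroup -/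
noncomputable def qP (j : ℕ) : A := U (QIDX j)

theorem qP_val (j : ℕ) (hj : j < 32) : val (qP j) = d315 (UQ j) :=
  U_val _ (qidx_spec j hj).1

theorem qcom_spec (a : ℕ) (ha : a < 32) (b : ℕ) (hb : b < 32) :
    qP a * qP b = cond (Nat.testBit QCOMB (32 * a + b)) zE 1 * (qP b * qP a) := by
  have h := qcom_all a ha b hb
  unfold qcomOK at h
  rw [seqN_eq, seqN_eq, pmF_eq, pmF_eq, pmF_eq] at h
  apply val_inj
  rw [map_mul, map_mul, map_mul, qP_val a ha, qP_val b hb, ← zpow_val, ← d_mul, ← d_mul, ← d_mul,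
    Nat.eq_of_beq_eq_true h]

theorem qsq_spec (a : ℕ) (ha : a < 32) : qP a ^ 2 = cond (Nat.testBit QSQB a) zE 1 := by
  have h := allB_true qsq_all a ha
  unfold qsqOK at h
  rw [pmF_eq] at h
  apply val_inj
  rw [pow_two, map_mul, qP_val a ha, ← zpow_val, ← d_mul, Nat.eq_of_beq_eq_true h]

theorem zE_ne_one : zE ≠ 1 := by
  intro h
  have h1 : U k0 = U 0 := by rw [U_zero]; exact h
  have := U_inj k0 (by decide) 0 (by decide) h1
  exact absurd this (by decide)

theorem qP_zero : qP 0 = 1 := by
  unfold qP; rw [QIDX_zero, U_zero]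

theorem qP_one : qP 1 = zE := by
  unfold qP zE; rw [QIDX_one]

theorem qEl_val (j : Fin 32) : ((qEl j : Qs) : Hs).1 = qP j.val := rfl

theorem exists_qEl (q : Qs) : ∃ j : Fin 32, q = qEl j := by
  obtain ⟨j, hj⟩ := qEl_bijective.2 q
  exact ⟨j, hj.symm⟩

/-- the central involution in the normal subgroup -/
noncomputable def zQ : Qs := qEl 1

theorem zQ_val : ((zQ : Qs) : Hs).1 = zE := qP_one

theorem Qs_ext {a b : Qs} (h : (a : Hs).1 = (b : Hs).1) : a = b :=
  Subtype.ext (Subtype.ext h)

theorem esdata_Qs : ESData Qs := by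
  refine ⟨card_Qs, zQ, ?_, ?_, ?_, ?_, ?_, ?_⟩
  · intro h
    apply zE_ne_one
    rw [← zQ_val, h]
    rfl
  · intro a
    apply Qs_ext
    show (a : Hs).1 * (zQ : Hs).1 = (zQ : Hs).1 * (a : Hs).1
    rw [zQ_val]
    exact Hs_comm (a : Hs).2
  · intro c hc
    obtain ⟨j, rfl⟩ := exists_qEl c
    by_cases h0 : j.val = 0
    · left
      apply Qs_ext
      rw [qEl_val, h0, qP_zero]
      rfl
    by_cases h1 : j.val = 1
    · right
      apply Qs_ext
      rw [qEl_val, h1, qP_one, zQ_val]
    exfalso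
    have hq := allR_true qcen_all j.val (by omega) (by have := j.isLt; omega)
    unfold qcenOK at hq
    obtain ⟨a, ha, hbit⟩ := anyB_true hq
    have h2 := qcom_spec a ha j.val j.isLt
    rw [hbit] at h2
    have h3 := congrArg (fun q : Qs => (q : Hs).1) (hc (qEl ⟨a, ha⟩))
    have h4 : qP a * qP j.val = qP j.val * qP a := h3
    rw [h4] at h2
    have h5 : zE = 1 := by
      have : (1 : A) * (qP j.val * qP a) = zE * (qP j.val * qP a) := by
        rw [one_mul]; exact h2
      exact (mul_right_cancel this).symm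
    exact zE_ne_one h5
  · intro a b
    obtain ⟨i, rfl⟩ := exists_qEl a
    obtain ⟨j, rfl⟩ := exists_qEl b
    have h2 := qcom_spec i.val i.isLt j.val j.isLt
    cases hbit : Nat.testBit QCOMB (32 * i.val + j.val)
    · left
      apply Qs_ext
      show qP i.val * qP j.val = qP j.val * qP i.val
      rw [h2, hbit]
      exact one_mul _
    · right
      apply Qs_ext
      show qP i.val * qP j.val = (zQ : Hs).1 * (qP j.val * qP i.val)
      rw [h2, hbit, zQ_val]
      rfl
  · intro a
    obtain ⟨i, rfl⟩ := exists_qEl a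
    have h2 := qsq_spec i.val i.isLt
    cases hbit : Nat.testBit QSQB i.val
    · left
      apply Qs_ext
      show qP i.val ^ 2 = 1
      rw [h2, hbit]
      rfl
    · right
      apply Qs_ext
      show qP i.val ^ 2 = (zQ : Hs).1
      rw [h2, hbit, zQ_val]
      rfl
  · have hq := allR_true qcen_all 2 (by norm_num) (by norm_num)
    unfold qcenOK at hq
    obtain ⟨a, ha, hbit⟩ := anyB_true hq
    refine ⟨qEl ⟨a, ha⟩, qEl ⟨2, by norm_num⟩, ?_⟩
    intro h
    have h2 := qcom_spec a ha 2 (by norm_num)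
    rw [hbit] at h2
    have h3 := congrArg (fun q : Qs => (q : Hs).1) h
    have h4 : qP a * qP 2 = qP 2 * qP a := h3
    rw [h4] at h2
    have h5 : zE = 1 := by
      have : (1 : A) * (qP 2 * qP a) = zE * (qP 2 * qP a) := by
        rw [one_mul]; exact h2
      exact (mul_right_cancel this).symm
    exact zE_ne_one h5

/-- the structure of the point stabilizer -/
theorem Hs_struct : ∃ (Q : Subgroup Hs) (_ : Q.Normal), ESData Q ∧
    Nonempty (Hs ⧸ Q ≃* alternatingGroup (Fin 5)) :=
  ⟨Qs, Qs_normal, esdata_Qs, ⟨quotEquiv⟩⟩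

/-- transport of the structure along an isomorphism -/
theorem struct_transport {D C : Type*} [Group D] [Group C] (e : D ≃* C)
    (h : ∃ (Q : Subgroup D) (_ : Q.Normal), ESData Q ∧
      Nonempty (D ⧸ Q ≃* alternatingGroup (Fin 5))) :
    ∃ (Q' : Subgroup C) (_ : Q'.Normal), Nat.card Q' = 32 ∧ IsExtraspecial 2 Q' ∧
      Nonempty (C ⧸ Q' ≃* alternatingGroup (Fin 5)) := by
  obtain ⟨Q, hQ, hes, ⟨f⟩⟩ := h
  have hn : (Q.map e.toMonoidHom).Normal := hQ.map e.toMonoidHom e.surjective
  have hes' : ESData (Q.map e.toMonoidHom) :=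
    hes.of_equiv (Q.equivMapOfInjective e.toMonoidHom e.injective)
  refine ⟨Q.map e.toMonoidHom, hn, hes'.card, hes'.isExtraspecial, ⟨?_⟩⟩
  exact (QuotientGroup.congr Q (Q.map e.toMonoidHom) e rfl).symm.trans f

end Cfsg.Agent.Helper29.J2G
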