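import Mathlib
import Cfsg.Agent.Lib.Helper29.J2LExtra

/-!
# The centralizer of a reflection in the Hall-Janko group
-/

set_option autoImplicit false

namespace Cfsg.Agent.Helper29.J2G

open Cfsg Cfsg.Spor
open Cfsg.Agent.Helper26 Cfsg.Agent.Helper29.PP9 Cfsg.Agent.Helper29.J2D
  Cfsg.Agent.Helper29.J2C Cfsg.Agent.Helper29.J2K Cfsg.Agent.Helper29.J2
  Cfsg.Agent.Helper29.J2L Cfsg.Agent.Helper29.J2LC Cfsg.Agent.Helper29.J2LK

/-- centralizers correspond under isomorphisms -/
def centEquiv {X Y : Type*} [Group X] [Group Y] (e : X ≃* Y) (a : X) :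
    Subgroup.centralizer ({a} : Set X) ≃* Subgroup.centralizer ({e a} : Set Y) where
  toFun x := ⟨e x.1, by
    rw [Subgroup.mem_centralizer_singleton_iff, ← map_mul, ← map_mul,
      Subgroup.mem_centralizer_singleton_iff.1 x.2]⟩
  invFun y := ⟨e.symm y.1, by
    rw [Subgroup.mem_centralizer_singleton_iff]
    apply e.injective
    rw [map_mul, map_mul, e.apply_symm_apply]
    exact Subgroup.mem_centralizer_singleton_iff.1 y.2⟩
  left_inv x := Subtype.ext (e.symm_apply_apply x.1)
  right_inv y := Subtype.ext (e.apply_symm_apply y.1)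
  map_mul' x y := Subtype.ext (map_mul e x.1 y.1)

/-- centralizers of equal elements -/
def centCongr {X : Type*} [Group X] {a b : X} (h : a = b) :
    Subgroup.centralizer ({a} : Set X) ≃* Subgroup.centralizer ({b} : Set X) :=
  MulEquiv.subgroupCongr (by rw [h])

theorem j2Equiv_mk (x : twoJ2) :
    j2Equiv (QuotientGroup.mk x : J2) = ⟨psi x, psi_mem x⟩ := rfl

/-- the central involution in the group -/
noncomputable def zG : G := ⟨zE, Hs_le (U_mem k0)⟩

theorem Hs_subgroupOf : Hs.subgroupOf G = Subgroup.centralizer ({zG} : Set G) := by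
  ext y
  rw [Subgroup.mem_subgroupOf, Subgroup.mem_centralizer_singleton_iff]
  constructor
  · intro h
    apply Subtype.ext
    exact Hs_comm h
  · intro h
    exact cent_z y.2 (congrArg Subtype.val h)

/-- the stabilizer is the centralizer of the central involution -/
noncomputable def hsEquiv : Hs ≃* Subgroup.centralizer ({zG} : Set G) :=
  (Subgroup.subgroupOfEquivOfLe Hs_le).symm.trans (MulEquiv.subgroupCongr Hs_subgroupOf)

/-- the centralizer of the image of a reflection -/
noncomputable def centReflEquiv (i : Fin 315) :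
    Hs ≃* Subgroup.centralizer
      ({(QuotientGroup.mk (rhoE i.val i.isLt) : J2)} : Set J2) := by
  let gE : G := ⟨E (nodeOf i), E_mem _⟩
  have h1 : j2Equiv (QuotientGroup.mk (rhoE i.val i.isLt) : J2) = MulAut.conj gE zG := by
    rw [j2Equiv_mk]
    apply Subtype.ext
    show Pm i = E (nodeOf i) * zE * (E (nodeOf i))⁻¹
    have := Pm_conj_G (E_mem (nodeOf i)) 0
    rw [E_nodeOf, Pm_zero] at this
    exact this.symm
  exact (hsEquiv.trans (centEquiv (MulAut.conj gE) zG)).trans
    ((centCongr h1.symm).trans (centEquiv j2Equiv _).symm)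

/-- the centralizer of a reflection in the Hall-Janko group has the shape `2^{1+4}.A₅` -/
theorem cent_struct (i : Fin 315) :
    ∃ (Q' : Subgroup (Subgroup.centralizer
        ({(QuotientGroup.mk (rhoE i.val i.isLt) : J2)} : Set J2))) (_ : Q'.Normal),
      Nat.card Q' = 32 ∧ IsExtraspecial 2 Q' ∧
      Nonempty (Subgroup.centralizer
        ({(QuotientGroup.mk (rhoE i.val i.isLt) : J2)} : Set J2) ⧸ Q' ≃*
          alternatingGroup (Fin 5)) :=
  struct_transport (centReflEquiv i) Hs_struct

end Cfsg.Agent.Helper29.J2G
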