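import Cfsg.Agent.Lib.Helper29.J2LDefs

/-! Kernel-evaluated checks for the local analysis of the Hall-Janko group (generated). -/

set_option autoImplicit false

namespace Cfsg.Agent.Helper29.J2LK

open Cfsg.Agent.Helper26 Cfsg.Agent.Helper29.PP9 Cfsg.Agent.Helper29.J2D
  Cfsg.Agent.Helper29.J2C Cfsg.Agent.Helper29.J2L Cfsg.Agent.Helper29.J2LC

/-- the elements of the stabilizer fixing four points -/
def fix4OK (k : ℕ) : Bool :=
  seqN (UU k) fun P =>
    !(Nat.beq (ent P 298) 298 && Nat.beq (ent P 162) 162 && Nat.beq (ent P 152) 152 &&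
      Nat.beq (ent P 258) 258) || Nat.beq k 0 || Nat.beq k k0

theorem fix4_all : allB 1920 fix4OK = true := by decide +kernel
theorem NX_jz : NX jz = jz := by decide +kernel
theorem jz_lt : 1 ≤ jz ∧ jz < 128 := by decide +kernel
theorem inq_refl : INQ RK298 = 1 ∧ INQ RK162 = 1 ∧ INQ RK152 = 1 ∧ INQ RK258 = 1 := by
  decide +kernel
theorem rk_lt : RK298 < 1920 ∧ RK162 < 1920 ∧ RK152 < 1920 ∧ RK258 < 1920 ∧ sgB1 < 1920 ∧
    sgB2 < 1920 ∧ sgA < 1920 := by decide +kernel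
theorem rn_lt : RN298 < 315 ∧ RN162 < 315 ∧ RN152 < 315 ∧ RN258 < 315 ∧ sgB1n < 315 ∧
    sgB2n < 315 := by decide +kernel
theorem pt_rn : PT RN298 = 298 ∧ PT RN162 = 162 ∧ PT RN152 = 152 ∧ PT RN258 = 258 := by
  decide +kernel

end Cfsg.Agent.Helper29.J2LK
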