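import Cfsg.Agent.Lib.Helper29.J2LDefs

/-! Kernel-evaluated checks for the local analysis of the Hall-Janko group (generated). -/

set_option autoImplicit false

namespace Cfsg.Agent.Helper29.J2LK

open Cfsg.Agent.Helper26 Cfsg.Agent.Helper29.PP9 Cfsg.Agent.Helper29.J2D
  Cfsg.Agent.Helper29.J2C Cfsg.Agent.Helper29.J2L Cfsg.Agent.Helper29.J2LC

theorem stree_all : allR 1 127 streeOK = true := by decide +kernel
theorem ssch0_all : allB 128 (sschOK 0) = true := by decide +kernel
theorem ssch1_all : allB 128 (sschOK 1) = true := by decide +kernel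
theorem ssch2_all : allB 128 (sschOK 2) = true := by decide +kernel
theorem chain_all : allR 1 127 chainOK = true := by decide +kernel

end Cfsg.Agent.Helper29.J2LK
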