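import Mathlib
import Cfsg.Agent.Lib.Helper29.J2GDefs
import Cfsg.Agent.Lib.Helper29.J2LData

/-!
# Boolean checks for the local analysis of the Hall-Janko group on 315 points
-/

set_option autoImplicit false

namespace Cfsg.Agent.Helper29.J2LC

open Cfsg.Agent.Helper26 Cfsg.Agent.Helper29.PP9 Cfsg.Agent.Helper29.J2D
  Cfsg.Agent.Helper29.J2C Cfsg.Agent.Helper29.J2L

/-- some index below `n` satisfies `f` -/
def anyB (n : ℕ) (f : ℕ → Bool) : Bool := Nat.rec false (fun k ih => f k || ih) n

theorem anyB_succ (n : ℕ) (f : ℕ → Bool) : anyB (n + 1) f = (f n || anyB n f) := rfl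

theorem anyB_true {n : ℕ} {f : ℕ → Bool} (h : anyB n f = true) : ∃ i < n, f i = true := by
  induction n with
  | zero => exact absurd h (by simp [anyB])
  | succ n ih =>
    rw [anyB_succ, Bool.or_eq_true] at h
    rcases h with h | h
    · exact ⟨n, Nat.lt_succ_self n, h⟩
    · obtain ⟨i, hi, hf⟩ := ih h
      exact ⟨i, Nat.lt_succ_of_lt hi, hf⟩

/-- the generators of the stabilizer commute with the reflection number `0` -/
def hcommOK (s : ℕ) : Bool := Nat.beq (pmF (hP s) GP0) (pmF GP0 (hP s))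

/-- the transversal elements do not -/
def ncommOK (n : ℕ) : Bool := !(Nat.beq (pmF (TT n) GP0) (pmF GP0 (TT n)))

/-- the block of the image of the representative of the block `b` -/
def phiN (P b : ℕ) : ℕ := BLK (ent P (BREP b))

/-- the stabilizer elements permute the five blocks -/
def blkOK (k : ℕ) : Bool :=
  seqN (UU k) fun P => allB 5 fun b =>
    Nat.blt (BLK (ent P (BREP b))) 5 &&
      Nat.beq (BLK (ent P (BPAR (BREP b)))) (BLK (ent P (BREP b)))

/-- the points of the blocks -/
def blkTabOK (x : ℕ) : Bool :=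
  !(Nat.blt (BLK x) 5) || Nat.beq x (BREP (BLK x)) || Nat.beq x (BPAR (BREP (BLK x)))

/-- the representatives of the blocks -/
def brepOK (b : ℕ) : Bool :=
  Nat.beq (BLK (BREP b)) b && Nat.blt (BREP b) 315 && Nat.blt (BPAR (BREP b)) 315

/-- an element acts trivially on the blocks -/
def trivB (P : ℕ) : Bool := allB 5 fun b => Nat.beq (phiN P b) b

/-- the kernel of the action on the blocks -/
def kerOK (k : ℕ) : Bool :=
  seqN (UU k) fun P => Nat.beq (INQ k) (cond (trivB P) 1 0)

/-- the list of the kernel -/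
def qidxOK (j : ℕ) : Bool := Nat.blt (QIDX j) 1920 && Nat.beq (INQ (QIDX j)) 1

/-- the list of the kernel is complete -/
def qinvOK (k : ℕ) : Bool := Nat.beq (INQ k) 0 || anyB 32 fun j => Nat.beq (QIDX j) k

/-- the list of the kernel has no repetitions -/
def qinjOK (a : ℕ) : Bool := allB 32 fun b => Nat.beq a b || !(Nat.beq (QIDX a) (QIDX b))

/-- the elements of the kernel -/
def UQ (a : ℕ) : ℕ := UU (QIDX a)

/-- a power of the central involution -/
def zpow (e : Bool) : ℕ := cond e GP0 (pid 315)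

/-- the commutators in the kernel -/
def qcomOK (a b : ℕ) : Bool :=
  seqN (UQ a) fun A => seqN (UQ b) fun B =>
    Nat.beq (pmF A B) (pmF (zpow (Nat.testBit QCOMB (32 * a + b))) (pmF B A))

/-- the squares in the kernel -/
def qsqOK (a : ℕ) : Bool := Nat.beq (pmF (UQ a) (UQ a)) (zpow (Nat.testBit QSQB a))

/-- the centre of the kernel -/
def qcenOK (c : ℕ) : Bool := anyB 32 fun a => Nat.testBit QCOMB (32 * a + c)

/-- the generators of the Sylow subgroup -/
def sgen (g : ℕ) : ℕ := cond (Nat.beq g 0) sgA (cond (Nat.beq g 1) sgB1 sgB2)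

/-- `STAU` -/
def stau (g j : ℕ) : ℕ := cond (Nat.beq g 0) (STAU0 j) (cond (Nat.beq g 1) (STAU1 j) (STAU2 j))

/-- the elements of the Sylow subgroup -/
def US (j : ℕ) : ℕ := UU (SIDX j)

/-- the tree check in the Sylow subgroup -/
def streeOK (j : ℕ) : Bool :=
  Nat.blt (STPAR j) j && Nat.blt (STLAB j) 3 &&
    Nat.beq (US j) (pmF (UU (sgen (STLAB j))) (US (STPAR j)))

/-- the closure check in the Sylow subgroup -/
def sschOK (g j : ℕ) : Bool :=
  Nat.blt (stau g j) 128 && Nat.beq (pmF (UU (sgen g)) (US j)) (US (stau g j))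

/-- the indices of the Sylow subgroup -/
def sidxOK (j : ℕ) : Bool := Nat.blt (SIDX j) 1920 && Nat.beq (SINV (SIDX j)) j

/-- the commutator chains in the Sylow subgroup -/
def chainOK (j : ℕ) : Bool :=
  Nat.beq j jz ||
    (Nat.blt (CH j) 128 && Nat.blt (NX j) 128 && Nat.blt 0 (NX j) &&
      Nat.beq (NX (NX (NX j))) jz &&
      Nat.beq (pmF (US j) (US (CH j))) (pmF (US (NX j)) (pmF (US (CH j)) (US j))))

/-- a reflection in the Sylow subgroup, as a conjugate of the reflection number `0` -/
def reflOK (n k : ℕ) : Bool :=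
  Nat.beq (pmF (TT n) GP0) (pmF (UU k) (TT n)) && Nat.blt (SINV k) 128 &&
    Nat.beq (SIDX (SINV k)) k

/-- a conjugate of a product of two reflections -/
def conjOK (n a b k : ℕ) : Bool :=
  Nat.beq (pmF (TT n) (pmF (UU a) (UU b))) (pmF (UU k) (TT n))

/-- the elements of the stabilizer fixing the ten points -/
def fix10OK (k : ℕ) : Bool :=
  seqN (UU k) fun P =>
    !(allB 5 fun b => Nat.beq (ent P (BREP b)) (BREP b) &&
      Nat.beq (ent P (BPAR (BREP b))) (BPAR (BREP b))) || Nat.beq k 0 || Nat.beq k k0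

/-- the kernel lies in the Sylow subgroup -/
def qsylOK (j : ℕ) : Bool :=
  Nat.blt (SINV (QIDX j)) 128 && Nat.beq (SIDX (SINV (QIDX j))) (QIDX j)

end Cfsg.Agent.Helper29.J2LC
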