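import Mathlib
import Cfsg.Agent.Lib.Helper29.J2LCore
import Cfsg.Agent.Lib.Helper29.J2LChkS
import Cfsg.Agent.Lib.Helper29.J2LChkB

/-!
# A Sylow 2-subgroup of the Hall-Janko group on 315 points
-/

set_option autoImplicit false
set_option linter.unusedSectionVars false

namespace Cfsg.Agent.Helper29.J2G

open Cfsg Cfsg.Spor
open Cfsg.Agent.Helper26 Cfsg.Agent.Helper29.PP9 Cfsg.Agent.Helper29.J2D
  Cfsg.Agent.Helper29.J2C Cfsg.Agent.Helper29.J2K Cfsg.Agent.Helper29.J2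
  Cfsg.Agent.Helper29.J2L Cfsg.Agent.Helper29.J2LC Cfsg.Agent.Helper29.J2LK

/-- the generators of the Sylow subgroup -/
noncomputable def sgE (g : ℕ) : A := U (sgen g)

/-- the generating set of the Sylow subgroup -/
def SS : Set A := {U sgA, U sgB1, U sgB2}

/-- the Sylow subgroup -/
def S0 : Subgroup A := Subgroup.closure SS

theorem sgen_lt (g : ℕ) : sgen g < J2D.nH := by
  unfold sgen
  cases Nat.beq g 0 <;> cases Nat.beq g 1
  · exact rk_lt.2.2.2.2.2.1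
  · exact rk_lt.2.2.2.2.1
  · exact rk_lt.2.2.2.2.2.2
  · exact rk_lt.2.2.2.2.2.2

theorem sgE_mem (g : ℕ) : sgE g ∈ S0 := by
  unfold sgE sgen S0 SS
  cases Nat.beq g 0 <;> cases Nat.beq g 1
  · exact Subgroup.subset_closure (by simp)
  · exact Subgroup.subset_closure (by simp)
  · exact Subgroup.subset_closure (by simp)
  · exact Subgroup.subset_closure (by simp)

theorem mem_SS {g : A} (hg : g ∈ SS) : ∃ s < 3, g = sgE s := by
  rcases hg with rfl | rfl | rfl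
  · exact ⟨0, by norm_num, rfl⟩
  · exact ⟨1, by norm_num, rfl⟩
  · exact ⟨2, by norm_num, rfl⟩

/-- the elements of the Sylow subgroup -/
noncomputable def sE (j : ℕ) : A := U (SIDX j)

theorem sidx_spec (j : ℕ) (hj : j < 128) : SIDX j < J2D.nH ∧ SINV (SIDX j) = j := by
  have h := allB_true sidx_all j hj
  unfold sidxOK at h
  rw [Bool.and_eq_true] at h
  exact ⟨blt_lt h.1, Nat.eq_of_beq_eq_true h.2⟩

theorem sE_val (j : ℕ) (hj : j < 128) : val (sE j) = d315 (US j) := U_val _ (sidx_spec j hj).1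

theorem sE_zero : sE 0 = 1 := by
  unfold sE; rw [SIDX_zero, U_zero]

theorem sE_jz : sE jz = zE := by
  unfold sE zE; rw [SIDX_jz]

theorem sE_inj : ∀ i < 128, ∀ j < 128, sE i = sE j → i = j := by
  intro i hi j hj h
  have := U_inj _ (sidx_spec i hi).1 _ (sidx_spec j hj).1 h
  rw [← (sidx_spec i hi).2, ← (sidx_spec j hj).2, this]

theorem stree_spec (j : ℕ) (h1 : 1 ≤ j) (hj : j < 128) :
    STPAR j < j ∧ sE j = sgE (STLAB j) * sE (STPAR j) := by
  have h := allR_true stree_all j h1 (by omega)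
  unfold streeOK at h
  rw [Bool.and_eq_true, Bool.and_eq_true, pmF_eq] at h
  obtain ⟨⟨h1, _⟩, h3⟩ := h
  have h1 := blt_lt h1
  refine ⟨h1, val_inj ?_⟩
  rw [map_mul, sE_val j hj, sE_val _ (lt_trans h1 hj)]
  unfold sgE
  rw [U_val _ (sgen_lt _), ← d_mul, Nat.eq_of_beq_eq_true h3]

theorem sE_mem (j : ℕ) (hj : j < 128) : sE j ∈ S0 := by
  induction j using Nat.strong_induction_on with
  | _ j ih =>
    rcases Nat.eq_zero_or_pos j with h0 | h0
    · rw [h0, sE_zero]; exact Subgroup.one_mem _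
    · obtain ⟨hp, e⟩ := stree_spec j h0 hj
      rw [e]
      exact Subgroup.mul_mem _ (sgE_mem _) (ih _ hp (lt_trans hp hj))

theorem ssch_spec (g : ℕ) (hg : g < 3) (j : ℕ) (hj : j < 128) :
    stau g j < 128 ∧ sgE g * sE j = sE (stau g j) := by
  have h : sschOK g j = true := by
    interval_cases g
    · exact allB_true ssch0_all j hj
    · exact allB_true ssch1_all j hj
    · exact allB_true ssch2_all j hj
  unfold sschOK at h
  rw [Bool.and_eq_true, pmF_eq] at h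
  have h1 := blt_lt h.1
  refine ⟨h1, val_inj ?_⟩
  rw [map_mul, sE_val j hj, sE_val _ h1]
  unfold sgE
  rw [U_val _ (sgen_lt _), ← d_mul, Nat.eq_of_beq_eq_true h.2]

/-- the Sylow subgroup has order 128 and consists of the `sE j` -/
theorem levelS : (∀ k ∈ S0, ∃ j < 128, k = sE j) ∧ Nat.card S0 = 128 := by
  apply schreier_list SS 128 sE (by norm_num) sE_zero (fun i hi => sE_mem i hi) sE_inj
  intro g hg j hj
  obtain ⟨s, hs, rfl⟩ := mem_SS hg
  exact ⟨stau s j, (ssch_spec s hs j hj).1, (ssch_spec s hs j hj).2⟩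

theorem S0_le_Hs : S0 ≤ Hs := by
  unfold S0
  rw [Subgroup.closure_le]
  intro g hg
  obtain ⟨s, _, rfl⟩ := mem_SS hg
  exact U_mem _

theorem S0_le_G : S0 ≤ G := le_trans S0_le_Hs Hs_le

/-! ### Commutator chains -/

theorem chain_spec (j : ℕ) (h1 : 1 ≤ j) (hj : j < 128) (hz : j ≠ jz) :
    CH j < 128 ∧ NX j < 128 ∧ 1 ≤ NX j ∧ NX (NX (NX j)) = jz ∧
      sE j * sE (CH j) = sE (NX j) * (sE (CH j) * sE j) := by
  have h := allR_true chain_all j h1 (by omega)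
  unfold chainOK at h
  rw [Bool.or_eq_true] at h
  rcases h with h | h
  · exact absurd (Nat.eq_of_beq_eq_true h) hz
  rw [Bool.and_eq_true, Bool.and_eq_true, Bool.and_eq_true, Bool.and_eq_true, pmF_eq, pmF_eq,
    pmF_eq] at h
  obtain ⟨⟨⟨⟨h1, h2⟩, h3⟩, h4⟩, h5⟩ := h
  have h1 := blt_lt h1
  have h2 := blt_lt h2
  refine ⟨h1, h2, blt_lt h3, Nat.eq_of_beq_eq_true h4, val_inj ?_⟩
  rw [map_mul, map_mul, map_mul, sE_val j hj, sE_val _ h1, sE_val _ h2, ← d_mul, ← d_mul, ← d_mul,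
    Nat.eq_of_beq_eq_true h5]

theorem sE_ne_one (j : ℕ) (h1 : 1 ≤ j) (hj : j < 128) : sE j ≠ 1 := by
  intro h
  rw [← sE_zero] at h
  have := sE_inj j hj 0 (by norm_num) h
  omega

/-- the centre of the Sylow subgroup -/
theorem center_S0 {c : A} (hc : c ∈ S0) (hcomm : ∀ s ∈ S0, s * c = c * s) : c = 1 ∨ c = zE := by
  obtain ⟨j, hj, rfl⟩ := levelS.1 c hc
  by_cases h0 : j = 0
  · left; rw [h0, sE_zero]
  by_cases hz : j = jz
  · right; rw [hz, sE_jz]
  exfalso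
  obtain ⟨h1, h2, h3, _, h5⟩ := chain_spec j (by omega) hj hz
  have h6 := hcomm (sE (CH j)) (sE_mem _ h1)
  rw [h6] at h5
  have : sE (NX j) = 1 := by
    have e : (1 : A) * (sE j * sE (CH j)) = sE (NX j) * (sE j * sE (CH j)) := by
      rw [one_mul]; exact h5
    exact (mul_right_cancel e).symm
  exact sE_ne_one _ h3 h2 this

/-! ### Subgroups closed under fusion -/

section closed

variable {T : Subgroup A} (hTS : T ≤ S0)
  (hF : ∀ x ∈ T, ∀ g ∈ G, g * x * g⁻¹ ∈ S0 → g * x * g⁻¹ ∈ T)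

include hTS hF

theorem chain_step (j : ℕ) (h1 : 1 ≤ j) (hj : j < 128) (hx : sE j ∈ T) :
    1 ≤ NX j ∧ NX j < 128 ∧ sE (NX j) ∈ T := by
  by_cases hz : j = jz
  · rw [hz, NX_jz]
    rw [hz] at hx
    exact ⟨jz_lt.1, jz_lt.2, hx⟩
  obtain ⟨h1', h2, h3, _, h5⟩ := chain_spec j h1 hj hz
  refine ⟨h3, h2, ?_⟩
  have e : sE (NX j) = sE j * (sE (CH j) * (sE j)⁻¹ * (sE (CH j))⁻¹) := by
    have : sE (NX j) = sE j * sE (CH j) * (sE (CH j) * sE j)⁻¹ := by
      rw [h5]; group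
    rw [this]; group
  rw [e]
  apply T.mul_mem hx
  apply hF _ (T.inv_mem hx) _ (S0_le_G (sE_mem _ h1'))
  exact S0.mul_mem (S0.mul_mem (sE_mem _ h1') (S0.inv_mem (hTS hx))) (S0.inv_mem (sE_mem _ h1'))

theorem zE_mem_of_ne_bot (hne : T ≠ ⊥) : zE ∈ T := by
  obtain ⟨⟨x, hxT⟩, hx1⟩ := (Subgroup.ne_bot_iff_exists_ne_one).1 hne
  have hx1' : x ≠ 1 := fun h => hx1 (Subtype.ext h)
  obtain ⟨j, hj, rfl⟩ := levelS.1 x (hTS hxT)
  have h1 : 1 ≤ j := by
    rcases Nat.eq_zero_or_pos j with h | h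
    · rw [h, sE_zero] at hx1'; exact absurd rfl hx1'
    · exact h
  obtain ⟨a1, a2, a3⟩ := chain_step hTS hF j h1 hj hxT
  obtain ⟨b1, b2, b3⟩ := chain_step hTS hF _ a1 a2 a3
  obtain ⟨c1, c2, c3⟩ := chain_step hTS hF _ b1 b2 b3
  have e : NX (NX (NX j)) = jz := by
    by_cases hz : j = jz
    · rw [hz, NX_jz, NX_jz, NX_jz]
    · exact (chain_spec j h1 hj hz).2.2.2.1
  rw [e, sE_jz] at c3
  exact c3

theorem refl_mem (hz : zE ∈ T) {n k : ℕ} (hn : n < 315) (hk : k < J2D.nH)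
    (h : reflOK n k = true) : U k ∈ T := by
  unfold reflOK at h
  rw [Bool.and_eq_true, Bool.and_eq_true, pmF_eq, pmF_eq] at h
  obtain ⟨⟨h1, h2⟩, h3⟩ := h
  have e : E n * zE = U k * E n := by
    apply val_inj
    rw [map_mul, map_mul, E_val n (lt_trans hn (by decide)), zE_val, U_val k hk, ← d_mul, ← d_mul,
      Nat.eq_of_beq_eq_true h1]
  have e2 : U k = E n * zE * (E n)⁻¹ := by rw [e]; group
  rw [e2]
  apply hF _ hz _ (E_mem n)
  rw [← e2]
  have h2 := blt_lt h2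
  have : U k = sE (SINV k) := by unfold sE; rw [Nat.eq_of_beq_eq_true h3]
  rw [this]
  exact sE_mem _ h2

theorem conj_mem {n a b k : ℕ} (hn : n < 315) (ha : a < J2D.nH) (hb : b < J2D.nH)
    (hk : k < J2D.nH) (haT : U a ∈ T) (hbT : U b ∈ T) (hkS : U k ∈ S0)
    (h : conjOK n a b k = true) : U k ∈ T := by
  unfold conjOK at h
  rw [pmF_eq, pmF_eq, pmF_eq] at h
  have e : E n * (U a * U b) = U k * E n := by
    apply val_inj
    rw [map_mul, map_mul, map_mul, E_val n (lt_trans hn (by decide)), U_val a ha, U_val b hb,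
      U_val k hk, ← d_mul, ← d_mul, ← d_mul, Nat.eq_of_beq_eq_true h]
  have e2 : U k = E n * (U a * U b) * (E n)⁻¹ := by rw [e]; group
  rw [e2]
  apply hF _ (T.mul_mem haT hbT) _ (E_mem n)
  rw [← e2]
  exact hkS

theorem S0_le_of_closed (hne : T ≠ ⊥) : S0 ≤ T := by
  have hz := zE_mem_of_ne_bot hTS hF hne
  have r298 := refl_mem hTS hF hz rn_lt.1 rk_lt.1 refl298
  have r162 := refl_mem hTS hF hz rn_lt.2.1 rk_lt.2.1 refl162
  have r152 := refl_mem hTS hF hz rn_lt.2.2.1 rk_lt.2.2.1 refl152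
  have r258 := refl_mem hTS hF hz rn_lt.2.2.2.1 rk_lt.2.2.2.1 refl258
  have b1 := conj_mem hTS hF rn_lt.2.2.2.2.1 rk_lt.2.1 rk_lt.2.2.1 rk_lt.2.2.2.2.1 r162 r152
    (Subgroup.subset_closure (by simp [SS])) conjB1
  have b2 := conj_mem hTS hF rn_lt.2.2.2.2.2 rk_lt.2.2.2.1 rk_lt.2.2.1 rk_lt.2.2.2.2.2.1 r258 r152
    (Subgroup.subset_closure (by simp [SS])) conjB2
  unfold S0
  rw [Subgroup.closure_le]
  intro g hg
  rcases hg with rfl | rfl | rfl
  · rw [sgA_eq]; exact r298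
  · exact b1
  · exact b2

end closed

end Cfsg.Agent.Helper29.J2G
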