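import Mathlib
import Cfsg.Agent.Lib.Helper25.FusionSimpCrit2
import Cfsg.Agent.Lib.Helper29.J2LSyl
import Cfsg.Agent.Lib.Helper29.J2LExtra

/-!
# The 2-fusion system of the Hall-Janko group is simple
-/

set_option autoImplicit false

namespace Cfsg.Agent.Helper29.J2G

open Cfsg Cfsg.Spor Cfsg.Agent.Helper25.SimpCrit
open Cfsg.Agent.Helper26 Cfsg.Agent.Helper29.PP9 Cfsg.Agent.Helper29.J2D
  Cfsg.Agent.Helper29.J2C Cfsg.Agent.Helper29.J2K Cfsg.Agent.Helper29.J2
  Cfsg.Agent.Helper29.J2L Cfsg.Agent.Helper29.J2LC Cfsg.Agent.Helper29.J2LK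

/-- the Sylow subgroup inside the group -/
def S0G : Subgroup G := S0.subgroupOf G

/-- the normal subgroup of order 32, in the ambient symmetric group -/
noncomputable def QA : Subgroup A := Qs.map Hs.subtype

/-- the normal subgroup of order 32, inside the group -/
noncomputable def QG : Subgroup G := QA.subgroupOf G

theorem mem_S0G (y : G) : y ∈ S0G ↔ y.1 ∈ S0 := Subgroup.mem_subgroupOf

theorem mem_QG (y : G) : y ∈ QG ↔ y.1 ∈ QA := Subgroup.mem_subgroupOf

theorem mem_QA {x : A} : x ∈ QA ↔ ∃ j : Fin 32, x = qP j.val := by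
  constructor
  · rintro ⟨h, hh, rfl⟩
    obtain ⟨j, e⟩ := exists_qEl ⟨h, hh⟩
    refine ⟨j, ?_⟩
    have := congrArg (fun q : Qs => (q : Hs).1) e
    exact this
  · rintro ⟨j, rfl⟩
    exact ⟨(qEl j : Hs), (qEl j).2, rfl⟩

theorem QA_le_Hs : QA ≤ Hs := by
  rintro _ ⟨h, _, rfl⟩
  exact h.2

theorem qsyl_spec (j : ℕ) (hj : j < 32) : qP j ∈ S0 := by
  have h := allB_true qsyl_all j hj
  unfold qsylOK at h
  rw [Bool.and_eq_true] at h
  have h1 := blt_lt h.1
  have : qP j = sE (SINV (QIDX j)) := by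
    unfold qP sE
    rw [Nat.eq_of_beq_eq_true h.2]
  rw [this]
  exact sE_mem _ h1

theorem QA_le_S0 : QA ≤ S0 := by
  intro x hx
  obtain ⟨j, rfl⟩ := mem_QA.1 hx
  exact qsyl_spec j.val j.isLt

theorem zE_mem_QA : zE ∈ QA := mem_QA.2 ⟨1, qP_one.symm⟩

theorem one_mem_QA : (1 : A) ∈ QA := Subgroup.one_mem _

theorem U_mem_QA (k : ℕ) (hk : k < J2D.nH) (h : INQ k = 1) : U k ∈ QA :=
  ⟨UH k, (mem_ker_iff k hk).2 h, rfl⟩

/-- conjugation by the stabilizer preserves the normal subgroup -/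
theorem QA_conj {h : A} (hh : h ∈ Hs) {q : A} (hq : q ∈ QA) : h * q * h⁻¹ ∈ QA := by
  obtain ⟨q', hq', rfl⟩ := hq
  have := Qs_normal.conj_mem q' hq' ⟨h, hh⟩
  exact ⟨_, this, rfl⟩

/-! ### No proper subgroup closed under fusion -/

theorem noClosed_S0G : NoClosed S0G := by
  intro T hTS hTne hTc
  apply le_antisymm hTS
  have hTS' : T.map G.subtype ≤ S0 := by
    rintro _ ⟨y, hy, rfl⟩
    exact (mem_S0G y).1 (hTS hy)
  have hF' : ∀ x ∈ T.map G.subtype, ∀ g ∈ G, g * x * g⁻¹ ∈ S0 →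
      g * x * g⁻¹ ∈ T.map G.subtype := by
    rintro _ ⟨y, hy, rfl⟩ g hg hS
    have := hTc y hy ⟨g, hg⟩ ((mem_S0G _).2 hS)
    exact ⟨_, this, rfl⟩
  have hne' : T.map G.subtype ≠ ⊥ := by
    intro h
    apply hTne
    exact (Subgroup.map_eq_bot_iff_of_injective T G.subtype_injective).1 h
  have hle := S0_le_of_closed hTS' hF' hne'
  intro y hy
  obtain ⟨t, ht, e⟩ := hle ((mem_S0G y).1 hy)
  have : t = y := Subtype.ext e
  rw [← this]
  exact ht

/-! ### Generation of the normalizer -/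

theorem zE_mem_S0 : zE ∈ S0 := by
  rw [← sE_jz]; exact sE_mem _ jz_lt.2

theorem normalizer_le_Hs {x : G} (hx : x ∈ Subgroup.normalizer (S0G : Set G)) : x.1 ∈ Hs := by
  rw [Subgroup.mem_normalizer_iff] at hx
  have hc1 : x.1 * zE * x.1⁻¹ ∈ S0 := by
    have := (hx ⟨zE, S0_le_G zE_mem_S0⟩).1 ((mem_S0G _).2 zE_mem_S0)
    exact (mem_S0G _).1 this
  have hcen : ∀ s ∈ S0, s * (x.1 * zE * x.1⁻¹) = (x.1 * zE * x.1⁻¹) * s := by
    intro s hs
    -- `x⁻¹ s x` lies in the Sylow subgroup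
    have h1 : x.1⁻¹ * s * x.1 ∈ S0 := by
      have h2 := (hx (x⁻¹ * ⟨s, S0_le_G hs⟩ * x)).2 (by
        have e : x * (x⁻¹ * ⟨s, S0_le_G hs⟩ * x) * x⁻¹ = ⟨s, S0_le_G hs⟩ := by group
        rw [e]
        exact (mem_S0G _).2 hs)
      exact (mem_S0G _).1 h2
    have h3 := Hs_comm (S0_le_Hs h1)
    calc s * (x.1 * zE * x.1⁻¹) = x.1 * ((x.1⁻¹ * s * x.1) * zE) * x.1⁻¹ := by group
      _ = x.1 * (zE * (x.1⁻¹ * s * x.1)) * x.1⁻¹ := by rw [h3]
      _ = (x.1 * zE * x.1⁻¹) * s := by group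
  rcases center_S0 hc1 hcen with h | h
  · exfalso
    apply zE_ne_one
    have : zE = x.1⁻¹ * (x.1 * zE * x.1⁻¹) * x.1 := by group
    rw [this, h]; group
  · apply cent_z x.2
    calc x.1 * zE = (x.1 * zE * x.1⁻¹) * x.1 := by group
      _ = zE * x.1 := by rw [h]

theorem Pm_eq_U {n k : ℕ} (hn : n < 315) (hk : k < J2D.nH) (h : reflOK n k = true) :
    Pm ⟨PT n, PT_lt n hn⟩ = U k := by
  unfold reflOK at h
  rw [Bool.and_eq_true, Bool.and_eq_true, pmF_eq, pmF_eq] at h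
  have e : E n * zE = U k * E n := by
    apply val_inj
    rw [map_mul, map_mul, E_val n (lt_trans hn (by decide)), zE_val, U_val k hk, ← d_mul, ← d_mul,
      Nat.eq_of_beq_eq_true h.1.1]
  have e2 : U k = E n * zE * (E n)⁻¹ := by rw [e]; group
  have h3 := Pm_conj_G (E_mem n) 0
  rw [Pm_zero] at h3
  rw [e2, h3]
  congr 1
  exact Fin.ext (E_base n hn).symm

theorem fix4_spec (k : ℕ) (hk : k < J2D.nH)
    (h1 : ent (UU k) 298 = 298) (h2 : ent (UU k) 162 = 162) (h3 : ent (UU k) 152 = 152)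
    (h4 : ent (UU k) 258 = 258) : k = 0 ∨ k = k0 := by
  have h := allB_true fix4_all k hk
  unfold fix4OK at h
  rw [seqN_eq, h1, h2, h3, h4] at h
  simp only [Nat.beq_refl, Bool.and_self, Bool.not_true, Bool.false_or, Bool.or_eq_true] at h
  rcases h with h | h
  · left; exact Nat.eq_of_beq_eq_true h
  · right; exact Nat.eq_of_beq_eq_true h

theorem centralizer_QG : Subgroup.centralizer (QG : Set G) ≤ QG := by
  intro y hy
  rw [Subgroup.mem_centralizer_iff] at hy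
  rw [mem_QG]
  have hcomm : ∀ q ∈ QA, q * y.1 = y.1 * q := by
    intro q hq
    have := hy ⟨q, Hs_le (QA_le_Hs hq)⟩ ((mem_QG _).2 hq)
    exact congrArg Subtype.val this
  have hyH : y.1 ∈ Hs := cent_z y.2 (hcomm zE zE_mem_QA).symm
  obtain ⟨k, hk, e⟩ := exists_U hyH
  have hfix : ∀ {n r : ℕ} (hn : n < 315) (hr : r < J2D.nH), reflOK n r = true → INQ r = 1 →
      ent (UU k) (PT n) = PT n := by
    intro n r hn hr h1 h2
    have hP := Pm_eq_U hn hr h1
    have hc := hcomm (U r) (U_mem_QA r hr h2)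
    rw [← hP] at hc
    have := fix_of_comm y.2 _ hc.symm
    have h3 := congrArg Fin.val this
    rw [e, U_apply k hk] at h3
    exact h3
  have f1 := hfix rn_lt.1 rk_lt.1 refl298 inq_refl.1
  have f2 := hfix rn_lt.2.1 rk_lt.2.1 refl162 inq_refl.2.1
  have f3 := hfix rn_lt.2.2.1 rk_lt.2.2.1 refl152 inq_refl.2.2.1
  have f4 := hfix rn_lt.2.2.2.1 rk_lt.2.2.2.1 refl258 inq_refl.2.2.2
  rw [pt_rn.1] at f1
  rw [pt_rn.2.1] at f2
  rw [pt_rn.2.2.1] at f3
  rw [pt_rn.2.2.2] at f4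
  rcases fix4_spec k hk f1 f2 f3 f4 with h | h
  · rw [e, h, U_zero]; exact one_mem_QA
  · rw [e, h]; exact zE_mem_QA

theorem mem_normalizer_QG {y : G} (hy : y.1 ∈ Hs) :
    y ∈ Subgroup.normalizer (QG : Set G) := by
  rw [Subgroup.mem_normalizer_iff]
  intro q
  rw [mem_QG, mem_QG]
  constructor
  · intro hq
    exact QA_conj hy hq
  · intro hq
    have := QA_conj (Hs.inv_mem hy) hq
    have e : y.1⁻¹ * (y * q * y⁻¹ : G).1 * y.1⁻¹⁻¹ = q.1 := by
      show y.1⁻¹ * (y.1 * q.1 * y.1⁻¹) * y.1⁻¹⁻¹ = q.1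
      group
    rw [e] at this
    exact this

/-- the 2-elements normalizing the normal subgroup of order 32 -/
def Y2 : Set G := {y | y ∈ Subgroup.normalizer (QG : Set G) ∧ ∃ k : ℕ, y ^ 2 ^ k = 1}

theorem hgen0_mem : hgen 0 ∈ Hs := hgen_mem 0

theorem hgen0_pow : hgen 0 ^ 2 ^ 2 = 1 := by
  apply val_inj
  rw [map_pow, hgen_val, map_one, ← d_one, ← pow_h1, d_mul, d_mul, d_mul]
  simp only [pow_succ, pow_zero, one_mul]
  norm_num [pow_succ, mul_assoc]

theorem fA_pow : U fA ^ 2 ^ 3 = 1 := by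
  apply val_inj
  rw [map_pow, U_val fA fAB_lt.1, map_one, ← d_one, ← pow_fA, d_mul, d_mul, d_mul, d_mul, d_mul,
    d_mul, d_mul]
  norm_num [pow_succ, mul_assoc]

theorem fB_pow : U fB ^ 2 ^ 1 = 1 := by
  apply val_inj
  rw [map_pow, U_val fB fAB_lt.2, map_one, ← d_one, ← pow_fB, d_mul]
  norm_num [pow_succ]

theorem hgen1_eq : hgen 1 = U fA * U fB := by
  apply val_inj
  rw [hgen_val, map_mul, U_val fA fAB_lt.1, U_val fB fAB_lt.2, ← d_mul, fact_h2]

theorem mem_Y2 {a : A} (ha : a ∈ Hs) {k : ℕ} (hk : a ^ 2 ^ k = 1) :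
    (⟨a, Hs_le ha⟩ : G) ∈ Y2 :=
  ⟨mem_normalizer_QG ha, k, Subtype.ext hk⟩

theorem Hs_le_closure_Y2 {a : A} (ha : a ∈ Hs) : (⟨a, Hs_le ha⟩ : G) ∈ Subgroup.closure Y2 := by
  have key : ∀ a (ha : a ∈ Subgroup.closure SH), (⟨a, Hs_le ha⟩ : G) ∈ Subgroup.closure Y2 := by
    intro a ha
    refine Subgroup.closure_induction (G := A) (k := SH)
      (p := fun (a : A) (ha : a ∈ Subgroup.closure SH) =>
        (⟨a, Hs_le ha⟩ : G) ∈ Subgroup.closure Y2) ?_ ?_ ?_ ?_ ha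
    · intro g hg
      obtain ⟨s, hs, rfl⟩ := mem_SH hg
      interval_cases s
      · exact Subgroup.subset_closure (mem_Y2 hgen0_mem hgen0_pow)
      · have e : (⟨hgen 1, Hs_le (hgen_mem 1)⟩ : G) =
            ⟨U fA, Hs_le (U_mem fA)⟩ * ⟨U fB, Hs_le (U_mem fB)⟩ := Subtype.ext hgen1_eq
        rw [e]
        exact Subgroup.mul_mem _ (Subgroup.subset_closure (mem_Y2 (U_mem fA) fA_pow))
          (Subgroup.subset_closure (mem_Y2 (U_mem fB) fB_pow))
    · exact Subgroup.one_mem _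
    · intro a b ha hb iha ihb
      exact Subgroup.mul_mem _ iha ihb
    · intro a ha iha
      exact Subgroup.inv_mem _ iha
  exact key a ha

theorem autGen_S0G : AutGen 2 S0G := by
  intro x hx
  apply Subgroup.subset_closure
  right
  refine ⟨hx, QG, ?_, centralizer_QG, ?_⟩
  · intro q hq
    exact (mem_S0G q).2 (QA_le_S0 ((mem_QG q).1 hq))
  · exact Hs_le_closure_Y2 (normalizer_le_Hs hx)

/-! ### The fusion system -/

theorem card_S0G : Nat.card S0G = 128 := by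
  rw [← levelS.2]
  exact Nat.card_congr (Subgroup.subgroupOfEquivOfLe S0_le_G).toEquiv

theorem card_S0G' : Nat.card S0G = 2 ^ (Nat.card G).factorization 2 := by
  rw [card_S0G, card_G]
  have h : (604800 : ℕ) = 2 ^ 7 * 4725 := by norm_num
  have h2 : (604800 : ℕ).factorization 2 = 7 := by
    rw [h, Nat.factorization_mul (by norm_num) (by norm_num), Nat.Prime.factorization_pow
      Nat.prime_two]
    have : (4725 : ℕ).factorization 2 = 0 := Nat.factorization_eq_zero_of_not_dvd (by norm_num)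
    simp [this]
  rw [h2]
  norm_num

theorem S0G_ne_bot : S0G ≠ ⊥ := by
  intro h
  have := card_S0G
  rw [h, Subgroup.card_bot] at this
  omega

/-- **The 2-fusion system of any group isomorphic to the Hall-Janko group is simple.** -/
theorem fusion_simple {Γ : Type*} [Group Γ] [Finite Γ] (e : Γ ≃* J2) (S : Sylow 2 Γ) :
    (groupFusionSystem (S : Subgroup Γ)).IsSimple 2 := by
  have : Fact (Nat.Prime 2) := ⟨Nat.prime_two⟩
  let e' : G ≃* Γ := (e.trans j2Equiv).symm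
  let P : Sylow 2 G := Sylow.ofCard S0G card_S0G'
  have hP : (P : Subgroup G) = S0G := Sylow.coe_ofCard _ _
  have hsurj : Function.Surjective e'.toMonoidHom := e'.surjective
  let P2 : Sylow 2 Γ := P.mapSurjective hsurj
  have hP2 : (P2 : Subgroup Γ) = S0G.map e'.toMonoidHom := by
    show (P : Subgroup G).map e'.toMonoidHom = _
    rw [hP]
  apply isSimple_of_data 2 P2
  · rw [hP2]
    intro h
    exact S0G_ne_bot ((Subgroup.map_eq_bot_iff_of_injective _ e'.injective).mp h)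
  · rw [hP2]; exact NoClosed.map e' noClosed_S0G
  · rw [hP2]; exact AutGen.map e' autGen_S0G

end Cfsg.Agent.Helper29.J2G
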