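import Cfsg.Agent.Lib.Helper29.J2ODefs

/-! Kernel-evaluated checks for the automorphisms of the Hall-Janko group: the table of reflections. -/

set_option autoImplicit false

namespace Cfsg.Agent.Helper29.J2OK

open Cfsg.Agent.Helper26 Cfsg.Agent.Helper29.PP9 Cfsg.Agent.Helper29.J2D Cfsg.Agent.Helper29.J2C
  Cfsg.Agent.Helper29.J2SD Cfsg.Agent.Helper29.J2SC Cfsg.Agent.Helper29.J2OD
  Cfsg.Agent.Helper29.J2OC

theorem pm_0 : allR 0 105 pmOK = true := by decide +kernel
theorem pm_1 : allR 105 105 pmOK = true := by decide +kernel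
theorem pm_2 : allR 210 105 pmOK = true := by decide +kernel

end Cfsg.Agent.Helper29.J2OK
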