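import Cfsg.Agent.Lib.Helper29.J2ODefs

/-! Kernel-evaluated checks for the automorphisms of the Hall-Janko group. -/

set_option autoImplicit false

namespace Cfsg.Agent.Helper29.J2OK

open Cfsg.Agent.Helper26 Cfsg.Agent.Helper29.PP9 Cfsg.Agent.Helper29.J2D Cfsg.Agent.Helper29.J2C
  Cfsg.Agent.Helper29.J2SD Cfsg.Agent.Helper29.J2SC Cfsg.Agent.Helper29.J2OD
  Cfsg.Agent.Helper29.J2OC

theorem PM_zero : PM 0 = GP0 := by decide +kernel
theorem pi_sq : pmF PI0 PI0 = pid 315 := by decide +kernel
theorem pi_valid : validOK PI0 = true := by decide +kernel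
theorem pi_0 : piOK 0 0 = true := by decide +kernel
theorem pi_165 : piOK 165 165 = true := by decide +kernel
theorem pi_19 : piOK 19 19 = true := by decide +kernel
theorem pi_63 : piOK 63 108 = true := by decide +kernel
theorem sq_0 : allB 1920 (sqOK 0) = true := by decide +kernel
theorem sq_1 : allB 1920 (sqOK 1) = true := by decide +kernel
theorem sq_2 : allB 1920 (sqOK 2) = true := by decide +kernel
theorem sq_3 : allB 1920 (sqOK 3) = true := by decide +kernel
theorem sq_4 : allB 1920 (sqOK 4) = true := by decide +kernel
theorem sq_5 : allB 1920 (sqOK 5) = true := by decide +kernel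
theorem m0_sq : pmF (UU m0) (UU m0) = GP0 := by decide +kernel
theorem stepB_all : allB 315 stepBOK = true := by decide +kernel
theorem stepC_all : allB 315 stepCOK = true := by decide +kernel
theorem stepD_all : allB 315 stepDOK = true := by decide +kernel
theorem reg_all : allB 1920 regOK = true := by decide +kernel
theorem base_0_165 : fixB2 (PM 0) (PM 165) 3 = true := by decide +kernel
theorem base_165_19 : fixB2 (PM 165) (PM 19) 3 = true := by decide +kernel
theorem base_0_165_19 : fixB3 (PM 0) (PM 165) (PM 19) 7 = true := by decide +kernel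
theorem base_19_63 : fixB2 (PM 19) (PM 63) 4 = true := by decide +kernel
theorem base_0_19_63 : fixB3 (PM 0) (PM 19) (PM 63) 7 = true := by decide +kernel
theorem base_0_165_63 : fixB3 (PM 0) (PM 165) (PM 63) 10 = true := by decide +kernel
theorem base_165_19_63 : fixB3 (PM 165) (PM 19) (PM 63) 8 = true := by decide +kernel
theorem cls_165 : CLS 165 = 1 := by decide +kernel
theorem m0_lt : m0 < 1920 := by decide
theorem z_sq : pmF GP0 GP0 = pid 315 := by decide +kernel

end Cfsg.Agent.Helper29.J2OK
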