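import Mathlib
import Cfsg.Agent.Lib.Helper29.J2GDefs
import Cfsg.Agent.Lib.Helper29.J2SData

/-!
# Boolean checks for the spectrum of the Hall-Janko group
-/

set_option autoImplicit false

namespace Cfsg.Agent.Helper29.J2SC

open Cfsg.Agent.Helper26 Cfsg.Agent.Helper29.PP9 Cfsg.Agent.Helper29.J2D
  Cfsg.Agent.Helper29.J2C Cfsg.Agent.Helper29.J2SD

/-- One step of the packed product of two packed permutations at a point. -/
def stepF (T U x : ℕ) : ℕ := ent T (ent U x % 315) % 315

/-- Iteration of `stepF`. -/
def itr (T U n x : ℕ) : ℕ := Nat.rec x (fun _ acc => stepF T U acc) n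

theorem itr_zero (T U x : ℕ) : itr T U 0 x = x := rfl

theorem itr_succ (T U n x : ℕ) : itr T U (n + 1) x = stepF T U (itr T U n x) := rfl

/-- The admissible orders `1, …, 8, 10, 12, 15`. -/
def okN (n : ℕ) : Bool := Nat.testBit 38398 n

/-- The node of the representative of the class `c`. -/
def rnode (c : ℕ) : ℕ := cond (Nat.beq c 0) 0 (NODE (clsPt c))

/-- The packed permutations fix the three base points after `n` steps. -/
def fixB (T U n : ℕ) : Bool :=
  Nat.beq (itr T U n 0) 0 && Nat.beq (itr T U n 1) 1 && Nat.beq (itr T U n 10) 10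

/-- The element number `(c, m)` has the order given in the table, and this is admissible. -/
def ordOK (c m : ℕ) : Bool :=
  seqN (TT (rnode c)) fun T => seqN (UU m) fun U => seqN (ORD (1920 * c + m)) fun n =>
    okN n && fixB T U n

/-- Only the trivial element of the point stabilizer fixes the base points. -/
def sbaseOK (k : ℕ) : Bool :=
  Nat.beq k 0 || !(Nat.beq (ent (UU k) 1) 1 && Nat.beq (ent (UU k) 10) 10)

/-- The proper power `s / p` of the witness of order `s` moves a base point. -/
def movesOK (s p : ℕ) : Bool :=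
  !(Nat.beq (s % p) 0) || !(fixB (TT (rnode (WC s))) (UU (WM s)) (s / p))

/-- The witness of order `s`. -/
def witOK (s : ℕ) : Bool :=
  !(okN s) || (Nat.blt (WC s) 6 && Nat.blt (WM s) 1920 && Nat.beq (ORD (1920 * WC s + WM s)) s &&
    movesOK s 2 && movesOK s 3 && movesOK s 5 && movesOK s 7)

end Cfsg.Agent.Helper29.J2SC
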