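import Mathlib
import Cfsg.Agent.Lib.Helper29.J2SDefs
import Cfsg.Agent.Lib.Helper29.J2OData

/-!
# Boolean checks for the automorphisms of the Hall-Janko group
-/

set_option autoImplicit false

namespace Cfsg.Agent.Helper29.J2OC

open Cfsg.Agent.Helper26 Cfsg.Agent.Helper29.PP9 Cfsg.Agent.Helper29.J2D
  Cfsg.Agent.Helper29.J2C Cfsg.Agent.Helper29.J2SD Cfsg.Agent.Helper29.J2SC
  Cfsg.Agent.Helper29.J2OD

/-- A packed permutation at a point. -/
def app (P x : ℕ) : ℕ := ent P x % 315

/-- Iteration of a product of two packed permutations. -/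
def itr2 (P Q n x : ℕ) : ℕ := Nat.rec x (fun _ acc => app P (app Q acc)) n

/-- Iteration of a product of three packed permutations. -/
def itr3 (P Q R n x : ℕ) : ℕ := Nat.rec x (fun _ acc => app P (app Q (app R acc))) n

theorem itr2_succ (P Q n x : ℕ) : itr2 P Q (n + 1) x = app P (app Q (itr2 P Q n x)) := rfl

theorem itr3_succ (P Q R n x : ℕ) :
    itr3 P Q R (n + 1) x = app P (app Q (app R (itr3 P Q R n x))) := rfl

/-- The `n`-th power of the product fixes the base. -/
def fixB2 (P Q n : ℕ) : Bool :=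
  Nat.beq (itr2 P Q n 0) 0 && Nat.beq (itr2 P Q n 1) 1 && Nat.beq (itr2 P Q n 10) 10

/-- The `n`-th power of the product fixes the base. -/
def fixB3 (P Q R n : ℕ) : Bool :=
  Nat.beq (itr3 P Q R n 0) 0 && Nat.beq (itr3 P Q R n 1) 1 && Nat.beq (itr3 P Q R n 10) 10

/-- The table of reflections is correct at `q`. -/
def pmOK (q : ℕ) : Bool :=
  Nat.beq (pmF (PM q) (TT (NODE q))) (pmF (TT (NODE q)) (PM 0))

/-- The conjugation check for the outer automorphism. -/
def piOK (t t' : ℕ) : Bool := Nat.beq (pmF PI0 (PM t)) (pmF (PM t') PI0)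

/-- The square of a representative of order four is a reflection. -/
def sqOK (c m : ℕ) : Bool :=
  seqN (TT (rnode c)) fun T => seqN (UU m) fun U =>
    fixB T U 2 || !(fixB T U 4) ||
      (seqN (SQ (1920 * c + m)) fun i => Nat.blt i 315 && seqN (PM i) fun P =>
        Nat.beq (itr T U 2 0) (app P 0) && Nat.beq (itr T U 2 1) (app P 1) &&
          Nat.beq (itr T U 2 10) (app P 10))

/-- Reflections whose product with the reflection `0` has order three. -/
def stepBOK (q : ℕ) : Bool :=
  seqN (PM q) fun Q => Nat.beq q 0 || Nat.beq (CLS q) 1 || !(fixB2 (PM 0) Q 3)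

/-- The admissible images of the reflection `19`. -/
def stepCOK (q : ℕ) : Bool :=
  seqN (PM q) fun Q =>
    (Nat.beq (IN2 q) 1 && Nat.blt (K2 q) 1920 && Nat.beq (ent (UU (K2 q)) q) 19 &&
      Nat.beq (ent (UU (K2 q)) 165) 165) ||
    !(fixB2 (PM 165) Q 3) || !(fixB3 (PM 0) (PM 165) Q 7)

/-- The admissible images of the reflection `63`. -/
def stepDOK (q : ℕ) : Bool :=
  seqN (PM q) fun Q =>
    Nat.beq q 63 || Nat.beq q 108 || !(fixB2 (PM 19) Q 4) || !(fixB3 (PM 0) (PM 19) Q 7) ||
      !(fixB3 (PM 0) (PM 165) Q 10) || !(fixB3 (PM 165) (PM 19) Q 8)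

/-- Only the trivial element of the point stabilizer fixes `165` and `19`. -/
def regOK (k : ℕ) : Bool :=
  Nat.beq k 0 || !(Nat.beq (ent (UU k) 165) 165 && Nat.beq (ent (UU k) 19) 19)

end Cfsg.Agent.Helper29.J2OC
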