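import Cfsg.Agent.Lib.Helper29.J2SDefs

/-! Kernel-evaluated checks for the spectrum of the Hall-Janko group. -/

set_option autoImplicit false

namespace Cfsg.Agent.Helper29.J2SK

open Cfsg.Agent.Helper26 Cfsg.Agent.Helper29.PP9 Cfsg.Agent.Helper29.J2D Cfsg.Agent.Helper29.J2C
  Cfsg.Agent.Helper29.J2SD Cfsg.Agent.Helper29.J2SC

theorem ord_0 : allB 1920 (ordOK 0) = true := by decide +kernel
theorem ord_1 : allB 1920 (ordOK 1) = true := by decide +kernel
theorem ord_2 : allB 1920 (ordOK 2) = true := by decide +kernel
theorem ord_3 : allB 1920 (ordOK 3) = true := by decide +kernel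
theorem ord_4 : allB 1920 (ordOK 4) = true := by decide +kernel
theorem ord_5 : allB 1920 (ordOK 5) = true := by decide +kernel
theorem base_all : allB 1920 sbaseOK = true := by decide +kernel
theorem wit_all : allB 16 witOK = true := by decide +kernel
theorem rnode_lt : allB 6 (fun c => Nat.blt (rnode c) 315) = true := by decide +kernel

end Cfsg.Agent.Helper29.J2SK
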