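import Mathlib
import Cfsg.Agent.Lib.Helper29.J2GSimple
import Cfsg.Agent.Lib.Helper29.J2SChk

/-!
# The spectrum of the Hall-Janko group: the element orders are `1, …, 8, 10, 12, 15`

Every element of `G` is conjugate to some `E (rnode c) * U m` (`c < 6`, `m < 1920`); the orders of
these 11520 elements are checked by the kernel on the base `0, 1, 10`.
-/

set_option autoImplicit false

namespace Cfsg.Agent.Helper29.J2G

open Cfsg.Spor
open Cfsg.Agent.Helper26 Cfsg.Agent.Helper29.PP9 Cfsg.Agent.Helper29.J2D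
  Cfsg.Agent.Helper29.J2C Cfsg.Agent.Helper29.J2K Cfsg.Agent.Helper29.J2
  Cfsg.Agent.Helper29.J2SD Cfsg.Agent.Helper29.J2SC Cfsg.Agent.Helper29.J2SK

/-! ### Arithmetic of the admissible orders -/

theorem okN_lt {n : ℕ} (h : okN n = true) : n < 16 := by
  by_contra hn
  have h16 : 16 ≤ n := by omega
  have : (38398 : ℕ) < 2 ^ n :=
    lt_of_lt_of_le (by norm_num) (Nat.pow_le_pow_right (by norm_num) h16)
  unfold okN at h
  rw [Nat.testBit_lt_two_pow this] at h
  exact Bool.false_ne_true h

theorem okN_dvd_aux : ∀ n < 16, okN n = true → ∀ d < 16, d ∣ n → okN d = true := by decide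

theorem okN_pos {n : ℕ} (h : okN n = true) : 0 < n := by
  rcases Nat.eq_zero_or_pos n with h0 | h0
  · subst h0; exact absurd h (by decide)
  · exact h0

theorem okN_dvd {n d : ℕ} (h : okN n = true) (hd : d ∣ n) : okN d = true := by
  have hn := okN_lt h
  have hle : d ≤ n := Nat.le_of_dvd (okN_pos h) hd
  exact okN_dvd_aux n hn h d (by omega) hd

theorem okN_prime_aux (s : ℕ) (hs16 : s < 16) (hs : okN s = true) (p : ℕ) (hp16 : p < 16)
    (hp : p.Prime) (hps : p ∣ s) : p = 2 ∨ p = 3 ∨ p = 5 ∨ p = 7 := by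
  interval_cases p
  all_goals first
    | exact Or.inl rfl
    | exact Or.inr (Or.inl rfl)
    | exact Or.inr (Or.inr (Or.inl rfl))
    | exact Or.inr (Or.inr (Or.inr rfl))
    | (exfalso; norm_num at hp; done)
    | (exfalso; interval_cases s <;> first | (exact absurd hs (by decide)) | omega)

/-! ### Elements fixing the base -/

theorem fix0_mem {g : A} (hg : g ∈ G) (h0 : g 0 = 0) : g ∈ Subgroup.closure SH := by
  obtain ⟨i, hi, h, hh, rfl⟩ := level1.1 g hg
  obtain ⟨k, hk, rfl⟩ := level2.1 h hh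
  have h1 : (E i * U k) 0 = E i 0 := by rw [Equiv.Perm.mul_apply, U_fix k hk]
  have h2 : (E i 0).val = PT i := E_base i hi
  rw [h1] at h0
  rw [h0] at h2
  have h3 : i = 0 := by
    have e1 := NODE_PT i hi
    have e2 := NODE_PT 0 (by decide)
    rw [PT_zero] at e2
    rw [← h2] at e1
    have : ((0 : Fin 315) : ℕ) = 0 := rfl
    rw [this] at e1
    rw [← e1, e2]
  rw [h3, E_zero, one_mul]
  exact U_mem k

theorem U_apply' (k : ℕ) (hk : k < J2D.nH) (x : Fin 315) :
    (U k x).val = ent (UU k) x.val % 315 := by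
  have e : (val (U k) x).val = ent (UU k) x.val % 315 := by rw [U_val k hk]; rfl
  rw [val_apply] at e
  exact e

theorem E_apply' (i : ℕ) (hi : i < nE) (x : Fin 315) :
    (E i x).val = ent (TT i) x.val % 315 := by
  have e : (val (E i) x).val = ent (TT i) x.val % 315 := by rw [E_val i hi]; rfl
  rw [val_apply] at e
  exact e

theorem eq_one_of_fix {g : A} (hg : g ∈ G) (h0 : g 0 = 0) (h1 : g 1 = 1) (h10 : g 10 = 10) :
    g = 1 := by
  obtain ⟨k, hk, rfl⟩ := level2.1 g (fix0_mem hg h0)
  have hb := allB_true base_all k hk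
  unfold sbaseOK at hb
  rw [Bool.or_eq_true] at hb
  rcases hb with hb | hb
  · rw [Nat.eq_of_beq_eq_true hb, U_zero]
  · exfalso
    have hc := UU_canon k hk
    have e1 : ent (UU k) 1 = 1 := by
      have := U_apply' k hk 1
      rw [h1, Nat.mod_eq_of_lt (hc.2 _ (by decide))] at this
      exact this.symm
    have e10 : ent (UU k) 10 = 10 := by
      have := U_apply' k hk 10
      rw [h10, Nat.mod_eq_of_lt (hc.2 _ (by decide))] at this
      exact this.symm
    have e1' : ent (UU k) 1 = 1 := e1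
    rw [e1', e10] at hb
    exact absurd hb (by decide)

/-! ### Evaluation of the elements `E r * U m` -/

theorem EU_apply (r m : ℕ) (hr : r < nE) (hm : m < J2D.nH) (x : Fin 315) :
    ((E r * U m) x).val = stepF (TT r) (UU m) x.val := by
  rw [Equiv.Perm.mul_apply, E_apply' r hr, U_apply' m hm]
  rfl

theorem EU_pow_apply (r m : ℕ) (hr : r < nE) (hm : m < J2D.nH) (n : ℕ) (x : Fin 315) :
    (((E r * U m) ^ n) x).val = itr (TT r) (UU m) n x.val := by
  induction n with
  | zero => rfl
  | succ n ih =>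
    rw [pow_succ', Equiv.Perm.mul_apply, EU_apply r m hr hm, ih, itr_succ]

theorem rnode_lt' (c : ℕ) (hc : c < 6) : rnode c < nE := by
  have h := allB_true rnode_lt c hc
  have : rnode c < 315 := blt_lt h
  exact lt_trans this (by decide)

theorem EU_mem (r m : ℕ) : E r * U m ∈ G := Subgroup.mul_mem _ (E_mem r) (H_le (U_mem m))

theorem fixB_iff (r m : ℕ) (hr : r < nE) (hm : m < J2D.nH) (n : ℕ) :
    fixB (TT r) (UU m) n = true ↔ (E r * U m) ^ n = 1 := by
  constructor
  · intro h
    unfold fixB at h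
    rw [Bool.and_eq_true, Bool.and_eq_true] at h
    obtain ⟨⟨h0, h1⟩, h10⟩ := h
    apply eq_one_of_fix (Subgroup.pow_mem _ (EU_mem r m) n)
    · apply Fin.ext
      rw [EU_pow_apply r m hr hm]
      exact Nat.eq_of_beq_eq_true h0
    · apply Fin.ext
      rw [EU_pow_apply r m hr hm]
      exact Nat.eq_of_beq_eq_true h1
    · apply Fin.ext
      rw [EU_pow_apply r m hr hm]
      exact Nat.eq_of_beq_eq_true h10
  · intro h
    have e : ∀ x : Fin 315, itr (TT r) (UU m) n x.val = x.val := by
      intro x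
      rw [← EU_pow_apply r m hr hm, h]
      rfl
    unfold fixB
    have e0 := e 0
    have e1 := e 1
    have e10 := e 10
    have v0 : ((0 : Fin 315) : ℕ) = 0 := rfl
    have v1 : ((1 : Fin 315) : ℕ) = 1 := rfl
    have v10 : ((10 : Fin 315) : ℕ) = 10 := rfl
    rw [v0] at e0
    rw [v1] at e1
    rw [v10] at e10
    rw [e0, e1, e10]
    rfl

theorem ordOK_all (c m : ℕ) (hc : c < 6) (hm : m < 1920) : ordOK c m = true := by
  interval_cases c
  · exact allB_true ord_0 m hm
  · exact allB_true ord_1 m hm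
  · exact allB_true ord_2 m hm
  · exact allB_true ord_3 m hm
  · exact allB_true ord_4 m hm
  · exact allB_true ord_5 m hm

theorem ord_spec (c m : ℕ) (hc : c < 6) (hm : m < 1920) :
    okN (ORD (1920 * c + m)) = true ∧ (E (rnode c) * U m) ^ (ORD (1920 * c + m)) = 1 := by
  have h := ordOK_all c m hc hm
  unfold ordOK at h
  rw [seqN_eq, seqN_eq, seqN_eq, Bool.and_eq_true] at h
  exact ⟨h.1, (fixB_iff _ _ (rnode_lt' c hc) hm _).1 h.2⟩

theorem order_EU (c m : ℕ) (hc : c < 6) (hm : m < 1920) :
    okN (orderOf (E (rnode c) * U m)) = true := by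
  obtain ⟨h1, h2⟩ := ord_spec c m hc hm
  exact okN_dvd h1 (orderOf_dvd_of_pow_eq_one h2)

/-! ### Every element is conjugate to some `E (rnode c) * U m` -/

theorem exists_conj {g : A} (hg : g ∈ G) :
    ∃ c < 6, ∃ m < 1920, ∃ a : A, a * (E (rnode c) * U m) = g * a := by
  by_cases hx : g 0 = 0
  · obtain ⟨m, hm, rfl⟩ := level2.1 g (fix0_mem hg hx)
    refine ⟨0, by norm_num, m, hm, 1, ?_⟩
    have : rnode 0 = 0 := rfl
    rw [this, E_zero, one_mul, one_mul, mul_one]
  · set x : Fin 315 := g 0 with hxdef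
    obtain ⟨hk, _, hc0, hc6⟩ := orbOK_spec x hx
    set c := CLS x.val with hcdef
    set a : A := U (KX x.val) with hadef
    have hr : rnode c = nodeOf ⟨clsPt c, clsPt_lt c⟩ := by
      unfold rnode nodeOf
      have : Nat.beq c 0 = false := by
        cases hb : Nat.beq c 0
        · rfl
        · exact absurd (Nat.eq_of_beq_eq_true hb) (by omega)
      rw [this]
      rfl
    have hE : E (rnode c) 0 = ⟨clsPt c, clsPt_lt c⟩ := by rw [hr]; exact E_nodeOf _
    have haE : (a * E (rnode c)) 0 = x := by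
      rw [Equiv.Perm.mul_apply, hE]
      exact U_orb x hx
    have haG : a ∈ G := H_le (U_mem _)
    have hy : (a * E (rnode c))⁻¹ * g ∈ G :=
      Subgroup.mul_mem _ (Subgroup.inv_mem _ (Subgroup.mul_mem _ haG (E_mem _))) hg
    have hy0 : ((a * E (rnode c))⁻¹ * g) 0 = 0 := by
      rw [Equiv.Perm.mul_apply, ← hxdef, Equiv.Perm.inv_def, Equiv.symm_apply_eq]
      exact haE.symm
    obtain ⟨m1, hm1, e1⟩ := level2.1 _ (fix0_mem hy hy0)
    have hmem : U m1 * a ∈ Subgroup.closure SH := Subgroup.mul_mem _ (U_mem _) (U_mem _)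
    obtain ⟨m2, hm2, e2⟩ := level2.1 _ hmem
    refine ⟨c, hc6, m2, hm2, a, ?_⟩
    rw [← e2, ← e1]
    group

theorem order_mem {g : A} (hg : g ∈ G) : okN (orderOf g) = true := by
  obtain ⟨c, hc, m, hm, a, h⟩ := exists_conj hg
  have : SemiconjBy a (E (rnode c) * U m) g := h
  rw [← this.orderOf_eq]
  exact order_EU c m hc hm

/-! ### Witnesses -/

theorem exists_order {s : ℕ} (hs : okN s = true) : ∃ g ∈ G, orderOf g = s := by
  have hs16 := okN_lt hs
  have hw := allB_true wit_all s hs16
  unfold witOK at hw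
  rw [hs] at hw
  simp only [Bool.not_true, Bool.false_or, Bool.and_eq_true] at hw
  obtain ⟨⟨⟨⟨⟨⟨hc, hm⟩, hord⟩, m2⟩, m3⟩, m5⟩, m7⟩ := hw
  have hc := blt_lt hc
  have hm := blt_lt hm
  have hord := Nat.eq_of_beq_eq_true hord
  refine ⟨E (rnode (WC s)) * U (WM s), EU_mem _ _, ?_⟩
  have hpow := (ord_spec (WC s) (WM s) hc hm).2
  rw [hord] at hpow
  apply orderOf_eq_of_pow_and_pow_div_prime (okN_pos hs) hpow
  intro p hp hps
  have hple : p ≤ s := Nat.le_of_dvd (okN_pos hs) hps
  have hmoves : movesOK s p = true := by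
    rcases okN_prime_aux s hs16 hs p (by omega) hp hps with rfl | rfl | rfl | rfl
    · exact m2
    · exact m3
    · exact m5
    · exact m7
  unfold movesOK at hmoves
  have hmod : Nat.beq (s % p) 0 = true := by
    rw [Nat.mod_eq_zero_of_dvd hps]; rfl
  rw [hmod] at hmoves
  simp only [Bool.not_true, Bool.false_or, Bool.not_eq_true'] at hmoves
  intro hone
  have := (fixB_iff _ _ (rnode_lt' _ hc) hm _).2 hone
  rw [this] at hmoves
  exact Bool.noConfusion hmoves

/-- The spectrum of the Hall-Janko group. -/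
theorem range_orderOf_J2 : Set.range (orderOf : J2 → ℕ) = {n | okN n = true} := by
  ext n
  constructor
  · rintro ⟨x, rfl⟩
    show okN (orderOf x) = true
    rw [← MulEquiv.orderOf_eq j2Equiv x, ← Subgroup.orderOf_coe]
    exact order_mem (j2Equiv x).2
  · intro hn
    obtain ⟨g, hg, rfl⟩ := exists_order hn
    refine ⟨j2Equiv.symm ⟨g, hg⟩, ?_⟩
    rw [← MulEquiv.orderOf_eq j2Equiv, MulEquiv.apply_symm_apply, ← Subgroup.orderOf_coe]

/-! ### The symmetric group of degree eight -/

set_option maxRecDepth 100000 in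
theorem finset_lcm_ok : ∀ D ∈ (Finset.Icc 2 8).powerset, D.sum id ≤ 8 →
    okN (D.lcm id) = true := by decide +kernel

theorem multiset_lcm_ok (m : Multiset ℕ) (h2 : ∀ a ∈ m, 2 ≤ a) (hs : m.sum ≤ 8) :
    okN m.lcm = true := by
  have h1 : m.lcm = m.toFinset.lcm id := by
    rw [Finset.lcm_def, Multiset.toFinset_val, Multiset.map_id, Multiset.lcm_dedup]
  have h3 : m.toFinset ∈ (Finset.Icc 2 8).powerset := by
    rw [Finset.mem_powerset]
    intro a ha
    rw [Multiset.mem_toFinset] at ha
    rw [Finset.mem_Icc]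
    exact ⟨h2 a ha, (Multiset.le_sum_of_mem ha).trans hs⟩
  have h4 : m.toFinset.sum id ≤ 8 := by
    have e : m.toFinset.sum id = m.dedup.sum := by
      rw [Finset.sum, Multiset.toFinset_val, Multiset.map_id]
    obtain ⟨t, ht⟩ := Multiset.le_iff_exists_add.1 (Multiset.dedup_le m)
    have : m.sum = m.dedup.sum + t.sum := by
      conv_lhs => rw [ht]
      exact Multiset.sum_add _ _
    omega
  rw [h1]
  exact finset_lcm_ok _ h3 h4

theorem perm8_order (σ : Equiv.Perm (Fin 8)) : okN (orderOf σ) = true := by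
  rw [← Equiv.Perm.lcm_cycleType]
  apply multiset_lcm_ok
  · intro a ha
    exact Equiv.Perm.two_le_of_mem_cycleType ha
  · have := Equiv.Perm.sum_cycleType_le σ
    simpa using this

theorem perm8_exists {s : ℕ} (hs : okN s = true) : ∃ σ : Equiv.Perm (Fin 8), orderOf σ = s := by
  have key : ∀ m : Multiset ℕ, m.sum ≤ 8 → (∀ a ∈ m, 2 ≤ a) → m.lcm = s →
      ∃ σ : Equiv.Perm (Fin 8), orderOf σ = s := by
    intro m h1 h2 h3
    obtain ⟨g, hg⟩ := (Equiv.Perm.exists_with_cycleType_iff (Fin 8)).mpr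
      ⟨by simpa using h1, h2⟩
    exact ⟨g, by rw [← Equiv.Perm.lcm_cycleType, hg, h3]⟩
  have hs16 := okN_lt hs
  interval_cases s
  · exact absurd hs (by decide)
  · exact ⟨1, orderOf_one⟩
  · exact key {2} (by decide) (by decide) (by decide)
  · exact key {3} (by decide) (by decide) (by decide)
  · exact key {4} (by decide) (by decide) (by decide)
  · exact key {5} (by decide) (by decide) (by decide)
  · exact key {6} (by decide) (by decide) (by decide)
  · exact key {7} (by decide) (by decide) (by decide)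
  · exact key {8} (by decide) (by decide) (by decide)
  · exact absurd hs (by decide)
  · exact key {5, 2} (by decide) (by decide) (by decide)
  · exact absurd hs (by decide)
  · exact key {4, 3} (by decide) (by decide) (by decide)
  · exact absurd hs (by decide)
  · exact absurd hs (by decide)
  · exact key {5, 3} (by decide) (by decide) (by decide)

theorem range_orderOf_perm8 :
    Set.range (orderOf : Equiv.Perm (Fin 8) → ℕ) = {n | okN n = true} := by
  ext n
  constructor
  · rintro ⟨σ, rfl⟩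
    exact perm8_order σ
  · intro hn
    exact perm8_exists hn

end Cfsg.Agent.Helper29.J2G
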