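import Mathlib
import Cfsg.Agent.Lib.Helper29.J2LCore
import Cfsg.Agent.Lib.Helper29.J2Spec
import Cfsg.Agent.Lib.Helper29.J2OChkA
import Cfsg.Agent.Lib.Helper29.J2OChkB

/-!
# Automorphisms of the Hall-Janko group permute the reflections

The table of all 315 reflections as packed permutations; the reflections are exactly the
squares of the elements of order four.
-/

set_option autoImplicit false

namespace Cfsg.Agent.Helper29.J2G

open Cfsg.Spor
open Cfsg.Agent.Helper26 Cfsg.Agent.Helper29.PP9 Cfsg.Agent.Helper29.J2D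
  Cfsg.Agent.Helper29.J2C Cfsg.Agent.Helper29.J2K Cfsg.Agent.Helper29.J2
  Cfsg.Agent.Helper29.J2SD Cfsg.Agent.Helper29.J2SC Cfsg.Agent.Helper29.J2SK
  Cfsg.Agent.Helper29.J2OD Cfsg.Agent.Helper29.J2OC Cfsg.Agent.Helper29.J2OK

/-! ### The table of reflections -/

theorem pmOK_all (q : ℕ) (hq : q < 315) : pmOK q = true := by
  by_cases c0 : q < 105
  · exact allR_true pm_0 q (by omega) (by omega)
  by_cases c1 : q < 210
  · exact allR_true pm_1 q (by omega) (by omega)
  · exact allR_true pm_2 q (by omega) (by omega)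

theorem Pm_val (q : Fin 315) : val (Pm q) = d315 (PM q.val) := by
  have h := pmOK_all q.val q.isLt
  unfold pmOK at h
  rw [pmF_eq, pmF_eq] at h
  have h' := Nat.eq_of_beq_eq_true h
  have hn : nodeOf q < nE := lt_trans (nodeOf_lt q) (by decide)
  have hE : E (nodeOf q) 0 = q := E_nodeOf q
  have hc : E (nodeOf q) * Pm 0 * (E (nodeOf q))⁻¹ = Pm q := by
    rw [Pm_conj_G (E_mem _), hE]
  have h1 : Pm q * E (nodeOf q) = E (nodeOf q) * Pm 0 := by
    rw [← hc]; group
  have h2 := congrArg val h1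
  have hnode : TT (NODE q.val) = TT (nodeOf q) := rfl
  rw [map_mul, map_mul, E_val _ hn, Pm_zero, zE_val, ← PM_zero, ← d_mul, ← hnode, ← h', d_mul,
    hnode] at h2
  have h3 : d315 (TT (nodeOf q)) * val ((E (nodeOf q))⁻¹) = 1 := by
    rw [← E_val _ hn, ← map_mul, mul_inv_cancel, map_one]
  calc val (Pm q) = val (Pm q) * (d315 (TT (nodeOf q)) * val ((E (nodeOf q))⁻¹)) := by
        rw [h3, mul_one]
    _ = d315 (PM q.val) * d315 (TT (nodeOf q)) * val ((E (nodeOf q))⁻¹) := by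
        rw [← mul_assoc, h2]
    _ = d315 (PM q.val) := by rw [mul_assoc, h3, mul_one]

theorem Pm_apply (q x : Fin 315) : (Pm q x).val = app (PM q.val) x.val := by
  have e : (val (Pm q) x).val = ent (PM q.val) x.val % 315 := by rw [Pm_val]; rfl
  rw [val_apply] at e
  exact e

theorem Pm2_pow_apply (p q : Fin 315) (n : ℕ) (x : Fin 315) :
    (((Pm p * Pm q) ^ n) x).val = itr2 (PM p.val) (PM q.val) n x.val := by
  induction n with
  | zero => rfl
  | succ n ih =>
    rw [pow_succ', Equiv.Perm.mul_apply, Equiv.Perm.mul_apply, Pm_apply, Pm_apply, ih, itr2_succ]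

theorem Pm3_pow_apply (p q r : Fin 315) (n : ℕ) (x : Fin 315) :
    (((Pm p * Pm q * Pm r) ^ n) x).val = itr3 (PM p.val) (PM q.val) (PM r.val) n x.val := by
  induction n with
  | zero => rfl
  | succ n ih =>
    rw [pow_succ', Equiv.Perm.mul_apply, Equiv.Perm.mul_apply, Equiv.Perm.mul_apply, Pm_apply,
      Pm_apply, Pm_apply, ih, itr3_succ]

theorem eq_of_base {g h : A} (hg : g ∈ G) (hh : h ∈ G) (h0 : g 0 = h 0) (h1 : g 1 = h 1)
    (h10 : g 10 = h 10) : g = h := by
  have key : h⁻¹ * g = 1 := by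
    apply eq_one_of_fix (Subgroup.mul_mem _ (Subgroup.inv_mem _ hh) hg)
    · rw [Equiv.Perm.mul_apply, h0, Equiv.Perm.inv_def, Equiv.symm_apply_apply]
    · rw [Equiv.Perm.mul_apply, h1, Equiv.Perm.inv_def, Equiv.symm_apply_apply]
    · rw [Equiv.Perm.mul_apply, h10, Equiv.Perm.inv_def, Equiv.symm_apply_apply]
  calc g = h * (h⁻¹ * g) := by group
    _ = h := by rw [key, mul_one]

theorem v0 : ((0 : Fin 315) : ℕ) = 0 := rfl
theorem v1 : ((1 : Fin 315) : ℕ) = 1 := rfl
theorem v10 : ((10 : Fin 315) : ℕ) = 10 := rfl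

theorem fixB2_iff (p q : Fin 315) (n : ℕ) :
    fixB2 (PM p.val) (PM q.val) n = true ↔ (Pm p * Pm q) ^ n = 1 := by
  constructor
  · intro h
    unfold fixB2 at h
    rw [Bool.and_eq_true, Bool.and_eq_true] at h
    obtain ⟨⟨h0, h1⟩, h10⟩ := h
    apply eq_one_of_fix (Subgroup.pow_mem _ (Subgroup.mul_mem _ (Pm_mem p) (Pm_mem q)) n)
    · apply Fin.ext
      rw [Pm2_pow_apply]
      exact Nat.eq_of_beq_eq_true h0
    · apply Fin.ext
      rw [Pm2_pow_apply]
      exact Nat.eq_of_beq_eq_true h1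
    · apply Fin.ext
      rw [Pm2_pow_apply]
      exact Nat.eq_of_beq_eq_true h10
  · intro h
    have e : ∀ x : Fin 315, itr2 (PM p.val) (PM q.val) n x.val = x.val := by
      intro x
      rw [← Pm2_pow_apply, h]
      rfl
    unfold fixB2
    have e0 := e 0
    have e1 := e 1
    have e10 := e 10
    rw [v0] at e0
    rw [v1] at e1
    rw [v10] at e10
    rw [e0, e1, e10]
    rfl

theorem fixB3_iff (p q r : Fin 315) (n : ℕ) :
    fixB3 (PM p.val) (PM q.val) (PM r.val) n = true ↔ (Pm p * Pm q * Pm r) ^ n = 1 := by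
  constructor
  · intro h
    unfold fixB3 at h
    rw [Bool.and_eq_true, Bool.and_eq_true] at h
    obtain ⟨⟨h0, h1⟩, h10⟩ := h
    apply eq_one_of_fix (Subgroup.pow_mem _
      (Subgroup.mul_mem _ (Subgroup.mul_mem _ (Pm_mem p) (Pm_mem q)) (Pm_mem r)) n)
    · apply Fin.ext
      rw [Pm3_pow_apply]
      exact Nat.eq_of_beq_eq_true h0
    · apply Fin.ext
      rw [Pm3_pow_apply]
      exact Nat.eq_of_beq_eq_true h1
    · apply Fin.ext
      rw [Pm3_pow_apply]
      exact Nat.eq_of_beq_eq_true h10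
  · intro h
    have e : ∀ x : Fin 315, itr3 (PM p.val) (PM q.val) (PM r.val) n x.val = x.val := by
      intro x
      rw [← Pm3_pow_apply, h]
      rfl
    unfold fixB3
    have e0 := e 0
    have e1 := e 1
    have e10 := e 10
    rw [v0] at e0
    rw [v1] at e1
    rw [v10] at e10
    rw [e0, e1, e10]
    rfl

/-! ### The reflections are involutions -/

theorem zE_sq : zE * zE = 1 := by
  apply val_inj
  have h := z_sq
  rw [pmF_eq] at h
  rw [map_mul, zE_val, ← d_mul, h, d_one, map_one]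

theorem zE_ne_one' : zE ≠ 1 := by
  intro h
  have h1 : U k0 = U 0 := by rw [U_zero]; exact h
  have := U_inj k0 (by decide) 0 (by decide) h1
  exact absurd this (by decide)

theorem Pm_eq_conj (i : Fin 315) : Pm i = E (nodeOf i) * zE * (E (nodeOf i))⁻¹ := by
  rw [← Pm_zero, Pm_conj_G (E_mem _), E_nodeOf]

theorem Pm_sq (i : Fin 315) : Pm i * Pm i = 1 := by
  rw [Pm_eq_conj]
  calc E (nodeOf i) * zE * (E (nodeOf i))⁻¹ * (E (nodeOf i) * zE * (E (nodeOf i))⁻¹)
      = E (nodeOf i) * (zE * zE) * (E (nodeOf i))⁻¹ := by group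
    _ = 1 := by rw [zE_sq, mul_one, mul_inv_cancel]

theorem Pm_ne_one (i : Fin 315) : Pm i ≠ 1 := by
  intro h
  rw [Pm_eq_conj] at h
  apply zE_ne_one'
  calc zE = (E (nodeOf i))⁻¹ * (E (nodeOf i) * zE * (E (nodeOf i))⁻¹) * E (nodeOf i) := by group
    _ = 1 := by rw [h, mul_one, inv_mul_cancel]

/-! ### Conjugacy to the representatives, with the conjugating element in the group -/

theorem exists_conj' {g : A} (hg : g ∈ G) :
    ∃ c < 6, ∃ m < 1920, ∃ a ∈ G, a * (E (rnode c) * U m) = g * a := by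
  by_cases hx : g 0 = 0
  · obtain ⟨m, hm, rfl⟩ := level2.1 g (fix0_mem hg hx)
    refine ⟨0, by norm_num, m, hm, 1, Subgroup.one_mem _, ?_⟩
    have : rnode 0 = 0 := rfl
    rw [this, E_zero, one_mul, one_mul, mul_one]
  · set x : Fin 315 := g 0 with hxdef
    obtain ⟨hk, _, hc0, hc6⟩ := orbOK_spec x hx
    set c := CLS x.val with hcdef
    set a : A := U (KX x.val) with hadef
    have hr : rnode c = nodeOf ⟨clsPt c, clsPt_lt c⟩ := by
      unfold rnode nodeOf
      have : Nat.beq c 0 = false := by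
        cases hb : Nat.beq c 0
        · rfl
        · exact absurd (Nat.eq_of_beq_eq_true hb) (by omega)
      rw [this]
      rfl
    have hE : E (rnode c) 0 = ⟨clsPt c, clsPt_lt c⟩ := by rw [hr]; exact E_nodeOf _
    have haE : (a * E (rnode c)) 0 = x := by
      rw [Equiv.Perm.mul_apply, hE]
      exact U_orb x hx
    have haG : a ∈ G := H_le (U_mem _)
    have hy : (a * E (rnode c))⁻¹ * g ∈ G :=
      Subgroup.mul_mem _ (Subgroup.inv_mem _ (Subgroup.mul_mem _ haG (E_mem _))) hg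
    have hy0 : ((a * E (rnode c))⁻¹ * g) 0 = 0 := by
      rw [Equiv.Perm.mul_apply, ← hxdef, Equiv.Perm.inv_def, Equiv.symm_apply_eq]
      exact haE.symm
    obtain ⟨m1, hm1, e1⟩ := level2.1 _ (fix0_mem hy hy0)
    have hmem : U m1 * a ∈ Subgroup.closure SH := Subgroup.mul_mem _ (U_mem _) (U_mem _)
    obtain ⟨m2, hm2, e2⟩ := level2.1 _ hmem
    refine ⟨c, hc6, m2, hm2, a, haG, ?_⟩
    rw [← e2, ← e1]
    group

/-! ### Squares of elements of order four -/

theorem sqOK_all (c m : ℕ) (hc : c < 6) (hm : m < 1920) : sqOK c m = true := by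
  interval_cases c
  · exact allB_true sq_0 m hm
  · exact allB_true sq_1 m hm
  · exact allB_true sq_2 m hm
  · exact allB_true sq_3 m hm
  · exact allB_true sq_4 m hm
  · exact allB_true sq_5 m hm

theorem sq_rep (c m : ℕ) (hc : c < 6) (hm : m < 1920) (h2 : (E (rnode c) * U m) ^ 2 ≠ 1)
    (h4 : (E (rnode c) * U m) ^ 4 = 1) : ∃ i : Fin 315, (E (rnode c) * U m) ^ 2 = Pm i := by
  have h := sqOK_all c m hc hm
  have hr := rnode_lt' c hc
  unfold sqOK at h
  rw [seqN_eq, seqN_eq, Bool.or_eq_true, Bool.or_eq_true] at h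
  rcases h with (h | h) | h
  · exact absurd ((fixB_iff _ _ hr hm 2).1 h) h2
  · have := (fixB_iff _ _ hr hm 4).2 h4
    rw [this] at h
    exact absurd h (by decide)
  · rw [seqN_eq, Bool.and_eq_true, seqN_eq, Bool.and_eq_true, Bool.and_eq_true] at h
    obtain ⟨hi, ⟨h0, h1⟩, h10⟩ := h
    have hi := blt_lt hi
    refine ⟨⟨SQ (1920 * c + m), hi⟩, ?_⟩
    apply eq_of_base (Subgroup.pow_mem _ (EU_mem _ _) 2) (Pm_mem _)
    · apply Fin.ext
      rw [EU_pow_apply _ _ hr hm, Pm_apply]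
      exact Nat.eq_of_beq_eq_true h0
    · apply Fin.ext
      rw [EU_pow_apply _ _ hr hm, Pm_apply]
      exact Nat.eq_of_beq_eq_true h1
    · apply Fin.ext
      rw [EU_pow_apply _ _ hr hm, Pm_apply]
      exact Nat.eq_of_beq_eq_true h10

theorem sq_char {x : A} (hx : x ∈ G) (h2 : x ^ 2 ≠ 1) (h4 : x ^ 4 = 1) :
    ∃ i : Fin 315, x ^ 2 = Pm i := by
  obtain ⟨c, hc, m, hm, a, ha, h⟩ := exists_conj' hx
  have hx' : x = a * (E (rnode c) * U m) * a⁻¹ := by rw [h]; group
  have hpow : ∀ n : ℕ, x ^ n = a * (E (rnode c) * U m) ^ n * a⁻¹ := by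
    intro n
    rw [hx', conj_pow]
  have h2' : (E (rnode c) * U m) ^ 2 ≠ 1 := by
    intro h'
    apply h2
    rw [hpow, h', mul_one, mul_inv_cancel]
  have h4' : (E (rnode c) * U m) ^ 4 = 1 := by
    have := h4
    rw [hpow] at this
    calc (E (rnode c) * U m) ^ 4 = a⁻¹ * (a * (E (rnode c) * U m) ^ 4 * a⁻¹) * a := by group
      _ = 1 := by rw [this, mul_one, inv_mul_cancel]
  obtain ⟨i, hi⟩ := sq_rep c m hc hm h2' h4'
  exact ⟨a i, by rw [hpow, hi, Pm_conj_G ha]⟩

end Cfsg.Agent.Helper29.J2G
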