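import Mathlib
import Cfsg.Prelude.Def_KGroupFacts
import Cfsg.Agent.Lib.Helper26.AutOuter
import Cfsg.Agent.Lib.Helper29.J2Out1

/-!
# The outer automorphism group of the Hall-Janko group has order two
-/

set_option autoImplicit false

namespace Cfsg.Agent.Helper29.J2G

open Cfsg.Spor
open Cfsg.Agent.Helper26 Cfsg.Agent.Helper29.PP9 Cfsg.Agent.Helper29.J2D
  Cfsg.Agent.Helper29.J2C Cfsg.Agent.Helper29.J2K Cfsg.Agent.Helper29.J2
  Cfsg.Agent.Helper29.J2SD Cfsg.Agent.Helper29.J2SC Cfsg.Agent.Helper29.J2SK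
  Cfsg.Agent.Helper29.J2OD Cfsg.Agent.Helper29.J2OC Cfsg.Agent.Helper29.J2OK

/-! ### The reflections as elements of the group -/

/-- The reflections as elements of the group. -/
noncomputable def PmG (i : Fin 315) : G := ⟨Pm i, Pm_mem i⟩

theorem PmG_coe (i : Fin 315) : (PmG i : A) = Pm i := rfl

theorem PmG_conj (g : G) (i : Fin 315) : g * PmG i * g⁻¹ = PmG (g.1 i) :=
  Subtype.ext (Pm_conj_G g.2 i)

theorem PmG_injective : Function.Injective PmG :=
  fun _ _ h => Pm_injective (congrArg Subtype.val h)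

theorem PmG_sq (i : Fin 315) : PmG i ^ 2 = 1 := by
  rw [pow_two]
  exact Subtype.ext (Pm_sq i)

theorem PmG_ne_one (i : Fin 315) : PmG i ≠ 1 := by
  intro h
  exact Pm_ne_one i (congrArg Subtype.val h)

theorem cG_eq : cG = PmG 0 * PmG 165 * PmG 19 := by
  apply Subtype.ext
  show psi x1L = Pm 0 * Pm 165 * Pm 19
  unfold x1L Pm
  rw [map_mul, map_mul]
  rfl

theorem dG_eq : dG = PmG 0 * PmG 19 * PmG 63 := by
  apply Subtype.ext
  show psi x2L = Pm 0 * Pm 19 * Pm 63
  unfold x2L Pm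
  rw [map_mul, map_mul]
  rfl

/-- The four generating reflections. -/
def genSet : Set G := {PmG 0, PmG 165, PmG 19, PmG 63}

theorem closure_genSet : Subgroup.closure genSet = ⊤ := by
  rw [eq_top_iff, ← closure_cd, Subgroup.closure_le]
  have h0 : PmG 0 ∈ Subgroup.closure genSet := Subgroup.subset_closure (by simp [genSet])
  have h1 : PmG 165 ∈ Subgroup.closure genSet := Subgroup.subset_closure (by simp [genSet])
  have h2 : PmG 19 ∈ Subgroup.closure genSet := Subgroup.subset_closure (by simp [genSet])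
  have h3 : PmG 63 ∈ Subgroup.closure genSet := Subgroup.subset_closure (by simp [genSet])
  rintro x (rfl | rfl)
  · rw [cG_eq]
    exact Subgroup.mul_mem _ (Subgroup.mul_mem _ h0 h1) h2
  · rw [dG_eq]
    exact Subgroup.mul_mem _ (Subgroup.mul_mem _ h0 h2) h3

theorem aut_ext {φ ψ : MulAut G} (h0 : φ (PmG 0) = ψ (PmG 0)) (h1 : φ (PmG 165) = ψ (PmG 165))
    (h2 : φ (PmG 19) = ψ (PmG 19)) (h3 : φ (PmG 63) = ψ (PmG 63)) : φ = ψ := by
  have key : φ.toMonoidHom = ψ.toMonoidHom := by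
    apply MonoidHom.eq_of_eqOn_dense closure_genSet
    rintro x (rfl | rfl | rfl | rfl)
    · exact h0
    · exact h1
    · exact h2
    · exact h3
  exact MulEquiv.ext (fun x => DFunLike.congr_fun key x)

/-! ### Powers of products of reflections in the group -/

theorem pow2_iff (p q : Fin 315) (n : ℕ) :
    (PmG p * PmG q) ^ n = 1 ↔ fixB2 (PM p.val) (PM q.val) n = true := by
  rw [fixB2_iff]
  constructor
  · intro h
    have := congrArg Subtype.val h
    exact this
  · intro h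
    exact Subtype.ext h

theorem pow3_iff (p q r : Fin 315) (n : ℕ) :
    (PmG p * PmG q * PmG r) ^ n = 1 ↔ fixB3 (PM p.val) (PM q.val) (PM r.val) n = true := by
  rw [fixB3_iff]
  constructor
  · intro h
    have := congrArg Subtype.val h
    exact this
  · intro h
    exact Subtype.ext h

/-! ### Automorphisms permute the reflections -/

theorem U_sq_m0 : U m0 * U m0 = zE := by
  apply val_inj
  have h := m0_sq
  rw [pmF_eq] at h
  rw [map_mul, U_val m0 m0_lt, ← d_mul, h, zE_val]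

theorem aut_refl0 (φ : MulAut G) : ∃ j, φ (PmG 0) = PmG j := by
  have hx0 : (UG m0) ^ 2 = PmG 0 := by
    apply Subtype.ext
    show U m0 ^ 2 = Pm 0
    rw [pow_two, U_sq_m0, Pm_zero]
  have h2 : (φ (UG m0)) ^ 2 ≠ 1 := by
    rw [← map_pow, hx0]
    intro h
    exact PmG_ne_one 0 (φ.injective (h.trans (map_one φ).symm))
  have h4 : (φ (UG m0)) ^ 4 = 1 := by
    have : (UG m0) ^ 4 = 1 := by
      have e : (UG m0) ^ 4 = ((UG m0) ^ 2) ^ 2 := by rw [← pow_mul]
      rw [e, hx0, PmG_sq]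
    rw [← map_pow, this, map_one]
  have h2' : ((φ (UG m0) : G) : A) ^ 2 ≠ 1 := by
    intro h
    exact h2 (Subtype.ext h)
  have h4' : ((φ (UG m0) : G) : A) ^ 4 = 1 := congrArg Subtype.val h4
  obtain ⟨i, hi⟩ := sq_char (φ (UG m0)).2 h2' h4'
  refine ⟨i, ?_⟩
  rw [← hx0, map_pow]
  exact Subtype.ext hi

/-- The transversal elements as elements of the group. -/
noncomputable def EG (i : Fin 315) : G := ⟨E (nodeOf i), E_mem _⟩

theorem EG_zero (i : Fin 315) : (EG i).1 0 = i := E_nodeOf i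

theorem PmG_eq_conj (i : Fin 315) : PmG i = EG i * PmG 0 * (EG i)⁻¹ := by
  rw [PmG_conj, EG_zero]

theorem aut_refl (φ : MulAut G) (i : Fin 315) : ∃ j, φ (PmG i) = PmG j := by
  obtain ⟨j, hj⟩ := aut_refl0 φ
  refine ⟨(φ (EG i)).1 j, ?_⟩
  rw [PmG_eq_conj i, map_mul, map_mul, map_inv, hj, PmG_conj]

/-! ### Rigidity -/

theorem stepA (φ : MulAut G) : ∃ g : G, (MulAut.conj g * φ) (PmG 0) = PmG 0 := by
  obtain ⟨j, hj⟩ := aut_refl0 φ
  refine ⟨(EG j)⁻¹, ?_⟩
  rw [MulAut.mul_apply, hj, MulAut.conj_apply, PmG_conj]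
  congr 1
  show (EG j)⁻¹.1 j = 0
  have : ((EG j)⁻¹ : G).1 = ((EG j).1)⁻¹ := rfl
  rw [this, Equiv.Perm.inv_def, Equiv.symm_apply_eq]
  exact (EG_zero j).symm

theorem UG_coe (k : ℕ) : (UG k : A) = U k := rfl

theorem U_apply_eq (k : ℕ) (hk : k < J2D.nH) (x y : Fin 315) (h : ent (UU k) x.val = y.val) :
    U k x = y := by
  apply Fin.ext
  rw [U_apply' k hk, h]
  exact Nat.mod_eq_of_lt y.isLt

theorem stepB (φ : MulAut G) (h0 : φ (PmG 0) = PmG 0) :
    ∃ g : G, (MulAut.conj g * φ) (PmG 0) = PmG 0 ∧ (MulAut.conj g * φ) (PmG 165) = PmG 165 := by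
  obtain ⟨q, hq⟩ := aut_refl φ 165
  have hrel : (PmG 0 * PmG q) ^ 3 = 1 := by
    have : (PmG 0 * PmG 165) ^ 3 = 1 := (pow2_iff 0 165 3).2 base_0_165
    have h := congrArg φ this
    rw [map_pow, map_mul, h0, hq, map_one] at h
    exact h
  have hfix : fixB2 (PM 0) (PM q.val) 3 = true := (pow2_iff 0 q 3).1 hrel
  have hchk := allB_true stepB_all q.val q.isLt
  unfold stepBOK at hchk
  rw [seqN_eq, Bool.or_eq_true, Bool.or_eq_true] at hchk
  have hq0 : q ≠ 0 := by
    intro h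
    rw [h, ← h0] at hq
    have := PmG_injective (φ.injective hq)
    exact absurd this (by decide)
  rcases hchk with (h | h) | h
  · exact absurd (Fin.ext (Nat.eq_of_beq_eq_true h)) hq0
  · have hcls : CLS q.val = 1 := Nat.eq_of_beq_eq_true h
    have h165 : (165 : Fin 315) ≠ 0 := by decide
    have e1 := U_orb q hq0
    have e2 := U_orb 165 h165
    have hp : (⟨clsPt (CLS q.val), clsPt_lt _⟩ : Fin 315) =
        ⟨clsPt (CLS (165 : Fin 315).val), clsPt_lt _⟩ := by
      apply Fin.ext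
      show clsPt (CLS q.val) = clsPt (CLS 165)
      rw [hcls, cls_165]
    rw [hp] at e1
    set p1 : Fin 315 := ⟨clsPt (CLS (165 : Fin 315).val), clsPt_lt _⟩ with hp1
    have hk1 := (orbOK_spec q hq0).1
    have hk2 := (orbOK_spec 165 h165).1
    refine ⟨UG (KX (165 : Fin 315).val) * (UG (KX q.val))⁻¹, ?_, ?_⟩
    · rw [MulAut.mul_apply, h0, MulAut.conj_apply, PmG_conj]
      congr 1
      show (U (KX (165 : Fin 315).val) * (U (KX q.val))⁻¹) 0 = 0
      rw [Equiv.Perm.mul_apply]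
      have : (U (KX q.val))⁻¹ 0 = 0 := by
        rw [Equiv.Perm.inv_def, Equiv.symm_apply_eq, U_fix _ hk1]
      rw [this, U_fix _ hk2]
    · rw [MulAut.mul_apply, hq, MulAut.conj_apply, PmG_conj]
      congr 1
      show (U (KX (165 : Fin 315).val) * (U (KX q.val))⁻¹) q = 165
      rw [Equiv.Perm.mul_apply]
      have : (U (KX q.val))⁻¹ q = p1 := by
        rw [Equiv.Perm.inv_def, Equiv.symm_apply_eq, e1]
      rw [this, e2]
  · rw [hfix] at h
    exact absurd h (by decide)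

theorem stepC (φ : MulAut G) (h0 : φ (PmG 0) = PmG 0) (h1 : φ (PmG 165) = PmG 165) :
    ∃ g : G, (MulAut.conj g * φ) (PmG 0) = PmG 0 ∧ (MulAut.conj g * φ) (PmG 165) = PmG 165 ∧
      (MulAut.conj g * φ) (PmG 19) = PmG 19 := by
  obtain ⟨q, hq⟩ := aut_refl φ 19
  have hrel1 : (PmG 165 * PmG q) ^ 3 = 1 := by
    have : (PmG 165 * PmG 19) ^ 3 = 1 := (pow2_iff 165 19 3).2 base_165_19
    have h := congrArg φ this
    rw [map_pow, map_mul, h1, hq, map_one] at h
    exact h
  have hrel2 : (PmG 0 * PmG 165 * PmG q) ^ 7 = 1 := by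
    have : (PmG 0 * PmG 165 * PmG 19) ^ 7 = 1 := (pow3_iff 0 165 19 7).2 base_0_165_19
    have h := congrArg φ this
    rw [map_pow, map_mul, map_mul, h0, h1, hq, map_one] at h
    exact h
  have hfix1 : fixB2 (PM 165) (PM q.val) 3 = true := (pow2_iff 165 q 3).1 hrel1
  have hfix2 : fixB3 (PM 0) (PM 165) (PM q.val) 7 = true := (pow3_iff 0 165 q 7).1 hrel2
  have hchk := allB_true stepC_all q.val q.isLt
  unfold stepCOK at hchk
  rw [seqN_eq, Bool.or_eq_true, Bool.or_eq_true] at hchk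
  rcases hchk with (h | h) | h
  · rw [Bool.and_eq_true, Bool.and_eq_true, Bool.and_eq_true] at h
    obtain ⟨⟨⟨_, hk⟩, hkq⟩, hk165⟩ := h
    have hk := blt_lt hk
    have hkq := Nat.eq_of_beq_eq_true hkq
    have hk165 := Nat.eq_of_beq_eq_true hk165
    have e0 : U (K2 q.val) 0 = 0 := U_fix _ hk
    have e1 : U (K2 q.val) 165 = 165 := U_apply_eq _ hk 165 165 hk165
    have e2 : U (K2 q.val) q = 19 := U_apply_eq _ hk q 19 hkq
    refine ⟨UG (K2 q.val), ?_, ?_, ?_⟩
    · rw [MulAut.mul_apply, h0, MulAut.conj_apply, PmG_conj, UG_coe, e0]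
    · rw [MulAut.mul_apply, h1, MulAut.conj_apply, PmG_conj, UG_coe, e1]
    · rw [MulAut.mul_apply, hq, MulAut.conj_apply, PmG_conj, UG_coe, e2]
  · rw [hfix1] at h
    exact absurd h (by decide)
  · rw [hfix2] at h
    exact absurd h (by decide)

theorem stepD (φ : MulAut G) (h0 : φ (PmG 0) = PmG 0) (h1 : φ (PmG 165) = PmG 165)
    (h2 : φ (PmG 19) = PmG 19) : φ (PmG 63) = PmG 63 ∨ φ (PmG 63) = PmG 108 := by
  obtain ⟨q, hq⟩ := aut_refl φ 63
  have hrel1 : (PmG 19 * PmG q) ^ 4 = 1 := by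
    have : (PmG 19 * PmG 63) ^ 4 = 1 := (pow2_iff 19 63 4).2 base_19_63
    have h := congrArg φ this
    rw [map_pow, map_mul, h2, hq, map_one] at h
    exact h
  have hrel2 : (PmG 0 * PmG 19 * PmG q) ^ 7 = 1 := by
    have : (PmG 0 * PmG 19 * PmG 63) ^ 7 = 1 := (pow3_iff 0 19 63 7).2 base_0_19_63
    have h := congrArg φ this
    rw [map_pow, map_mul, map_mul, h0, h2, hq, map_one] at h
    exact h
  have hrel3 : (PmG 0 * PmG 165 * PmG q) ^ 10 = 1 := by
    have : (PmG 0 * PmG 165 * PmG 63) ^ 10 = 1 := (pow3_iff 0 165 63 10).2 base_0_165_63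
    have h := congrArg φ this
    rw [map_pow, map_mul, map_mul, h0, h1, hq, map_one] at h
    exact h
  have hrel4 : (PmG 165 * PmG 19 * PmG q) ^ 8 = 1 := by
    have : (PmG 165 * PmG 19 * PmG 63) ^ 8 = 1 := (pow3_iff 165 19 63 8).2 base_165_19_63
    have h := congrArg φ this
    rw [map_pow, map_mul, map_mul, h1, h2, hq, map_one] at h
    exact h
  have hfix1 : fixB2 (PM 19) (PM q.val) 4 = true := (pow2_iff 19 q 4).1 hrel1
  have hfix2 : fixB3 (PM 0) (PM 19) (PM q.val) 7 = true := (pow3_iff 0 19 q 7).1 hrel2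
  have hfix3 : fixB3 (PM 0) (PM 165) (PM q.val) 10 = true := (pow3_iff 0 165 q 10).1 hrel3
  have hfix4 : fixB3 (PM 165) (PM 19) (PM q.val) 8 = true := (pow3_iff 165 19 q 8).1 hrel4
  have hchk := allB_true stepD_all q.val q.isLt
  unfold stepDOK at hchk
  rw [seqN_eq, Bool.or_eq_true, Bool.or_eq_true, Bool.or_eq_true, Bool.or_eq_true,
    Bool.or_eq_true] at hchk
  rcases hchk with ((((h | h) | h) | h) | h) | h
  · left
    rw [hq]
    congr 1
    exact Fin.ext (Nat.eq_of_beq_eq_true h)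
  · right
    rw [hq]
    congr 1
    exact Fin.ext (Nat.eq_of_beq_eq_true h)
  · rw [hfix1] at h
    exact absurd h (by decide)
  · rw [hfix2] at h
    exact absurd h (by decide)
  · rw [hfix3] at h
    exact absurd h (by decide)
  · rw [hfix4] at h
    exact absurd h (by decide)

end Cfsg.Agent.Helper29.J2G
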