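import Mathlib
import Cfsg.Prelude.Def_KGroupFacts
import Cfsg.Agent.Lib.Helper26.AutOuter
import Cfsg.Agent.Lib.Helper29.J2Out2

/-!
# The outer automorphism group of the Hall-Janko group has order two: the outer automorphism
-/

set_option autoImplicit false

namespace Cfsg.Agent.Helper29.J2G

open Cfsg.Spor
open Cfsg.Agent.Helper26 Cfsg.Agent.Helper29.PP9 Cfsg.Agent.Helper29.J2D
  Cfsg.Agent.Helper29.J2C Cfsg.Agent.Helper29.J2K Cfsg.Agent.Helper29.J2
  Cfsg.Agent.Helper29.J2SD Cfsg.Agent.Helper29.J2SC Cfsg.Agent.Helper29.J2SK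
  Cfsg.Agent.Helper29.J2OD Cfsg.Agent.Helper29.J2OC Cfsg.Agent.Helper29.J2OK

/-! ### The outer automorphism as a permutation of the reflections -/

theorem pi_invol : d315 PI0 * d315 PI0 = 1 := by
  have h := pi_sq
  rw [pmF_eq] at h
  rw [← d_mul, h, d_one]

/-- The outer automorphism as a permutation of the reflections. -/
def pi0 : A where
  toFun := d315 PI0
  invFun := d315 PI0
  left_inv x := congrFun pi_invol x
  right_inv x := congrFun pi_invol x

theorem val_pi0 : val pi0 = d315 PI0 := rfl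

theorem pi0_conj (t t' : Fin 315) (h : piOK t.val t'.val = true) :
    pi0 * Pm t * pi0⁻¹ = Pm t' := by
  unfold piOK at h
  rw [pmF_eq, pmF_eq] at h
  have h' := Nat.eq_of_beq_eq_true h
  have key : pi0 * Pm t = Pm t' * pi0 := by
    apply val_inj
    rw [map_mul, map_mul, val_pi0, Pm_val, Pm_val, ← d_mul, ← d_mul, h']
  rw [key, mul_inv_cancel_right]

theorem pi0_0 : pi0 * Pm 0 * pi0⁻¹ = Pm 0 := pi0_conj 0 0 pi_0
theorem pi0_165 : pi0 * Pm 165 * pi0⁻¹ = Pm 165 := pi0_conj 165 165 pi_165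
theorem pi0_19 : pi0 * Pm 19 * pi0⁻¹ = Pm 19 := pi0_conj 19 19 pi_19
theorem pi0_63 : pi0 * Pm 63 * pi0⁻¹ = Pm 108 := pi0_conj 63 108 pi_63

theorem conj_mul3 (a x y z : A) :
    a * (x * y * z) * a⁻¹ = (a * x * a⁻¹) * (a * y * a⁻¹) * (a * z * a⁻¹) := by group

theorem map_conj_le : G.map (MulAut.conj pi0).toMonoidHom ≤ G := by
  rw [Subgroup.map_le_iff_le_comap]
  show Subgroup.closure SG ≤ _
  rw [Subgroup.closure_le]
  rintro x (rfl | rfl)
  · show pi0 * psi x1L * pi0⁻¹ ∈ G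
    have : psi x1L = Pm 0 * Pm 165 * Pm 19 := congrArg Subtype.val cG_eq
    rw [this, conj_mul3, pi0_0, pi0_165, pi0_19]
    exact Subgroup.mul_mem _ (Subgroup.mul_mem _ (Pm_mem _) (Pm_mem _)) (Pm_mem _)
  · show pi0 * psi x2L * pi0⁻¹ ∈ G
    have : psi x2L = Pm 0 * Pm 19 * Pm 63 := congrArg Subtype.val dG_eq
    rw [this, conj_mul3, pi0_0, pi0_19, pi0_63]
    exact Subgroup.mul_mem _ (Subgroup.mul_mem _ (Pm_mem _) (Pm_mem _)) (Pm_mem _)

theorem map_conj_eq : G.map (MulAut.conj pi0).toMonoidHom = G := by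
  apply Subgroup.eq_of_le_of_card_ge map_conj_le
  rw [Subgroup.card_map_of_injective (MulAut.conj pi0).injective]

/-- The outer automorphism. -/
noncomputable def tau0 : MulAut G :=
  (G.equivMapOfInjective (MulAut.conj pi0).toMonoidHom (MulAut.conj pi0).injective).trans
    (MulEquiv.subgroupCongr map_conj_eq)

theorem tau0_coe (x : G) : ((tau0 x : G) : A) = pi0 * x.1 * pi0⁻¹ := rfl

theorem tau0_0 : tau0 (PmG 0) = PmG 0 := Subtype.ext (by rw [tau0_coe]; exact pi0_0)
theorem tau0_165 : tau0 (PmG 165) = PmG 165 := Subtype.ext (by rw [tau0_coe]; exact pi0_165)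
theorem tau0_19 : tau0 (PmG 19) = PmG 19 := Subtype.ext (by rw [tau0_coe]; exact pi0_19)
theorem tau0_63 : tau0 (PmG 63) = PmG 108 := Subtype.ext (by rw [tau0_coe]; exact pi0_63)

theorem fix_of_conj {g : G} {t : Fin 315} (h : MulAut.conj g (PmG t) = PmG t) : g.1 t = t := by
  rw [MulAut.conj_apply, PmG_conj] at h
  exact PmG_injective h

theorem tau0_not_inner : ¬ ∃ g : G, tau0 = MulAut.conj g := by
  rintro ⟨g, hg⟩
  have f0 : g.1 0 = 0 := fix_of_conj (by rw [← hg]; exact tau0_0)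
  have f1 : g.1 165 = 165 := fix_of_conj (by rw [← hg]; exact tau0_165)
  have f2 : g.1 19 = 19 := fix_of_conj (by rw [← hg]; exact tau0_19)
  obtain ⟨k, hk, hgk⟩ := level2.1 g.1 (fix0_mem g.2 f0)
  have hreg := allB_true reg_all k hk
  unfold regOK at hreg
  have hc := UU_canon k hk
  have e1 : ent (UU k) 165 = 165 := by
    have := U_apply' k hk 165
    rw [← hgk, f1, Nat.mod_eq_of_lt (hc.2 _ (by decide))] at this
    exact this.symm
  have e2 : ent (UU k) 19 = 19 := by
    have := U_apply' k hk 19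
    rw [← hgk, f2, Nat.mod_eq_of_lt (hc.2 _ (by decide))] at this
    exact this.symm
  have e1' : ent (UU k) 165 = 165 := e1
  rw [e1', e2] at hreg
  have hk0 : k = 0 := by
    rw [Bool.or_eq_true] at hreg
    rcases hreg with h | h
    · exact Nat.eq_of_beq_eq_true h
    · exact absurd h (by decide)
  have hg1 : g = 1 := by
    apply Subtype.ext
    rw [hgk, hk0, U_zero]
    rfl
  have h63 : tau0 (PmG 63) = PmG 63 := by
    rw [hg, hg1, MulAut.conj_apply, one_mul, inv_one, mul_one]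
  rw [tau0_63] at h63
  have := PmG_injective h63
  exact absurd this (by decide)

/-! ### Every automorphism is inner or inner times the outer automorphism -/

theorem aut_cases (φ : MulAut G) :
    (∃ g : G, φ = MulAut.conj g) ∨ ∃ g : G, φ * tau0⁻¹ = MulAut.conj g := by
  obtain ⟨g1, ha⟩ := stepA φ
  obtain ⟨g2, hb0, hb1⟩ := stepB _ ha
  obtain ⟨g3, hc0, hc1, hc2⟩ := stepC _ hb0 hb1
  set ψ : MulAut G := MulAut.conj g3 * (MulAut.conj g2 * (MulAut.conj g1 * φ)) with hψ
  have hφ : φ = MulAut.conj (g3 * g2 * g1)⁻¹ * ψ := by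
    rw [hψ, map_inv, map_mul, map_mul]
    group
  rcases stepD ψ hc0 hc1 hc2 with h | h
  · left
    have : ψ = 1 := aut_ext hc0 hc1 hc2 h
    exact ⟨(g3 * g2 * g1)⁻¹, by rw [hφ, this, mul_one]⟩
  · right
    have : ψ = tau0 := by
      apply aut_ext
      · rw [hc0, tau0_0]
      · rw [hc1, tau0_165]
      · rw [hc2, tau0_19]
      · rw [h, tau0_63]
    exact ⟨(g3 * g2 * g1)⁻¹, by rw [hφ, this, mul_assoc, mul_inv_cancel, mul_one]⟩

theorem card_Out_G : Nat.card (Cfsg.Out G) = 2 := by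
  apply AutOuter.card_Out_eq_two tau0⁻¹
  · rintro ⟨g, hg⟩
    apply tau0_not_inner
    refine ⟨g⁻¹, ?_⟩
    rw [map_inv, ← hg, inv_inv]
  · exact aut_cases

/-! ### Transport to the Hall-Janko group -/

theorem card_Out_congr {Γ Δ : Type*} [Group Γ] [Group Δ] (e : Γ ≃* Δ) :
    Nat.card (Cfsg.Out Γ) = Nat.card (Cfsg.Out Δ) := by
  have hmap : (Cfsg.Inn Γ).map (MulAut.congr e).toMonoidHom = Cfsg.Inn Δ := by
    ext ψ
    constructor
    · rintro ⟨φ, ⟨g, rfl⟩, rfl⟩
      refine ⟨e g, ?_⟩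
      ext x
      simp [MulAut.congr, MulAut.conj_apply]
    · rintro ⟨d, rfl⟩
      refine ⟨MulAut.conj (e.symm d), ⟨e.symm d, rfl⟩, ?_⟩
      ext x
      simp [MulAut.congr, MulAut.conj_apply]
  exact Nat.card_congr
    (QuotientGroup.congr (Cfsg.Inn Γ) (Cfsg.Inn Δ) (MulAut.congr e) hmap).toEquiv

/-- **The outer automorphism group of the Hall-Janko group has order two.** -/
theorem card_Out_J2 : Nat.card (Cfsg.Out J2) = 2 := by
  rw [card_Out_congr j2Equiv]
  exact card_Out_G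

end Cfsg.Agent.Helper29.J2G
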