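import Mathlib
import Cfsg.Agent.Lib.Helper29.J2GMain

/-!
# Words in the elements `E i * U k` of the Hall-Janko group and their packed codes
-/

set_option autoImplicit false

namespace Cfsg.Agent.Helper29.J2G

open Cfsg.Spor
open Cfsg.Agent.Helper26 Cfsg.Agent.Helper29.PP9 Cfsg.Agent.Helper29.J2D
  Cfsg.Agent.Helper29.J2C Cfsg.Agent.Helper29.J2K Cfsg.Agent.Helper29.J2

/-- the element `E i * U k` -/
noncomputable def el (p : ℕ × ℕ) : A := E p.1 * U p.2

/-- its code -/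
def elc (p : ℕ × ℕ) : ℕ := pmF (TT p.1) (UU p.2)

/-- validity of a pair of indices -/
def okP (p : ℕ × ℕ) : Bool := Nat.blt p.1 nE && Nat.blt p.2 J2D.nH

theorem okP_spec {p : ℕ × ℕ} (h : okP p = true) : p.1 < nE ∧ p.2 < J2D.nH := by
  unfold okP at h
  rw [Bool.and_eq_true] at h
  exact ⟨blt_lt h.1, blt_lt h.2⟩

theorem el_val {p : ℕ × ℕ} (h : okP p = true) : val (el p) = d315 (elc p) := by
  obtain ⟨h1, h2⟩ := okP_spec h
  unfold el elc
  rw [map_mul, E_val _ h1, U_val _ h2, ← d_mul, pmF_eq]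

theorem elc_canon {p : ℕ × ℕ} (h : okP p = true) : Canon 315 (elc p) := by
  obtain ⟨h1, _⟩ := okP_spec h
  unfold elc
  rw [pmF_eq]
  exact canon_pmul 315 _ _ (TT_canon _ h1).2 (by norm_num)

theorem el_mem (p : ℕ × ℕ) : el p ∈ G :=
  Subgroup.mul_mem _ (E_mem _) (H_le (U_mem _))

/-- the product of a word -/
noncomputable def wd (l : List (ℕ × ℕ)) : A := (l.map el).prod

/-- the code of a word -/
def wc : List (ℕ × ℕ) → ℕ
  | [] => pid 315
  | p :: l => pmF (elc p) (wc l)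

/-- validity of a word -/
def okW (l : List (ℕ × ℕ)) : Bool := l.all okP

theorem wd_nil : wd [] = 1 := rfl

theorem wd_cons (p : ℕ × ℕ) (l : List (ℕ × ℕ)) : wd (p :: l) = el p * wd l := by
  unfold wd
  rw [List.map_cons, List.prod_cons]

theorem wd_append (l l' : List (ℕ × ℕ)) : wd (l ++ l') = wd l * wd l' := by
  unfold wd
  rw [List.map_append, List.prod_append]

theorem wd_single (p : ℕ × ℕ) : wd [p] = el p := by
  rw [wd_cons, wd_nil, mul_one]

theorem wd_mem (l : List (ℕ × ℕ)) : wd l ∈ G := by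
  induction l with
  | nil => exact Subgroup.one_mem _
  | cons p l ih => rw [wd_cons]; exact Subgroup.mul_mem _ (el_mem p) ih

theorem wd_val {l : List (ℕ × ℕ)} (h : okW l = true) : val (wd l) = d315 (wc l) := by
  induction l with
  | nil => rw [wd_nil, map_one]; exact d_one.symm
  | cons p l ih =>
    unfold okW at h ih
    rw [List.all_cons, Bool.and_eq_true] at h
    rw [wd_cons, map_mul, el_val h.1, ih h.2]
    show _ = d315 (pmF (elc p) (wc l))
    rw [pmF_eq, d_mul]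

theorem wc_canon {l : List (ℕ × ℕ)} (h : okW l = true) : Canon 315 (wc l) := by
  cases l with
  | nil => exact canon_pid 315 (by norm_num)
  | cons p l =>
    unfold okW at h
    rw [List.all_cons, Bool.and_eq_true] at h
    show Canon 315 (pmF (elc p) (wc l))
    rw [pmF_eq]
    exact canon_pmul 315 _ _ (elc_canon h.1).2 (by norm_num)

/-- the relation check -/
def relOK (l₁ l₂ : List (ℕ × ℕ)) : Bool := okW l₁ && okW l₂ && Nat.beq (wc l₁) (wc l₂)

theorem wd_eq {l₁ l₂ : List (ℕ × ℕ)} (h : relOK l₁ l₂ = true) : wd l₁ = wd l₂ := by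
  unfold relOK at h
  rw [Bool.and_eq_true, Bool.and_eq_true] at h
  obtain ⟨⟨h1, h2⟩, h3⟩ := h
  apply val_inj
  rw [wd_val h1, wd_val h2, Nat.eq_of_beq_eq_true h3]

theorem wc_eq_of_wd_eq {l₁ l₂ : List (ℕ × ℕ)} (h1 : okW l₁ = true) (h2 : okW l₂ = true)
    (h : wd l₁ = wd l₂) : wc l₁ = wc l₂ := by
  apply dec_inj (wc_canon h1) (wc_canon h2)
  show d315 (wc l₁) = d315 (wc l₂)
  rw [← wd_val h1, ← wd_val h2, h]

/-- the inequality check -/
def neOK (l₁ l₂ : List (ℕ × ℕ)) : Bool := okW l₁ && okW l₂ && !(Nat.beq (wc l₁) (wc l₂))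

theorem wd_ne {l₁ l₂ : List (ℕ × ℕ)} (h : neOK l₁ l₂ = true) : wd l₁ ≠ wd l₂ := by
  unfold neOK at h
  rw [Bool.and_eq_true, Bool.and_eq_true] at h
  obtain ⟨⟨h1, h2⟩, h3⟩ := h
  intro e
  have := wc_eq_of_wd_eq h1 h2 e
  rw [this, Nat.beq_refl] at h3
  exact absurd h3 (by decide)

end Cfsg.Agent.Helper29.J2G
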