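import Mathlib
import Cfsg.Agent.Lib.Helper29.J2Word

/-! Kernel-evaluated relations in the Hall-Janko group for the Schur multiplier (generated). -/

set_option autoImplicit false

namespace Cfsg.Agent.Helper29.J2Sch

open Cfsg.Agent.Helper29.J2G Cfsg.Agent.Helper29.PP9 Cfsg.Agent.Helper29.J2C

def p_th : ℕ × ℕ := (0, 24)
def p_w : ℕ × ℕ := (0, 207)
def p_a1 : ℕ × ℕ := (0, 1766)
def p_a2 : ℕ × ℕ := (0, 790)
def p_a3 : ℕ × ℕ := (0, 893)
def p_b1 : ℕ × ℕ := (0, 1349)
def p_b2 : ℕ × ℕ := (0, 805)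
def p_b3 : ℕ × ℕ := (0, 898)
def p_v0 : ℕ × ℕ := (0, 1802)
def p_v1 : ℕ × ℕ := (0, 92)
def p_v2 : ℕ × ℕ := (0, 190)
def p_sA : ℕ × ℕ := (0, 1141)
def p_sB1 : ℕ × ℕ := (0, 452)
def p_sB2 : ℕ × ℕ := (0, 1771)
def p_x3 : ℕ × ℕ := (58, 1642)
def p_y3 : ℕ × ℕ := (116, 1425)
def p_j3 : ℕ × ℕ := (0, 171)
def p_c3 : ℕ × ℕ := (0, 264)
def p_x5 : ℕ × ℕ := (53, 796)
def p_y5 : ℕ × ℕ := (0, 2)
def p_n5 : ℕ × ℕ := (0, 1802)

theorem r_th3 : relOK [p_th, p_th, p_th] [] = true := by decide +kernel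
theorem r_w2 : relOK [p_w, p_w] [] = true := by decide +kernel
theorem r_thw : relOK [p_th, p_w] [p_w, p_th] = true := by decide +kernel
theorem r_tha1 : relOK [p_th, p_a1] [p_a2, p_th] = true := by decide +kernel
theorem r_tha2 : relOK [p_th, p_a2] [p_a3, p_th] = true := by decide +kernel
theorem r_wa1 : relOK [p_w, p_a1] [p_b1, p_w] = true := by decide +kernel
theorem r_wa2 : relOK [p_w, p_a2] [p_b2, p_w] = true := by decide +kernel
theorem r_wa3 : relOK [p_w, p_a3] [p_b3, p_w] = true := by decide +kernel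
theorem r_a1sq : relOK [p_a1, p_a1] [] = true := by decide +kernel
theorem r_a2eq : relOK [p_a2] [p_a1, p_a3] = true := by decide +kernel
theorem r_a12 : relOK [p_a1, p_a2] [p_a2, p_a1] = true := by decide +kernel
theorem r_com0 : relOK [p_a1, p_b1] [p_v0, p_b1, p_a1] = true := by decide +kernel
theorem r_com1 : relOK [p_a2, p_b1] [p_v1, p_b1, p_a2] = true := by decide +kernel
theorem r_com2 : relOK [p_a3, p_b1] [p_v2, p_b1, p_a3] = true := by decide +kernel
theorem r_cen_v0_a1 : relOK [p_v0, p_a1] [p_a1, p_v0] = true := by decide +kernel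
theorem r_cen_v0_a2 : relOK [p_v0, p_a2] [p_a2, p_v0] = true := by decide +kernel
theorem r_cen_v0_a3 : relOK [p_v0, p_a3] [p_a3, p_v0] = true := by decide +kernel
theorem r_cen_v0_b1 : relOK [p_v0, p_b1] [p_b1, p_v0] = true := by decide +kernel
theorem r_cen_v0_b2 : relOK [p_v0, p_b2] [p_b2, p_v0] = true := by decide +kernel
theorem r_cen_v0_b3 : relOK [p_v0, p_b3] [p_b3, p_v0] = true := by decide +kernel
theorem r_cen_v0_th : relOK [p_v0, p_th] [p_th, p_v0] = true := by decide +kernel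
theorem r_cen_v1_a1 : relOK [p_v1, p_a1] [p_a1, p_v1] = true := by decide +kernel
theorem r_cen_v1_a2 : relOK [p_v1, p_a2] [p_a2, p_v1] = true := by decide +kernel
theorem r_cen_v1_a3 : relOK [p_v1, p_a3] [p_a3, p_v1] = true := by decide +kernel
theorem r_cen_v1_b1 : relOK [p_v1, p_b1] [p_b1, p_v1] = true := by decide +kernel
theorem r_cen_v1_b2 : relOK [p_v1, p_b2] [p_b2, p_v1] = true := by decide +kernel
theorem r_cen_v1_b3 : relOK [p_v1, p_b3] [p_b3, p_v1] = true := by decide +kernel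
theorem r_cen_v1_th : relOK [p_v1, p_th] [p_th, p_v1] = true := by decide +kernel
theorem r_cen_v2_a1 : relOK [p_v2, p_a1] [p_a1, p_v2] = true := by decide +kernel
theorem r_cen_v2_a2 : relOK [p_v2, p_a2] [p_a2, p_v2] = true := by decide +kernel
theorem r_cen_v2_a3 : relOK [p_v2, p_a3] [p_a3, p_v2] = true := by decide +kernel
theorem r_cen_v2_b1 : relOK [p_v2, p_b1] [p_b1, p_v2] = true := by decide +kernel
theorem r_cen_v2_b2 : relOK [p_v2, p_b2] [p_b2, p_v2] = true := by decide +kernel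
theorem r_cen_v2_b3 : relOK [p_v2, p_b3] [p_b3, p_v2] = true := by decide +kernel
theorem r_cen_v2_th : relOK [p_v2, p_th] [p_th, p_v2] = true := by decide +kernel
theorem r_sA : relOK [p_sA] [p_th, p_th, p_w, p_a1, p_w, p_a1, p_th, p_w] = true := by decide +kernel
theorem r_sB1 : relOK [p_sB1] [p_w, p_a1, p_th, p_th, p_w, p_a1, p_th] = true := by decide +kernel
theorem r_sB2 : relOK [p_sB2] [p_th, p_a1, p_w, p_a1, p_th, p_th, p_w, p_a1] = true := by decide +kernel
theorem r_x3c : relOK [p_x3, p_x3, p_x3] [] = true := by decide +kernel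
theorem r_y3c : relOK [p_y3, p_y3, p_y3] [] = true := by decide +kernel
theorem r_c3c : relOK [p_c3, p_c3, p_c3] [] = true := by decide +kernel
theorem r_xy3 : relOK [p_x3, p_y3] [p_c3, p_y3, p_x3] = true := by decide +kernel
theorem r_xc3 : relOK [p_x3, p_c3] [p_c3, p_x3] = true := by decide +kernel
theorem r_yc3 : relOK [p_y3, p_c3] [p_c3, p_y3] = true := by decide +kernel
theorem r_jx3 : relOK [p_x3, p_j3, p_x3] [p_j3] = true := by decide +kernel
theorem r_jy3 : relOK [p_y3, p_j3, p_y3] [p_j3] = true := by decide +kernel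
theorem r_x5p : relOK [p_x5, p_x5, p_x5, p_x5, p_x5] [] = true := by decide +kernel
theorem r_y5p : relOK [p_y5, p_y5, p_y5, p_y5, p_y5] [] = true := by decide +kernel
theorem r_xy5 : relOK [p_x5, p_y5] [p_y5, p_x5] = true := by decide +kernel
theorem r_ny5 : relOK [p_n5, p_y5] [p_y5, p_n5] = true := by decide +kernel
theorem r_nx5 : relOK [p_x5, p_n5, p_x5] [p_n5] = true := by decide +kernel
theorem n_c3_1 : neOK [p_c3] [] = true := by decide +kernel
theorem n_c3_x : neOK [p_c3] [p_x3] = true := by decide +kernel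
theorem n_c3_xx : neOK [p_c3] [p_x3, p_x3] = true := by decide +kernel
theorem n_x3_1 : neOK [p_x3] [] = true := by decide +kernel
theorem n_x5_1 : neOK [p_x5] [] = true := by decide +kernel
theorem n_y5_1 : neOK [p_y5] [] = true := by decide +kernel

/-- the word of a normal form -/
def nfW (e1 e2 e3 e4 e5 e6 : Bool) : List (ℕ × ℕ) :=
  cond e1 [p_a1] [] ++ (cond e2 [p_a2] [] ++ (cond e3 [p_b1] [] ++ (cond e4 [p_b2] [] ++
    (cond e5 [p_v0] [] ++ cond e6 [p_v1] []))))

/-- the injectivity check -/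
def injOK (e1 e2 e3 e4 e5 e6 : Bool) : Bool :=
  okW (nfW e1 e2 e3 e4 e5 e6) && (!(Nat.beq (wc (nfW e1 e2 e3 e4 e5 e6)) (pid 315)) ||
    (!e1 && !e2 && !e3 && !e4 && !e5 && !e6))

theorem inj_all : ∀ e1 e2 e3 e4 e5 e6 : Bool, injOK e1 e2 e3 e4 e5 e6 = true := by
  decide +kernel

end Cfsg.Agent.Helper29.J2Sch
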