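import Mathlib
import Cfsg.Agent.Lib.Helper26.Schreier
import Cfsg.Agent.Lib.Helper29.J2Ker
import Cfsg.Agent.Lib.Helper29.PermPack9
import Cfsg.Agent.Lib.Helper29.J2GData

/-!
# The reflections in the integer model, and the check of their permutation tables
-/

set_option autoImplicit false

namespace Cfsg.Agent.Helper29.J2

open Quaternion Cfsg.Spor Cfsg.Agent.Helper26 Cfsg.Agent.Helper29.PP9 Cfsg.Agent.Helper29.J2D

/-- the Hermitian product in the integer model -/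
def V3.qipc (x r : V3) : Ic :=
  Ic.add (Ic.add (Ic.mul x.x (Ic.conj r.x)) (Ic.mul x.y (Ic.conj r.y))) (Ic.mul x.z (Ic.conj r.z))

theorem isIco_qipc {x r : V3} (hx : x.IsLat) (hr : r.IsLat) : (V3.qipc x r).IsIco :=
  Ic.isIco_add (Ic.isIco_add (Ic.isIco_mul hx.1 (Ic.isIco_conj hr.1))
    (Ic.isIco_mul hx.2.1 (Ic.isIco_conj hr.2.1))) (Ic.isIco_mul hx.2.2.1 (Ic.isIco_conj hr.2.2.1))

theorem toH_qipc {x r : V3} (hx : x.IsLat) (hr : r.IsLat) :
    toH (V3.qipc x r) = qip (toV x) (toV r) := by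
  unfold V3.qipc
  rw [toH_add, toH_add, toH_mul' hx.1 (Ic.isIco_conj hr.1),
    toH_mul' hx.2.1 (Ic.isIco_conj hr.2.1), toH_mul' hx.2.2.1 (Ic.isIco_conj hr.2.2.1),
    toH_conj, toH_conj, toH_conj, qip_def]
  rfl

/-- the check that twice the reflection of `x` in `r` is twice `u * rk` -/
def tabChk (r x rk : V3) (u : Ic) : Bool :=
  Ic.force (V3.qipc x r) fun q =>
    Ic.beq (Ic.sub (Ic.dbl x.x) (Ic.mul q r.x)) (Ic.dbl (Ic.mul u rk.x)) &&
    Ic.beq (Ic.sub (Ic.dbl x.y) (Ic.mul q r.y)) (Ic.dbl (Ic.mul u rk.y)) &&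
    Ic.beq (Ic.sub (Ic.dbl x.z) (Ic.mul q r.z)) (Ic.dbl (Ic.mul u rk.z))

theorem two_mul_half (q b : ℍ[ℝ]) : 2 * (((1 / 2 : ℝ) • q) * b) = q * b := by
  rw [← mul_assoc]
  congr 1
  have h2 : (2 : ℍ[ℝ]) = ((2 : ℝ) : ℍ[ℝ]) := by norm_cast
  rw [h2, coe_mul_eq_smul, smul_smul]
  norm_num

theorem tabChk_spec {r x rk : V3} {u : Ic} (hr : r.IsLat) (hx : x.IsLat) (hk : rk.IsLat)
    (hu : u.IsIco) (h : tabChk r x rk u = true) :
    qrefl (toV r) (toV x) = toV (V3.lmul u rk) := by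
  unfold tabChk at h
  rw [Ic.force_eq, Bool.and_eq_true, Bool.and_eq_true, Ic.beq_iff, Ic.beq_iff, Ic.beq_iff] at h
  obtain ⟨⟨h0, h1⟩, h2⟩ := h
  have hq := isIco_qipc hx hr
  have e := toH_qipc hx hr
  have key : ∀ (a b c : Ic), a.IsIco → b.IsIco → c.IsIco →
      Ic.sub (Ic.dbl a) (Ic.mul (V3.qipc x r) b) = Ic.dbl (Ic.mul u c) →
      toH a - ((1 / 2 : ℝ) • qip (toV x) (toV r)) * toH b = toH u * toH c := by
    intro a b c ha hb hc h
    have h' := congrArg toH h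
    rw [toH_sub, toH_dbl, toH_dbl, toH_mul' hq hb, toH_mul' hu hc, e] at h'
    apply mul_left_cancel₀ two_ne_zeroH
    rw [mul_sub, two_mul_half]
    exact h'
  rw [toV_lmul hu hk]
  funext t
  have ht : t = 0 ∨ t = 1 ∨ t = 2 := by fin_cases t <;> simp
  rcases ht with rfl | rfl | rfl
  · exact key _ _ _ hx.1 hr.1 hk.1 h0
  · exact key _ _ _ hx.2.1 hr.2.1 hk.2.1 h1
  · exact key _ _ _ hx.2.2.1 hr.2.2.1 hk.2.2.1 h2

/-- the `i`-th unit -/
def unitN (i : ℕ) : Ic := unitsL.getD i ONE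

theorem unitN_mem {i : ℕ} (hi : i < 120) : unitN i ∈ unitsL := by
  unfold unitN
  have h : i < unitsL.length := by rw [unitsL_length]; exact hi
  rw [List.getD_eq_getElem _ _ h]
  exact List.getElem_mem h

/-- the entries of the packed units -/
def ent7 (P i : ℕ) : ℕ := (P >>> (7 * i)) &&& 127

/-- the table check for the reflection `a`, with permutation `P` and units `T`, at `j` -/
def tabOK (a P T j : ℕ) : Bool :=
  Nat.blt (PP9.ent P j) 315 && Nat.blt (ent7 T j) 120 &&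
    tabChk (repN a) (repN j) (repN (PP9.ent P j)) (unitN (ent7 T j))

theorem blt_lt {a b : ℕ} (h : Nat.blt a b = true) : a < b := by
  unfold Nat.blt at h
  have := Nat.le_of_ble_eq_true h
  omega

/-- from the table to the permutation representation -/
theorem tabOK_spec {a P T : ℕ} (ha : a < 315) (h : allB 315 (tabOK a P T) = true)
    (j : Fin 315) :
    (psi ⟨rho ⟨a, ha⟩, rho_mem _⟩ j).val = PP9.ent P j.val := by
  have hj := allB_true h j.val j.isLt
  unfold tabOK at hj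
  rw [Bool.and_eq_true, Bool.and_eq_true] at hj
  obtain ⟨⟨h1, h2⟩, h3⟩ := hj
  have h1 := blt_lt h1
  have h2 := blt_lt h2
  have hu := unitsL_unit _ (unitN_mem h2)
  have hs := tabChk_spec (repN_lat ha) (repN_lat j.isLt) (repN_lat h1) hu.1 h3
  have hl : (V3.lmul (unitN (ent7 T j.val)) (repN (PP9.ent P j.val))).IsLat :=
    isLat_lmul hu.1 (repN_lat h1)
  have hn : (V3.lmul (unitN (ent7 T j.val)) (repN (PP9.ent P j.val))).N16 :=
    V3.n16_lmul hu (repN_lat h1) (repN_n16 h1)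
  have hc := conj_reflOf (twoJ2_le_linSub (rho_mem ⟨a, ha⟩)) (repN_lat j.isLt) (repN_n16 j.isLt)
    hl hn (by
      show ((reflOf (repN a) (vecOf (repN j.val) (repN_lat j.isLt)) : icoLeech) :
        Fin 3 → ℍ[ℝ]) = _
      rw [reflOf_apply (repN_lat ha) (repN_n16 ha)]
      exact hs)
  rw [reflOf_lmul hu (repN_lat h1) (repN_n16 h1)] at hc
  have := psi_eq (g := ⟨rho ⟨a, ha⟩, rho_mem _⟩) (i := j) (j := ⟨PP9.ent P j.val, h1⟩) hc
  rw [this]

end Cfsg.Agent.Helper29.J2
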