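import Cfsg.Agent.Lib.Helper29.J2UDefs

/-! Kernel-evaluated checks for the subgroup `PSU(3,3)` of the Hall-Janko group. -/

set_option autoImplicit false

namespace Cfsg.Agent.Helper29.J2UK

open Cfsg.Agent.Helper26 Cfsg.Agent.Helper29.PP9 Cfsg.Agent.Helper29.J2D Cfsg.Agent.Helper29.J2C
  Cfsg.Agent.Helper29.J2OD Cfsg.Agent.Helper29.J2OC Cfsg.Agent.Helper29.J2UD
  Cfsg.Agent.Helper29.J2UC Cfsg.Agent.Helper15.G2U3

set_option maxRecDepth 100000 in
theorem beta_h : ∀ (b : Bool) (i : Fin 63), evalL (hL b) (BETA i.val) = BETA (tf b i).val := by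
  decide +kernel

set_option maxRecDepth 100000 in
theorem beta_lt : ∀ i : Fin 63, BETA i.val < 315 := by decide +kernel

set_option maxRecDepth 100000 in
theorem beta_inj : ∀ i j : Fin 63, BETA i.val = BETA j.val → i = j := by decide +kernel

set_option maxRecDepth 100000 in
theorem beta_mem : ∀ x : Fin 315, Nat.testBit OM0 x.val = true ↔ ∃ i : Fin 63, BETA i.val = x.val := by
  decide +kernel

theorem sorted1 : sortedB (masks W1 [121, 303]) = true := by decide +kernel
theorem sorted2 : sortedB (masks W2 [1]) = true := by decide +kernel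
theorem len1 : W1.length = 36 := by decide
theorem len2 : W2.length = 63 := by decide
theorem cnt0 : cntL [] = 63 := by decide +kernel
theorem cnt1 : cntL [121, 303] = 21 := by decide +kernel
theorem cnt2 : cntL [1] = 7 := by decide +kernel
theorem ubase_all : allB 1920 ubaseOK = true := by decide +kernel
theorem beta_0 : BETA 0 = 0 := by decide
theorem beta_1 : BETA 1 = 178 := by decide
theorem beta_6 : BETA 6 = 183 := by decide

end Cfsg.Agent.Helper29.J2UK
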