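import Mathlib
import Cfsg.Prelude.Def_Classical
import Cfsg.Agent.Lib.Helper15.G2U3c
import Cfsg.Agent.Lib.Helper29.J2Out1
import Cfsg.Agent.Lib.Helper29.J2UChk

/-!
# A subgroup `PSU(3,3)` of index 100 in the Hall-Janko group
-/

set_option autoImplicit false

namespace Cfsg.Agent.Helper29.J2G

open Cfsg.Spor
open Cfsg.Agent.Helper26 Cfsg.Agent.Helper29.PP9 Cfsg.Agent.Helper29.J2D
  Cfsg.Agent.Helper29.J2C Cfsg.Agent.Helper29.J2K Cfsg.Agent.Helper29.J2
  Cfsg.Agent.Helper29.J2SD Cfsg.Agent.Helper29.J2SC Cfsg.Agent.Helper29.J2SK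
  Cfsg.Agent.Helper29.J2OD Cfsg.Agent.Helper29.J2OC Cfsg.Agent.Helper29.J2OK
  Cfsg.Agent.Helper29.J2UD Cfsg.Agent.Helper29.J2UC Cfsg.Agent.Helper29.J2UK
  Cfsg.Agent.Helper15.G2U3

/-! ### The 63 reflections -/

/-- The 63 reflections of the subgroup. -/
def betaF (i : Fin 63) : Fin 315 := ⟨BETA i.val, beta_lt i⟩

theorem betaF_val (i : Fin 63) : (betaF i).val = BETA i.val := rfl

theorem betaF_injective : Function.Injective betaF := by
  intro i j h
  exact beta_inj i j (congrArg Fin.val h)

/-- Products of reflections. -/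
noncomputable def prodF (L : List (Fin 315)) : A := (L.map Pm).prod

theorem prodF_nil : prodF [] = 1 := rfl

theorem prodF_cons (l : Fin 315) (L : List (Fin 315)) : prodF (l :: L) = Pm l * prodF L := by
  unfold prodF
  rw [List.map_cons, List.prod_cons]

theorem prodF_append (L L' : List (Fin 315)) : prodF (L ++ L') = prodF L * prodF L' := by
  unfold prodF
  rw [List.map_append, List.prod_append]

theorem prodF_mem (L : List (Fin 315)) : prodF L ∈ G := by
  induction L with
  | nil => exact Subgroup.one_mem _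
  | cons l L ih => rw [prodF_cons]; exact Subgroup.mul_mem _ (Pm_mem l) ih

theorem prodF_apply (L : List (Fin 315)) (x : Fin 315) :
    (prodF L x).val = evalL (L.map Fin.val) x.val := by
  induction L with
  | nil => rfl
  | cons l L ih =>
    rw [prodF_cons, Equiv.Perm.mul_apply, Pm_apply, ih, List.map_cons, evalL_cons]

/-- The generators as lists of reflections. -/
def hF (b : Bool) : List (Fin 315) := cond b [137, 134] [59, 43]

theorem hF_val (b : Bool) : (hF b).map Fin.val = hL b := by
  cases b <;> rfl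

/-- The generators of the subgroup. -/
noncomputable def hgenU (b : Bool) : A := prodF (hF b)

theorem hgenU_beta (b : Bool) (i : Fin 63) : hgenU b (betaF i) = betaF (tg b i) := by
  apply Fin.ext
  unfold hgenU
  rw [prodF_apply, hF_val, betaF_val, beta_h b i]
  rfl

/-! ### Permutations preserving the 63 reflections -/

/-- The permutations acting on the 63 reflections. -/
def TU : Subgroup A where
  carrier := {h | ∃ π : Equiv.Perm (Fin 63), ∀ i, h (betaF i) = betaF (π i)}
  one_mem' := ⟨1, fun _ => rfl⟩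
  mul_mem' := by
    rintro a b ⟨π, hπ⟩ ⟨ρ, hρ⟩
    refine ⟨π * ρ, fun i => ?_⟩
    rw [Equiv.Perm.mul_apply, hρ, hπ]
    rfl
  inv_mem' := by
    rintro a ⟨π, hπ⟩
    refine ⟨π⁻¹, fun i => ?_⟩
    rw [Equiv.Perm.inv_def, Equiv.symm_apply_eq, hπ]
    congr 1
    exact (Equiv.apply_symm_apply π i).symm

theorem mem_TU (h : A) : h ∈ TU ↔ ∃ π : Equiv.Perm (Fin 63), ∀ i, h (betaF i) = betaF (π i) :=
  Iff.rfl

/-- The induced permutation. -/
noncomputable def rU0 (h : TU) : Equiv.Perm (Fin 63) := Classical.choose h.2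

theorem rU0_spec (h : TU) (i : Fin 63) : h.1 (betaF i) = betaF (rU0 h i) :=
  Classical.choose_spec h.2 i

theorem rU0_unique (h : TU) (π : Equiv.Perm (Fin 63)) (hπ : ∀ i, h.1 (betaF i) = betaF (π i)) :
    rU0 h = π := by
  ext i
  have := betaF_injective ((rU0_spec h i).symm.trans (hπ i))
  exact congrArg Fin.val this

/-- The action on the 63 reflections as a homomorphism. -/
noncomputable def rU : TU →* Equiv.Perm (Fin 63) where
  toFun := rU0
  map_one' := rU0_unique 1 1 (fun _ => rfl)
  map_mul' a b := by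
    apply rU0_unique
    intro i
    show a.1 (b.1 (betaF i)) = betaF ((rU0 a * rU0 b) i)
    rw [rU0_spec b, rU0_spec a]
    rfl

theorem rU_spec (h : TU) (i : Fin 63) : h.1 (betaF i) = betaF (rU h i) := rU0_spec h i

theorem hgenU_mem (b : Bool) : hgenU b ∈ TU := ⟨tg b, hgenU_beta b⟩

theorem rU_hgenU (b : Bool) : rU ⟨hgenU b, hgenU_mem b⟩ = tg b :=
  rU0_unique _ _ (hgenU_beta b)

/-- The subgroup, inside `TU`. -/
noncomputable def KU : Subgroup TU :=
  Subgroup.closure {⟨hgenU true, hgenU_mem true⟩, ⟨hgenU false, hgenU_mem false⟩}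

/-- The subgroup. -/
noncomputable def HU : Subgroup A := Subgroup.closure {hgenU true, hgenU false}

theorem map_KU_rU : KU.map rU = RB := by
  unfold KU RB
  rw [MonoidHom.map_closure, Set.image_pair, rU_hgenU, rU_hgenU]

theorem map_KU_subtype : KU.map TU.subtype = HU := by
  unfold KU HU
  rw [MonoidHom.map_closure, Set.image_pair]
  rfl

theorem HU_le_G : HU ≤ G := by
  unfold HU
  rw [Subgroup.closure_le]
  rintro x (rfl | rfl)
  · exact prodF_mem _
  · exact prodF_mem _

theorem HU_le_TU : HU ≤ TU := by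
  rw [← map_KU_subtype]
  rintro x ⟨k, _, rfl⟩
  exact k.2

/-- An element of the group fixing the 63 reflections is trivial. -/
theorem eq_one_of_fix_beta {g : A} (hg : g ∈ G) (h : ∀ i, g (betaF i) = betaF i) : g = 1 := by
  have b0 : betaF 0 = 0 := Fin.ext beta_0
  have b1 : betaF 1 = 178 := Fin.ext beta_1
  have b6 : betaF 6 = 183 := Fin.ext beta_6
  have f0 : g 0 = 0 := by rw [← b0]; exact h 0
  have f1 : g 178 = 178 := by rw [← b1]; exact h 1
  have f6 : g 183 = 183 := by rw [← b6]; exact h 6
  obtain ⟨k, hk, rfl⟩ := level2.1 g (fix0_mem hg f0)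
  have hb := allB_true ubase_all k hk
  unfold ubaseOK at hb
  rw [Bool.or_eq_true] at hb
  rcases hb with hb | hb
  · rw [Nat.eq_of_beq_eq_true hb, U_zero]
  · exfalso
    have hc := UU_canon k hk
    have e1 : ent (UU k) 178 = 178 := by
      have := U_apply' k hk 178
      rw [f1, Nat.mod_eq_of_lt (hc.2 _ (by decide))] at this
      exact this.symm
    have e6 : ent (UU k) 183 = 183 := by
      have := U_apply' k hk 183
      rw [f6, Nat.mod_eq_of_lt (hc.2 _ (by decide))] at this
      exact this.symm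
    have e1' : ent (UU k) 178 = 178 := e1
    rw [e1', e6] at hb
    exact absurd hb (by decide)

theorem rU_injOn (k : TU) (hk : k ∈ KU) (h1 : rU k = 1) : k = 1 := by
  have hG : k.1 ∈ G := HU_le_G (by rw [← map_KU_subtype]; exact ⟨k, hk, rfl⟩)
  apply Subtype.ext
  apply eq_one_of_fix_beta hG
  intro i
  rw [rU_spec, h1]
  rfl

/-- The subgroup is isomorphic to helper15's permutation group. -/
noncomputable def KU_equiv : KU ≃* RB := by
  have hinj : Function.Injective (rU.comp KU.subtype) := by
    rw [injective_iff_map_eq_one]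
    intro k hk
    have := rU_injOn k.1 k.2 hk
    exact Subtype.ext this
  have hrange : (rU.comp KU.subtype).range = RB := by
    rw [MonoidHom.range_comp, Subgroup.range_subtype, map_KU_rU]
  exact (MonoidHom.ofInjective hinj).trans (MulEquiv.subgroupCongr hrange)

/-- The subgroup is isomorphic to helper15's permutation group. -/
noncomputable def HU_equiv : HU ≃* RB :=
  ((KU.equivMapOfInjective TU.subtype TU.subtype_injective).trans
    (MulEquiv.subgroupCongr map_KU_subtype)).symm.trans KU_equiv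

theorem card_GF9 : Nat.card (GaloisField 3 2) = 9 := by
  have : Fact (Nat.Prime 3) := ⟨Nat.prime_three⟩
  rw [GaloisField.card 3 2 (by norm_num)]
  norm_num

theorem card_HU : Nat.card HU = 6048 := by
  have : Fact (Nat.Prime 3) := ⟨Nat.prime_three⟩
  letI : Fintype (GaloisField 3 2) := Fintype.ofFinite _
  have hK : Fintype.card (GaloisField 3 2) = 9 := by
    rw [← Nat.card_eq_fintype_card, card_GF9]
  rw [Nat.card_congr HU_equiv.toEquiv]
  exact (psu_equiv hK).1

/-- The subgroup is `PSU(3,3)`. -/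
theorem HU_psu : Nonempty (HU ≃* Cfsg.PSU 3 (GaloisField 3 2) 3) := by
  have : Fact (Nat.Prime 3) := ⟨Nat.prime_three⟩
  letI : Fintype (GaloisField 3 2) := Fintype.ofFinite _
  have hK : Fintype.card (GaloisField 3 2) = 9 := by
    rw [← Nat.card_eq_fintype_card, card_GF9]
  obtain ⟨e⟩ := (psu_equiv hK).2
  exact ⟨HU_equiv.trans e.symm⟩

end Cfsg.Agent.Helper29.J2G
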