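import Mathlib
import Cfsg.Agent.Lib.Helper29.J2U1

/-!
# The rank three action of the Hall-Janko group on the cosets of `PSU(3,3)`
-/

set_option autoImplicit false

namespace Cfsg.Agent.Helper29.J2G

open Cfsg.Spor
open Cfsg.Agent.Helper26 Cfsg.Agent.Helper29.PP9 Cfsg.Agent.Helper29.J2D
  Cfsg.Agent.Helper29.J2C Cfsg.Agent.Helper29.J2K Cfsg.Agent.Helper29.J2
  Cfsg.Agent.Helper29.J2SD Cfsg.Agent.Helper29.J2SC Cfsg.Agent.Helper29.J2SK
  Cfsg.Agent.Helper29.J2OD Cfsg.Agent.Helper29.J2OC Cfsg.Agent.Helper29.J2OK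
  Cfsg.Agent.Helper29.J2UD Cfsg.Agent.Helper29.J2UC Cfsg.Agent.Helper29.J2UK
  Cfsg.Agent.Helper15.G2U3

/-- A counting lemma for a rank three action on cosets. -/
theorem rank3_count {Γ : Type*} [Group Γ] (H : Subgroup Γ) (FA IA : Γ → ℕ)
    (hFr : ∀ g, ∀ h ∈ H, FA (g * h) = FA g)
    (hIr : ∀ g, ∀ h ∈ H, IA (g * h) = IA g)
    (hIl : ∀ g, ∀ h ∈ H, IA (h * g) = IA g)
    (g₁ g₂ : Γ) (L₁ L₂ : List Γ)
    (h₁ : ∀ x ∈ L₁, ∃ h ∈ H, x = h * g₁) (h₂ : ∀ x ∈ L₂, ∃ h ∈ H, x = h * g₂)
    (n₁ : (L₁.map FA).Nodup) (n₂ : (L₂.map FA).Nodup)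
    (d01 : IA 1 ≠ IA g₁) (d02 : IA 1 ≠ IA g₂) (d12 : IA g₁ ≠ IA g₂)
    (hidx : H.index = 1 + L₁.length + L₂.length) :
    (MulAction.orbit H (g₁ : Γ ⧸ H)).ncard = L₁.length ∧
      (MulAction.orbit H (g₂ : Γ ⧸ H)).ncard = L₂.length := by
  classical
  have hfin : Finite (Γ ⧸ H) := by
    apply Nat.finite_of_card_ne_zero
    show H.index ≠ 0
    rw [hidx]; omega
  -- the invariant on orbits
  have key : ∀ (a b : Γ) (c : Γ ⧸ H), c ∈ MulAction.orbit H (a : Γ ⧸ H) →
      c ∈ MulAction.orbit H (b : Γ ⧸ H) → IA a = IA b := by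
    rintro a b c ⟨h, rfl⟩ ⟨k, hk⟩
    have e : ((k.1 * b : Γ) : Γ ⧸ H) = ((h.1 * a : Γ) : Γ ⧸ H) := hk
    rw [QuotientGroup.eq] at e
    have e2 : h.1 * a = k.1 * b * ((k.1 * b)⁻¹ * (h.1 * a)) := by group
    have := hIr (k.1 * b) _ e
    rw [← e2, hIl _ _ h.2, hIl _ _ k.2] at this
    exact this
  -- lower bounds
  have lower : ∀ (g : Γ) (L : List Γ), (∀ x ∈ L, ∃ h ∈ H, x = h * g) → (L.map FA).Nodup →
      L.length ≤ (MulAction.orbit H (g : Γ ⧸ H)).ncard := by
    intro g L hL nL
    have nd : (L.map (QuotientGroup.mk : Γ → Γ ⧸ H)).Nodup := by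
      apply List.Nodup.map_on _ (List.Nodup.of_map FA nL)
      intro x hx y hy hxy
      apply List.inj_on_of_nodup_map nL hx hy
      rw [QuotientGroup.eq] at hxy
      have := hFr x _ hxy
      rw [← this]
      congr 1
      group
    have hsub : ((L.map (QuotientGroup.mk : Γ → Γ ⧸ H)).toFinset : Set (Γ ⧸ H)) ⊆
        MulAction.orbit H (g : Γ ⧸ H) := by
      intro c hc
      rw [Finset.mem_coe, List.mem_toFinset, List.mem_map] at hc
      obtain ⟨x, hx, rfl⟩ := hc
      obtain ⟨h, hh, rfl⟩ := hL x hx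
      exact ⟨⟨h, hh⟩, rfl⟩
    have := Set.ncard_le_ncard hsub (Set.toFinite _)
    rw [Set.ncard_coe_finset, List.toFinset_card_of_nodup nd, List.length_map] at this
    exact this
  have l1 := lower g₁ L₁ h₁ n₁
  have l2 := lower g₂ L₂ h₂ n₂
  have l0 : 1 ≤ (MulAction.orbit H ((1 : Γ) : Γ ⧸ H)).ncard := by
    rw [Nat.succ_le_iff, Set.ncard_pos (Set.toFinite _)]
    exact MulAction.nonempty_orbit _
  have dj01 : Disjoint (MulAction.orbit H ((1 : Γ) : Γ ⧸ H)) (MulAction.orbit H (g₁ : Γ ⧸ H)) := by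
    rw [Set.disjoint_left]
    intro c hc hc'
    exact d01 (key _ _ c hc hc')
  have dj02 : Disjoint (MulAction.orbit H ((1 : Γ) : Γ ⧸ H)) (MulAction.orbit H (g₂ : Γ ⧸ H)) := by
    rw [Set.disjoint_left]
    intro c hc hc'
    exact d02 (key _ _ c hc hc')
  have dj12 : Disjoint (MulAction.orbit H (g₁ : Γ ⧸ H)) (MulAction.orbit H (g₂ : Γ ⧸ H)) := by
    rw [Set.disjoint_left]
    intro c hc hc'
    exact d12 (key _ _ c hc hc')
  have hu : (MulAction.orbit H ((1 : Γ) : Γ ⧸ H) ∪ MulAction.orbit H (g₁ : Γ ⧸ H) ∪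
      MulAction.orbit H (g₂ : Γ ⧸ H)).ncard ≤ H.index := by
    unfold Subgroup.index
    rw [← Set.ncard_univ]
    exact Set.ncard_le_ncard (Set.subset_univ _) (Set.toFinite _)
  rw [Set.ncard_union_eq (Set.disjoint_union_left.mpr ⟨dj02, dj12⟩) (Set.toFinite _)
    (Set.toFinite _), Set.ncard_union_eq dj01 (Set.toFinite _) (Set.toFinite _), hidx] at hu
  omega

/-! ### Words in the generators -/

/-- The list of reflections of a word in the generators. -/
def wordF : List Bool → List (Fin 315)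
  | [] => []
  | b :: w => hF b ++ wordF w

theorem wordF_val (w : List Bool) : (wordF w).map Fin.val = wordL w := by
  induction w with
  | nil => rfl
  | cons b w ih =>
    show (hF b ++ wordF w).map Fin.val = hL b ++ wordL w
    rw [List.map_append, ih, hF_val]

theorem prodF_wordF_mem (w : List Bool) : prodF (wordF w) ∈ HU := by
  induction w with
  | nil => exact Subgroup.one_mem _
  | cons b w ih =>
    show prodF (hF b ++ wordF w) ∈ HU
    rw [prodF_append]
    refine Subgroup.mul_mem _ (Subgroup.subset_closure ?_) ih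
    cases b
    · right; rfl
    · left; rfl

/-! ### The two invariants -/

/-- The mask of the image of the 63 reflections. -/
noncomputable def FA (a : A) : ℕ := ∑ i : Fin 63, 2 ^ (a (betaF i)).val

/-- The number of the 63 reflections mapped to one of them. -/
noncomputable def IA (a : A) : ℕ := ∑ i : Fin 63, cond (Nat.testBit OM0 (a (betaF i)).val) 1 0

theorem FA_mul_right (a : A) {h : A} (hh : h ∈ TU) : FA (a * h) = FA a := by
  obtain ⟨π, hπ⟩ := hh
  unfold FA
  rw [← Equiv.sum_comp π (fun i => 2 ^ (a (betaF i)).val)]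
  refine Finset.sum_congr rfl (fun i _ => ?_)
  rw [Equiv.Perm.mul_apply, hπ]

theorem IA_mul_right (a : A) {h : A} (hh : h ∈ TU) : IA (a * h) = IA a := by
  obtain ⟨π, hπ⟩ := hh
  unfold IA
  rw [← Equiv.sum_comp π (fun i => cond (Nat.testBit OM0 (a (betaF i)).val) 1 0)]
  refine Finset.sum_congr rfl (fun i _ => ?_)
  rw [Equiv.Perm.mul_apply, hπ]

theorem testBit_iff (x : Fin 315) : Nat.testBit OM0 x.val = true ↔ ∃ i : Fin 63, betaF i = x := by
  rw [beta_mem x]
  constructor
  · rintro ⟨i, hi⟩; exact ⟨i, Fin.ext hi⟩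
  · rintro ⟨i, hi⟩; exact ⟨i, congrArg Fin.val hi⟩

theorem testBit_TU {h : A} (hh : h ∈ TU) (x : Fin 315) :
    Nat.testBit OM0 (h x).val = Nat.testBit OM0 x.val := by
  rw [Bool.eq_iff_iff, testBit_iff, testBit_iff]
  obtain ⟨π, hπ⟩ := hh
  constructor
  · rintro ⟨i, hi⟩
    refine ⟨π.symm i, ?_⟩
    apply h.injective
    rw [hπ, Equiv.apply_symm_apply, hi]
  · rintro ⟨i, rfl⟩
    exact ⟨π i, (hπ i).symm⟩

theorem IA_mul_left (a : A) {h : A} (hh : h ∈ TU) : IA (h * a) = IA a := by
  unfold IA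
  refine Finset.sum_congr rfl (fun i _ => ?_)
  rw [Equiv.Perm.mul_apply, testBit_TU hh]

theorem rec_sum (f : ℕ → ℕ) (n : ℕ) :
    (Nat.rec 0 (fun i acc => acc + f i) n : ℕ) = ∑ i ∈ Finset.range n, f i := by
  induction n with
  | zero => rfl
  | succ n ih => rw [Finset.sum_range_succ, ← ih]

theorem FA_prodF (L : List (Fin 315)) : FA (prodF L) = maskL (L.map Fin.val) := by
  unfold FA maskL
  rw [rec_sum (fun i => 2 ^ evalL (L.map Fin.val) (BETA i)) 63,
    ← Fin.sum_univ_eq_sum_range (fun i => 2 ^ evalL (L.map Fin.val) (BETA i)) 63]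
  refine Finset.sum_congr rfl (fun i _ => ?_)
  rw [prodF_apply, betaF_val]

theorem IA_prodF (L : List (Fin 315)) : IA (prodF L) = cntL (L.map Fin.val) := by
  unfold IA cntL
  rw [rec_sum (fun i => cond (Nat.testBit OM0 (evalL (L.map Fin.val) (BETA i))) 1 0) 63,
    ← Fin.sum_univ_eq_sum_range
      (fun i => cond (Nat.testBit OM0 (evalL (L.map Fin.val) (BETA i))) 1 0) 63]
  refine Finset.sum_congr rfl (fun i _ => ?_)
  rw [prodF_apply, betaF_val]

/-! ### Strictly increasing lists -/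

theorem sortedB_pairwise : ∀ l : List ℕ, sortedB l = true → l.Pairwise (· < ·)
  | [], _ => List.Pairwise.nil
  | [a], _ => List.pairwise_singleton _ _
  | a :: b :: t, h => by
    have h' : (Nat.blt a b && sortedB (b :: t)) = true := h
    rw [Bool.and_eq_true] at h'
    have hab : a < b := Nat.blt_eq.mp h'.1
    have ih := sortedB_pairwise (b :: t) h'.2
    rw [List.pairwise_cons]
    refine ⟨?_, ih⟩
    intro c hc
    rcases List.mem_cons.mp hc with rfl | hc
    · exact hab
    · exact lt_trans hab ((List.pairwise_cons.mp ih).1 c hc)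

theorem sortedB_nodup (l : List ℕ) (h : sortedB l = true) : l.Nodup :=
  (sortedB_pairwise l h).imp (fun h => ne_of_lt h)

/-! ### The subgroup of the Hall-Janko group -/

/-- The Hall-Janko group as a group of permutations. -/
noncomputable def phiJ : J2 →* A := G.subtype.comp j2Equiv.toMonoidHom

theorem phiJ_injective : Function.Injective phiJ := by
  intro a b h
  exact j2Equiv.injective (Subtype.ext h)

theorem range_phiJ : phiJ.range = G := by
  unfold phiJ
  rw [MonoidHom.range_comp]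
  have : j2Equiv.toMonoidHom.range = ⊤ := MonoidHom.range_eq_top.mpr j2Equiv.surjective
  rw [this, ← MonoidHom.range_eq_map, Subgroup.range_subtype]

/-- The subgroup `PSU(3,3)` of the Hall-Janko group. -/
noncomputable def HJ : Subgroup J2 := HU.comap phiJ

theorem map_HJ : HJ.map phiJ = HU := by
  unfold HJ
  rw [Subgroup.map_comap_eq_self]
  rw [range_phiJ]
  exact HU_le_G

/-- The subgroup is `PSU(3,3)`. -/
noncomputable def HJ_equiv : HJ ≃* HU :=
  (HJ.equivMapOfInjective phiJ phiJ_injective).trans (MulEquiv.subgroupCongr map_HJ)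

theorem card_HJ : Nat.card HJ = 6048 := by
  rw [Nat.card_congr HJ_equiv.toEquiv, card_HU]

theorem index_HJ : HJ.index = 100 := by
  have := HJ.card_mul_index
  rw [card_HJ, card_J2] at this
  omega

/-- The element of the Hall-Janko group of a list of reflections. -/
noncomputable def elJ (L : List (Fin 315)) : J2 := j2Equiv.symm ⟨prodF L, prodF_mem L⟩

theorem phiJ_elJ (L : List (Fin 315)) : phiJ (elJ L) = prodF L := by
  show (j2Equiv (j2Equiv.symm ⟨prodF L, prodF_mem L⟩)).1 = prodF L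
  rw [MulEquiv.apply_symm_apply]

theorem elJ_append (L L' : List (Fin 315)) : elJ (L ++ L') = elJ L * elJ L' := by
  apply phiJ_injective
  rw [map_mul, phiJ_elJ, phiJ_elJ, phiJ_elJ, prodF_append]

theorem elJ_nil : elJ [] = 1 := by
  apply phiJ_injective
  rw [map_one, phiJ_elJ, prodF_nil]

theorem elJ_wordF_mem (w : List Bool) : elJ (wordF w) ∈ HJ := by
  show phiJ (elJ (wordF w)) ∈ HU
  rw [phiJ_elJ]
  exact prodF_wordF_mem w

theorem phiJ_mem_TU {h : J2} (hh : h ∈ HJ) : phiJ h ∈ TU := HU_le_TU hh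

/-- The rank three action on the cosets of the subgroup. -/
theorem rank3_HJ : ∃ c₁ c₂ : J2 ⧸ HJ, (MulAction.orbit HJ c₁).ncard = 36 ∧
    (MulAction.orbit HJ c₂).ncard = 63 := by
  have key := rank3_count HJ (fun g => FA (phiJ g)) (fun g => IA (phiJ g))
    (fun g h hh => by
      show FA (phiJ (g * h)) = FA (phiJ g)
      rw [map_mul, FA_mul_right _ (phiJ_mem_TU hh)])
    (fun g h hh => by
      show IA (phiJ (g * h)) = IA (phiJ g)
      rw [map_mul, IA_mul_right _ (phiJ_mem_TU hh)])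
    (fun g h hh => by
      show IA (phiJ (h * g)) = IA (phiJ g)
      rw [map_mul, IA_mul_left _ (phiJ_mem_TU hh)])
    (elJ [121, 303]) (elJ [1])
    (W1.map (fun w => elJ (wordF w ++ [121, 303])))
    (W2.map (fun w => elJ (wordF w ++ [1])))
    (by
      intro x hx
      rw [List.mem_map] at hx
      obtain ⟨w, _, rfl⟩ := hx
      exact ⟨elJ (wordF w), elJ_wordF_mem w, elJ_append _ _⟩)
    (by
      intro x hx
      rw [List.mem_map] at hx
      obtain ⟨w, _, rfl⟩ := hx
      exact ⟨elJ (wordF w), elJ_wordF_mem w, elJ_append _ _⟩)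
    (by
      rw [List.map_map]
      have : (W1.map ((fun g => FA (phiJ g)) ∘ fun w => elJ (wordF w ++ [121, 303]))) =
          masks W1 [121, 303] := by
        unfold masks
        refine List.map_congr_left (fun w _ => ?_)
        show FA (phiJ (elJ (wordF w ++ [121, 303]))) = _
        rw [phiJ_elJ, FA_prodF, List.map_append, wordF_val]
        rfl
      rw [this]
      exact sortedB_nodup _ sorted1)
    (by
      rw [List.map_map]
      have : (W2.map ((fun g => FA (phiJ g)) ∘ fun w => elJ (wordF w ++ [1]))) =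
          masks W2 [1] := by
        unfold masks
        refine List.map_congr_left (fun w _ => ?_)
        show FA (phiJ (elJ (wordF w ++ [1]))) = _
        rw [phiJ_elJ, FA_prodF, List.map_append, wordF_val]
        rfl
      rw [this]
      exact sortedB_nodup _ sorted2)
    (by
      show IA (phiJ 1) ≠ IA (phiJ (elJ [121, 303]))
      rw [← elJ_nil, phiJ_elJ, phiJ_elJ, IA_prodF, IA_prodF]
      show cntL [] ≠ cntL [121, 303]
      rw [cnt0, cnt1]; decide)
    (by
      show IA (phiJ 1) ≠ IA (phiJ (elJ [1]))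
      rw [← elJ_nil, phiJ_elJ, phiJ_elJ, IA_prodF, IA_prodF]
      show cntL [] ≠ cntL [1]
      rw [cnt0, cnt2]; decide)
    (by
      show IA (phiJ (elJ [121, 303])) ≠ IA (phiJ (elJ [1]))
      rw [phiJ_elJ, phiJ_elJ, IA_prodF, IA_prodF]
      show cntL [121, 303] ≠ cntL [1]
      rw [cnt1, cnt2]; decide)
    (by
      rw [index_HJ, List.length_map, List.length_map, len1, len2])
  rw [List.length_map, List.length_map, len1, len2] at key
  exact ⟨_, _, key⟩

end Cfsg.Agent.Helper29.J2G
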