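import Mathlib

/-! Data for the subgroup `PSU(3,3)` of index 100 of the Hall-Janko group (generated): the 63
reflections of the subgroup in the order of the points of helper15's permutation group, and
words for the cosets in the two nontrivial suborbits, sorted by the mask of the image of the
63 reflections. -/

set_option autoImplicit false

namespace Cfsg.Agent.Helper29.J2UD

/-- the 63 reflections of the subgroup -/
def BETAL : List ℕ := [0, 178, 218, 104, 298, 131, 183, 229, 134, 203, 194, 274, 157, 99, 307, 137, 288, 213, 214, 185, 23, 204, 189, 91, 198, 128, 88, 127, 60, 302, 151, 43, 276, 261, 93, 212, 215, 187, 258, 211, 216, 125, 59, 83, 115, 63, 201, 272, 38, 4, 166, 28, 3, 248, 72, 78, 300, 32, 241, 49, 95, 35, 84]
/-- the set of the 63 reflections as a bit mask -/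
def OM0 : ℕ := 0x85401001500240102002005f81a442a84004020800249a0080108a91841009802084910800019
/-- words for the suborbit of length 36 -/
def W1 : List (List Bool) := [[true, true, true, false],
  [true, true, false, false, true, false],
  [false, true, false, true, true, false, false, true],
  [false, false, true, false, false, true],
  [false],
  [false, false],
  [true, false, false, true, false, false, true, false],
  [true, true, true, false, true],
  [true, false, false, true],
  [true],
  [true, false],
  [false, false, true],
  [false, true, false, false, true, false],
  [false, true, true, true, false],
  [false, false, true, false],
  [true, false, true],
  [false, true, false, false],
  [true, false, true, true, false, false, true],
  [false, true, false, false, true],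
  [true, false, true, false, false, true],
  [true, false, false],
  [false, true, false],
  [false, true, true, false, false, true],
  [false, false, true, true, false, false, true],
  [true, true, true, false, false, true],
  [true, false, true, false, true, false, false, true],
  [true, false, true, false, false],
  [true, false, false, true, false],
  [false, true, false, true, false, false, true],
  [true, true, false, true],
  [true, true, false],
  [false, true],
  [],
  [false, false, true, true, true, false],
  [false, false, true, false, false, true, false],
  [true, true, false, false, true]]
/-- words for the suborbit of length 63 -/
def W2 : List (List Bool) := [[],
  [true, false, false, true, false, true],
  [false, true, false, true],
  [true, false, true, true, false, true, false, false],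
  [true, false, true, false, false, true, true],
  [false, false],
  [false, true, true, false, true, true],
  [false, true, false, false, true, true],
  [true, true, false, true, true],
  [false, true, true, false, false, true, true],
  [true, true, true, false, false],
  [false, false, true],
  [true, false, false],
  [true, true, false, false],
  [true, false, true, false, false, true],
  [false, true, false, true, true],
  [false, true, true, false, true, true, true],
  [true, false, false, true, false, true, true],
  [false, true, true, true],
  [true, true, true, false],
  [true, false, false, true],
  [false, true, false, true, true, false, true, false, false],
  [true, false, false, true, true],
  [false, false, true, false, false, true, false, true],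
  [false, false, true, false, true],
  [false, false, true, true],
  [false, true, false, false],
  [true, true, false, true, true, true],
  [false, false, true, true, true],
  [true],
  [false, true, false, false, true, true, true],
  [true, true, false, false, true, true, true],
  [true, true, true, false, true, true, true],
  [true, true, false, true],
  [false, true, true, false, true, false, false],
  [true, false, false, true, true, true],
  [false, true, true, false, false, true, true, true],
  [false, true, false, false, true, false, true],
  [true, false, true, false, false],
  [true, false, true],
  [true, false, true, true],
  [true, true, true],
  [false, false, true, true, false, true, false, false],
  [false, false, true, false, false],
  [false, true, false, false, true],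
  [false],
  [true, true],
  [false, false, true, false, false, true, true, true],
  [true, false],
  [true, true, false, false, true, true],
  [false, false, true, false, true, true],
  [false, false, true, false, true, true, true],
  [false, false, true, true, false, false],
  [false, true, false, true, true, true],
  [false, true, true],
  [false, true, false, true, false, false, true],
  [false, true],
  [true, true, false],
  [false, true, true, false, false],
  [true, true, false, true, false, false],
  [true, false, true, false, false, true, false, true],
  [true, false, true, true, true],
  [false, false, true, true, false, false, true, true, true]]

end Cfsg.Agent.Helper29.J2UD
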