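import Mathlib
import Cfsg.Agent.Lib.Helper15.G2U3a
import Cfsg.Agent.Lib.Helper29.J2ODefs
import Cfsg.Agent.Lib.Helper29.J2UData

/-!
# Boolean checks for the subgroup `PSU(3,3)` of the Hall-Janko group
-/

set_option autoImplicit false

namespace Cfsg.Agent.Helper29.J2UC

open Cfsg.Agent.Helper26 Cfsg.Agent.Helper29.PP9 Cfsg.Agent.Helper29.J2D
  Cfsg.Agent.Helper29.J2C Cfsg.Agent.Helper29.J2OD Cfsg.Agent.Helper29.J2OC
  Cfsg.Agent.Helper29.J2UD

/-- The reflection number `i` of the subgroup. -/
def BETA (i : ℕ) : ℕ := BETAL.getD i 0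

/-- The two generators as products of two reflections. -/
def hL (b : Bool) : List ℕ := cond b [137, 134] [59, 43]

/-- The list of reflections of a word in the generators. -/
def wordL : List Bool → List ℕ
  | [] => []
  | b :: w => hL b ++ wordL w

/-- A product of reflections at a point. -/
def evalL (L : List ℕ) (x : ℕ) : ℕ := L.foldr (fun l acc => app (PM l) acc) x

theorem evalL_nil (x : ℕ) : evalL [] x = x := rfl

theorem evalL_cons (l : ℕ) (L : List ℕ) (x : ℕ) : evalL (l :: L) x = app (PM l) (evalL L x) := rfl

/-- The mask of the image of the 63 reflections. -/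
def maskL (L : List ℕ) : ℕ := Nat.rec 0 (fun i acc => acc + 2 ^ (evalL L (BETA i))) 63

/-- The number of the 63 reflections mapped to one of them. -/
def cntL (L : List ℕ) : ℕ :=
  Nat.rec 0 (fun i acc => acc + cond (Nat.testBit OM0 (evalL L (BETA i))) 1 0) 63

/-- The masks of the cosets of a list of words. -/
def masks (W : List (List Bool)) (g : List ℕ) : List ℕ := W.map (fun w => maskL (wordL w ++ g))

/-- Strictly increasing lists. -/
def sortedB : List ℕ → Bool
  | [] => true
  | [_] => true
  | a :: b :: t => Nat.blt a b && sortedB (b :: t)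

/-- Only the trivial element of the point stabilizer fixes the reflections `178` and `183`. -/
def ubaseOK (k : ℕ) : Bool :=
  Nat.beq k 0 || !(Nat.beq (ent (UU k) 178) 178 && Nat.beq (ent (UU k) 183) 183)

end Cfsg.Agent.Helper29.J2UC
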