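import Mathlib
import Cfsg.Agent.Lib.Helper26.J3Core4

/-!
# Words in the triple cover of the third Janko group, and in its central quotient

Every element of the group `⟨a, b⟩` of helper26's setup is a product `E i * U k`; a pair `(i, k)`
names this element, the packed matrix of which is computed by the kernel.
-/

set_option autoImplicit false
set_option linter.unusedSectionVars false

namespace Cfsg.Agent.Helper29.J3W

open Matrix
open Cfsg.Agent.Helper26 Cfsg.Agent.Helper26.F4M Cfsg.Agent.Helper26.J3D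
  Cfsg.Agent.Helper26.J3C Cfsg.Agent.Helper26.J3K Cfsg.Agent.Helper26.J3G

/-- the packed matrix of a pair -/
def pc (p : ℕ × ℕ) : ℕ := mmP (TT p.1) (UU p.2)

/-- a pair is in range -/
def okP (p : ℕ × ℕ) : Bool := Nat.blt p.1 nE && Nat.blt p.2 nH

/-- the packed matrix of a word -/
def wc : List (ℕ × ℕ) → ℕ
  | [] => idP
  | p :: l => mmP (pc p) (wc l)

/-- all pairs of a word are in range -/
def allOK : List (ℕ × ℕ) → Bool
  | [] => true
  | p :: l => okP p && allOK l

/-- two words have the same matrix up to a scalar -/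
def relOK (l r : List (ℕ × ℕ)) : Bool :=
  allOK l && allOK r &&
    (Nat.beq (wc l) (wc r) || Nat.beq (wc l) (wmul (wc r)) || Nat.beq (wc l) (wmul (wmul (wc r))))

/-- the matrix of a word is not a scalar -/
def neOK (l : List (ℕ × ℕ)) : Bool :=
  allOK l && !(Nat.beq (wc l) idP || Nat.beq (wc l) (wmul idP) || Nat.beq (wc l) (wmul (wmul idP)))

theorem wc_lt (l : List (ℕ × ℕ)) : wc l < 2 ^ 162 := by
  cases l with
  | nil => rw [wc]; decide
  | cons p l => rw [wc]; exact mmP_lt _ _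

variable {F : Type*} [Field F] {A : Type*} [Group A] [Finite A] (S : Setup F A)

/-- the element named by a pair -/
def el (p : ℕ × ℕ) : A := S.E p.1 * S.U p.2

theorem el_mem (p : ℕ × ℕ) : el S p ∈ S.G :=
  Subgroup.mul_mem _ (S.E_mem p.1) (S.H_le (S.U_mem p.2))

theorem el_val {p : ℕ × ℕ} (h : okP p = true) : S.val (el S p) = S.dec (pc p) := by
  unfold okP at h
  rw [Bool.and_eq_true] at h
  rw [el, map_mul, S.E_val _ (blt_lt h.1), S.U_val _ (blt_lt h.2), pc, S.dec_mul]

/-- the element named by a word -/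
def wd : List (ℕ × ℕ) → A
  | [] => 1
  | p :: l => el S p * wd l

theorem wd_nil : wd S [] = 1 := rfl

theorem wd_cons (p : ℕ × ℕ) (l : List (ℕ × ℕ)) : wd S (p :: l) = el S p * wd S l := rfl

theorem wd_mem (l : List (ℕ × ℕ)) : wd S l ∈ S.G := by
  induction l with
  | nil => exact Subgroup.one_mem _
  | cons p l ih => exact Subgroup.mul_mem _ (el_mem S p) ih

theorem wd_val {l : List (ℕ × ℕ)} (h : allOK l = true) : S.val (wd S l) = S.dec (wc l) := by
  induction l with
  | nil => rw [wd_nil, wc, S.dec_idP, map_one]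
  | cons p l ih =>
    rw [allOK, Bool.and_eq_true] at h
    rw [wd_cons, map_mul, el_val S h.1, ih h.2, wc, S.dec_mul]

theorem dec_wmul (P : ℕ) : S.dec (wmul P) = S.ω • S.dec P := decM_wmul S.h2 S.ω S.hω P

theorem zeta_pow_val (e : ℕ) : S.val (S.zeta ^ e) = S.ω ^ e • (1 : M9 F) := by
  rw [map_pow, S.zeta_val, smul_pow, one_pow]

/-- equal matrices up to a scalar: the elements differ by a power of the central element -/
theorem wd_rel {l r : List (ℕ × ℕ)} (h : relOK l r = true) :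
    ∃ e : ℕ, wd S l = wd S r * S.zeta ^ e := by
  unfold relOK at h
  rw [Bool.and_eq_true, Bool.and_eq_true, Bool.or_eq_true, Bool.or_eq_true] at h
  obtain ⟨⟨hl, hr⟩, h⟩ := h
  have key : ∀ e : ℕ, S.dec (wc l) = S.ω ^ e • S.dec (wc r) → wd S l = wd S r * S.zeta ^ e := by
    intro e he
    apply S.inj
    rw [map_mul, wd_val S hl, wd_val S hr, zeta_pow_val, he, Matrix.mul_smul, mul_one]
  rcases h with (h | h) | h
  · refine ⟨0, key 0 ?_⟩
    rw [Nat.eq_of_beq_eq_true h, pow_zero, one_smul]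
  · refine ⟨1, key 1 ?_⟩
    rw [Nat.eq_of_beq_eq_true h, dec_wmul, pow_one]
  · refine ⟨2, key 2 ?_⟩
    rw [Nat.eq_of_beq_eq_true h, dec_wmul, dec_wmul, smul_smul, pow_two]

section Quot

/-- the central quotient -/
abbrev Q : Type _ := S.G ⧸ Subgroup.center S.G

/-- the class of a word -/
def qd (l : List (ℕ × ℕ)) : Q S := QuotientGroup.mk ⟨wd S l, wd_mem S l⟩

theorem qd_nil : qd S [] = 1 := rfl

theorem qd_cons (p : ℕ × ℕ) (l : List (ℕ × ℕ)) : qd S (p :: l) = qd S [p] * qd S l := by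
  unfold qd
  rw [← QuotientGroup.mk_mul]
  congr 1
  apply Subtype.ext
  show wd S (p :: l) = wd S [p] * wd S l
  rw [wd_cons, wd_cons, wd_nil, mul_one]

theorem qd_append (l r : List (ℕ × ℕ)) : qd S (l ++ r) = qd S l * qd S r := by
  induction l with
  | nil => rw [List.nil_append, qd_nil, one_mul]
  | cons p l ih => rw [List.cons_append, qd_cons, ih, qd_cons S p l, mul_assoc]

theorem zeta'_pow_mem (e : ℕ) : S.zeta' ^ e ∈ Subgroup.center S.G :=
  Subgroup.pow_mem _ S.zeta'_central e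

/-- equal matrices up to a scalar: equal classes -/
theorem qd_eq {l r : List (ℕ × ℕ)} (h : relOK l r = true) : qd S l = qd S r := by
  obtain ⟨e, he⟩ := wd_rel S h
  unfold qd
  rw [QuotientGroup.eq]
  have : (⟨wd S l, wd_mem S l⟩ : S.G)⁻¹ * ⟨wd S r, wd_mem S r⟩ = (S.zeta' ^ e)⁻¹ := by
    apply Subtype.ext
    show (wd S l)⁻¹ * wd S r = ((S.zeta' ^ e : S.G) : A)⁻¹
    rw [he]
    show _ = (S.zeta ^ e)⁻¹
    group
  rw [this]
  exact Subgroup.inv_mem _ (zeta'_pow_mem S e)

/-- a non-scalar matrix: a nontrivial class -/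
theorem qd_ne {l : List (ℕ × ℕ)} (h : neOK l = true) : qd S l ≠ 1 := by
  unfold neOK at h
  rw [Bool.and_eq_true, Bool.not_eq_true', Bool.or_eq_false_iff, Bool.or_eq_false_iff] at h
  obtain ⟨hl, ⟨h0, h1⟩, h2⟩ := h
  intro hq
  unfold qd at hq
  rw [QuotientGroup.eq_one_iff, S.center_eq] at hq
  obtain ⟨e, he⟩ := Subgroup.mem_zpowers_iff.1 hq
  have h3 : S.zeta' ^ (3 : ℤ) = 1 := by
    rw [zpow_ofNat, ← S.orderOf_zeta']
    exact pow_orderOf_eq_one _
  have hm : S.zeta' ^ e = S.zeta' ^ (e % 3).toNat := by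
    have h0' : 0 ≤ e % 3 := Int.emod_nonneg e (by norm_num)
    conv_lhs => rw [← Int.mul_ediv_add_emod e 3, _root_.zpow_add, _root_.zpow_mul, h3, _root_.one_zpow, one_mul]
    rw [← zpow_natCast, Int.toNat_of_nonneg h0']
  obtain ⟨n, hn⟩ : ∃ n : ℕ, n = (e % 3).toNat := ⟨_, rfl⟩
  have hn3 : n < 3 := by
    have := Int.emod_lt_of_pos e (by norm_num : (0 : ℤ) < 3)
    have h0' : 0 ≤ e % 3 := Int.emod_nonneg e (by norm_num)
    omega
  rw [hm, ← hn] at he
  have hv : S.val (wd S l) = S.ω ^ n • (1 : M9 F) := by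
    have := congrArg (fun g : S.G => S.val (g : A)) he
    simp only at this
    rw [← this, S.zeta'_pow_val]
  rw [wd_val S hl] at hv
  have hb : ∀ x y : ℕ, Nat.beq x y = false → x ≠ y := by
    intro x y hxy hh
    rw [hh, Nat.beq_refl] at hxy
    exact Bool.noConfusion hxy
  interval_cases n
  · rw [pow_zero, one_smul, ← S.dec_idP] at hv
    exact hb _ _ h0 (S.dec_inj (wc_lt l) (by decide) hv)
  · rw [pow_one, ← S.dec_idP, ← dec_wmul] at hv
    exact hb _ _ h1 (S.dec_inj (wc_lt l) (by decide) hv)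
  · rw [pow_two, ← smul_smul, ← S.dec_idP, ← dec_wmul, ← dec_wmul] at hv
    exact hb _ _ h2 (S.dec_inj (wc_lt l) (by decide) hv)

end Quot

end Cfsg.Agent.Helper29.J3W
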