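import Mathlib
import Cfsg.Agent.Lib.Helper29.J3W

/-!
# The order of a subgroup of the third Janko group from a table of its elements
-/

set_option autoImplicit false
set_option linter.unusedSectionVars false

namespace Cfsg.Agent.Helper29.J3W

open Matrix
open Cfsg.Agent.Helper26 Cfsg.Agent.Helper26.F4M Cfsg.Agent.Helper26.J3D
  Cfsg.Agent.Helper26.J3C Cfsg.Agent.Helper26.J3K Cfsg.Agent.Helper26.J3G

/-! ### A general counting lemma -/

section General

variable {G : Type*} [Group G]

theorem card_closure_of_enum (n : ℕ) (f : ℕ → G) (M : Set G)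
    (hinj : ∀ i < n, ∀ j < n, f i = f j → i = j)
    (hn : 0 < n) (h0 : f 0 = 1)
    (hcl : ∀ s ∈ M, ∀ i < n, (∃ j < n, s * f i = f j) ∧ (∃ j < n, s⁻¹ * f i = f j))
    (htree : ∀ i, 0 < i → i < n → ∃ s ∈ M, ∃ j < i, f i = s * f j) :
    Nat.card (Subgroup.closure M) = n := by
  have hmem : ∀ i < n, f i ∈ Subgroup.closure M := by
    intro i
    induction i using Nat.strong_induction_on with
    | _ i ih =>
      intro hi
      rcases Nat.eq_zero_or_pos i with rfl | hpos
      · rw [h0]; exact Subgroup.one_mem _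
      · obtain ⟨s, hs, j, hj, e⟩ := htree i hpos hi
        rw [e]
        exact Subgroup.mul_mem _ (Subgroup.subset_closure hs) (ih j hj (lt_trans hj hi))
  have hsub : ∀ g ∈ Subgroup.closure M, ∀ i < n,
      (∃ j < n, g * f i = f j) ∧ (∃ j < n, g⁻¹ * f i = f j) := by
    intro g hg
    induction hg using Subgroup.closure_induction with
    | mem s hs => exact hcl s hs
    | one =>
      intro i hi
      exact ⟨⟨i, hi, by rw [one_mul]⟩, ⟨i, hi, by rw [inv_one, one_mul]⟩⟩
    | mul x y _ _ ihx ihy =>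
      intro i hi
      constructor
      · obtain ⟨j, hj, e1⟩ := (ihy i hi).1
        obtain ⟨k, hk, e2⟩ := (ihx j hj).1
        exact ⟨k, hk, by rw [mul_assoc, e1, e2]⟩
      · obtain ⟨j, hj, e1⟩ := (ihx i hi).2
        obtain ⟨k, hk, e2⟩ := (ihy j hj).2
        exact ⟨k, hk, by rw [_root_.mul_inv_rev, mul_assoc, e1, e2]⟩
    | inv x _ ih =>
      intro i hi
      refine ⟨(ih i hi).2, ?_⟩
      rw [inv_inv]
      exact (ih i hi).1
  have hset : (Subgroup.closure M : Set G) = f '' (Finset.range n : Set ℕ) := by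
    ext g
    constructor
    · intro hg
      obtain ⟨j, hj, e⟩ := (hsub g hg 0 hn).1
      rw [h0, mul_one] at e
      exact ⟨j, by simpa using hj, e.symm⟩
    · rintro ⟨i, hi, rfl⟩
      exact hmem i (by simpa using hi)
  have hinj' : Set.InjOn f (Finset.range n : Set ℕ) := by
    intro i hi j hj e
    exact hinj i (by simpa using hi) j (by simpa using hj) e
  calc Nat.card (Subgroup.closure M) = Nat.card ((Subgroup.closure M : Set G)) := rfl
    _ = Set.ncard (Subgroup.closure M : Set G) := (_root_.Nat.card_coe_set_eq _)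
    _ = Set.ncard (f '' (Finset.range n : Set ℕ)) := by rw [hset]
    _ = Set.ncard (Finset.range n : Set ℕ) := Set.InjOn.ncard_image hinj'
    _ = n := by rw [Set.ncard_coe_finset, Finset.card_range]

end General

/-! ### The table -/

/-- the data of an enumeration -/
structure EnumData where
  /-- the elements -/
  tab : List (ℕ × ℕ)
  /-- the generators -/
  gens : List (ℕ × ℕ)
  /-- left multiplication by the generators -/
  pi : List (List ℕ)
  /-- left multiplication by the inverses of the generators -/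
  pinv : List (List ℕ)
  /-- the parent in a spanning tree -/
  par : List ℕ
  /-- the label in a spanning tree -/
  lab : List ℕ

namespace EnumData

variable (D : EnumData)

/-- the `i`-th element -/
def t (i : ℕ) : ℕ × ℕ := D.tab.getD i (0, 0)
/-- the `s`-th generator -/
def g (s : ℕ) : ℕ × ℕ := D.gens.getD s (0, 0)
/-- the image of `i` under the `s`-th generator -/
def p (s i : ℕ) : ℕ := (D.pi.getD s []).getD i 0
/-- the image of `i` under the inverse of the `s`-th generator -/
def q (s i : ℕ) : ℕ := (D.pinv.getD s []).getD i 0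

/-- the canonical scalar multiple -/
def ckey (P : ℕ) : ℕ := min P (min (wmul P) (wmul (wmul P)))

/-- the multiplication tables are correct -/
def mulOK : Bool :=
  (List.range D.gens.length).all fun s => (List.range D.tab.length).all fun i =>
    Nat.blt (D.p s i) D.tab.length && relOK [D.g s, D.t i] [D.t (D.p s i)] &&
    Nat.blt (D.q s i) D.tab.length && relOK [D.g s, D.t (D.q s i)] [D.t i]

/-- the elements are distinct -/
def keyOK : Bool := decide ((D.tab.map fun x => ckey (pc x)).Nodup) && D.tab.all okP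

/-- the spanning tree is correct -/
def treeOK : Bool :=
  (List.range D.tab.length).all fun i => Nat.beq i 0 ||
    (Nat.blt (D.par.getD i 0) i && Nat.blt (D.lab.getD i 0) D.gens.length &&
      Nat.beq (D.p (D.lab.getD i 0) (D.par.getD i 0)) i)

/-- all checks -/
def allOK : Bool :=
  Nat.blt 0 D.tab.length && (D.t 0 == (0, 0)) && D.mulOK && D.keyOK && D.treeOK

end EnumData

theorem wmul_lt (x : ℕ) : wmul x < 2 ^ 162 := by
  unfold wmul
  apply Nat.or_lt_two_pow
  · have h1 : (x >>> 1) &&& mE ≤ mE := Nat.and_le_right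
    have h2 : mE < 2 ^ 162 := by decide
    omega
  · have h1 : (x ^^^ x >>> 1) &&& mE ≤ mE := Nat.and_le_right
    have h2 : mE < 2 ^ 161 := by decide
    rw [Nat.shiftLeft_eq]
    have : (2 : ℕ) ^ 162 = 2 ^ 161 * 2 ^ 1 := by norm_num
    rw [this]
    exact Nat.mul_lt_mul_of_lt_of_le (lt_of_le_of_lt h1 h2) (le_refl _) (by norm_num)

variable {F : Type*} [Field F] {A : Type*} [Group A] [Finite A] (S : Setup F A)

include S in
theorem wmul_cube {P : ℕ} (hP : P < 2 ^ 162) : wmul (wmul (wmul P)) = P := by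
  apply S.dec_inj (wmul_lt _) hP
  rw [dec_wmul, dec_wmul, dec_wmul, smul_smul, smul_smul, ← pow_two, ← pow_succ, S.omega_cube,
    one_smul]

theorem el_zero : el S (0, 0) = 1 := by
  rw [el, S.E_zero, S.U_zero, mul_one]

theorem qd_zero : qd S [(0, 0)] = 1 := by
  unfold qd
  have : (⟨wd S [(0, 0)], wd_mem S _⟩ : S.G) = 1 := by
    apply Subtype.ext
    show wd S [(0, 0)] = 1
    rw [wd_cons, wd_nil, el_zero, mul_one]
  rw [this]
  rfl

/-- equal classes have equal keys -/
theorem ckey_eq {x y : ℕ × ℕ} (hx : okP x = true) (hy : okP y = true)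
    (h : qd S [x] = qd S [y]) : EnumData.ckey (pc x) = EnumData.ckey (pc y) := by
  unfold qd at h
  rw [QuotientGroup.eq, S.center_eq] at h
  obtain ⟨e, he⟩ := Subgroup.mem_zpowers_iff.1 h
  have h3 : S.zeta' ^ (3 : ℤ) = 1 := by
    rw [zpow_ofNat, ← S.orderOf_zeta']
    exact pow_orderOf_eq_one _
  have hm : S.zeta' ^ e = S.zeta' ^ (e % 3).toNat := by
    have h0' : 0 ≤ e % 3 := Int.emod_nonneg e (by norm_num)
    conv_lhs => rw [← Int.mul_ediv_add_emod e 3, _root_.zpow_add, _root_.zpow_mul, h3,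
      _root_.one_zpow, one_mul]
    rw [← zpow_natCast, Int.toNat_of_nonneg h0']
  obtain ⟨n, hn⟩ : ∃ n : ℕ, n = (e % 3).toNat := ⟨_, rfl⟩
  have hn3 : n < 3 := by
    have := Int.emod_lt_of_pos e (by norm_num : (0 : ℤ) < 3)
    have h0' : 0 ≤ e % 3 := Int.emod_nonneg e (by norm_num)
    omega
  rw [hm, ← hn] at he
  have hv : S.val (wd S [y]) = S.val (wd S [x]) * (S.ω ^ n • (1 : M9 F)) := by
    have h1 : S.val ((S.zeta' ^ n : S.G) : A) = S.val ((⟨wd S [x], wd_mem S [x]⟩ : S.G)⁻¹ *
        ⟨wd S [y], wd_mem S [y]⟩ : S.G).1 := by rw [he]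
    rw [S.zeta'_pow_val] at h1
    have h2 : ((⟨wd S [x], wd_mem S [x]⟩ : S.G)⁻¹ * ⟨wd S [y], wd_mem S [y]⟩ : S.G).1 =
        (wd S [x])⁻¹ * wd S [y] := rfl
    rw [h2] at h1
    rw [h1, ← map_mul]
    congr 1
    group
  have hxl : allOK [x] = true := by rw [allOK, allOK, hx]; rfl
  have hyl : allOK [y] = true := by rw [allOK, allOK, hy]; rfl
  rw [wd_val S hyl, wd_val S hxl, Matrix.mul_smul, mul_one] at hv
  have hwx : wc [x] = mmP (pc x) idP := rfl
  have hwy : wc [y] = mmP (pc y) idP := rfl
  have hlx : pc x < 2 ^ 162 := mmP_lt _ _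
  have hly : pc y < 2 ^ 162 := mmP_lt _ _
  have hpx : wc [x] = pc x := by
    apply S.dec_inj (wc_lt _) hlx
    rw [hwx, S.dec_mul, S.dec_idP, mul_one]
  have hpy : wc [y] = pc y := by
    apply S.dec_inj (wc_lt _) hly
    rw [hwy, S.dec_mul, S.dec_idP, mul_one]
  rw [hpx, hpy] at hv
  have hc := wmul_cube S hlx
  unfold EnumData.ckey
  interval_cases n
  · rw [pow_zero, one_smul] at hv
    rw [S.dec_inj hly hlx hv]
  · rw [pow_one, ← dec_wmul] at hv
    rw [S.dec_inj hly (wmul_lt _) hv, hc]
    omega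
  · rw [pow_two, ← smul_smul, ← dec_wmul, ← dec_wmul] at hv
    rw [S.dec_inj hly (wmul_lt _) hv, hc]
    omega

namespace EnumData

variable (D : EnumData)

/-- the generating set -/
def gset : Set (Q S) := {x | ∃ s < D.gens.length, x = qd S [D.g s]}

theorem card_closure (h : D.allOK = true) :
    Nat.card (Subgroup.closure (D.gset S)) = D.tab.length := by
  unfold allOK at h
  simp only [Bool.and_eq_true] at h
  obtain ⟨⟨⟨⟨hlen, ht0⟩, hmul⟩, hkey⟩, htree⟩ := h
  have hlen' : 0 < D.tab.length := blt_lt hlen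
  have ht0' : D.t 0 = (0, 0) := by simpa using ht0
  unfold keyOK at hkey
  rw [Bool.and_eq_true, decide_eq_true_eq, List.all_eq_true] at hkey
  obtain ⟨hnd, hok⟩ := hkey
  have htok : ∀ i < D.tab.length, okP (D.t i) = true := by
    intro i hi
    apply hok
    unfold t
    rw [List.getD_eq_getElem _ _ hi]
    exact List.getElem_mem hi
  unfold mulOK at hmul
  rw [List.all_eq_true] at hmul
  have hmul' : ∀ s < D.gens.length, ∀ i < D.tab.length,
      (D.p s i < D.tab.length ∧ qd S [D.g s] * qd S [D.t i] = qd S [D.t (D.p s i)]) ∧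
      (D.q s i < D.tab.length ∧ qd S [D.g s] * qd S [D.t (D.q s i)] = qd S [D.t i]) := by
    intro s hs i hi
    have h1 := hmul s (List.mem_range.2 hs)
    rw [List.all_eq_true] at h1
    have h2 := h1 i (List.mem_range.2 hi)
    simp only [Bool.and_eq_true] at h2
    obtain ⟨⟨⟨a1, a2⟩, a3⟩, a4⟩ := h2
    refine ⟨⟨blt_lt a1, ?_⟩, ⟨blt_lt a3, ?_⟩⟩
    · rw [← qd_eq S a2]; exact (qd_cons S _ _).symm
    · rw [← qd_eq S a4]; exact (qd_cons S _ _).symm
  unfold treeOK at htree
  rw [List.all_eq_true] at htree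
  apply card_closure_of_enum D.tab.length (fun i => qd S [D.t i]) (D.gset S)
  · intro i hi j hj e
    have hk := ckey_eq S (htok i hi) (htok j hj) e
    have hi' : i < (D.tab.map fun x => ckey (pc x)).length := by rw [List.length_map]; exact hi
    have hj' : j < (D.tab.map fun x => ckey (pc x)).length := by rw [List.length_map]; exact hj
    have := (List.Nodup.getElem_inj_iff hnd (hi := hi') (hj := hj')).1 (by
      rw [List.getElem_map, List.getElem_map]
      unfold t at hk
      rw [List.getD_eq_getElem _ _ hi, List.getD_eq_getElem _ _ hj] at hk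
      exact hk)
    exact this
  · exact hlen'
  · show qd S [D.t 0] = 1
    rw [ht0']; exact qd_zero S
  · rintro s ⟨k, hk, rfl⟩ i hi
    obtain ⟨⟨b1, b2⟩, ⟨b3, b4⟩⟩ := hmul' k hk i hi
    refine ⟨⟨_, b1, b2⟩, ⟨_, b3, ?_⟩⟩
    show (qd S [D.g k])⁻¹ * qd S [D.t i] = qd S [D.t (D.q k i)]
    rw [← b4]; group
  · intro i hpos hi
    have h1 := htree i (List.mem_range.2 hi)
    rw [Bool.or_eq_true] at h1
    rcases h1 with h1 | h1
    · have := Nat.eq_of_beq_eq_true h1
      omega
    · simp only [Bool.and_eq_true] at h1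
      obtain ⟨⟨c1, c2⟩, c3⟩ := h1
      have c1' := blt_lt c1
      have c2' := blt_lt c2
      have c3' := Nat.eq_of_beq_eq_true c3
      refine ⟨qd S [D.g (D.lab.getD i 0)], ⟨_, c2', rfl⟩, D.par.getD i 0, c1', ?_⟩
      have := (hmul' _ c2' _ (lt_trans c1' hi)).1.2
      rw [c3'] at this
      exact this.symm

end EnumData

end Cfsg.Agent.Helper29.J3W
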