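import Mathlib
import Cfsg.Agent.Lib.Helper29.J3Enum

/-!
# Checked relations in the third Janko group (generated)
-/

set_option autoImplicit false
set_option maxRecDepth 100000

namespace Cfsg.Agent.Helper29.J3Sch

open Cfsg.Agent.Helper29.J3W

def p_d1 : ℕ × ℕ := (9833, 4735)
def p_d2 : ℕ × ℕ := (18899, 1983)
def p_d1i : ℕ × ℕ := (21639, 6070)
def p_d2i : ℕ × ℕ := (20458, 531)
def p_ep : ℕ × ℕ := (0, 1632)
def p_epi : ℕ × ℕ := (0, 3104)
def p_a1 : ℕ × ℕ := (0, 5270)
def p_a1i : ℕ × ℕ := (0, 5545)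
def p_a2 : ℕ × ℕ := (0, 1794)
def p_a2i : ℕ × ℕ := (0, 1480)
def p_th : ℕ × ℕ := (3658, 4822)
def p_thi : ℕ × ℕ := (2083, 3287)
def p_w : ℕ × ℕ := (0, 4948)
def p_x1 : ℕ × ℕ := (15833, 12)
def p_x2 : ℕ × ℕ := (6807, 1576)
def p_x3 : ℕ × ℕ := (10869, 6229)
def p_y1 : ℕ × ℕ := (17876, 3758)
def p_y2 : ℕ × ℕ := (15899, 2049)
def p_y3 : ℕ × ℕ := (12962, 911)
def p_v0 : ℕ × ℕ := (0, 4705)
def p_v1 : ℕ × ℕ := (0, 2039)
def p_v2 : ℕ × ℕ := (0, 2483)
def p_t : ℕ × ℕ := (12796, 2384)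
def p_u : ℕ × ℕ := (15564, 3831)

theorem r_d1i : relOK [p_d1, p_d1i] [] = true := by decide +kernel
theorem r_d2i : relOK [p_d2, p_d2i] [] = true := by decide +kernel
theorem r_epi : relOK [p_ep, p_epi] [] = true := by decide +kernel
theorem r_a1i : relOK [p_a1, p_a1i] [] = true := by decide +kernel
theorem r_a2i : relOK [p_a2, p_a2i] [] = true := by decide +kernel
theorem r_ep : relOK [p_d1, p_d2] [p_ep, p_d2, p_d1] = true := by decide +kernel
theorem r_a1 : relOK [p_ep, p_d1] [p_a1, p_d1, p_ep] = true := by decide +kernel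
theorem r_a2 : relOK [p_ep, p_d2] [p_a2, p_d2, p_ep] = true := by decide +kernel
theorem r_a1d1 : relOK [p_a1, p_d1] [p_d1, p_a1] = true := by decide +kernel
theorem r_a1d2 : relOK [p_a1, p_d2] [p_d2, p_a1] = true := by decide +kernel
theorem r_a2d1 : relOK [p_a2, p_d1] [p_d1, p_a2] = true := by decide +kernel
theorem r_a2d2 : relOK [p_a2, p_d2] [p_d2, p_a2] = true := by decide +kernel
theorem r_d1c : relOK [p_d1, p_d1, p_d1] [p_a2] = true := by decide +kernel
theorem r_d2c : relOK [p_d2, p_d2, p_d2] [p_a1i] = true := by decide +kernel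
theorem r_d12c : relOK [p_d1, p_d2, p_d1, p_d2, p_d1, p_d2] [p_a1, p_a2i] = true := by decide +kernel
theorem r_ep3 : relOK [p_ep, p_ep, p_ep] [] = true := by decide +kernel
theorem r_a13 : relOK [p_a1, p_a1, p_a1] [] = true := by decide +kernel

/-- repetition of a letter -/
def rep (n : ℕ) (p : ℕ × ℕ) : List (ℕ × ℕ) := List.replicate n p

theorem inj3 : ∀ i j k : Fin 3, ¬ (i = 0 ∧ j = 0 ∧ k = 0) →
    neOK (rep i p_ep ++ rep j p_a1 ++ rep k p_a2) = true := by decide +kernel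

theorem r_th3 : relOK [p_th, p_th, p_th] [] = true := by decide +kernel
theorem r_thi : relOK [p_th, p_thi] [] = true := by decide +kernel
theorem r_w2 : relOK [p_w, p_w] [] = true := by decide +kernel
theorem r_thw : relOK [p_th, p_w] [p_w, p_th] = true := by decide +kernel
theorem r_thx1 : relOK [p_th, p_x1] [p_x2, p_th] = true := by decide +kernel
theorem r_thx2 : relOK [p_th, p_x2] [p_x3, p_th] = true := by decide +kernel
theorem r_wx1 : relOK [p_w, p_x1] [p_y1, p_w] = true := by decide +kernel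
theorem r_wx2 : relOK [p_w, p_x2] [p_y2, p_w] = true := by decide +kernel
theorem r_wx3 : relOK [p_w, p_x3] [p_y3, p_w] = true := by decide +kernel
theorem r_x1sq : relOK [p_x1, p_x1] [] = true := by decide +kernel
theorem r_x2eq : relOK [p_x2] [p_x1, p_x3] = true := by decide +kernel
theorem r_x3sq : relOK [p_x3, p_x3] [] = true := by decide +kernel
theorem r_c0 : relOK [p_x1, p_y1] [p_v0, p_y1, p_x1] = true := by decide +kernel
theorem r_c1 : relOK [p_x2, p_y1] [p_v1, p_y1, p_x2] = true := by decide +kernel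
theorem r_c2 : relOK [p_x3, p_y1] [p_v2, p_y1, p_x3] = true := by decide +kernel
theorem r_cen_v0_x1 : relOK [p_v0, p_x1] [p_x1, p_v0] = true := by decide +kernel
theorem r_cen_v0_x2 : relOK [p_v0, p_x2] [p_x2, p_v0] = true := by decide +kernel
theorem r_cen_v0_x3 : relOK [p_v0, p_x3] [p_x3, p_v0] = true := by decide +kernel
theorem r_cen_v0_y1 : relOK [p_v0, p_y1] [p_y1, p_v0] = true := by decide +kernel
theorem r_cen_v0_y2 : relOK [p_v0, p_y2] [p_y2, p_v0] = true := by decide +kernel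
theorem r_cen_v0_y3 : relOK [p_v0, p_y3] [p_y3, p_v0] = true := by decide +kernel
theorem r_cen_v0_th : relOK [p_v0, p_th] [p_th, p_v0] = true := by decide +kernel
theorem r_cen_v1_x1 : relOK [p_v1, p_x1] [p_x1, p_v1] = true := by decide +kernel
theorem r_cen_v1_x2 : relOK [p_v1, p_x2] [p_x2, p_v1] = true := by decide +kernel
theorem r_cen_v1_x3 : relOK [p_v1, p_x3] [p_x3, p_v1] = true := by decide +kernel
theorem r_cen_v1_y1 : relOK [p_v1, p_y1] [p_y1, p_v1] = true := by decide +kernel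
theorem r_cen_v1_y2 : relOK [p_v1, p_y2] [p_y2, p_v1] = true := by decide +kernel
theorem r_cen_v1_y3 : relOK [p_v1, p_y3] [p_y3, p_v1] = true := by decide +kernel
theorem r_cen_v1_th : relOK [p_v1, p_th] [p_th, p_v1] = true := by decide +kernel
theorem r_cen_v2_x1 : relOK [p_v2, p_x1] [p_x1, p_v2] = true := by decide +kernel
theorem r_cen_v2_x2 : relOK [p_v2, p_x2] [p_x2, p_v2] = true := by decide +kernel
theorem r_cen_v2_x3 : relOK [p_v2, p_x3] [p_x3, p_v2] = true := by decide +kernel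
theorem r_cen_v2_y1 : relOK [p_v2, p_y1] [p_y1, p_v2] = true := by decide +kernel
theorem r_cen_v2_y2 : relOK [p_v2, p_y2] [p_y2, p_v2] = true := by decide +kernel
theorem r_cen_v2_y3 : relOK [p_v2, p_y3] [p_y3, p_v2] = true := by decide +kernel
theorem r_cen_v2_th : relOK [p_v2, p_th] [p_th, p_v2] = true := by decide +kernel
theorem r_tx1 : relOK [p_t, p_x1] [p_x1, p_t] = true := by decide +kernel
theorem r_ux1 : relOK [p_u, p_x1] [p_x1, p_u] = true := by decide +kernel
theorem r_tu : relOK [p_u, p_x2, p_t] [p_t, p_u] = true := by decide +kernel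

/-- the normal form word -/
def nfW (e1 e2 e3 e4 e5 e6 : Bool) : List (ℕ × ℕ) :=
  cond e1 [p_x1] [] ++ (cond e2 [p_x2] [] ++ (cond e3 [p_y1] [] ++ (cond e4 [p_y2] [] ++
    (cond e5 [p_v0] [] ++ cond e6 [p_v1] []))))

theorem inj2 : ∀ e1 e2 e3 e4 e5 e6 : Bool, (e1 || e2 || e3 || e4 || e5 || e6) = true →
    neOK (nfW e1 e2 e3 e4 e5 e6) = true := by decide +kernel

end Cfsg.Agent.Helper29.J3Sch
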