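import Mathlib
import Cfsg.Agent.Lib.Helper29.M24Search

set_option autoImplicit false
open Cfsg

namespace Cfsg.Agent.Helper29.M24

open Cfsg.Agent.Helper27 Cfsg.Agent.Helper29
open Cfsg.Agent.S0358 (idx)
open scoped Pointwise

/-! ### Lists of words together with the codes of their actions -/

/-- the words use generator letters and act as their codes say -/
def codesOK (L : List (List ℕ × ℕ)) : Bool :=
  L.all fun p => (p.1.all fun l => decide (l < ngen)) &&
    (List.range 24).all fun x => appW p.1 x == app p.2 x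

theorem codesOK_letters (L : List (List ℕ × ℕ)) (h : codesOK L = true) (p : List ℕ × ℕ)
    (hp : p ∈ L) : ∀ l ∈ p.1, l < ngen := by
  unfold codesOK at h
  rw [List.all_eq_true] at h
  have h2 := h p hp
  rw [Bool.and_eq_true, List.all_eq_true] at h2
  intro l hl
  exact of_decide_eq_true (h2.1 l hl)

theorem codesOK_idx (L : List (List ℕ × ℕ)) (h : codesOK L = true) (p : List ℕ × ℕ)
    (hp : p ∈ L) (q : GolayPt) : idx (evalW p.1 q) = app p.2 (idx q) := by
  rw [idx_evalW p.1 (codesOK_letters L h p hp)]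
  unfold codesOK at h
  rw [List.all_eq_true] at h
  have h2 := h p hp
  rw [Bool.and_eq_true, List.all_eq_true, List.all_eq_true] at h2
  have h3 := h2.2 (idx q) (List.mem_range.2 (M24.idx_lt q))
  rwa [beq_iff_eq] at h3

/-- a point-wise identity of permutations, from a check on the 24 encoded points -/
theorem eq_of_idx (g h : Equiv.Perm GolayPt) (e : ∀ q : GolayPt, idx (g q) = idx (h q)) : g = h :=
  Equiv.ext fun q => M24.idx_injective (e q)

theorem all_range_of_forall_idx (f : ℕ → Bool) (h : ∀ q : GolayPt, f (idx q) = true) :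
    (List.range 24).all f = true := by
  rw [List.all_eq_true]
  intro x hx
  rw [List.mem_range] at hx
  have := h (dec x)
  rwa [idx_dec ⟨x, hx⟩] at this

theorem forall_idx_of_all_range (f : ℕ → Bool) (h : (List.range 24).all f = true) (q : GolayPt) :
    f (idx q) = true := by
  rw [List.all_eq_true] at h
  exact h _ (List.mem_range.2 (M24.idx_lt q))

/-- counting a set of permutations listed by words with pairwise different actions -/
theorem ncard_of_coded (L : List (List ℕ × ℕ)) (hL : codesOK L = true)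
    (hnd : (L.map fun p => codeW p.1).Nodup) (A : Set (Equiv.Perm GolayPt))
    (h1 : ∀ g ∈ A, ∃ p ∈ L, g = evalW p.1) (h2 : ∀ p ∈ L, evalW p.1 ∈ A) :
    A.ncard = L.length := by
  classical
  have heq : A = (fun p : List ℕ × ℕ => evalW p.1) '' (L.toFinset : Set (List ℕ × ℕ)) := by
    ext g
    constructor
    · intro hg
      obtain ⟨p, hp, rfl⟩ := h1 g hg
      exact ⟨p, by rw [Finset.mem_coe, List.mem_toFinset]; exact hp, rfl⟩
    · rintro ⟨p, hp, rfl⟩
      rw [Finset.mem_coe, List.mem_toFinset] at hp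
      exact h2 p hp
  have hinj : Set.InjOn (fun p : List ℕ × ℕ => evalW p.1) (L.toFinset : Set (List ℕ × ℕ)) := by
    intro p hp q hq h
    rw [Finset.mem_coe, List.mem_toFinset] at hp hq
    have hc : codeW p.1 = codeW q.1 :=
      codeW_eq_of_evalW_eq p.1 q.1 (codesOK_letters L hL p hp) (codesOK_letters L hL q hq) h
    exact List.inj_on_of_nodup_map hnd hp hq hc
  rw [heq, Set.InjOn.ncard_image hinj, Set.ncard_coe_finset,
    List.toFinset_card_of_nodup (List.Nodup.of_map _ hnd)]

/-! ### Sylow subgroups: transfer along an isomorphism, and two recognition lemmas -/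

/-- the Sylow `p`-subgroup of `G` that corresponds to a Sylow `p`-subgroup of `G'` -/
noncomputable def sylowMap {G G' : Type*} [Group G] [Group G'] [Finite G] (e : G' ≃* G) (p : ℕ)
    [Fact p.Prime] (Q : Sylow p G') : Sylow p G :=
  Sylow.ofCard ((Q : Subgroup G').map e.toMonoidHom) (by
    have : Finite G' := Finite.of_equiv G e.symm.toEquiv
    rw [Subgroup.card_map_of_injective e.injective, Sylow.card_eq_multiplicity,
      Nat.card_congr e.toEquiv])

theorem sylowMap_coe {G G' : Type*} [Group G] [Group G'] [Finite G] (e : G' ≃* G) (p : ℕ)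
    [Fact p.Prime] (Q : Sylow p G') :
    (sylowMap e p Q : Subgroup G) = (Q : Subgroup G').map e.toMonoidHom := rfl

theorem sylow3_transfer {G G' : Type*} [Group G] [Group G'] [Finite G] (e : G' ≃* G)
    (h : ∀ Q : Sylow 3 G, (Q : Subgroup G).Normal ∧ Nat.card ↥Q = 9 ∧
      ∀ x ∈ (Q : Subgroup G), x ^ 3 = 1) :
    ∀ Q : Sylow 3 G', (Q : Subgroup G').Normal ∧ Nat.card ↥Q = 9 ∧
      ∀ x ∈ (Q : Subgroup G'), x ^ 3 = 1 := by
  intro Q
  have : Fact (Nat.Prime 3) := ⟨by norm_num⟩
  obtain ⟨hn, hc0, hx⟩ := h (sylowMap e 3 Q)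
  have hc : Nat.card ↥((Q : Subgroup G').map e.toMonoidHom) = 9 := hc0
  rw [sylowMap_coe] at hn hx
  refine ⟨?_, ?_, ?_⟩
  · have h1 : ((Q : Subgroup G').map e.toMonoidHom).comap e.toMonoidHom = (Q : Subgroup G') :=
      Subgroup.comap_map_eq_self_of_injective e.injective _
    rw [← h1]
    exact Subgroup.Normal.comap hn _
  · show Nat.card ↥(Q : Subgroup G') = 9
    rw [← hc]
    exact (Subgroup.card_map_of_injective e.injective).symm
  · intro x hxQ
    have h1 := hx (e x) (Subgroup.mem_map_of_mem _ hxQ)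
    apply e.injective
    rw [map_pow, map_one]
    exact h1

theorem sylow2_transfer {G G' : Type*} [Group G] [Group G'] [Finite G] (e : G' ≃* G)
    (h : ∀ P : Sylow 2 G, Nonempty (↥P ≃* QuaternionGroup 2)) :
    ∀ P : Sylow 2 G', Nonempty (↥P ≃* QuaternionGroup 2) := by
  intro P
  have : Fact (Nat.Prime 2) := ⟨by norm_num⟩
  obtain ⟨i⟩ := h (sylowMap e 2 P)
  have j : ↥(P : Subgroup G') ≃* ↥((P : Subgroup G').map e.toMonoidHom) :=
    Subgroup.equivMapOfInjective _ e.toMonoidHom e.injective
  exact ⟨j.trans i⟩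

/-- in a group of order 72 whose elements of order dividing 3 form a set of 9 elements closed
under products, and which has no element of order 9, the Sylow 3-subgroup is normal and
elementary abelian of order 9 -/
theorem sylow3_of_72 {G : Type*} [Group G] [Finite G] (hcard : Nat.card G = 72)
    (h1 : ∀ x y : G, x ^ 3 = 1 → y ^ 3 = 1 → (x * y) ^ 3 = 1)
    (h2 : ∀ x : G, x ^ 9 = 1 → x ^ 3 = 1) (h3 : Nat.card {x : G // x ^ 3 = 1} = 9) :
    ∀ Q : Sylow 3 G, (Q : Subgroup G).Normal ∧ Nat.card ↥Q = 9 ∧
      ∀ x ∈ (Q : Subgroup G), x ^ 3 = 1 := by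
  intro Q
  have : Fact (Nat.Prime 3) := ⟨by norm_num⟩
  let T : Subgroup G :=
    { carrier := {x | x ^ 3 = 1}
      one_mem' := one_pow 3
      mul_mem' := fun {a b} ha hb => h1 a b ha hb
      inv_mem' := fun {a} ha => by
        show a⁻¹ ^ 3 = 1
        rw [inv_pow, ha, inv_one] }
  have hT : ∀ x : G, x ∈ T ↔ x ^ 3 = 1 := fun x => Iff.rfl
  have hcQ : Nat.card ↥(Q : Subgroup G) = 9 := by
    have h0 : Nat.card ↥(Q : Subgroup G) = 3 ^ (Nat.card G).factorization 3 :=
      Sylow.card_eq_multiplicity Q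
    rw [h0, hcard]
    have : (72 : ℕ).factorization 3 = 2 := by
      have e : (72 : ℕ) = 3 ^ 2 * 8 := by norm_num
      rw [e, Nat.factorization_mul (by norm_num) (by norm_num), Nat.factorization_pow]
      have h8 : (8 : ℕ).factorization 3 = 0 := by
        apply Nat.factorization_eq_zero_of_not_dvd
        norm_num
      simp [h8, Nat.Prime.factorization_self (by norm_num : Nat.Prime 3)]
    rw [this]
    norm_num
  have hle : (Q : Subgroup G) ≤ T := by
    intro x hx
    rw [hT]
    apply h2
    have := pow_card_eq_one' (G := ↥(Q : Subgroup G)) (x := ⟨x, hx⟩)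
    rw [hcQ] at this
    exact congrArg Subtype.val this
  have hcT : Nat.card ↥T = 9 := h3
  have hQT : (Q : Subgroup G) = T := Subgroup.eq_of_le_of_card_ge hle (by rw [hcT, hcQ])
  refine ⟨?_, hcQ, ?_⟩
  · rw [hQT]
    refine ⟨fun n hn g => ?_⟩
    rw [hT] at hn ⊢
    rw [conj_pow, hn, mul_one, mul_inv_cancel]
  · intro x hx
    rw [hQT] at hx
    exact hx

/-- in a group of order 72 containing a quaternion group of order 8, the Sylow 2-subgroups are
quaternion -/
theorem sylow2_of_72 {G : Type*} [Group G] [Finite G] (hcard : Nat.card G = 72)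
    (f : QuaternionGroup 2 →* G) (hf : Function.Injective f) :
    ∀ P : Sylow 2 G, Nonempty (↥P ≃* QuaternionGroup 2) := by
  intro P
  have : Fact (Nat.Prime 2) := ⟨by norm_num⟩
  have hc : Nat.card ↥f.range = 2 ^ (Nat.card G).factorization 2 := by
    rw [← Nat.card_congr (MonoidHom.ofInjective hf).toEquiv, Nat.card_eq_fintype_card,
      QuaternionGroup.card, hcard]
    have : (72 : ℕ).factorization 2 = 3 := by
      have e : (72 : ℕ) = 2 ^ 3 * 9 := by norm_num
      rw [e, Nat.factorization_mul (by norm_num) (by norm_num), Nat.factorization_pow]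
      have h9 : (9 : ℕ).factorization 2 = 0 := by
        apply Nat.factorization_eq_zero_of_not_dvd
        norm_num
      simp [h9, Nat.Prime.factorization_self (by norm_num : Nat.Prime 2)]
    rw [this]
    norm_num
  let P0 : Sylow 2 G := Sylow.ofCard f.range hc
  obtain ⟨g, hg⟩ := MulAction.exists_smul_eq G P0 P
  subst hg
  have i1 : ↥(P0 : Subgroup G) ≃* ↥((g • P0 : Sylow 2 G) : Subgroup G) := Sylow.equivSMul P0 g
  have i2 : QuaternionGroup 2 ≃* ↥(P0 : Subgroup G) := MonoidHom.ofInjective hf
  exact ⟨(i2.trans i1).symm⟩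

end Cfsg.Agent.Helper29.M24
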