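import Mathlib
import Cfsg.Agent.Lib.Helper29.SchurM24a
import Cfsg.Agent.Lib.Helper29.StemRank
import Cfsg.Agent.Lib.Helper29.M24Coded

set_option autoImplicit false
open Cfsg

namespace Cfsg.Agent.Helper29.M21Uni

open Cfsg.Agent.Helper27 Cfsg.Agent.Helper29 Cfsg.Agent.Helper29.M24
open Cfsg.Agent.Helper29.FusCert
open Cfsg.Agent.Helper29.SchurM11 (weq evalW_eq_of_weq evalW_eq_of_eqC)
open Cfsg.Agent.Helper29.SchurM23 (conj_of_weq)
open Cfsg.Agent.Helper29.SchurM24 (closure_sub_list prods prods_spec)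
open Cfsg.Agent.S0358 (idx)
open scoped Pointwise commutatorElement

/-! ### The unipotent subgroup of the three-point stabilizer `grp 3 ≅ L₃(4)` of `M₂₄` -/

def Wa1 : List ℕ := [11]

def ca1 : ℕ := 961365507626256404119956257276790816

def Wa2 : List ℕ := [10, 9]

def ca2 : ℕ := 976448692869377735270425038196672544

def Wa3 : List ℕ := [12, 9]

def ca3 : ℕ := 965128854020860192151391391390468128

def Wa4 : List ℕ := [11, 9]

def ca4 : ℕ := 968708902336673183175954409307867168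

def Wb3 : List ℕ := [6, 7, 6, 7, 11, 10, 9]

def cb3 : ℕ := 972560815420533050926679905878345760

def Wb4 : List ℕ := [7, 6, 7, 6]

def cb4 : ℕ := 977023451795203591179182037798520864

/-- conjugators: `tab1[8 e₁ + 4 e₂ + 2 e₃ + e₄]` maps `a₁` to `a₁^e₁ a₂^e₂ a₃^e₃ a₄^e₄` -/
def tab1 : List (List ℕ) := [[], [5, 4, 6], [5, 11, 8, 4], [4, 7, 9, 5], [8], [5, 6, 4, 4, 4], [5, 7, 10, 4], [7, 4, 5, 4], [], [6, 4, 5, 4], [6, 5, 9, 4], [4, 12, 9, 5], [8, 8], [4, 8, 5], [4, 9, 5], [5, 8, 9, 4]]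

/-- conjugators: `tab2[8 e₁ + 4 e₂ + 2 e₃ + e₄]` maps `a₁` to `a₁^e₁ a₂^e₂ b₃^e₃ b₄^e₄` -/
def tab2 : List (List ℕ) := [[], [6], [12, 6, 6], [6, 7], [8], [9, 7, 6], [8, 6], [6, 8], [], [7, 6], [6, 6, 6], [7], [8, 8], [9, 6], [6, 6], [12, 7]]

/-- letters of a word lie in the third group of the chain -/
def ok3 (W : List ℕ) : Bool := W.all fun l => decide (l < ngen ∧ 3 ≤ depthOf l)

theorem mem_of_ok3 (W : List ℕ) (h : ok3 W = true) : evalW W ∈ grp 3 := by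
  apply evalW_mem_grp 3 W
  intro l hl
  unfold ok3 at h
  rw [List.all_eq_true] at h
  exact of_decide_eq_true (h l hl)

theorem letters_of_ok3 (W : List ℕ) (h : ok3 W = true) : ∀ l ∈ W, l < ngen := by
  intro l hl
  unfold ok3 at h
  rw [List.all_eq_true] at h
  exact (of_decide_eq_true (h l hl)).1

theorem weq_of_evalW_eq (W V : List ℕ) (hW : ∀ l ∈ W, l < ngen) (hV : ∀ l ∈ V, l < ngen)
    (e : evalW W = evalW V) : weq W V = true := by
  unfold weq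
  simp only [Bool.and_eq_true, List.all_eq_true, decide_eq_true_eq, List.mem_range]
  refine ⟨⟨hW, hV⟩, ?_⟩
  intro x hx
  have h1 := idx_evalW W hW (dec x)
  have h2 := idx_evalW V hV (dec x)
  have hx' : idx (dec x) = x := idx_dec ⟨x, hx⟩
  rw [hx'] at h1 h2
  rw [← h1, ← h2, e]
  exact Nat.beq_refl _

theorem ne_one_of_weq (W : List ℕ) (hW : ∀ l ∈ W, l < ngen) (h : weq W [] = false) :
    evalW W ≠ 1 := by
  intro e
  have := weq_of_evalW_eq W [] hW (by simp) (by rw [e, evalW_nil])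
  rw [this] at h
  exact Bool.noConfusion h

/-- the group `grp 3` as a type -/
abbrev G3 : Type := ↥(grp 3)

/-- the element of `G3` given by a word -/
def ew (W : List ℕ) : G3 := if h : ok3 W = true then ⟨evalW W, mem_of_ok3 W h⟩ else 1

theorem ew_val (W : List ℕ) (h : ok3 W = true) : ((ew W : G3) : Equiv.Perm GolayPt) = evalW W := by
  unfold ew
  rw [dif_pos h]

theorem ok3_append (W V : List ℕ) (h1 : ok3 W = true) (h2 : ok3 V = true) :
    ok3 (W ++ V) = true := by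
  unfold ok3 at *
  rw [List.all_append, h1, h2]
  rfl

theorem ew_append (W V : List ℕ) (h1 : ok3 W = true) (h2 : ok3 V = true) :
    ew (W ++ V) = ew W * ew V := by
  apply Subtype.ext
  rw [Subgroup.coe_mul, ew_val _ h1, ew_val _ h2, ew_val _ (ok3_append W V h1 h2), evalW_append]

theorem ew_nil : ew [] = 1 := by
  apply Subtype.ext
  rw [ew_val _ (by decide), evalW_nil]
  rfl

theorem ew_eq_of_weq (W V : List ℕ) (h1 : ok3 W = true) (h2 : ok3 V = true)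
    (h : weq W V = true) : ew W = ew V := by
  apply Subtype.ext
  rw [ew_val _ h1, ew_val _ h2]
  exact evalW_eq_of_weq W V h

theorem ew_ne_one (W : List ℕ) (h1 : ok3 W = true) (h : weq W [] = false) : ew W ≠ 1 := by
  intro e
  apply ne_one_of_weq W (letters_of_ok3 W h1) h
  rw [← ew_val W h1, e]
  rfl

def A1 : G3 := ew Wa1
def A2 : G3 := ew Wa2
def A3 : G3 := ew Wa3
def A4 : G3 := ew Wa4
def B3 : G3 := ew Wb3
def B4 : G3 := ew Wb4

theorem oks : ok3 Wa1 = true ∧ ok3 Wa2 = true ∧ ok3 Wa3 = true ∧ ok3 Wa4 = true ∧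
    ok3 Wb3 = true ∧ ok3 Wb4 = true := by decide

/-- products from word checks -/
theorem mul_of_weq (W V U : List ℕ) (h1 : ok3 W = true) (h2 : ok3 V = true) (h3 : ok3 U = true)
    (h : weq (W ++ V) U = true) : ew W * ew V = ew U := by
  rw [← ew_append W V h1 h2]
  exact ew_eq_of_weq _ _ (ok3_append W V h1 h2) h3 h

theorem sq_of_weq (W : List ℕ) (h1 : ok3 W = true) (h : weq (W ++ W) [] = true) :
    ew W * ew W = 1 := by
  rw [mul_of_weq W W [] h1 h1 (by decide) h, ew_nil]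

theorem comm_of_weq (W V : List ℕ) (h1 : ok3 W = true) (h2 : ok3 V = true)
    (h : weq (W ++ V) (V ++ W) = true) : ew W * ew V = ew V * ew W := by
  rw [← ew_append W V h1 h2, ← ew_append V W h2 h1]
  exact ew_eq_of_weq _ _ (ok3_append W V h1 h2) (ok3_append V W h2 h1) h

theorem sq_checks : weq (Wa1 ++ Wa1) [] = true ∧ weq (Wa2 ++ Wa2) [] = true ∧
    weq (Wa3 ++ Wa3) [] = true ∧ weq (Wa4 ++ Wa4) [] = true ∧ weq (Wb3 ++ Wb3) [] = true ∧
    weq (Wb4 ++ Wb4) [] = true := by decide +kernel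

theorem A1_sq : A1 * A1 = 1 := sq_of_weq Wa1 oks.1 sq_checks.1
theorem A2_sq : A2 * A2 = 1 := sq_of_weq Wa2 oks.2.1 sq_checks.2.1
theorem A3_sq : A3 * A3 = 1 := sq_of_weq Wa3 oks.2.2.1 sq_checks.2.2.1
theorem A4_sq : A4 * A4 = 1 := sq_of_weq Wa4 oks.2.2.2.1 sq_checks.2.2.2.1
theorem B3_sq : B3 * B3 = 1 := sq_of_weq Wb3 oks.2.2.2.2.1 sq_checks.2.2.2.2.1
theorem B4_sq : B4 * B4 = 1 := sq_of_weq Wb4 oks.2.2.2.2.2 sq_checks.2.2.2.2.2

theorem comm_checks : weq (Wa1 ++ Wa2) (Wa2 ++ Wa1) = true ∧ weq (Wa1 ++ Wa3) (Wa3 ++ Wa1) = true ∧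
    weq (Wa1 ++ Wa4) (Wa4 ++ Wa1) = true ∧ weq (Wa2 ++ Wa3) (Wa3 ++ Wa2) = true ∧
    weq (Wa2 ++ Wa4) (Wa4 ++ Wa2) = true ∧ weq (Wa3 ++ Wa4) (Wa4 ++ Wa3) = true ∧
    weq (Wa1 ++ Wb3) (Wb3 ++ Wa1) = true ∧ weq (Wa1 ++ Wb4) (Wb4 ++ Wa1) = true ∧
    weq (Wa2 ++ Wb3) (Wb3 ++ Wa2) = true ∧ weq (Wa2 ++ Wb4) (Wb4 ++ Wa2) = true ∧
    weq (Wb3 ++ Wb4) (Wb4 ++ Wb3) = true := by decide +kernel

theorem A1_A2 : A1 * A2 = A2 * A1 := comm_of_weq Wa1 Wa2 oks.1 oks.2.1 comm_checks.1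
theorem A1_A3 : A1 * A3 = A3 * A1 := comm_of_weq Wa1 Wa3 oks.1 oks.2.2.1 comm_checks.2.1
theorem A1_A4 : A1 * A4 = A4 * A1 := comm_of_weq Wa1 Wa4 oks.1 oks.2.2.2.1 comm_checks.2.2.1
theorem A2_A3 : A2 * A3 = A3 * A2 := comm_of_weq Wa2 Wa3 oks.2.1 oks.2.2.1 comm_checks.2.2.2.1
theorem A2_A4 : A2 * A4 = A4 * A2 := comm_of_weq Wa2 Wa4 oks.2.1 oks.2.2.2.1 comm_checks.2.2.2.2.1
theorem A3_A4 : A3 * A4 = A4 * A3 :=
  comm_of_weq Wa3 Wa4 oks.2.2.1 oks.2.2.2.1 comm_checks.2.2.2.2.2.1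
theorem A1_B3 : A1 * B3 = B3 * A1 :=
  comm_of_weq Wa1 Wb3 oks.1 oks.2.2.2.2.1 comm_checks.2.2.2.2.2.2.1
theorem A1_B4 : A1 * B4 = B4 * A1 :=
  comm_of_weq Wa1 Wb4 oks.1 oks.2.2.2.2.2 comm_checks.2.2.2.2.2.2.2.1
theorem A2_B3 : A2 * B3 = B3 * A2 :=
  comm_of_weq Wa2 Wb3 oks.2.1 oks.2.2.2.2.1 comm_checks.2.2.2.2.2.2.2.2.1
theorem A2_B4 : A2 * B4 = B4 * A2 :=
  comm_of_weq Wa2 Wb4 oks.2.1 oks.2.2.2.2.2 comm_checks.2.2.2.2.2.2.2.2.2.1
theorem B3_B4 : B3 * B4 = B4 * B3 :=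
  comm_of_weq Wb3 Wb4 oks.2.2.2.2.1 oks.2.2.2.2.2 comm_checks.2.2.2.2.2.2.2.2.2.2


/-! ### Commutators -/

theorem commutator_of_weq (W V U : List ℕ) (h1 : ok3 W = true) (h2 : ok3 V = true)
    (h3 : ok3 U = true) (sW : ew W * ew W = 1) (sV : ew V * ew V = 1)
    (h : weq (W ++ (V ++ (W ++ V))) U = true) : ⁅ew W, ew V⁆ = ew U := by
  have iW : (ew W)⁻¹ = ew W := inv_eq_of_mul_eq_one_right sW
  have iV : (ew V)⁻¹ = ew V := inv_eq_of_mul_eq_one_right sV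
  have o1 := ok3_append W V h1 h2
  have o2 := ok3_append V _ h2 o1
  have o3 := ok3_append W _ h1 o2
  have e : ew (W ++ (V ++ (W ++ V))) = ew W * (ew V * (ew W * ew V)) := by
    rw [ew_append _ _ h1 o2, ew_append _ _ h2 o1, ew_append _ _ h1 h2]
  rw [commutatorElement_def, iW, iV, mul_assoc, mul_assoc, ← e]
  exact ew_eq_of_weq _ _ o3 h3 h

theorem ok12 : ok3 (Wa1 ++ Wa2) = true := by decide

theorem comm_vals : weq (Wa3 ++ (Wb3 ++ (Wa3 ++ Wb3))) Wa1 = true ∧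
    weq (Wa3 ++ (Wb4 ++ (Wa3 ++ Wb4))) Wa2 = true ∧
    weq (Wa4 ++ (Wb3 ++ (Wa4 ++ Wb3))) Wa2 = true ∧
    weq (Wa4 ++ (Wb4 ++ (Wa4 ++ Wb4))) (Wa1 ++ Wa2) = true := by decide +kernel

theorem c33 : ⁅A3, B3⁆ = A1 :=
  commutator_of_weq Wa3 Wb3 Wa1 oks.2.2.1 oks.2.2.2.2.1 oks.1 A3_sq B3_sq comm_vals.1
theorem c34 : ⁅A3, B4⁆ = A2 :=
  commutator_of_weq Wa3 Wb4 Wa2 oks.2.2.1 oks.2.2.2.2.2 oks.2.1 A3_sq B4_sq comm_vals.2.1
theorem c43 : ⁅A4, B3⁆ = A2 :=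
  commutator_of_weq Wa4 Wb3 Wa2 oks.2.2.2.1 oks.2.2.2.2.1 oks.2.1 A4_sq B3_sq comm_vals.2.2.1
theorem c44 : ⁅A4, B4⁆ = A1 * A2 := by
  have h := commutator_of_weq Wa4 Wb4 (Wa1 ++ Wa2) oks.2.2.2.1 oks.2.2.2.2.2 ok12 A4_sq B4_sq
    comm_vals.2.2.2
  rw [ew_append Wa1 Wa2 oks.1 oks.2.1] at h
  exact h

/-! ### Independence -/

theorem ne_checks : weq Wa1 [] = false ∧ weq Wa2 [] = false ∧ weq Wa3 [] = false ∧
    weq (Wa1 ++ Wa2) [] = false ∧ weq (Wa1 ++ Wa3) [] = false ∧ weq (Wa2 ++ Wa3) [] = false ∧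
    weq (Wa1 ++ (Wa2 ++ Wa3)) [] = false ∧ weq Wb3 [] = false ∧ weq (Wa1 ++ Wb3) [] = false ∧
    weq (Wa2 ++ Wb3) [] = false ∧ weq (Wa1 ++ (Wa2 ++ Wb3)) [] = false := by decide +kernel

theorem i1 : A1 ≠ 1 := ew_ne_one Wa1 oks.1 ne_checks.1
theorem i2 : A2 ≠ 1 := ew_ne_one Wa2 oks.2.1 ne_checks.2.1
theorem i3 : A3 ≠ 1 := ew_ne_one Wa3 oks.2.2.1 ne_checks.2.2.1
theorem i12 : A1 * A2 ≠ 1 := by
  have := ew_ne_one (Wa1 ++ Wa2) (by decide) ne_checks.2.2.2.1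
  rwa [ew_append Wa1 Wa2 oks.1 oks.2.1] at this
theorem i13 : A1 * A3 ≠ 1 := by
  have := ew_ne_one (Wa1 ++ Wa3) (by decide) ne_checks.2.2.2.2.1
  rwa [ew_append Wa1 Wa3 oks.1 oks.2.2.1] at this
theorem i23 : A2 * A3 ≠ 1 := by
  have := ew_ne_one (Wa2 ++ Wa3) (by decide) ne_checks.2.2.2.2.2.1
  rwa [ew_append Wa2 Wa3 oks.2.1 oks.2.2.1] at this
theorem i123 : A1 * (A2 * A3) ≠ 1 := by
  have := ew_ne_one (Wa1 ++ (Wa2 ++ Wa3)) (by decide) ne_checks.2.2.2.2.2.2.1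
  rwa [ew_append Wa1 _ oks.1 (by decide), ew_append Wa2 Wa3 oks.2.1 oks.2.2.1] at this
theorem j3 : B3 ≠ 1 := ew_ne_one Wb3 oks.2.2.2.2.1 ne_checks.2.2.2.2.2.2.2.1
theorem j13 : A1 * B3 ≠ 1 := by
  have := ew_ne_one (Wa1 ++ Wb3) (by decide) ne_checks.2.2.2.2.2.2.2.2.1
  rwa [ew_append Wa1 Wb3 oks.1 oks.2.2.2.2.1] at this
theorem j23 : A2 * B3 ≠ 1 := by
  have := ew_ne_one (Wa2 ++ Wb3) (by decide) ne_checks.2.2.2.2.2.2.2.2.2.1
  rwa [ew_append Wa2 Wb3 oks.2.1 oks.2.2.2.2.1] at this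
theorem j123 : A1 * (A2 * B3) ≠ 1 := by
  have := ew_ne_one (Wa1 ++ (Wa2 ++ Wb3)) (by decide) ne_checks.2.2.2.2.2.2.2.2.2.2
  rwa [ew_append Wa1 _ oks.1 (by decide), ew_append Wa2 Wb3 oks.2.1 oks.2.2.2.2.1] at this

/-! ### Words indexed by four bits -/

def cw (e : Bool) (W : List ℕ) : List ℕ := cond e W []

theorem ok3_cw (e : Bool) (W : List ℕ) (h : ok3 W = true) : ok3 (cw e W) = true := by
  cases e
  · rfl
  · exact h

theorem ew_cw (e : Bool) (W : List ℕ) : ew (cw e W) = cond e (ew W) 1 := by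
  cases e
  · exact ew_nil
  · rfl

def word4 (W1 W2 W3 W4 : List ℕ) (e1 e2 e3 e4 : Bool) : List ℕ :=
  cw e1 W1 ++ (cw e2 W2 ++ (cw e3 W3 ++ cw e4 W4))

theorem ok3_word4 (W1 W2 W3 W4 : List ℕ) (h1 : ok3 W1 = true) (h2 : ok3 W2 = true)
    (h3 : ok3 W3 = true) (h4 : ok3 W4 = true) (e1 e2 e3 e4 : Bool) :
    ok3 (word4 W1 W2 W3 W4 e1 e2 e3 e4) = true :=
  ok3_append _ _ (ok3_cw e1 W1 h1) (ok3_append _ _ (ok3_cw e2 W2 h2)
    (ok3_append _ _ (ok3_cw e3 W3 h3) (ok3_cw e4 W4 h4)))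

theorem ew_word4 (W1 W2 W3 W4 : List ℕ) (h1 : ok3 W1 = true) (h2 : ok3 W2 = true)
    (h3 : ok3 W3 = true) (h4 : ok3 W4 = true) (e1 e2 e3 e4 : Bool) :
    ew (word4 W1 W2 W3 W4 e1 e2 e3 e4) =
      cond e1 (ew W1) 1 * (cond e2 (ew W2) 1 * (cond e3 (ew W3) 1 * cond e4 (ew W4) 1)) := by
  unfold word4
  rw [ew_append _ _ (ok3_cw e1 W1 h1) (ok3_append _ _ (ok3_cw e2 W2 h2)
      (ok3_append _ _ (ok3_cw e3 W3 h3) (ok3_cw e4 W4 h4))),
    ew_append _ _ (ok3_cw e2 W2 h2) (ok3_append _ _ (ok3_cw e3 W3 h3) (ok3_cw e4 W4 h4)),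
    ew_append _ _ (ok3_cw e3 W3 h3) (ok3_cw e4 W4 h4), ew_cw, ew_cw, ew_cw, ew_cw]

def idx16 (e1 e2 e3 e4 : Bool) : ℕ := 8 * e1.toNat + 4 * e2.toNat + 2 * e3.toNat + e4.toNat

/-! ### Conjugacy of the involutions of the two elementary abelian subgroups -/

theorem tab1_check : ∀ e1 e2 e3 e4 : Bool, (e1 || e2 || e3 || e4) = true →
    ok3 (tab1.getD (idx16 e1 e2 e3 e4) []) = true ∧
    weq (tab1.getD (idx16 e1 e2 e3 e4) [] ++ Wa1)
      (word4 Wa1 Wa2 Wa3 Wa4 e1 e2 e3 e4 ++ tab1.getD (idx16 e1 e2 e3 e4) []) = true := by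
  decide +kernel

theorem tab2_check : ∀ e1 e2 e3 e4 : Bool, (e1 || e2 || e3 || e4) = true →
    ok3 (tab2.getD (idx16 e1 e2 e3 e4) []) = true ∧
    weq (tab2.getD (idx16 e1 e2 e3 e4) [] ++ Wa1)
      (word4 Wa1 Wa2 Wb3 Wb4 e1 e2 e3 e4 ++ tab2.getD (idx16 e1 e2 e3 e4) []) = true := by
  decide +kernel

theorem conj_of_check (Wg Wu Wv : List ℕ) (hg : ok3 Wg = true) (hu : ok3 Wu = true)
    (hv : ok3 Wv = true) (h : weq (Wg ++ Wu) (Wv ++ Wg) = true) :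
    ew Wg * ew Wu * (ew Wg)⁻¹ = ew Wv := by
  have e : ew Wg * ew Wu = ew Wv * ew Wg := by
    rw [← ew_append Wg Wu hg hu, ← ew_append Wv Wg hv hg]
    exact ew_eq_of_weq _ _ (ok3_append _ _ hg hu) (ok3_append _ _ hv hg) h
  rw [e, mul_assoc, mul_inv_cancel, mul_one]

def E1 : Subgroup G3 := Subgroup.closure {A1, A2, A3, A4}
def E2 : Subgroup G3 := Subgroup.closure {A1, A2, B3, B4}

theorem conj1 : ∀ e ∈ E1, e ≠ 1 → ∃ g : G3, g * A1 * g⁻¹ = e := by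
  intro e he hne
  obtain ⟨e1, e2, e3, e4, rfl⟩ := StemRank.mem_closure_four A1 A2 A3 A4 A1_sq A2_sq A3_sq A4_sq
    A1_A2 A1_A3 A1_A4 A2_A3 A2_A4 A3_A4 e he
  by_cases hb : (e1 || e2 || e3 || e4) = true
  · obtain ⟨h1, h2⟩ := tab1_check e1 e2 e3 e4 hb
    refine ⟨ew (tab1.getD (idx16 e1 e2 e3 e4) []), ?_⟩
    have := conj_of_check _ Wa1 _ h1 oks.1
      (ok3_word4 Wa1 Wa2 Wa3 Wa4 oks.1 oks.2.1 oks.2.2.1 oks.2.2.2.1 e1 e2 e3 e4) h2
    rw [ew_word4 Wa1 Wa2 Wa3 Wa4 oks.1 oks.2.1 oks.2.2.1 oks.2.2.2.1] at this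
    exact this
  · exfalso
    apply hne
    simp only [Bool.or_eq_true, not_or, Bool.not_eq_true] at hb
    obtain ⟨⟨⟨r1, r2⟩, r3⟩, r4⟩ := hb
    subst r1 r2 r3 r4
    simp

theorem conj2 : ∀ e ∈ E2, e ≠ 1 → ∃ g : G3, g * A1 * g⁻¹ = e := by
  intro e he hne
  obtain ⟨e1, e2, e3, e4, rfl⟩ := StemRank.mem_closure_four A1 A2 B3 B4 A1_sq A2_sq B3_sq B4_sq
    A1_A2 A1_B3 A1_B4 A2_B3 A2_B4 B3_B4 e he
  by_cases hb : (e1 || e2 || e3 || e4) = true
  · obtain ⟨h1, h2⟩ := tab2_check e1 e2 e3 e4 hb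
    refine ⟨ew (tab2.getD (idx16 e1 e2 e3 e4) []), ?_⟩
    have := conj_of_check _ Wa1 _ h1 oks.1
      (ok3_word4 Wa1 Wa2 Wb3 Wb4 oks.1 oks.2.1 oks.2.2.2.2.1 oks.2.2.2.2.2 e1 e2 e3 e4) h2
    rw [ew_word4 Wa1 Wa2 Wb3 Wb4 oks.1 oks.2.1 oks.2.2.2.2.1 oks.2.2.2.2.2] at this
    exact this
  · exfalso
    apply hne
    simp only [Bool.or_eq_true, not_or, Bool.not_eq_true] at hb
    obtain ⟨⟨⟨r1, r2⟩, r3⟩, r4⟩ := hb
    subst r1 r2 r3 r4
    simp


/-! ### The relations between the four commutators -/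

def T4 : Finset (Bool × Bool × Bool × Bool) :=
  {(false, false, false, false), (false, true, true, false), (true, true, false, true),
    (true, false, true, true)}

theorem rel_check : ∀ e1 e2 e3 e4 : Bool,
    weq (word4 Wa1 Wa2 Wa2 (Wa1 ++ Wa2) e1 e2 e3 e4) [] = true → (e1, e2, e3, e4) ∈ T4 := by
  decide +kernel

theorem rel : ∀ e1 e2 e3 e4 : Bool,
    (cond e1 ⁅A3, B3⁆ 1) * ((cond e2 ⁅A3, B4⁆ 1) * ((cond e3 ⁅A4, B3⁆ 1) *
      (cond e4 ⁅A4, B4⁆ 1))) = 1 → (e1, e2, e3, e4) ∈ T4 := by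
  intro e1 e2 e3 e4 h
  apply rel_check
  have ho := ok3_word4 Wa1 Wa2 Wa2 (Wa1 ++ Wa2) oks.1 oks.2.1 oks.2.1 ok12 e1 e2 e3 e4
  apply weq_of_evalW_eq _ _ (letters_of_ok3 _ ho) (by simp)
  rw [← ew_val _ ho, ew_word4 Wa1 Wa2 Wa2 (Wa1 ++ Wa2) oks.1 oks.2.1 oks.2.1 ok12,
    ew_append Wa1 Wa2 oks.1 oks.2.1, evalW_nil]
  rw [c33, c34, c43, c44] at h
  show ((cond e1 A1 1 * (cond e2 A2 1 * (cond e3 A2 1 * cond e4 (A1 * A2) 1)) : G3) :
    Equiv.Perm GolayPt) = 1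
  rw [h]
  rfl

/-! ### The order of the unipotent subgroup -/

def gens6 : List (List ℕ × ℕ) :=
  [(Wa1, ca1), (Wa2, ca2), (Wa3, ca3), (Wa4, ca4), (Wb3, cb3), (Wb4, cb4)]

theorem gens6_repr : ∀ g ∈ gens6, Repr g.2 g.1 := by decide +kernel

def S6 : Set (Equiv.Perm GolayPt) := {u | ∃ g ∈ gens6, u = evalW g.1}

def SP : Subgroup (Equiv.Perm GolayPt) := Subgroup.closure S6

def SL : List (List ℕ × ℕ) := prods gens6

theorem SL_spec : ∀ q ∈ SL, Repr q.2 q.1 ∧ evalW q.1 ∈ SP :=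
  prods_spec SP gens6 (fun g hg => ⟨gens6_repr g hg, Subgroup.subset_closure ⟨g, hg, rfl⟩⟩)

theorem SL_gens : (gens6.all fun g => SL.any fun q => eqC g.2 q.2) = true := by decide +kernel

theorem SL_one : (SL.any fun q => eqC q.2 cId) = true := by decide +kernel

theorem SL_mul : (SL.all fun p => SL.all fun q => SL.any fun r =>
    eqC (compF p.2 q.2) r.2) = true := by decide +kernel

theorem SL_inv : (SL.all fun p => SL.any fun q => eqC (compF p.2 q.2) cId) = true := by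
  decide +kernel

theorem SP_sub (u : Equiv.Perm GolayPt) (hu : u ∈ SP) : ∃ q ∈ SL, u = evalW q.1 := by
  refine closure_sub_list S6 SL (fun q hq => (SL_spec q hq).1) ?_ SL_one SL_mul SL_inv u hu
  rintro s ⟨g, hg, rfl⟩
  have h1 := List.all_eq_true.1 SL_gens g hg
  obtain ⟨q, hq, h⟩ := List.any_eq_true.1 h1
  exact ⟨q, hq, evalW_eq_of_eqC _ _ _ _ (gens6_repr g hg) (SL_spec q hq).1 h⟩

theorem SL_ok : codesOK SL = true := by decide +kernel

theorem SL_nodup : (SL.map fun p => codeW p.1).Nodup := by decide +kernel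

theorem SL_length : SL.length = 64 := by decide +kernel

theorem card_SP : Nat.card ↥SP = 64 := by
  have h := ncard_of_coded SL SL_ok SL_nodup (SP : Set (Equiv.Perm GolayPt)) SP_sub
    (fun p hp => (SL_spec p hp).2)
  rw [SL_length] at h
  rw [← h, ← Nat.card_coe_set_eq]
  rfl

def S : Subgroup G3 := Subgroup.closure {A1, A2, A3, A4, B3, B4}

theorem map_S : S.map (grp 3).subtype = SP := by
  apply le_antisymm
  · rw [Subgroup.map_le_iff_le_comap]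
    unfold S
    rw [Subgroup.closure_le]
    intro x hx
    simp only [Set.mem_insert_iff, Set.mem_singleton_iff] at hx
    show (x : Equiv.Perm GolayPt) ∈ SP
    rcases hx with rfl | rfl | rfl | rfl | rfl | rfl
    · rw [A1, ew_val _ oks.1]
      exact Subgroup.subset_closure ⟨(Wa1, ca1), by simp [gens6], rfl⟩
    · rw [A2, ew_val _ oks.2.1]
      exact Subgroup.subset_closure ⟨(Wa2, ca2), by simp [gens6], rfl⟩
    · rw [A3, ew_val _ oks.2.2.1]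
      exact Subgroup.subset_closure ⟨(Wa3, ca3), by simp [gens6], rfl⟩
    · rw [A4, ew_val _ oks.2.2.2.1]
      exact Subgroup.subset_closure ⟨(Wa4, ca4), by simp [gens6], rfl⟩
    · rw [B3, ew_val _ oks.2.2.2.2.1]
      exact Subgroup.subset_closure ⟨(Wb3, cb3), by simp [gens6], rfl⟩
    · rw [B4, ew_val _ oks.2.2.2.2.2]
      exact Subgroup.subset_closure ⟨(Wb4, cb4), by simp [gens6], rfl⟩
  · unfold SP
    rw [Subgroup.closure_le]
    rintro u ⟨g, hg, rfl⟩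
    simp only [gens6, List.mem_cons, List.not_mem_nil, or_false] at hg
    rcases hg with rfl | rfl | rfl | rfl | rfl | rfl
    · exact ⟨A1, Subgroup.subset_closure (by simp), ew_val _ oks.1⟩
    · exact ⟨A2, Subgroup.subset_closure (by simp), ew_val _ oks.2.1⟩
    · exact ⟨A3, Subgroup.subset_closure (by simp), ew_val _ oks.2.2.1⟩
    · exact ⟨A4, Subgroup.subset_closure (by simp), ew_val _ oks.2.2.2.1⟩
    · exact ⟨B3, Subgroup.subset_closure (by simp), ew_val _ oks.2.2.2.2.1⟩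
    · exact ⟨B4, Subgroup.subset_closure (by simp), ew_val _ oks.2.2.2.2.2⟩

theorem card_S : Nat.card ↥S = 64 := by
  rw [← card_SP, ← map_S]
  exact (Subgroup.card_map_of_injective (grp 3).subtype_injective).symm

theorem index_S : S.index = 315 := by
  have h := Subgroup.card_mul_index S
  rw [card_S, card_grp 3 (by norm_num)] at h
  have : (64 : ℕ) * S.index = 64 * 315 := by rw [h]; rfl
  exact Nat.eq_of_mul_eq_mul_left (by norm_num) this

/-! ### The bound for `grp 3` -/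

theorem exp_two_of_closure {G : Type*} [Group G] (M : Set G) (h1 : ∀ s ∈ M, s * s = 1)
    (h2 : ∀ s ∈ M, ∀ t ∈ M, s * t = t * s) : ∀ e ∈ Subgroup.closure M, e * e = 1 := by
  have hc := StemSylow.comm_of_closure h2
  intro e he
  induction he using Subgroup.closure_induction with
  | mem s hs => exact h1 s hs
  | one => rw [one_mul]
  | mul x y hx hy ihx ihy =>
    calc x * y * (x * y) = x * (y * x) * y := by group
      _ = x * (x * y) * y := by rw [hc y hy x hx]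
      _ = (x * x) * (y * y) := by group
      _ = 1 := by rw [ihx, ihy, one_mul]
  | inv x _ ih =>
    have : x⁻¹ = x := inv_eq_of_mul_eq_one_right ih
    rw [this, ih]

theorem exp_E1 : ∀ e ∈ E1, e * e = 1 := by
  apply exp_two_of_closure
  · intro s hs
    simp only [Set.mem_insert_iff, Set.mem_singleton_iff] at hs
    rcases hs with rfl | rfl | rfl | rfl
    · exact A1_sq
    · exact A2_sq
    · exact A3_sq
    · exact A4_sq
  · intro s hs t ht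
    simp only [Set.mem_insert_iff, Set.mem_singleton_iff] at hs ht
    rcases hs with rfl | rfl | rfl | rfl <;> rcases ht with rfl | rfl | rfl | rfl <;>
      first
      | rfl
      | exact A1_A2 | exact A1_A3 | exact A1_A4 | exact A2_A3 | exact A2_A4 | exact A3_A4
      | exact A1_A2.symm | exact A1_A3.symm | exact A1_A4.symm | exact A2_A3.symm
      | exact A2_A4.symm | exact A3_A4.symm

theorem exp_E2 : ∀ e ∈ E2, e * e = 1 := by
  apply exp_two_of_closure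
  · intro s hs
    simp only [Set.mem_insert_iff, Set.mem_singleton_iff] at hs
    rcases hs with rfl | rfl | rfl | rfl
    · exact A1_sq
    · exact A2_sq
    · exact B3_sq
    · exact B4_sq
  · intro s hs t ht
    simp only [Set.mem_insert_iff, Set.mem_singleton_iff] at hs ht
    rcases hs with rfl | rfl | rfl | rfl <;> rcases ht with rfl | rfl | rfl | rfl <;>
      first
      | rfl
      | exact A1_A2 | exact A1_B3 | exact A1_B4 | exact A2_B3 | exact A2_B4 | exact B3_B4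
      | exact A1_A2.symm | exact A1_B3.symm | exact A1_B4.symm | exact A2_B3.symm
      | exact A2_B4.symm | exact B3_B4.symm

theorem mem12 : A1 ∈ E1 ⊓ E2 ∧ A2 ∈ E1 ⊓ E2 :=
  ⟨⟨Subgroup.subset_closure (by simp), Subgroup.subset_closure (by simp)⟩,
    ⟨Subgroup.subset_closure (by simp), Subgroup.subset_closure (by simp)⟩⟩

/-- a perfect central extension of `grp 3 ≅ L₃(4)` by a group of exponent two has kernel of
order at most four -/
theorem bound {Γ : Type*} [Group Γ] [Finite Γ] (σ : Γ →* G3) (hs : Function.Surjective σ)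
    (hK : σ.ker ≤ Subgroup.center Γ) (hexp : ∀ k ∈ σ.ker, k * k = 1)
    (hK' : σ.ker ≤ commutator Γ) : Nat.card σ.ker ≤ 4 := by
  refine StemRank.card_ker_le_four σ hs hK hexp hK' A1 A2 A3 A4 B3 B4 E1 E2 exp_E1 exp_E2
    (Subgroup.subset_closure (by simp)) (Subgroup.subset_closure (by simp))
    (Subgroup.subset_closure (by simp)) (Subgroup.subset_closure (by simp))
    (Subgroup.subset_closure (by simp)) (Subgroup.subset_closure (by simp))
    (Subgroup.subset_closure (by simp)) (Subgroup.subset_closure (by simp))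
    conj1 conj2 i1 i2 i3 i12 i13 i23 i123 j3 j13 j23 j123 ?_ ?_ ?_ ?_ ?_ T4 (by decide) rel
  · rw [c33]; exact mem12.1
  · rw [c34]; exact mem12.2
  · rw [c43]; exact mem12.2
  · rw [c44]; exact Subgroup.mul_mem _ mem12.1 mem12.2
  · show ¬ 2 ∣ S.index
    rw [index_S]
    norm_num

end Cfsg.Agent.Helper29.M21Uni
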