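import Mathlib
import Cfsg.Agent.Lib.Helper29.DedCheck
import Cfsg.Agent.Lib.Helper29.M22TwoData
import Cfsg.Agent.Lib.Helper29.FusM22
import Cfsg.Agent.Lib.Helper29.M21Uni
import Cfsg.Agent.Lib.Helper29.StemRank
import Cfsg.Agent.Lib.Helper29.StemSylow
import Cfsg.Agent.Lib.Helper29.StemSplit2
import Cfsg.Agent.Lib.Helper29.M24Stab

set_option autoImplicit false
open Cfsg

/-! The two-part of the Schur multiplier of `M₂₂`: in a stem extension with kernel of order two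
the lifts of a certain pair of commuting elements of order four do not commute. -/

namespace Cfsg.Agent.Helper29.M22Two

open Cfsg.Agent.Helper27 Cfsg.Agent.Helper29 Cfsg.Agent.Helper29.M24
open Cfsg.Agent.Helper29.FusCert Cfsg.Agent.Helper29.Syl2 Cfsg.Agent.Helper29.FusPt
open Cfsg.Agent.Helper29.FusM22 (Q22 gt qt QL ctx coreN)
open Cfsg.Agent.Helper29.StemSylow Cfsg.Agent.Helper29.StemSplit
open Cfsg.Agent.Helper29.SchurM11 (weq evalW_eq_of_weq evalW_eq_of_eqC)
open Cfsg.Agent.Helper29.M21Uni (weq_of_evalW_eq ne_one_of_weq)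
open Cfsg.Agent.Helper29.M22TwoData
open Cfsg.Agent.Helper29.DedCheck
open Cfsg.Agent.S0358 (idx)
open scoped Pointwise commutatorElement

/-! ### The group as the second group of the chain -/

theorem M22_eq_grp2 : Cfsg.Spor.M22 = grp 2 := by
  ext g
  rw [mem_grp_iff 2 (by norm_num)]
  unfold Cfsg.Spor.M22 Cfsg.Spor.M23
  rw [Subgroup.mem_inf, Subgroup.mem_inf, FusM22.mem_stab_none, FusM22.mem_stab_zero]
  constructor
  · rintro ⟨⟨h1, h2⟩, h3⟩
    refine ⟨h1, fun i hi => ?_⟩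
    interval_cases i
    · exact h2
    · exact h3
  · rintro ⟨h1, h2⟩
    exact ⟨⟨h1, h2 0 (by norm_num)⟩, h2 1 (by norm_num)⟩

theorem card_M22 : Nat.card ↥Cfsg.Spor.M22 = 443520 := by
  rw [M22_eq_grp2]
  exact card_grp 2 (by norm_num)

/-- letters of a word lie in the second group of the chain -/
def ok2 (W : List ℕ) : Bool := W.all fun l => decide (l < ngen ∧ 2 ≤ depthOf l)

theorem mem_of_ok2 (W : List ℕ) (h : ok2 W = true) : evalW W ∈ Cfsg.Spor.M22 := by
  rw [M22_eq_grp2]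
  apply evalW_mem_grp 2 W
  intro l hl
  unfold ok2 at h
  rw [List.all_eq_true] at h
  exact of_decide_eq_true (h l hl)

theorem letters_of_ok2 (W : List ℕ) (h : ok2 W = true) : ∀ l ∈ W, l < ngen := by
  intro l hl
  unfold ok2 at h
  rw [List.all_eq_true] at h
  exact (of_decide_eq_true (h l hl)).1

/-- the group as a type -/
abbrev G2 : Type := ↥Cfsg.Spor.M22

/-- the element given by a word -/
def em (W : List ℕ) : G2 := if h : ok2 W = true then ⟨evalW W, mem_of_ok2 W h⟩ else 1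

theorem em_val (W : List ℕ) (h : ok2 W = true) : ((em W : G2) : Equiv.Perm GolayPt) = evalW W := by
  unfold em
  rw [dif_pos h]

theorem ok2_append (W V : List ℕ) (h1 : ok2 W = true) (h2 : ok2 V = true) :
    ok2 (W ++ V) = true := by
  unfold ok2 at *
  rw [List.all_append, h1, h2]
  rfl

theorem em_append (W V : List ℕ) (h1 : ok2 W = true) (h2 : ok2 V = true) :
    em (W ++ V) = em W * em V := by
  apply Subtype.ext
  rw [Subgroup.coe_mul, em_val _ h1, em_val _ h2, em_val _ (ok2_append W V h1 h2), evalW_append]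

theorem em_nil : em [] = 1 := by
  apply Subtype.ext
  rw [em_val _ (by decide), evalW_nil]
  rfl

theorem em_eq_of_weq (W V : List ℕ) (h1 : ok2 W = true) (h2 : ok2 V = true)
    (h : weq W V = true) : em W = em V := by
  apply Subtype.ext
  rw [em_val _ h1, em_val _ h2]
  exact evalW_eq_of_weq W V h

theorem em_ne_one (W : List ℕ) (h1 : ok2 W = true) (h : weq W [] = false) : em W ≠ 1 := by
  intro e
  apply ne_one_of_weq W (letters_of_ok2 W h1) h
  rw [← em_val W h1, e]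
  rfl

theorem mul_of_weq (W V U : List ℕ) (h1 : ok2 W = true) (h2 : ok2 V = true) (h3 : ok2 U = true)
    (h : weq (W ++ V) U = true) : em W * em V = em U := by
  rw [← em_append W V h1 h2]
  exact em_eq_of_weq _ _ (ok2_append W V h1 h2) h3 h

theorem sq_of_weq (W : List ℕ) (h1 : ok2 W = true) (h : weq (W ++ W) [] = true) :
    em W * em W = 1 := by
  rw [mul_of_weq W W [] h1 h1 (by decide) h, em_nil]

theorem comm_of_weq (W V : List ℕ) (h1 : ok2 W = true) (h2 : ok2 V = true)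
    (h : weq (W ++ V) (V ++ W) = true) : em W * em V = em V * em W := by
  rw [← em_append W V h1 h2, ← em_append V W h2 h1]
  exact em_eq_of_weq _ _ (ok2_append W V h1 h2) (ok2_append V W h2 h1) h

theorem conj_of_check (Wg Wu Wv : List ℕ) (hg : ok2 Wg = true) (hu : ok2 Wu = true)
    (hv : ok2 Wv = true) (h : weq (Wg ++ Wu) (Wv ++ Wg) = true) :
    em Wg * em Wu * (em Wg)⁻¹ = em Wv := by
  have e : em Wg * em Wu = em Wv * em Wg := by
    rw [← em_append Wg Wu hg hu, ← em_append Wv Wg hv hg]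
    exact em_eq_of_weq _ _ (ok2_append _ _ hg hu) (ok2_append _ _ hv hg) h
  rw [e, mul_assoc, mul_inv_cancel, mul_one]

/-! ### The Sylow 2-subgroup -/

theorem sylow2 : ∃ S : Sylow 2 ↥Cfsg.Spor.M22,
    (S : Subgroup ↥Cfsg.Spor.M22) = Q22.subgroupOf Cfsg.Spor.M22 := by
  have : Fact (Nat.Prime 2) := ⟨Nat.prime_two⟩
  have : Finite ↥Cfsg.Spor.M22 := Nat.finite_of_card_ne_zero (by rw [card_M22]; norm_num)
  apply exists_sylow_eq_of_selfNormalizing 2
  · intro g
    refine ⟨3, ?_⟩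
    apply Subtype.ext
    apply Subtype.ext
    have := ctx.hpow g.1.1 (Subgroup.mem_subgroupOf.1 g.2)
    simpa using this
  · intro n hn
    rw [Subgroup.mem_subgroupOf]
    apply coreN _ n.2
    intro x hx
    have := hn ⟨x, ctx.hQG hx⟩ (Subgroup.mem_subgroupOf.2 hx)
    rw [Subgroup.mem_subgroupOf] at this
    exact this

/-! ### The table -/

def XW (c : ℕ) : List ℕ := XWL.getD c []
def XC (c : ℕ) : ℕ := XCL.getD c 0
def NC (i : ℕ) : ℕ := NCL.getD i 0
def NW (i : ℕ) : List ℕ := NWL.getD i []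
def CW (i : ℕ) : List ℕ := CWL.getD i []

/-- the table -/
def D : Tab :=
  ⟨128, 6, 7, fun c => if c < 3 then c + 3 else c - 3, colsP, fun i => parL.getD i 0,
    fun i => pcolL.getD i 0⟩

/-- repeat a word -/
def flat (w : List ℕ) : ℕ → List ℕ
  | 0 => []
  | k + 1 => w ++ flat w k

/-- the relators -/
def rels : List (List ℕ) :=
  pows.map (fun p => flat p.1 (2 * p.2)) ++ csplit.map (fun p => p.1 ++ p.2)

set_option maxRecDepth 100000 in
theorem check_ok : D.check rels dlog = true := by decide +kernel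

theorem rels_k : ∀ r ∈ rels, ∀ y ∈ r, y < D.k := by decide +kernel

theorem xw_ok : ∀ c < 6, ok2 (XW c) = true ∧ Repr (XC c) (XW c) ∧ qt (XC c) = true := by
  decide +kernel

theorem xinv_ok : ∀ c < 6, weq (XW c ++ XW (D.inv c)) [] = true := by decide +kernel

set_option maxRecDepth 100000 in
theorem nw_ok : ∀ i < 128, ok2 (NW i) = true ∧ Repr (NC i) (NW i) := by decide +kernel

set_option maxRecDepth 100000 in
theorem nw_rec : ∀ i < 128, 0 < i → D.par i < i ∧ NW i = XW (D.pcol i) ++ NW (D.par i) := by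
  decide +kernel

theorem nw_zero : NW 0 = [] := by decide

set_option maxRecDepth 100000 in
theorem tab_ok : ∀ c < 6, ∀ i < 128, D.tget c i < 128 ∧
    eqC (compF (XC c) (NC i)) (NC (D.tget c i)) = true := by decide +kernel

set_option maxRecDepth 100000 in
theorem ql_ok : (QL.all fun q => (List.range 128).any fun i => eqC q.2 (NC i)) = true := by
  decide +kernel

set_option maxRecDepth 100000 in
theorem ne_ok : ∀ i < 128, i ≠ 0 → eqC (NC i) cId = false := by decide +kernel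

set_option maxRecDepth 100000 in
theorem invol_ok : ∀ i < 128, i ≠ 0 → eqC (compF (NC i) (NC i)) cId = true →
    ok2 (CW i) = true ∧ weq (CW i ++ [9]) (NW i ++ CW i) = true := by decide +kernel

set_option maxRecDepth 100000 in
theorem pows_ok : ∀ p ∈ pows, D.walkT (flat p.1 (2 * p.2)) 0 = 0 ∧ ∀ y ∈ p.1, y < 6 := by
  decide +kernel

theorem csplit_ok : ∀ p ∈ csplit, p.2 ++ p.1 = comm := by decide +kernel

/-- the columns as elements of the group -/
def xg (c : ℕ) : G2 := em (XW c)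

theorem xg_mem_Q (c : ℕ) (hc : c < 6) : ((xg c : G2) : Equiv.Perm GolayPt) ∈ Q22 := by
  obtain ⟨h1, h2, h3⟩ := xw_ok c hc
  unfold xg
  rw [em_val _ h1]
  exact ctx.hQ _ _ h2 h3

theorem xg_inv (c : ℕ) (hc : c < 6) : xg (D.inv c) = (xg c)⁻¹ := by
  have hc' : D.inv c < 6 := by
    show (if c < 3 then c + 3 else c - 3) < 6
    split_ifs <;> omega
  have h := mul_of_weq (XW c) (XW (D.inv c)) [] (xw_ok c hc).1 (xw_ok _ hc').1 (by decide)
    (xinv_ok c hc)
  rw [em_nil] at h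
  exact (inv_eq_of_mul_eq_one_right h).symm

theorem node_eq : ∀ i < 128, D.node xg i = em (NW i) := by
  intro i
  induction i using Nat.strong_induction_on with
  | _ i ih =>
    intro hi
    by_cases h0 : i = 0
    · subst h0
      rw [D.node_zero, nw_zero, em_nil]
    · obtain ⟨h1, h2⟩ := nw_rec i hi (Nat.pos_of_ne_zero h0)
      rw [D.node_of_lt xg (Nat.pos_of_ne_zero h0) h1, ih _ h1 (by omega), h2]
      have hp : D.pcol i < 6 := by
        have : ∀ i < 128, D.pcol i < 6 := by decide +kernel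
        exact this i hi
      rw [em_append _ _ (xw_ok _ hp).1 (nw_ok _ (by omega)).1]
      rfl

theorem tabM : ∀ c < D.k, ∀ i < D.n, D.tget c i < D.n ∧
    xg c * D.node xg i = D.node xg (D.tget c i) := by
  intro c hc i hi
  obtain ⟨h1, h2⟩ := tab_ok c hc i hi
  refine ⟨h1, ?_⟩
  rw [node_eq i hi, node_eq _ h1]
  unfold xg
  rw [← em_append _ _ (xw_ok c hc).1 (nw_ok i hi).1]
  apply Subtype.ext
  rw [em_val _ (ok2_append _ _ (xw_ok c hc).1 (nw_ok i hi).1), em_val _ (nw_ok _ h1).1]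
  exact evalW_eq_of_eqC _ _ _ _ (repr_compF _ _ _ _ (xw_ok c hc).2.1 (nw_ok i hi).2)
    (nw_ok _ h1).2 h2

/-- every element of the Sylow subgroup is the element of a node -/
theorem exists_node (g : G2) (hg : (g : Equiv.Perm GolayPt) ∈ Q22) : ∃ i < 128, g = D.node xg i := by
  obtain ⟨q, hq, hr, e⟩ := ctx.hQL _ hg
  have h1 := List.all_eq_true.1 ql_ok q hq
  obtain ⟨i, hi, h2⟩ := List.any_eq_true.1 h1
  rw [List.mem_range] at hi
  refine ⟨i, hi, ?_⟩
  rw [node_eq i hi]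
  apply Subtype.ext
  rw [em_val _ (nw_ok i hi).1, e]
  exact evalW_eq_of_eqC _ _ _ _ hr (nw_ok i hi).2 h2

theorem node_ne_one (i : ℕ) (hi : i < 128) (h0 : i ≠ 0) : D.node xg i ≠ 1 := by
  intro h
  rw [node_eq i hi] at h
  have h1 : evalW (NW i) = evalW [] := by
    rw [← em_val _ (nw_ok i hi).1, h, evalW_nil]
    rfl
  have h2 := eqC_of_evalW_eq _ _ _ _ (nw_ok i hi).2 repr_cId h1
  rw [ne_ok i hi h0] at h2
  exact Bool.noConfusion h2

/-! ### The elementary abelian subgroup -/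

def A1 : G2 := em [9]
def A2 : G2 := em [10]
def A3 : G2 := em [11]
def A4 : G2 := em [12]

theorem oks : ok2 [9] = true ∧ ok2 [10] = true ∧ ok2 [11] = true ∧ ok2 [12] = true := by decide

theorem sq_checks : weq ([9] ++ [9]) [] = true ∧ weq ([10] ++ [10]) [] = true ∧
    weq ([11] ++ [11]) [] = true ∧ weq ([12] ++ [12]) [] = true := by decide +kernel

theorem A1_sq : A1 * A1 = 1 := sq_of_weq [9] oks.1 sq_checks.1
theorem A2_sq : A2 * A2 = 1 := sq_of_weq [10] oks.2.1 sq_checks.2.1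
theorem A3_sq : A3 * A3 = 1 := sq_of_weq [11] oks.2.2.1 sq_checks.2.2.1
theorem A4_sq : A4 * A4 = 1 := sq_of_weq [12] oks.2.2.2 sq_checks.2.2.2

theorem comm_checks : weq ([9] ++ [10]) ([10] ++ [9]) = true ∧
    weq ([9] ++ [11]) ([11] ++ [9]) = true ∧ weq ([9] ++ [12]) ([12] ++ [9]) = true ∧
    weq ([10] ++ [11]) ([11] ++ [10]) = true ∧ weq ([10] ++ [12]) ([12] ++ [10]) = true ∧
    weq ([11] ++ [12]) ([12] ++ [11]) = true := by decide +kernel

theorem A1_A2 : A1 * A2 = A2 * A1 := comm_of_weq [9] [10] oks.1 oks.2.1 comm_checks.1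
theorem A1_A3 : A1 * A3 = A3 * A1 := comm_of_weq [9] [11] oks.1 oks.2.2.1 comm_checks.2.1
theorem A1_A4 : A1 * A4 = A4 * A1 := comm_of_weq [9] [12] oks.1 oks.2.2.2 comm_checks.2.2.1
theorem A2_A3 : A2 * A3 = A3 * A2 := comm_of_weq [10] [11] oks.2.1 oks.2.2.1 comm_checks.2.2.2.1
theorem A2_A4 : A2 * A4 = A4 * A2 := comm_of_weq [10] [12] oks.2.1 oks.2.2.2 comm_checks.2.2.2.2.1
theorem A3_A4 : A3 * A4 = A4 * A3 := comm_of_weq [11] [12] oks.2.2.1 oks.2.2.2 comm_checks.2.2.2.2.2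

def cw (e : Bool) (W : List ℕ) : List ℕ := cond e W []

theorem ok2_cw (e : Bool) (W : List ℕ) (h : ok2 W = true) : ok2 (cw e W) = true := by
  cases e
  · rfl
  · exact h

theorem em_cw (e : Bool) (W : List ℕ) : em (cw e W) = cond e (em W) 1 := by
  cases e
  · exact em_nil
  · rfl

def word4 (e1 e2 e3 e4 : Bool) : List ℕ :=
  cw e1 [9] ++ (cw e2 [10] ++ (cw e3 [11] ++ cw e4 [12]))

theorem ok2_word4 (e1 e2 e3 e4 : Bool) : ok2 (word4 e1 e2 e3 e4) = true :=
  ok2_append _ _ (ok2_cw e1 _ oks.1) (ok2_append _ _ (ok2_cw e2 _ oks.2.1)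
    (ok2_append _ _ (ok2_cw e3 _ oks.2.2.1) (ok2_cw e4 _ oks.2.2.2)))

theorem em_word4 (e1 e2 e3 e4 : Bool) :
    em (word4 e1 e2 e3 e4) = cond e1 A1 1 * (cond e2 A2 1 * (cond e3 A3 1 * cond e4 A4 1)) := by
  unfold word4
  rw [em_append _ _ (ok2_cw e1 _ oks.1) (ok2_append _ _ (ok2_cw e2 _ oks.2.1)
      (ok2_append _ _ (ok2_cw e3 _ oks.2.2.1) (ok2_cw e4 _ oks.2.2.2))),
    em_append _ _ (ok2_cw e2 _ oks.2.1) (ok2_append _ _ (ok2_cw e3 _ oks.2.2.1)
      (ok2_cw e4 _ oks.2.2.2)),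
    em_append _ _ (ok2_cw e3 _ oks.2.2.1) (ok2_cw e4 _ oks.2.2.2), em_cw, em_cw, em_cw, em_cw]
  rfl

def idx16 (e1 e2 e3 e4 : Bool) : ℕ := 8 * e1.toNat + 4 * e2.toNat + 2 * e3.toNat + e4.toNat

theorem etab_check : ∀ e1 e2 e3 e4 : Bool, (e1 || e2 || e3 || e4) = true →
    ok2 (EtabL.getD (idx16 e1 e2 e3 e4) []) = true ∧
    weq (EtabL.getD (idx16 e1 e2 e3 e4) [] ++ [9])
      (word4 e1 e2 e3 e4 ++ EtabL.getD (idx16 e1 e2 e3 e4) []) = true := by
  decide +kernel

def E : Subgroup G2 := Subgroup.closure {A1, A2, A3, A4}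

theorem mem_E (e : G2) (he : e ∈ E) : ∃ e1 e2 e3 e4 : Bool,
    e = cond e1 A1 1 * (cond e2 A2 1 * (cond e3 A3 1 * cond e4 A4 1)) :=
  StemRank.mem_closure_four A1 A2 A3 A4 A1_sq A2_sq A3_sq A4_sq
    A1_A2 A1_A3 A1_A4 A2_A3 A2_A4 A3_A4 e he

theorem conjE : ∀ e ∈ E, e ≠ 1 → ∃ g : G2, g * A1 * g⁻¹ = e := by
  intro e he hne
  obtain ⟨e1, e2, e3, e4, rfl⟩ := mem_E e he
  by_cases hb : (e1 || e2 || e3 || e4) = true
  · obtain ⟨h1, h2⟩ := etab_check e1 e2 e3 e4 hb
    refine ⟨em (EtabL.getD (idx16 e1 e2 e3 e4) []), ?_⟩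
    have := conj_of_check _ [9] _ h1 oks.1 (ok2_word4 e1 e2 e3 e4) h2
    rw [em_word4] at this
    exact this
  · exfalso
    apply hne
    simp only [Bool.or_eq_true, not_or, Bool.not_eq_true] at hb
    obtain ⟨⟨⟨r1, r2⟩, r3⟩, r4⟩ := hb
    subst r1 r2 r3 r4
    simp

theorem expE : ∀ e ∈ E, e * e = 1 := by
  intro e he
  obtain ⟨e1, e2, e3, e4, rfl⟩ := mem_E e he
  have key : ∀ e1 e2 e3 e4 : Bool, weq (word4 e1 e2 e3 e4 ++ word4 e1 e2 e3 e4) [] = true := by
    decide +kernel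
  rw [← em_word4]
  exact sq_of_weq _ (ok2_word4 e1 e2 e3 e4) (key e1 e2 e3 e4)

theorem ne_checks : weq [9] [] = false ∧ weq [10] [] = false ∧ weq [11] [] = false ∧
    weq ([9] ++ [10]) [] = false ∧ weq ([9] ++ [11]) [] = false ∧
    weq ([10] ++ [11]) [] = false ∧ weq ([9] ++ ([10] ++ [11])) [] = false := by decide +kernel

theorem i1 : A1 ≠ 1 := em_ne_one [9] oks.1 ne_checks.1
theorem i2 : A2 ≠ 1 := em_ne_one [10] oks.2.1 ne_checks.2.1
theorem i3 : A3 ≠ 1 := em_ne_one [11] oks.2.2.1 ne_checks.2.2.1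
theorem i12 : A1 * A2 ≠ 1 := by
  unfold A1 A2
  rw [← em_append _ _ oks.1 oks.2.1]
  exact em_ne_one _ (ok2_append _ _ oks.1 oks.2.1) ne_checks.2.2.2.1
theorem i13 : A1 * A3 ≠ 1 := by
  unfold A1 A3
  rw [← em_append _ _ oks.1 oks.2.2.1]
  exact em_ne_one _ (ok2_append _ _ oks.1 oks.2.2.1) ne_checks.2.2.2.2.1
theorem i23 : A2 * A3 ≠ 1 := by
  unfold A2 A3
  rw [← em_append _ _ oks.2.1 oks.2.2.1]
  exact em_ne_one _ (ok2_append _ _ oks.2.1 oks.2.2.1) ne_checks.2.2.2.2.2.1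
theorem i123 : A1 * (A2 * A3) ≠ 1 := by
  unfold A1 A2 A3
  rw [← em_append _ _ oks.2.1 oks.2.2.1,
    ← em_append _ _ oks.1 (ok2_append _ _ oks.2.1 oks.2.2.1)]
  exact em_ne_one _ (ok2_append _ _ oks.1 (ok2_append _ _ oks.2.1 oks.2.2.1)) ne_checks.2.2.2.2.2.2

theorem A_mem : A1 ∈ E ∧ A2 ∈ E ∧ A3 ∈ E ∧ A4 ∈ E := by
  refine ⟨?_, ?_, ?_, ?_⟩ <;> exact Subgroup.subset_closure (by simp)

/-! ### The pair -/

/-- the first element of the pair -/
def AA : G2 := D.node xg iA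
/-- the second element of the pair -/
def BB : G2 := D.node xg iB

end Cfsg.Agent.Helper29.M22Two
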