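import Mathlib
import Cfsg.Agent.Lib.Helper29.M22Two

set_option autoImplicit false
open Cfsg

/-! The two-part of the Schur multiplier of `M₂₂`: the main statement. -/

namespace Cfsg.Agent.Helper29.M22Two

open Cfsg.Agent.Helper27 Cfsg.Agent.Helper29 Cfsg.Agent.Helper29.M24
open Cfsg.Agent.Helper29.FusCert Cfsg.Agent.Helper29.Syl2 Cfsg.Agent.Helper29.FusPt
open Cfsg.Agent.Helper29.FusM22 (Q22 gt qt QL ctx coreN)
open Cfsg.Agent.Helper29.StemSylow Cfsg.Agent.Helper29.StemSplit
open Cfsg.Agent.Helper29.SchurM11 (weq evalW_eq_of_weq evalW_eq_of_eqC)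
open Cfsg.Agent.Helper29.M22TwoData
open Cfsg.Agent.Helper29.DedCheck
open scoped Pointwise commutatorElement

universe u

/-- variant of the local criterion: only the primes dividing the order of the kernel matter -/
theorem ker_eq_bot_of_local' {Γ : Type*} [Group Γ] {G : Type*} [Group G] [Finite Γ]
    (σ : Γ →* G) (hs : Function.Surjective σ)
    (hK : σ.ker ≤ Subgroup.center Γ) (hK' : σ.ker ≤ commutator Γ)
    (h : ∀ p : ℕ, p.Prime → p ∣ Nat.card σ.ker → ∃ Q : Subgroup G, ¬ p ∣ Q.index ∧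
      ∀ k ∈ ⁅Q.comap σ, Q.comap σ⁆, k ∈ σ.ker → k = 1) : σ.ker = ⊥ := by
  by_contra hne
  have hcard : Nat.card σ.ker ≠ 1 := by
    intro h1
    exact hne (Subgroup.card_eq_one.mp h1)
  obtain ⟨p, hp, hpd⟩ := Nat.exists_prime_and_dvd hcard
  have : Fact p.Prime := ⟨hp⟩
  obtain ⟨k, hk⟩ := exists_prime_orderOf_dvd_card' p hpd
  obtain ⟨Q, hQ, hQ2⟩ := h p hp hpd
  have hidx : (Q.comap σ).index = Q.index := Subgroup.index_comap_of_surjective Q hs
  have hkH : (k : Γ) ∈ Q.comap σ := by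
    rw [Subgroup.mem_comap, (MonoidHom.mem_ker).1 k.2]
    exact Q.one_mem
  have h1 := pow_index_mem_comm (Q.comap σ) (hK k.2) (hK' k.2) (Subgroup.pow_mem _ hkH _)
  have h2 := hQ2 _ h1 (Subgroup.pow_mem _ k.2 _)
  have h3 : orderOf (k : Γ) ∣ (Q.comap σ).index := orderOf_dvd_of_pow_eq_one h2
  rw [Subgroup.orderOf_coe, hk, hidx] at h3
  exact hQ h3

theorem flat_prod {M : Type*} [Monoid M] (f : ℕ → M) (w : List ℕ) (k : ℕ) :
    ((flat w k).map f).prod = ((w.map f).prod) ^ k := by
  induction k with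
  | zero => simp [flat]
  | succ k ih => rw [flat, List.map_append, List.prod_append, ih, pow_succ']

theorem flat_lt (w : List ℕ) (m : ℕ) (hw : ∀ y ∈ w, y < m) (k : ℕ) : ∀ y ∈ flat w k, y < m := by
  induction k with
  | zero => intro y hy; simp [flat] at hy
  | succ k ih =>
    intro y hy
    rw [flat, List.mem_append] at hy
    rcases hy with hy | hy
    · exact hw y hy
    · exact ih y hy

theorem pcol_lt : ∀ i < 128, D.pcol i < 6 := by decide +kernel

theorem xg_ge (c : ℕ) (hc : 6 ≤ c) : xg c = 1 := by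
  unfold xg XW
  rw [List.getD_eq_default _ _ (by simpa [XWL] using hc)]
  exact em_nil

theorem AA_eq : AA = ([2, 1, 3, 1].map xg).prod := by
  have h := (D.prod_mul_node xg tabM [2, 1, 3, 1] (by decide) 0 (by decide)).2
  rw [D.node_zero, mul_one] at h
  rw [h]
  rfl

theorem BB_eq : BB = ([0].map xg).prod := by
  have h := (D.prod_mul_node xg tabM [0] (by decide) 0 (by decide)).2
  rw [D.node_zero, mul_one] at h
  rw [h]
  rfl

/-- **The two-part.**  In a stem extension with kernel of order two the lifts of the pair do not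
commute. -/
theorem core_two {Γ : Type u} [Group Γ] [Finite Γ] (σ : Γ →* G2)
    (hσ : Cfsg.IsStemExtension σ) (hcard : Nat.card σ.ker = 2) (a b : Γ) (ha : σ a = AA)
    (hb : σ b = BB) (hab : a * b = b * a) : False := by
  obtain ⟨hs, hK, hK'⟩ := hσ
  have hexp : ∀ k ∈ σ.ker, k * k = 1 := by
    intro k hk
    have h1 : (⟨k, hk⟩ : σ.ker) ^ Nat.card σ.ker = 1 := pow_card_eq_one'
    rw [hcard] at h1
    have h2 := congrArg Subtype.val h1
    simpa [pow_two] using h2
  have LE := StemRank.lift_elementary σ hs hK hexp E expE A1 A_mem.1 conjE A1 A2 A3 A_mem.1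
    A_mem.2.1 A_mem.2.2.1 i1 i2 i3 i12 i13 i23 i123
  -- involutions lift to involutions
  have H1 : ∀ γ : Γ, ((σ γ : G2) : Equiv.Perm GolayPt) ∈ Q22 → σ γ * σ γ = 1 → γ * γ = 1 := by
    intro γ hQ hsq
    obtain ⟨i, hi, e⟩ := exists_node (σ γ) hQ
    by_cases h0 : i = 0
    · subst h0
      rw [D.node_zero] at e
      exact hexp γ ((MonoidHom.mem_ker).2 e)
    · have h1 : eqC (compF (NC i) (NC i)) cId = true := by
        apply eqC_of_evalW_eq _ _ (NW i ++ NW i) [] (repr_compF _ _ _ _ (nw_ok i hi).2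
          (nw_ok i hi).2) repr_cId
        rw [evalW_append, evalW_nil]
        have := congrArg Subtype.val hsq
        rw [e, node_eq i hi, Subgroup.coe_mul, em_val _ (nw_ok i hi).1] at this
        exact this
      obtain ⟨h2, h3⟩ := invol_ok i hi h0 h1
      have hc := conj_of_check (CW i) [9] (NW i) h2 oks.1 (nw_ok i hi).1 h3
      obtain ⟨g', hg'⟩ := hs (em (CW i))
      obtain ⟨u0, hu0⟩ := hs A1
      have hu := (LE u0 u0 (by rw [hu0]; exact A_mem.1) (by rw [hu0]; exact A_mem.1)).1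
      obtain ⟨κ, hκ, rfl⟩ := exists_ker_mul σ γ (g' * u0 * g'⁻¹) (by
        rw [map_mul, map_mul, map_inv, hg', hu0, e, node_eq i hi]
        exact hc.symm)
      have cκ := central_comm σ hK hκ
      calc g' * u0 * g'⁻¹ * κ * (g' * u0 * g'⁻¹ * κ)
          = g' * u0 * g'⁻¹ * (κ * (g' * u0 * g'⁻¹)) * κ := by group
        _ = g' * u0 * g'⁻¹ * ((g' * u0 * g'⁻¹) * κ) * κ := by rw [← cκ (g' * u0 * g'⁻¹)]
        _ = g' * (u0 * u0) * g'⁻¹ * (κ * κ) := by group
        _ = 1 := by rw [hu, hexp κ hκ]; group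
  -- lifts of the columns
  obtain ⟨e0, he0⟩ := hs (xg 0)
  obtain ⟨e1, he1⟩ := hs (xg 1)
  obtain ⟨e2, he2⟩ := hs (xg 2)
  obtain ⟨e, hedef⟩ : ∃ e : ℕ → Γ, e = fun c => if c = 0 then e0 else if c = 1 then e1 else
      if c = 2 then e2 else if c = 3 then e0⁻¹ else if c = 4 then e1⁻¹ else
      if c = 5 then e2⁻¹ else 1 := ⟨_, rfl⟩
  have hE0 : e 0 = e0 := by rw [hedef]; rfl
  have hE1 : e 1 = e1 := by rw [hedef]; rfl
  have hE2 : e 2 = e2 := by rw [hedef]; rfl
  have hE3 : e 3 = e0⁻¹ := by rw [hedef]; rfl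
  have hE4 : e 4 = e1⁻¹ := by rw [hedef]; rfl
  have hE5 : e 5 = e2⁻¹ := by rw [hedef]; rfl
  have hE6 : ∀ c, 6 ≤ c → e c = 1 := by
    intro c hc
    rw [hedef]
    simp only
    rw [if_neg (by omega), if_neg (by omega), if_neg (by omega), if_neg (by omega),
      if_neg (by omega), if_neg (by omega)]
  have hi0 : xg 3 = (xg 0)⁻¹ := xg_inv 0 (by norm_num)
  have hi1 : xg 4 = (xg 1)⁻¹ := xg_inv 1 (by norm_num)
  have hi2 : xg 5 = (xg 2)⁻¹ := xg_inv 2 (by norm_num)
  have hσe : ∀ c, σ (e c) = xg c := by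
    intro c
    by_cases hc : c < 6
    · interval_cases c
      · rw [hE0, he0]
      · rw [hE1, he1]
      · rw [hE2, he2]
      · rw [hE3, map_inv, he0, hi0]
      · rw [hE4, map_inv, he1, hi1]
      · rw [hE5, map_inv, he2, hi2]
    · rw [hE6 c (by omega), map_one, xg_ge c (by omega)]
  have hfun : (fun c => σ (e c)) = xg := funext hσe
  have hinv : ∀ c < D.k, e (D.inv c) = (e c)⁻¹ := by
    intro c hc
    have hc' : c < 6 := hc
    interval_cases c
    · show e 3 = (e 0)⁻¹
      rw [hE3, hE0]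
    · show e 4 = (e 1)⁻¹
      rw [hE4, hE1]
    · show e 5 = (e 2)⁻¹
      rw [hE5, hE2]
    · show e 0 = (e 3)⁻¹
      rw [hE3, hE0, inv_inv]
    · show e 1 = (e 4)⁻¹
      rw [hE4, hE1, inv_inv]
    · show e 2 = (e 5)⁻¹
      rw [hE5, hE2, inv_inv]
  have hprodσ : ∀ w : List ℕ, σ ((w.map e).prod) = (w.map xg).prod := by
    intro w
    rw [map_list_prod, List.map_map, ← hfun]
    rfl
  have hprodQ : ∀ w : List ℕ, (∀ y ∈ w, y < 6) →
      ((σ ((w.map e).prod) : G2) : Equiv.Perm GolayPt) ∈ Q22 := by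
    intro w hw
    rw [hprodσ w]
    have : (w.map xg).prod ∈ Q22.subgroupOf Cfsg.Spor.M22 := by
      apply Subgroup.list_prod_mem
      intro x hx
      obtain ⟨y, hy, rfl⟩ := List.mem_map.1 hx
      exact Subgroup.mem_subgroupOf.2 (xg_mem_Q y (hw y hy))
    exact Subgroup.mem_subgroupOf.1 this
  -- the commutator relator
  have hcomm : (comm.map e).prod = 1 := by
    have h1 : (comm.map e).prod = ⁅([2, 1, 3, 1].map e).prod, ([0].map e).prod⁆ := by
      show ([2, 1, 3, 1, 0, 4, 0, 4, 5, 3].map e).prod = _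
      simp only [List.map_cons, List.map_nil, List.prod_cons, List.prod_nil, hE0, hE1, hE2, hE3,
        hE4, hE5, commutatorElement_def]
      group
    rw [h1]
    obtain ⟨κ, hκ, e1'⟩ := exists_ker_mul σ (([2, 1, 3, 1].map e).prod) a (by
      rw [hprodσ, ha, AA_eq])
    obtain ⟨μ, hμ, e2'⟩ := exists_ker_mul σ (([0].map e).prod) b (by
      rw [hprodσ, hb, BB_eq])
    rw [e1', e2', comm_strip_left _ _ _ (central_comm σ hK hκ _).symm,
      comm_strip_right _ _ _ (central_comm σ hK hμ _).symm, commutatorElement_eq_one_iff_mul_comm]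
    exact hab
  have hrel : ∀ r ∈ rels, (r.map e).prod = 1 := by
    intro r hr
    unfold rels at hr
    rcases List.mem_append.1 hr with hr | hr
    · obtain ⟨p, hp, rfl⟩ := List.mem_map.1 hr
      obtain ⟨hw0, hlt⟩ := pows_ok p hp
      rw [flat_prod]
      have hm : ((flat p.1 (2 * p.2)).map xg).prod = 1 :=
        D.prod_eq_one_of_walk xg tabM (by decide) _ (flat_lt _ 6 hlt _) hw0
      have h1 : σ ((p.1.map e).prod ^ p.2) * σ ((p.1.map e).prod ^ p.2) = 1 := by
        rw [← map_mul, ← pow_add, ← two_mul, map_pow, hprodσ, ← flat_prod xg, hm]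
      have h2 : ((σ ((p.1.map e).prod ^ p.2) : G2) : Equiv.Perm GolayPt) ∈ Q22 := by
        rw [map_pow, Subgroup.coe_pow]
        exact Q22.pow_mem (hprodQ _ hlt) _
      have h3 := H1 _ h2 h1
      rw [two_mul, pow_add]
      exact h3
    · obtain ⟨p, hp, rfl⟩ := List.mem_map.1 hr
      have hc := csplit_ok p hp
      have h1 := hcomm
      rw [← hc, List.map_append, List.prod_append] at h1
      rw [List.map_append, List.prod_append]
      exact mul_eq_one_comm.1 h1
  have hinvk : ∀ c < D.k, D.inv c < D.k := by decide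
  have htab := D.table_of_check e rels dlog check_ok hinv hrel rels_k
  have hsub := D.closure_sub e (by decide) hinvk hinv htab
  have hnodeσ : ∀ i, σ (D.node e i) = D.node xg i := by
    intro i
    rw [D.map_node σ e i, hfun]
  have hbot : σ.ker = ⊥ := by
    apply ker_eq_bot_of_local' σ hs hK hK'
    intro p hp hpd
    rw [hcard] at hpd
    have hp2 : p = 2 := (Nat.prime_dvd_prime_iff_eq hp Nat.prime_two).1 hpd
    subst hp2
    have : Fact (Nat.Prime 2) := ⟨Nat.prime_two⟩
    have : Finite ↥Cfsg.Spor.M22 := Nat.finite_of_card_ne_zero (by rw [card_M22]; norm_num)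
    obtain ⟨S, hS⟩ := sylow2
    refine ⟨Q22.subgroupOf Cfsg.Spor.M22, ?_, ?_⟩
    · rw [← hS]
      exact S.not_dvd_index
    · intro k hk hkK
      obtain ⟨Γ0, hΓ0⟩ : ∃ Γ0 : Subgroup Γ,
          Γ0 = Subgroup.closure {g : Γ | ∃ c < D.k, g = e c} := ⟨_, rfl⟩
      have hnode : ∀ i, i < 128 → D.node e i ∈ Γ0 := by
        intro i
        induction i using Nat.strong_induction_on with
        | _ i ih =>
          intro hi
          by_cases h : 0 < i ∧ D.par i < i
          · rw [D.node_of_lt e h.1 h.2]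
            refine Γ0.mul_mem ?_ (ih _ h.2 (by omega))
            rw [hΓ0]
            exact Subgroup.subset_closure ⟨D.pcol i, pcol_lt i hi, rfl⟩
          · rw [Tab.node, dif_neg h]
            exact Γ0.one_mem
      have hle : ⁅(Q22.subgroupOf Cfsg.Spor.M22).comap σ,
          (Q22.subgroupOf Cfsg.Spor.M22).comap σ⁆ ≤ Γ0 := by
        rw [Subgroup.commutator_le]
        intro g1 hg1 g2 hg2
        obtain ⟨i1, hi1, e1'⟩ := exists_node (σ g1)
          (Subgroup.mem_subgroupOf.1 (Subgroup.mem_comap.1 hg1))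
        obtain ⟨i2, hi2, e2'⟩ := exists_node (σ g2)
          (Subgroup.mem_subgroupOf.1 (Subgroup.mem_comap.1 hg2))
        obtain ⟨κ1, hκ1, rfl⟩ := exists_ker_mul σ g1 (D.node e i1) (by rw [hnodeσ, e1'])
        obtain ⟨κ2, hκ2, rfl⟩ := exists_ker_mul σ g2 (D.node e i2) (by rw [hnodeσ, e2'])
        rw [comm_strip_left _ _ _ (central_comm σ hK hκ1 _).symm,
          comm_strip_right _ _ _ (central_comm σ hK hκ2 _).symm, commutatorElement_def]
        exact Γ0.mul_mem (Γ0.mul_mem (Γ0.mul_mem (hnode i1 hi1) (hnode i2 hi2))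
          (Γ0.inv_mem (hnode i1 hi1))) (Γ0.inv_mem (hnode i2 hi2))
      have hk0 : k ∈ Γ0 := hle hk
      rw [hΓ0] at hk0
      obtain ⟨i, hi, rfl⟩ := hsub k hk0
      have h1 : D.node xg i = 1 := by
        rw [← hnodeσ]
        exact (MonoidHom.mem_ker).1 hkK
      by_cases h0 : i = 0
      · subst h0
        exact D.node_zero e
      · exact absurd h1 (node_ne_one i hi h0)
  rw [hbot, Subgroup.card_bot] at hcard
  exact absurd hcard (by norm_num)

end Cfsg.Agent.Helper29.M22Two
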