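import Mathlib
import Cfsg.Agent.Lib.Helper29.M22TwoMain
import Cfsg.Agent.Lib.Helper29.StemOdd
import Cfsg.Agent.Lib.Helper25.StemPrimeQ
import Cfsg.Agent.Lib.Helper25.SurjZMod12

set_option autoImplicit false
open Cfsg

/-! The kernel of a finite stem extension of `M₂₂` is cyclic of order dividing twelve. -/

namespace Cfsg.Agent.Helper29.M22Two

open Cfsg.Agent.Helper27 Cfsg.Agent.Helper29 Cfsg.Agent.Helper29.M24
open Cfsg.Agent.Helper29.FusCert Cfsg.Agent.Helper29.Syl2 Cfsg.Agent.Helper29.FusPt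
open Cfsg.Agent.Helper29.FusM22 (Q22 gt qt QL ctx coreN)
open Cfsg.Agent.Helper29.StemSylow Cfsg.Agent.Helper29.StemSplit
open Cfsg.Agent.Helper29.SchurM11 (weq evalW_eq_of_weq evalW_eq_of_eqC)
open Cfsg.Agent.Helper29.M22TwoData
open Cfsg.Agent.Helper29.DedCheck
open scoped Pointwise commutatorElement

universe u

instance finite_M22 : Finite ↥Cfsg.Spor.M22 :=
  Nat.finite_of_card_ne_zero (by rw [card_M22]; norm_num)

/-! ### The prime three -/

def X3 : G2 := em W3x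
def Y3 : G2 := em W3y

theorem ok3s : ok2 W3x = true ∧ ok2 W3y = true := by decide

theorem three_checks : weq (W3x ++ (W3x ++ W3x)) [] = true ∧ weq (W3y ++ (W3y ++ W3y)) [] = true ∧
    weq (W3x ++ W3y) (W3y ++ W3x) = true ∧ weq W3x [] = false ∧ weq W3y [] = false ∧
    weq W3y W3x = false ∧ weq W3y (W3x ++ W3x) = false := by decide +kernel

theorem X3_cube : X3 ^ 3 = 1 := by
  have h := em_eq_of_weq _ [] (ok2_append _ _ ok3s.1 (ok2_append _ _ ok3s.1 ok3s.1)) (by decide)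
    three_checks.1
  rw [em_append _ _ ok3s.1 (ok2_append _ _ ok3s.1 ok3s.1), em_append _ _ ok3s.1 ok3s.1,
    em_nil] at h
  rw [pow_succ, pow_two, mul_assoc]
  exact h

theorem Y3_cube : Y3 ^ 3 = 1 := by
  have h := em_eq_of_weq _ [] (ok2_append _ _ ok3s.2 (ok2_append _ _ ok3s.2 ok3s.2)) (by decide)
    three_checks.2.1
  rw [em_append _ _ ok3s.2 (ok2_append _ _ ok3s.2 ok3s.2), em_append _ _ ok3s.2 ok3s.2,
    em_nil] at h
  rw [pow_succ, pow_two, mul_assoc]
  exact h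

theorem X3_Y3 : Commute X3 Y3 := comm_of_weq W3x W3y ok3s.1 ok3s.2 three_checks.2.2.1

theorem ne_of_weq (W V : List ℕ) (h1 : ok2 W = true) (h2 : ok2 V = true) (h : weq W V = false) :
    em W ≠ em V := by
  intro e
  have e' : evalW W = evalW V := by
    rw [← em_val W h1, ← em_val V h2, e]
  have := Cfsg.Agent.Helper29.M21Uni.weq_of_evalW_eq W V (letters_of_ok2 W h1)
    (letters_of_ok2 V h2) e'
  rw [this] at h
  exact Bool.noConfusion h

theorem X3_ne : X3 ≠ 1 := em_ne_one W3x ok3s.1 three_checks.2.2.2.1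
theorem Y3_ne : Y3 ≠ 1 := em_ne_one W3y ok3s.2 three_checks.2.2.2.2.1
theorem Y3_ne_X3 : Y3 ≠ X3 := ne_of_weq W3y W3x ok3s.2 ok3s.1 three_checks.2.2.2.2.2.1
theorem Y3_ne_X3sq : Y3 ≠ X3 ^ 2 := by
  rw [pow_two]
  unfold X3
  rw [← em_append _ _ ok3s.1 ok3s.1]
  exact ne_of_weq W3y (W3x ++ W3x) ok3s.2 (ok2_append _ _ ok3s.1 ok3s.1) three_checks.2.2.2.2.2.2

theorem local3 {Γ : Type*} [Group Γ] (σ : Γ →* G2) (hK : σ.ker ≤ Subgroup.center Γ)
    (x y : Γ) (hx : σ x = X3) (hy : σ y = Y3) (hxy : x * y = y * x) :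
    ∃ P : Subgroup G2, ¬ 3 ∣ P.index ∧
      ∀ k ∈ ⁅P.comap σ, P.comap σ⁆, k ∈ σ.ker → k = 1 := by
  refine ⟨pairSubgroup X3 Y3 X3_Y3, ?_, ?_⟩
  · apply not_dvd_index_pair X3 Y3 X3_Y3 X3_cube Y3_cube X3_ne Y3_ne Y3_ne_X3 Y3_ne_X3sq
    rw [card_M22]
    norm_num
  · have hle : ⁅(pairSubgroup X3 Y3 X3_Y3).comap σ, (pairSubgroup X3 Y3 X3_Y3).comap σ⁆ ≤ ⊥ := by
      rw [Subgroup.commutator_le]
      intro g1 hg1 g2 hg2
      obtain ⟨i1, j1, e1⟩ := (mem_pairSubgroup X3 Y3 X3_Y3 _).1 (Subgroup.mem_comap.1 hg1)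
      obtain ⟨i2, j2, e2⟩ := (mem_pairSubgroup X3 Y3 X3_Y3 _).1 (Subgroup.mem_comap.1 hg2)
      obtain ⟨κ1, hκ1, rfl⟩ := exists_ker_mul σ g1 (x ^ i1 * y ^ j1) (by
        rw [e1, map_mul, map_zpow, map_zpow, hx, hy])
      obtain ⟨κ2, hκ2, rfl⟩ := exists_ker_mul σ g2 (x ^ i2 * y ^ j2) (by
        rw [e2, map_mul, map_zpow, map_zpow, hx, hy])
      rw [comm_strip_left _ _ _ (central_comm σ hK hκ1 _).symm,
        comm_strip_right _ _ _ (central_comm σ hK hκ2 _).symm, Subgroup.mem_bot,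
        commutatorElement_eq_one_iff_mul_comm]
      have hc : Commute x y := hxy
      have h1 : Commute (x ^ i1 * y ^ j1) (x ^ i2 * y ^ j2) := by
        apply Commute.mul_left
        · exact ((Commute.refl x).zpow_zpow i1 i2).mul_right (hc.zpow_zpow i1 j2)
        · exact ((hc.symm).zpow_zpow j1 i2).mul_right ((Commute.refl y).zpow_zpow j1 j2)
      exact h1.eq
    intro k hk _
    exact Subgroup.mem_bot.1 (hle hk)

/-! ### The other primes -/

theorem not_sq_dvd (p : ℕ) (hp : p.Prime) (h2 : p ≠ 2) (h3 : p ≠ 3) :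
    ¬ p ^ 2 ∣ 443520 := by
  intro h
  have h5 : p ∣ 443520 := dvd_trans (dvd_pow_self p (by norm_num)) h
  have hfac : (443520 : ℕ) = 2 ^ 7 * 3 ^ 2 * 5 * 7 * 11 := by norm_num
  have hcases : p = 5 ∨ p = 7 ∨ p = 11 := by
    rw [hfac] at h5
    rcases (Nat.Prime.dvd_mul hp).1 h5 with h5 | h5
    · rcases (Nat.Prime.dvd_mul hp).1 h5 with h5 | h5
      · rcases (Nat.Prime.dvd_mul hp).1 h5 with h5 | h5
        · rcases (Nat.Prime.dvd_mul hp).1 h5 with h5 | h5
          · exact absurd ((Nat.prime_dvd_prime_iff_eq hp Nat.prime_two).1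
              (hp.dvd_of_dvd_pow h5)) h2
          · exact absurd ((Nat.prime_dvd_prime_iff_eq hp Nat.prime_three).1
              (hp.dvd_of_dvd_pow h5)) h3
        · left; exact (Nat.prime_dvd_prime_iff_eq hp (by norm_num)).1 h5
      · right; left; exact (Nat.prime_dvd_prime_iff_eq hp (by norm_num)).1 h5
    · right; right; exact (Nat.prime_dvd_prime_iff_eq hp (by norm_num)).1 h5
  have e5 : ¬ (5 : ℕ) ^ 2 ∣ 443520 := by norm_num
  have e7 : ¬ (7 : ℕ) ^ 2 ∣ 443520 := by norm_num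
  have e11 : ¬ (11 : ℕ) ^ 2 ∣ 443520 := by norm_num
  rcases hcases with h' | h' | h'
  · rw [h'] at h; exact e5 h
  · rw [h'] at h; exact e7 h
  · rw [h'] at h; exact e11 h

/-- no stem extension with kernel of prime order has commuting lifts of both pairs -/
theorem prime_contra {Γ : Type u} [Group Γ] [Finite Γ] (σ : Γ →* G2)
    (hσ : Cfsg.IsStemExtension σ) (hp : (Nat.card σ.ker).Prime) (a b x y : Γ)
    (ha : σ a = AA) (hb : σ b = BB) (hx : σ x = X3) (hy : σ y = Y3)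
    (hab : a * b = b * a) (hxy : x * y = y * x) : False := by
  by_cases h2 : Nat.card σ.ker = 2
  · exact core_two σ hσ h2 a b ha hb hab
  · obtain ⟨hs, hK, hK'⟩ := hσ
    have hbot : σ.ker = ⊥ := by
      apply ker_eq_bot_of_local' σ hs hK hK'
      intro p hpp hpd
      have hpe : p = Nat.card σ.ker := (Nat.prime_dvd_prime_iff_eq hpp hp).1 hpd
      by_cases h3 : p = 3
      · subst h3
        exact local3 σ hK x y hx hy hxy
      · apply local_of_not_sq_dvd σ hs hK p hpp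
        rw [card_M22]
        exact not_sq_dvd p hpp (by rw [hpe]; exact h2) h3
    rw [hbot, Subgroup.card_bot] at hp
    exact Nat.not_prime_one hp

/-! ### The upper bound -/

theorem AA_pow : AA ^ 4 = 1 := by
  rw [AA_eq, ← flat_prod xg]
  exact D.prod_eq_one_of_walk xg tabM (by decide) _ (by decide) (by decide +kernel)

theorem AA_BB : AA * BB = BB * AA := by
  have h : ([2, 1, 3, 1, 0].map xg).prod = ([0, 2, 1, 3, 1].map xg).prod := by
    have h1 := (D.prod_mul_node xg tabM [2, 1, 3, 1, 0] (by decide) 0 (by decide)).2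
    have h2 := (D.prod_mul_node xg tabM [0, 2, 1, 3, 1] (by decide) 0 (by decide)).2
    rw [D.node_zero, mul_one] at h1 h2
    rw [h1, h2]
    have : D.walkT [2, 1, 3, 1, 0] 0 = D.walkT [0, 2, 1, 3, 1] 0 := by decide +kernel
    rw [this]
  rw [AA_eq, BB_eq]
  simpa [List.map, List.prod_cons, mul_assoc] using h

/-- **The upper bound.**  The kernel of a finite stem extension of `M₂₂` is a quotient of the
cyclic group of order twelve. -/
theorem upper {Γ : Type u} [Group Γ] [Finite Γ] (σ : Γ →* G2)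
    (hσ : Cfsg.IsStemExtension σ) :
    ∃ π : Multiplicative (ZMod 12) →* σ.ker, Function.Surjective π := by
  obtain ⟨hs, hK, hK'⟩ := hσ
  obtain ⟨a, ha⟩ := hs AA
  obtain ⟨b, hb⟩ := hs BB
  obtain ⟨x, hx⟩ := hs X3
  obtain ⟨y, hy⟩ := hs Y3
  have hc2K : ⁅a, b⁆ ∈ σ.ker := by
    rw [MonoidHom.mem_ker, map_commutatorElement, ha, hb, commutatorElement_eq_one_iff_mul_comm]
    exact AA_BB
  have hc3K : ⁅x, y⁆ ∈ σ.ker := by
    rw [MonoidHom.mem_ker, map_commutatorElement, hx, hy, commutatorElement_eq_one_iff_mul_comm]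
    exact X3_Y3.eq
  have cc2 := central_comm σ hK hc2K
  have cc3 := central_comm σ hK hc3K
  have hN : Subgroup.closure {⁅a, b⁆, ⁅x, y⁆} ≤ σ.ker := by
    rw [Subgroup.closure_le]
    intro g hg
    rcases hg with rfl | rfl
    · exact hc2K
    · exact hc3K
  have hNeq : Subgroup.closure {⁅a, b⁆, ⁅x, y⁆} = σ.ker := by
    by_contra hne
    obtain ⟨Γ', _, _, σ', π, hσ', hp, hπ, hNπ⟩ :=
      Cfsg.Agent.Helper25.StemPrimeQ.exists_prime_stem_quotient σ ⟨hs, hK, hK'⟩ _ hN hne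
    have h1 : π a * π b = π b * π a := by
      rw [← commutatorElement_eq_one_iff_mul_comm, ← map_commutatorElement]
      exact (MonoidHom.mem_ker).1 (hNπ (Subgroup.subset_closure (by simp)))
    have h2 : π x * π y = π y * π x := by
      rw [← commutatorElement_eq_one_iff_mul_comm, ← map_commutatorElement]
      exact (MonoidHom.mem_ker).1 (hNπ (Subgroup.subset_closure (by simp)))
    exact prime_contra σ' hσ' hp (π a) (π b) (π x) (π y) (by rw [hπ, ha]) (by rw [hπ, hb])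
      (by rw [hπ, hx]) (by rw [hπ, hy]) h1 h2
  have ha4 : a ^ 4 ∈ σ.ker := by rw [MonoidHom.mem_ker, map_pow, ha]; exact AA_pow
  have hx3 : x ^ 3 ∈ σ.ker := by rw [MonoidHom.mem_ker, map_pow, hx]; exact X3_cube
  have p2 : ⁅a, b⁆ ^ 4 = 1 := by
    rw [← StemOdd.comm_pow_left_of_comm a b (cc2 a), commutatorElement_def,
      ← central_comm σ hK ha4 b]
    group
  have p3 : ⁅x, y⁆ ^ 3 = 1 := by
    rw [← StemOdd.comm_pow_left_of_comm x y (cc3 x), commutatorElement_def,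
      ← central_comm σ hK hx3 y]
    group
  apply Cfsg.Agent.Helper25.SurjZMod12.exists_surj_zmod12 (⟨⁅a, b⁆, hc2K⟩ : σ.ker)
    ⟨⁅x, y⁆, hc3K⟩
  · apply Subtype.ext
    rw [Subgroup.coe_pow]
    exact p2
  · apply Subtype.ext
    rw [Subgroup.coe_pow]
    exact p3
  · apply Subtype.ext
    rw [Subgroup.coe_mul, Subgroup.coe_mul]
    exact cc3 _
  · apply Subgroup.map_injective (Subgroup.subtype_injective σ.ker)
    rw [MonoidHom.map_closure, ← MonoidHom.range_eq_map, Subgroup.range_subtype, Set.image_pair]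
    exact hNeq

end Cfsg.Agent.Helper29.M22Two
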