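import Mathlib
import Cfsg.Agent.Lib.Helper29.M22CoverData
import Cfsg.Agent.Lib.Helper29.M22Upper

set_option autoImplicit false
open Cfsg

/-! The monomial models of the covering group of `M₂₂`: tables and checks. -/

namespace Cfsg.Agent.Helper29.M22Cover

open Cfsg.Agent.Helper27 Cfsg.Agent.Helper29 Cfsg.Agent.Helper29.M24
open Cfsg.Agent.Helper29.SchurM11 (weq evalW_eq_of_weq evalW_eq_of_eqC)
open Cfsg.Agent.Helper29.M22CoverData
open Cfsg.Agent.Helper29.M22Two (ok2)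

/-- entry `y` of a table packed with `b` bits per entry -/
def tg (T b y : ℕ) : ℕ := Nat.land (Nat.shiftRight T (b * y)) (2 ^ b - 1)

/-- evaluate the first argument before continuing -/
def force {β : Type} (x : ℕ) (k : ℕ → β) : β :=
  Nat.rec (motive := fun _ => β) (k 0) (fun y _ => k (Nat.succ y)) x

theorem force_eq {β : Type} (x : ℕ) (k : ℕ → β) : force x k = k x := by
  cases x <;> rfl

/-- bounded universal quantifier as a boolean -/
def allBelow (n : ℕ) (p : ℕ → Bool) : Bool :=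
  Nat.rec (motive := fun _ => Bool) true (fun k ih => p k && ih) n

theorem allBelow_iff (n : ℕ) (p : ℕ → Bool) : allBelow n p = true ↔ ∀ k < n, p k = true := by
  induction n with
  | zero => exact ⟨fun _ k hk => absurd hk (Nat.not_lt_zero k), fun _ => rfl⟩
  | succ n ih =>
    have e : allBelow (n + 1) p = (p n && allBelow n p) := rfl
    rw [e, Bool.and_eq_true, ih]
    constructor
    · rintro ⟨h1, h2⟩ k hk
      rcases Nat.lt_succ_iff_lt_or_eq.1 hk with h | h
      · exact h2 k h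
      · rw [h]; exact h1
    · intro h
      exact ⟨h n (Nat.lt_succ_self n), fun k hk => h k (Nat.lt_succ_of_lt hk)⟩

def P8 (i y : ℕ) : ℕ := tg (P8L.getD i 0) 10 y
def F8 (i y : ℕ) : ℕ := tg (F8L.getD i 0) 4 y
def Pi8 (i y : ℕ) : ℕ := tg (Pi8L.getD i 0) 10 y
def P3 (i y : ℕ) : ℕ := tg (P3L.getD i 0) 8 y
def F3 (i y : ℕ) : ℕ := tg (F3L.getD i 0) 2 y
def Pi3 (i y : ℕ) : ℕ := tg (Pi3L.getD i 0) 8 y
def mk8 (y : ℕ) : ℕ := tg MK8 24 y
def mk3 (y : ℕ) : ℕ := tg MK3 24 y
def ag8 (x y : ℕ) : ℕ := tg (rows8L.getD x 0) 4 y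
def ag3 (x y : ℕ) : ℕ := tg (rows3L.getD x 0) 2 y
def par8 (y : ℕ) : ℕ := tg par8P 10 y
def par3 (y : ℕ) : ℕ := tg par3P 8 y
def HWd (i : ℕ) : List ℕ := HWL.getD i []
def HC (i : ℕ) : ℕ := HCL.getD i 0

/-! ### Checks -/

set_option maxRecDepth 100000 in
theorem valid8 : ∀ i < 4, ∀ y < 616, P8 i y < 616 ∧ Pi8 i y < 616 ∧ Pi8 i (P8 i y) = y ∧
    P8 i (Pi8 i y) = y := by decide +kernel

set_option maxRecDepth 100000 in
theorem valid3 : ∀ i < 4, ∀ y < 231, P3 i y < 231 ∧ Pi3 i y < 231 ∧ Pi3 i (P3 i y) = y ∧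
    P3 i (Pi3 i y) = y := by decide +kernel

set_option maxRecDepth 100000 in
theorem fbound8 : ∀ i < 4, ∀ y < 616, F8 i y < 8 := by decide +kernel

set_option maxRecDepth 100000 in
theorem fbound3 : ∀ i < 4, ∀ y < 231, F3 i y < 3 := by decide +kernel

theorem hw_ok : ∀ i < 4, ok2 (HWd i) = true ∧ Repr (HC i) (HWd i) := by decide +kernel

set_option maxRecDepth 100000 in
theorem iota8 : ∀ i < 4, ∀ y < 616, imgP (HC i) (mk8 y) = mk8 (P8 i y) := by decide +kernel

set_option maxRecDepth 100000 in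
theorem iota3 : ∀ i < 4, ∀ y < 231, imgP (HC i) (mk3 y) = mk3 (P3 i y) := by decide +kernel

/-- the check of one row of the labelled relation -/
def rowOK8 (i x : ℕ) : Bool :=
  force (rows8L.getD x 0) fun r => force (rows8L.getD (P8 i x) 0) fun r' =>
    force (F8 i x) fun fx => allBelow 616 fun y => force (tg r 4 y) fun e =>
      Nat.beq e 0 || Nat.beq (tg r' 4 (P8 i y)) (((e - 1 + F8 i y + 8 - fx) % 8) + 1)

def rowOK3 (i x : ℕ) : Bool :=
  force (rows3L.getD x 0) fun r => force (rows3L.getD (P3 i x) 0) fun r' =>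
    force (F3 i x) fun fx => allBelow 231 fun y => force (tg r 2 y) fun e =>
      Nat.beq e 0 || Nat.beq (tg r' 2 (P3 i y)) (((e - 1 + F3 i y + 3 - fx) % 3) + 1)

set_option maxRecDepth 100000 in
theorem orb3 : ∀ i < 4, ∀ x < 231, rowOK3 i x = true := by decide +kernel

set_option maxRecDepth 100000 in
theorem tree8 : ∀ y < 616, y ≠ 0 → par8 y < y ∧
    ((1 ≤ ag8 (par8 y) y ∧ ag8 (par8 y) y ≤ 8) ∨ (1 ≤ ag8 y (par8 y) ∧ ag8 y (par8 y) ≤ 8)) := by
  decide +kernel

set_option maxRecDepth 100000 in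
theorem tree3 : ∀ y < 231, y ≠ 0 → par3 y < y ∧
    ((1 ≤ ag3 (par3 y) y ∧ ag3 (par3 y) y ≤ 3) ∨ (1 ≤ ag3 y (par3 y) ∧ ag3 y (par3 y) ≤ 3)) := by
  decide +kernel

set_option maxRecDepth 100000 in
theorem mkb8 : ∀ y < 616, mk8 y < 2 ^ 24 := by decide +kernel

set_option maxRecDepth 100000 in
theorem mkb3 : ∀ y < 231, mk3 y < 2 ^ 24 := by decide +kernel

set_option maxRecDepth 100000 in
theorem inj3' : ∀ x < 231, ∀ y < x, mk3 x ≠ mk3 y := by decide +kernel

set_option maxRecDepth 100000 in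
theorem inj8' : ∀ x < 616, ∀ y < x, mk8 x ≠ mk8 y := by decide +kernel

set_option maxRecDepth 100000 in
theorem orb8_0 : ∀ x < 616, rowOK8 0 x = true := by decide +kernel

set_option maxRecDepth 100000 in
theorem orb8_1 : ∀ x < 616, rowOK8 1 x = true := by decide +kernel

set_option maxRecDepth 100000 in
theorem orb8_2 : ∀ x < 616, rowOK8 2 x = true := by decide +kernel

set_option maxRecDepth 100000 in
theorem orb8_3 : ∀ x < 616, rowOK8 3 x = true := by decide +kernel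

theorem orb8 : ∀ i < 4, ∀ x < 616, rowOK8 i x = true := by
  intro i hi
  interval_cases i
  · exact orb8_0
  · exact orb8_1
  · exact orb8_2
  · exact orb8_3

theorem comm_ok : weq (HWd 0 ++ HWd 1) (HWd 1 ++ HWd 0) = true ∧
    weq (HWd 2 ++ HWd 3) (HWd 3 ++ HWd 2) = true ∧
    weq (HWd 0 ++ HWd 2) (HWd 2 ++ HWd 0) = false := by decide +kernel

theorem sw_lt : ∀ j < 11, ∀ i ∈ SWL.getD j [], i < 4 := by decide +kernel

theorem depth_ok : ∀ j < 13, 2 ≤ depthOf j → 2 ≤ j := by decide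

set_option maxRecDepth 100000 in
theorem sw_ok : ∀ j < 11, weq ((SWL.getD j []).flatMap HWd) [j + 2] = true := by decide +kernel

end Cfsg.Agent.Helper29.M22Cover
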