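import Mathlib
import Cfsg.Agent.Lib.Helper29.M22CoverChk
import Cfsg.Agent.Lib.Helper29.M24Mask
import Cfsg.Agent.Lib.Helper29.M24Simple
import Cfsg.Agent.Lib.Helper23.MonoInvA
import Cfsg.Agent.Lib.Helper23.MonoInvB
import Cfsg.Agent.Lib.Helper11.StemOfCentral
import Cfsg.Agent.Lib.Helper11.MulEquivZMod12

set_option autoImplicit false
open Cfsg

/-! A stem extension of `M₂₂` with kernel cyclic of order twelve, inside the product of two
monomial groups and `M₂₂`. -/

namespace Cfsg.Agent.Helper29.M22Cover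

open Cfsg.Agent.Helper27 Cfsg.Agent.Helper29 Cfsg.Agent.Helper29.M24
open Cfsg.Agent.Helper29.SchurM11 (weq evalW_eq_of_weq evalW_eq_of_eqC)
open Cfsg.Agent.Helper29.M22CoverData
open Cfsg.Agent.Helper29.M22Two (G2 em ok2 em_val em_append em_nil ok2_append comm_of_weq
  ne_of_weq M22_eq_grp2 finite_M22)
open Cfsg.Agent.Helper29.MonoInv
open scoped Pointwise commutatorElement

/-! ### The two models -/

abbrev Ω8 : Type := Pt 616 8
abbrev Ω3 : Type := Pt 231 3

instance : NeZero (616 : ℕ) := ⟨by norm_num⟩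
instance : NeZero (231 : ℕ) := ⟨by norm_num⟩

def D8 : Dat 8 (Finset GolayPt) := ⟨fun y => maskSet (mk8 y), fun x y J => ag8 x y = J.val + 1⟩
def D3 : Dat 3 (Finset GolayPt) := ⟨fun y => maskSet (mk3 y), fun x y J => ag3 x y = J.val + 1⟩

/-- the generators of the group -/
def hg (i : ℕ) : G2 := em (HWd i)

def q8 (i : ℕ) : Equiv.Perm Ω8 :=
  if h : i < 4 then mkPerm 616 8 (P8 i) (F8 i) (Pi8 i) (valid8 i h) else 1

def q3 (i : ℕ) : Equiv.Perm Ω3 :=
  if h : i < 4 then mkPerm 231 3 (P3 i) (F3 i) (Pi3 i) (valid3 i h) else 1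

theorem val_add_sub {m : ℕ} [NeZero m] (J : ZMod m) (a b : ℕ) (hb : b ≤ m) :
    (J + (a : ZMod m) - (b : ZMod m)).val = (J.val + a + m - b) % m := by
  have e : J + (a : ZMod m) - (b : ZMod m) = ((J.val + a + m - b : ℕ) : ZMod m) := by
    rw [Nat.cast_sub (by omega), Nat.cast_add, Nat.cast_add, ZMod.natCast_zmod_val,
      ZMod.natCast_self, add_zero]
  rw [e, ZMod.val_natCast]

theorem smul_maskSet (i : ℕ) (hi : i < 4) (mm : ℕ) :
    hg i • maskSet mm = maskSet (imgP (HC i) mm) := by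
  rw [Subgroup.smul_def]
  unfold hg
  rw [em_val _ (hw_ok i hi).1]
  exact maskSet_imgP (HC i) (HWd i) (hw_ok i hi).2.1 (hw_ok i hi).2.2 mm

theorem inv8_gen (i : ℕ) (hi : i < 4) : Inv D8 (q8 i) (hg i) := by
  unfold q8
  rw [dif_pos hi]
  apply inv_mkPerm D8 (P8 i) (F8 i) (Pi8 i) (valid8 i hi) (hg i)
  · intro y hy
    show maskSet (mk8 (P8 i y)) = hg i • maskSet (mk8 y)
    rw [smul_maskSet i hi, iota8 i hi y hy]
  · intro x hx y hy J hR
    show ag8 (P8 i x) (P8 i y) = (J + (F8 i y : ZMod 8) - (F8 i x : ZMod 8)).val + 1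
    have hR' : ag8 x y = J.val + 1 := hR
    have hrow := orb8 i hi x hx
    unfold rowOK8 at hrow
    rw [force_eq, force_eq, force_eq, allBelow_iff] at hrow
    have h1 := hrow y hy
    rw [force_eq, Bool.or_eq_true] at h1
    have hxy : tg (rows8L.getD x 0) 4 y = J.val + 1 := hR'
    rw [hxy] at h1
    rcases h1 with h1 | h1
    · exact absurd (Nat.eq_of_beq_eq_true h1) (Nat.succ_ne_zero _)
    · have h2 := Nat.eq_of_beq_eq_true h1
      rw [val_add_sub J _ _ (le_of_lt (fbound8 i hi x hx))]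
      rw [Nat.add_sub_cancel] at h2
      exact h2

theorem inv3_gen (i : ℕ) (hi : i < 4) : Inv D3 (q3 i) (hg i) := by
  unfold q3
  rw [dif_pos hi]
  apply inv_mkPerm D3 (P3 i) (F3 i) (Pi3 i) (valid3 i hi) (hg i)
  · intro y hy
    show maskSet (mk3 (P3 i y)) = hg i • maskSet (mk3 y)
    rw [smul_maskSet i hi, iota3 i hi y hy]
  · intro x hx y hy J hR
    show ag3 (P3 i x) (P3 i y) = (J + (F3 i y : ZMod 3) - (F3 i x : ZMod 3)).val + 1
    have hR' : ag3 x y = J.val + 1 := hR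
    have hrow := orb3 i hi x hx
    unfold rowOK3 at hrow
    rw [force_eq, force_eq, force_eq, allBelow_iff] at hrow
    have h1 := hrow y hy
    rw [force_eq, Bool.or_eq_true] at h1
    have hxy : tg (rows3L.getD x 0) 2 y = J.val + 1 := hR'
    rw [hxy] at h1
    rcases h1 with h1 | h1
    · exact absurd (Nat.eq_of_beq_eq_true h1) (Nat.succ_ne_zero _)
    · have h2 := Nat.eq_of_beq_eq_true h1
      rw [val_add_sub J _ _ (le_of_lt (fbound3 i hi x hx))]
      rw [Nat.add_sub_cancel] at h2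
      exact h2

/-! ### The group -/

abbrev Big : Type := Equiv.Perm Ω8 × Equiv.Perm Ω3 × G2

def gen (i : ℕ) : Big := (q8 i, q3 i, hg i)

def Gam : Subgroup Big := Subgroup.closure {g | ∃ i < 4, g = gen i}

def φ8 : Big →* Equiv.Perm Ω8 × G2 :=
  (MonoidHom.fst _ _).prod ((MonoidHom.snd _ _).comp (MonoidHom.snd _ _))

def φ3 : Big →* Equiv.Perm Ω3 × G2 :=
  ((MonoidHom.fst _ _).comp (MonoidHom.snd _ _)).prod
    ((MonoidHom.snd _ _).comp (MonoidHom.snd _ _))

theorem inv8_of_mem (γ : Big) (hγ : γ ∈ Gam) : Inv D8 γ.1 γ.2.2 := by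
  have hle : Gam ≤ (invSub 616 D8).comap φ8 := by
    unfold Gam
    rw [Subgroup.closure_le]
    rintro g ⟨i, hi, rfl⟩
    exact inv8_gen i hi
  exact hle hγ

theorem inv3_of_mem (γ : Big) (hγ : γ ∈ Gam) : Inv D3 γ.2.1 γ.2.2 := by
  have hle : Gam ≤ (invSub 231 D3).comap φ3 := by
    unfold Gam
    rw [Subgroup.closure_le]
    rintro g ⟨i, hi, rfl⟩
    exact inv3_gen i hi
  exact hle hγ

/-! ### Elements with trivial image are scalar -/

theorem mk8_inj : ∀ x < 616, ∀ y < 616, D8.ι x = D8.ι y → x = y := by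
  intro x hx y hy h
  have h1 : mk8 x = mk8 y := maskSet_inj (mkb8 x hx) (mkb8 y hy) h
  rcases Nat.lt_trichotomy x y with hlt | heq | hgt
  · exact absurd h1.symm (inj8' y hy x hlt)
  · exact heq
  · exact absurd h1 (inj8' x hx y hgt)

theorem mk3_inj : ∀ x < 231, ∀ y < 231, D3.ι x = D3.ι y → x = y := by
  intro x hx y hy h
  have h1 : mk3 x = mk3 y := maskSet_inj (mkb3 x hx) (mkb3 y hy) h
  rcases Nat.lt_trichotomy x y with hlt | heq | hgt
  · exact absurd h1.symm (inj3' y hy x hlt)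
  · exact heq
  · exact absurd h1 (inj3' x hx y hgt)

theorem exists_label {m : ℕ} [NeZero m] (e : ℕ) (h1 : 1 ≤ e) (h2 : e ≤ m) :
    ∃ J : ZMod m, e = J.val + 1 := by
  refine ⟨((e - 1 : ℕ) : ZMod m), ?_⟩
  rw [ZMod.val_natCast, Nat.mod_eq_of_lt (by omega)]
  omega

theorem scalar8 (γ : Big) (hγ : γ ∈ Gam) (h1 : γ.2.2 = 1) :
    ∃ c : ZMod 8, ∀ u, γ.1 u = (u.1, u.2 + c) := by
  have h := inv8_of_mem γ hγ
  rw [h1] at h
  apply scalar_of_inv D8 mk8_inj _ par8 _ γ.1 h
  · intro x y J J' hJ hJ'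
    have e1 : ag8 x y = J.val + 1 := hJ
    have e2 : ag8 x y = J'.val + 1 := hJ'
    apply ZMod.val_injective
    omega
  · intro y hy h0
    obtain ⟨hp, hq⟩ := tree8 y hy h0
    refine ⟨hp, ?_⟩
    rcases hq with ⟨a, b⟩ | ⟨a, b⟩
    · left
      exact exists_label _ a b
    · right
      exact exists_label _ a b

theorem scalar3 (γ : Big) (hγ : γ ∈ Gam) (h1 : γ.2.2 = 1) :
    ∃ c : ZMod 3, ∀ u, γ.2.1 u = (u.1, u.2 + c) := by
  have h := inv3_of_mem γ hγ
  rw [h1] at h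
  apply scalar_of_inv D3 mk3_inj _ par3 _ γ.2.1 h
  · intro x y J J' hJ hJ'
    have e1 : ag3 x y = J.val + 1 := hJ
    have e2 : ag3 x y = J'.val + 1 := hJ'
    apply ZMod.val_injective
    omega
  · intro y hy h0
    obtain ⟨hp, hq⟩ := tree3 y hy h0
    refine ⟨hp, ?_⟩
    rcases hq with ⟨a, b⟩ | ⟨a, b⟩
    · left
      exact exists_label _ a b
    · right
      exact exists_label _ a b

theorem shift_pow_apply (n m : ℕ) (k : ℕ) (u : Pt n m) :
    ((shift n m) ^ k) u = (u.1, u.2 + (k : ZMod m)) := by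
  induction k with
  | zero => simp
  | succ k ih =>
    rw [pow_succ', Equiv.Perm.mul_apply, ih]
    show (u.1, u.2 + (k : ZMod m) + 1) = _
    rw [Nat.cast_succ, add_assoc]

theorem eq_shift_pow {n m : ℕ} [NeZero m] (p : Equiv.Perm (Pt n m)) (c : ZMod m)
    (h : ∀ u, p u = (u.1, u.2 + c)) : p = (shift n m) ^ c.val := by
  ext u : 1
  rw [h u, shift_pow_apply, ZMod.natCast_zmod_val]

/-- elements of the group with trivial image commute with the whole group -/
theorem central_of_ker (k : Big) (hk : k ∈ Gam) (h1 : k.2.2 = 1) (γ : Big) (hγ : γ ∈ Gam) :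
    γ * k = k * γ := by
  obtain ⟨c8, h8⟩ := scalar8 k hk h1
  obtain ⟨c3, h3⟩ := scalar3 k hk h1
  have e8 := eq_shift_pow k.1 c8 h8
  have e3 := eq_shift_pow k.2.1 c3 h3
  have g8 : Commute γ.1 (shift 616 8) := comm_shift_of_inv D8 (inv8_of_mem γ hγ)
  have g3 : Commute γ.2.1 (shift 231 3) := comm_shift_of_inv D3 (inv3_of_mem γ hγ)
  apply Prod.ext
  · show γ.1 * k.1 = k.1 * γ.1
    rw [e8]
    exact (g8.pow_right _).eq
  · apply Prod.ext
    · show γ.2.1 * k.2.1 = k.2.1 * γ.2.1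
      rw [e3]
      exact (g3.pow_right _).eq
    · show γ.2.2 * k.2.2 = k.2.2 * γ.2.2
      rw [h1, mul_one, one_mul]

/-! ### The covering map -/

def sig : ↥Gam →* G2 := ((MonoidHom.snd _ _).comp (MonoidHom.snd _ _)).comp Gam.subtype

theorem sig_apply (γ : ↥Gam) : sig γ = (γ : Big).2.2 := rfl

theorem gen_mem (i : ℕ) (hi : i < 4) : gen i ∈ Gam := Subgroup.subset_closure ⟨i, hi, rfl⟩

theorem ker_central : sig.ker ≤ Subgroup.center ↥Gam := by
  intro k hk
  rw [Subgroup.mem_center_iff]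
  intro γ
  apply Subtype.ext
  rw [Subgroup.coe_mul, Subgroup.coe_mul]
  exact central_of_ker k.1 k.2 ((MonoidHom.mem_ker).1 hk) γ.1 γ.2

/-- the product of the generators along a word -/
theorem exists_prod (w : List ℕ) (hw : ∀ i ∈ w, i < 4) :
    ∃ γ : ↥Gam, ((sig γ : G2) : Equiv.Perm GolayPt) = evalW (w.flatMap HWd) := by
  induction w with
  | nil =>
    refine ⟨1, ?_⟩
    rw [map_one]
    rfl
  | cons i w ih =>
    obtain ⟨γ, hγ⟩ := ih (fun j hj => hw j (List.mem_cons_of_mem _ hj))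
    have hi := hw i List.mem_cons_self
    refine ⟨⟨gen i, gen_mem i hi⟩ * γ, ?_⟩
    rw [map_mul, Subgroup.coe_mul, hγ, List.flatMap_cons, evalW_append]
    congr 1
    show ((hg i : G2) : Equiv.Perm GolayPt) = evalW (HWd i)
    unfold hg
    exact em_val _ (hw_ok i hi).1

theorem sig_surj : Function.Surjective sig := by
  have hle : Subgroup.closure (Sset 2) ≤ sig.range.map (Subgroup.subtype Cfsg.Spor.M22) := by
    rw [Subgroup.closure_le]
    rintro s ⟨j, hj, hd, rfl⟩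
    have h2 : 2 ≤ j := depth_ok j hj hd
    obtain ⟨j', rfl⟩ : ∃ j', j = j' + 2 := ⟨j - 2, by omega⟩
    have hj' : j' < 11 := by
      have : j' + 2 < 13 := hj
      omega
    obtain ⟨γ, hγ⟩ := exists_prod (SWL.getD j' []) (sw_lt j' hj')
    refine ⟨sig γ, ⟨γ, rfl⟩, ?_⟩
    show ((sig γ : G2) : Equiv.Perm GolayPt) = gP (j' + 2)
    rw [hγ, evalW_eq_of_weq _ _ (sw_ok j' hj')]
    simp [evalW]
  intro g
  have hg : (g : Equiv.Perm GolayPt) ∈ Subgroup.closure (Sset 2) :=
    (SetLike.ext_iff.1 M22_eq_grp2 _).1 g.2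
  obtain ⟨r, ⟨γ, rfl⟩, hr⟩ := hle hg
  exact ⟨γ, Subtype.ext hr⟩

theorem simple_M22 : IsSimpleGroup ↥Cfsg.Spor.M22 := by
  rw [M22_eq_grp2]
  exact grp2_simple

theorem perfect_M22 : commutator G2 = ⊤ := by
  have := simple_M22
  have hn : (commutator G2).Normal := by
    rw [commutator_def]
    infer_instance
  rcases hn.eq_bot_or_eq_top with h | h
  · exfalso
    have hc : ⁅hg 0, hg 2⁆ ∈ commutator G2 :=
      Subgroup.commutator_mem_commutator (Subgroup.mem_top _) (Subgroup.mem_top _)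
    rw [h, Subgroup.mem_bot, commutatorElement_eq_one_iff_mul_comm] at hc
    unfold hg at hc
    rw [← em_append _ _ (hw_ok 0 (by norm_num)).1 (hw_ok 2 (by norm_num)).1,
      ← em_append _ _ (hw_ok 2 (by norm_num)).1 (hw_ok 0 (by norm_num)).1] at hc
    exact ne_of_weq _ _ (ok2_append _ _ (hw_ok 0 (by norm_num)).1 (hw_ok 2 (by norm_num)).1)
      (ok2_append _ _ (hw_ok 2 (by norm_num)).1 (hw_ok 0 (by norm_num)).1) comm_ok.2.2 hc
  · exact h

theorem stem : Cfsg.IsStemExtension (sig.comp (commutator ↥Gam).subtype) :=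
  Cfsg.Agent.Helper11.StemC.stem_of_central sig sig_surj ker_central perfect_M22

/-! ### An element of order twelve in the kernel -/

/-- the trace of a point along a word of generators and inverses -/
def trz (m : ℕ) (P F Pi : ℕ → ℕ → ℕ) : List (ℕ × Bool) → ℕ × ZMod m → ℕ × ZMod m
  | [], u => u
  | (i, true) :: w, u => (P i (trz m P F Pi w u).1,
      (trz m P F Pi w u).2 + (F i (trz m P F Pi w u).1 : ZMod m))
  | (i, false) :: w, u => (Pi i (trz m P F Pi w u).1,
      (trz m P F Pi w u).2 - (F i (Pi i (trz m P F Pi w u).1) : ZMod m))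

/-- the product of generators and inverses along a word -/
def wperm {X : Type*} [Group X] (q : ℕ → X) : List (ℕ × Bool) → X
  | [] => 1
  | (i, true) :: w => q i * wperm q w
  | (i, false) :: w => (q i)⁻¹ * wperm q w

theorem wperm_append {X : Type*} [Group X] (q : ℕ → X) (w v : List (ℕ × Bool)) :
    wperm q (w ++ v) = wperm q w * wperm q v := by
  induction w with
  | nil => simp [wperm]
  | cons a w ih =>
    obtain ⟨i, b⟩ := a
    cases b
    · simp only [List.cons_append, wperm, ih, mul_assoc]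
    · simp only [List.cons_append, wperm, ih, mul_assoc]

theorem map_wperm {X Y : Type*} [Group X] [Group Y] (f : X →* Y) (q : ℕ → X)
    (w : List (ℕ × Bool)) : f (wperm q w) = wperm (fun i => f (q i)) w := by
  induction w with
  | nil => simp [wperm]
  | cons a w ih =>
    obtain ⟨i, b⟩ := a
    cases b
    · simp only [wperm, map_mul, map_inv, ih]
    · simp only [wperm, map_mul, ih]

theorem wperm8_apply (w : List (ℕ × Bool)) (hw : ∀ a ∈ w, a.1 < 4) (u : Ω8) :
    ((wperm q8 w u).1.val, (wperm q8 w u).2) = trz 8 P8 F8 Pi8 w (u.1.val, u.2) := by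
  induction w with
  | nil => rfl
  | cons a w ih =>
    obtain ⟨i, b⟩ := a
    have hi : i < 4 := hw (i, b) List.mem_cons_self
    have ih' := ih (fun a ha => hw a (List.mem_cons_of_mem _ ha))
    have e1 : (trz 8 P8 F8 Pi8 w (u.1.val, u.2)).1 = (wperm q8 w u).1.val := by rw [← ih']
    have e2 : (trz 8 P8 F8 Pi8 w (u.1.val, u.2)).2 = (wperm q8 w u).2 := by rw [← ih']
    have hq : q8 i = mkPerm 616 8 (P8 i) (F8 i) (Pi8 i) (valid8 i hi) := by
      unfold q8
      rw [dif_pos hi]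
    cases b
    · show ((((q8 i)⁻¹ * wperm q8 w) u).1.val, (((q8 i)⁻¹ * wperm q8 w) u).2) = _
      rw [Equiv.Perm.mul_apply, hq]
      obtain ⟨h1, h2⟩ := mkPerm_symm_apply (m := 8) (P8 i) (F8 i) (Pi8 i) (valid8 i hi)
        (wperm q8 w u)
      rw [h1, h2]
      show _ = (Pi8 i (trz 8 P8 F8 Pi8 w (u.1.val, u.2)).1,
        (trz 8 P8 F8 Pi8 w (u.1.val, u.2)).2 -
          (F8 i (Pi8 i (trz 8 P8 F8 Pi8 w (u.1.val, u.2)).1) : ZMod 8))
      rw [e1, e2]
    · show (((q8 i * wperm q8 w) u).1.val, ((q8 i * wperm q8 w) u).2) = _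
      rw [Equiv.Perm.mul_apply, hq]
      obtain ⟨h1, h2⟩ := mkPerm_apply (m := 8) (P8 i) (F8 i) (Pi8 i) (valid8 i hi)
        (wperm q8 w u)
      rw [h1, h2]
      show _ = (P8 i (trz 8 P8 F8 Pi8 w (u.1.val, u.2)).1,
        (trz 8 P8 F8 Pi8 w (u.1.val, u.2)).2 +
          (F8 i (trz 8 P8 F8 Pi8 w (u.1.val, u.2)).1 : ZMod 8))
      rw [e1, e2]

theorem wperm3_apply (w : List (ℕ × Bool)) (hw : ∀ a ∈ w, a.1 < 4) (u : Ω3) :
    ((wperm q3 w u).1.val, (wperm q3 w u).2) = trz 3 P3 F3 Pi3 w (u.1.val, u.2) := by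
  induction w with
  | nil => rfl
  | cons a w ih =>
    obtain ⟨i, b⟩ := a
    have hi : i < 4 := hw (i, b) List.mem_cons_self
    have ih' := ih (fun a ha => hw a (List.mem_cons_of_mem _ ha))
    have e1 : (trz 3 P3 F3 Pi3 w (u.1.val, u.2)).1 = (wperm q3 w u).1.val := by rw [← ih']
    have e2 : (trz 3 P3 F3 Pi3 w (u.1.val, u.2)).2 = (wperm q3 w u).2 := by rw [← ih']
    have hq : q3 i = mkPerm 231 3 (P3 i) (F3 i) (Pi3 i) (valid3 i hi) := by
      unfold q3
      rw [dif_pos hi]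
    cases b
    · show ((((q3 i)⁻¹ * wperm q3 w) u).1.val, (((q3 i)⁻¹ * wperm q3 w) u).2) = _
      rw [Equiv.Perm.mul_apply, hq]
      obtain ⟨h1, h2⟩ := mkPerm_symm_apply (m := 3) (P3 i) (F3 i) (Pi3 i) (valid3 i hi)
        (wperm q3 w u)
      rw [h1, h2]
      show _ = (Pi3 i (trz 3 P3 F3 Pi3 w (u.1.val, u.2)).1,
        (trz 3 P3 F3 Pi3 w (u.1.val, u.2)).2 -
          (F3 i (Pi3 i (trz 3 P3 F3 Pi3 w (u.1.val, u.2)).1) : ZMod 3))
      rw [e1, e2]
    · show (((q3 i * wperm q3 w) u).1.val, ((q3 i * wperm q3 w) u).2) = _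
      rw [Equiv.Perm.mul_apply, hq]
      obtain ⟨h1, h2⟩ := mkPerm_apply (m := 3) (P3 i) (F3 i) (Pi3 i) (valid3 i hi)
        (wperm q3 w u)
      rw [h1, h2]
      show _ = (P3 i (trz 3 P3 F3 Pi3 w (u.1.val, u.2)).1,
        (trz 3 P3 F3 Pi3 w (u.1.val, u.2)).2 +
          (F3 i (trz 3 P3 F3 Pi3 w (u.1.val, u.2)).1 : ZMod 3))
      rw [e1, e2]

/-- the word of the product of the two commutators -/
def zw : List (ℕ × Bool) :=
  [(0, true), (1, true), (0, false), (1, false), (2, true), (3, true), (2, false), (3, false)]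

theorem zw_lt : ∀ a ∈ zw, a.1 < 4 := by decide

theorem wperm_zw {X : Type*} [Group X] (q : ℕ → X) :
    wperm q zw = ⁅q 0, q 1⁆ * ⁅q 2, q 3⁆ := by
  simp only [zw, wperm, commutatorElement_def, mul_assoc, mul_one]

theorem tr3_check : (trz 3 P3 F3 Pi3 (zw ++ (zw ++ (zw ++ zw))) (0, 0)).2 ≠ 0 := by
  decide +kernel

theorem tr8_check : (trz 8 P8 F8 Pi8 (zw ++ (zw ++ (zw ++ (zw ++ (zw ++ zw))))) (0, 0)).2 ≠ 0 := by
  decide +kernel

/-- the generators as elements of the group -/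
def gG (i : ℕ) : ↥Gam := if h : i < 4 then ⟨gen i, gen_mem i h⟩ else 1

/-- the central element -/
def zG : ↥Gam := ⁅gG 0, gG 1⁆ * ⁅gG 2, gG 3⁆

theorem zG_eq : zG = wperm gG zw := (wperm_zw gG).symm

theorem gG_val (i : ℕ) (hi : i < 4) : ((gG i : ↥Gam) : Big) = gen i := by
  unfold gG
  rw [dif_pos hi]

theorem zG_mem : zG ∈ commutator ↥Gam :=
  Subgroup.mul_mem _
    (Subgroup.commutator_mem_commutator (Subgroup.mem_top _) (Subgroup.mem_top _))
    (Subgroup.commutator_mem_commutator (Subgroup.mem_top _) (Subgroup.mem_top _))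

theorem sig_gG (i : ℕ) (hi : i < 4) : sig (gG i) = hg i := by
  rw [sig_apply, gG_val i hi]
  rfl

theorem sig_zG : sig zG = 1 := by
  unfold zG
  rw [map_mul, map_commutatorElement, map_commutatorElement, sig_gG 0 (by norm_num),
    sig_gG 1 (by norm_num), sig_gG 2 (by norm_num), sig_gG 3 (by norm_num)]
  have h1 : hg 0 * hg 1 = hg 1 * hg 0 :=
    comm_of_weq _ _ (hw_ok 0 (by norm_num)).1 (hw_ok 1 (by norm_num)).1 comm_ok.1
  have h2 : hg 2 * hg 3 = hg 3 * hg 2 :=
    comm_of_weq _ _ (hw_ok 2 (by norm_num)).1 (hw_ok 3 (by norm_num)).1 comm_ok.2.1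
  rw [commutatorElement_eq_one_iff_mul_comm.2 h1, commutatorElement_eq_one_iff_mul_comm.2 h2,
    one_mul]

/-- projection to the first model -/
def pr8 : ↥Gam →* Equiv.Perm Ω8 := (MonoidHom.fst _ _).comp Gam.subtype

/-- projection to the second model -/
def pr3 : ↥Gam →* Equiv.Perm Ω3 :=
  ((MonoidHom.fst _ _).comp (MonoidHom.snd _ _)).comp Gam.subtype

theorem pr8_wperm (w : List (ℕ × Bool)) (hw : ∀ a ∈ w, a.1 < 4) :
    pr8 (wperm gG w) = wperm q8 w := by
  rw [map_wperm]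
  induction w with
  | nil => rfl
  | cons a w ih =>
    obtain ⟨i, b⟩ := a
    have hi : i < 4 := hw (i, b) List.mem_cons_self
    have ih' := ih (fun a ha => hw a (List.mem_cons_of_mem _ ha))
    have e : pr8 (gG i) = q8 i := by
      show ((gG i : ↥Gam) : Big).1 = q8 i
      rw [gG_val i hi]
      rfl
    cases b
    · simp only [wperm, ih', e]
    · simp only [wperm, ih', e]

theorem pr3_wperm (w : List (ℕ × Bool)) (hw : ∀ a ∈ w, a.1 < 4) :
    pr3 (wperm gG w) = wperm q3 w := by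
  rw [map_wperm]
  induction w with
  | nil => rfl
  | cons a w ih =>
    obtain ⟨i, b⟩ := a
    have hi : i < 4 := hw (i, b) List.mem_cons_self
    have ih' := ih (fun a ha => hw a (List.mem_cons_of_mem _ ha))
    have e : pr3 (gG i) = q3 i := by
      show ((gG i : ↥Gam) : Big).2.1 = q3 i
      rw [gG_val i hi]
      rfl
    cases b
    · simp only [wperm, ih', e]
    · simp only [wperm, ih', e]

theorem mem_append_lt (w v : List (ℕ × Bool)) (hw : ∀ a ∈ w, a.1 < 4) (hv : ∀ a ∈ v, a.1 < 4) :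
    ∀ a ∈ w ++ v, a.1 < 4 := by
  intro a ha
  rcases List.mem_append.1 ha with h | h
  · exact hw a h
  · exact hv a h

theorem zG_pow4 : zG ^ 4 ≠ 1 := by
  intro h
  have hw : ∀ a ∈ zw ++ (zw ++ (zw ++ zw)), a.1 < 4 :=
    mem_append_lt _ _ zw_lt (mem_append_lt _ _ zw_lt (mem_append_lt _ _ zw_lt zw_lt))
  have e : zG ^ 4 = wperm gG (zw ++ (zw ++ (zw ++ zw))) := by
    rw [wperm_append, wperm_append, wperm_append, ← zG_eq]
    simp only [pow_succ, pow_zero, one_mul, mul_assoc]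
  rw [e] at h
  have h1 := congrArg pr3 h
  rw [pr3_wperm _ hw, map_one] at h1
  have h2 := wperm3_apply _ hw ((0 : Fin 231), (0 : ZMod 3))
  rw [h1] at h2
  have h3 := congrArg Prod.snd h2
  exact tr3_check h3.symm

theorem zG_pow6 : zG ^ 6 ≠ 1 := by
  intro h
  have hw : ∀ a ∈ zw ++ (zw ++ (zw ++ (zw ++ (zw ++ zw)))), a.1 < 4 :=
    mem_append_lt _ _ zw_lt (mem_append_lt _ _ zw_lt (mem_append_lt _ _ zw_lt
      (mem_append_lt _ _ zw_lt (mem_append_lt _ _ zw_lt zw_lt))))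
  have e : zG ^ 6 = wperm gG (zw ++ (zw ++ (zw ++ (zw ++ (zw ++ zw))))) := by
    rw [wperm_append, wperm_append, wperm_append, wperm_append, wperm_append, ← zG_eq]
    simp only [pow_succ, pow_zero, one_mul, mul_assoc]
  rw [e] at h
  have h1 := congrArg pr8 h
  rw [pr8_wperm _ hw, map_one] at h1
  have h2 := wperm8_apply _ hw ((0 : Fin 616), (0 : ZMod 8))
  rw [h1] at h2
  have h3 := congrArg Prod.snd h2
  exact tr8_check h3.symm

/-! ### The stem extension with kernel of order twelve -/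

theorem exists_cover : ∃ (Γ : Type) (_ : Group Γ) (_ : Finite Γ) (σ : Γ →* G2),
    Cfsg.IsStemExtension σ ∧ Nonempty (σ.ker ≃* Multiplicative (ZMod 12)) := by
  have hfin : Finite ↥(commutator ↥Gam) := inferInstance
  refine ⟨↥(commutator ↥Gam), inferInstance, hfin, sig.comp (commutator ↥Gam).subtype, stem, ?_⟩
  obtain ⟨π, hπ⟩ := Cfsg.Agent.Helper29.M22Two.upper (sig.comp (commutator ↥Gam).subtype) stem
  have hzk : (⟨zG, zG_mem⟩ : ↥(commutator ↥Gam)) ∈ (sig.comp (commutator ↥Gam).subtype).ker := by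
    rw [MonoidHom.mem_ker]
    exact sig_zG
  apply Cfsg.Agent.Helper11.Card12.mulEquiv_zmod12 π hπ ⟨⟨zG, zG_mem⟩, hzk⟩
  · intro h
    have h1 := congrArg Subtype.val (congrArg Subtype.val h)
    rw [Subgroup.coe_pow, Subgroup.coe_pow] at h1
    exact zG_pow4 h1
  · intro h
    have h1 := congrArg Subtype.val (congrArg Subtype.val h)
    rw [Subgroup.coe_pow, Subgroup.coe_pow] at h1
    exact zG_pow6 h1

end Cfsg.Agent.Helper29.M22Cover
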