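import Mathlib
import Cfsg.Agent.Lib.Helper29.M24Coded

set_option autoImplicit false
open Cfsg

namespace Cfsg.Agent.Helper29.M24

open scoped Pointwise

/-- conjugation by an element of the group of the code identifies a subgroup `H` of it with a
subgroup `K` of the permutation group, when membership corresponds -/
noncomputable def conjEquivGen (g0 : Equiv.Perm GolayPt) (H : Subgroup ↥Cfsg.M24)
    (K : Subgroup (Equiv.Perm GolayPt))
    (hK : ∀ y ∈ K, g0 * y * g0⁻¹ ∈ Cfsg.M24)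
    (h : ∀ x : ↥Cfsg.M24, x ∈ H ↔ g0⁻¹ * (x : Equiv.Perm GolayPt) * g0 ∈ K) : ↥H ≃* ↥K where
  toFun x := ⟨g0⁻¹ * ((x : Cfsg.M24) : Equiv.Perm GolayPt) * g0, (h x.1).1 x.2⟩
  invFun y := ⟨⟨g0 * (y : Equiv.Perm GolayPt) * g0⁻¹, hK y.1 y.2⟩, (h _).2 (by
    have : g0⁻¹ * (g0 * (y : Equiv.Perm GolayPt) * g0⁻¹) * g0 = y := by group
    show g0⁻¹ * (g0 * (y : Equiv.Perm GolayPt) * g0⁻¹) * g0 ∈ K
    rw [this]
    exact y.2)⟩
  left_inv x := by
    apply Subtype.ext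
    apply Subtype.ext
    show g0 * (g0⁻¹ * ((x : Cfsg.M24) : Equiv.Perm GolayPt) * g0) * g0⁻¹ = _
    group
  right_inv y := by
    apply Subtype.ext
    show g0⁻¹ * (g0 * (y : Equiv.Perm GolayPt) * g0⁻¹) * g0 = _
    group
  map_mul' x y := by
    apply Subtype.ext
    show g0⁻¹ * (((x : Cfsg.M24) : Equiv.Perm GolayPt) * ((y : Cfsg.M24) : Equiv.Perm GolayPt)) * g0
      = g0⁻¹ * ((x : Cfsg.M24) : Equiv.Perm GolayPt) * g0 *
        (g0⁻¹ * ((y : Cfsg.M24) : Equiv.Perm GolayPt) * g0)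
    group

theorem conj_mem_M24_iff (g0 : Equiv.Perm GolayPt) (hg0 : g0 ∈ Cfsg.M24) (x : Equiv.Perm GolayPt) :
    g0⁻¹ * x * g0 ∈ Cfsg.M24 ↔ x ∈ Cfsg.M24 := by
  constructor
  · intro h
    have hx : x = g0 * (g0⁻¹ * x * g0) * g0⁻¹ := by group
    rw [hx]
    exact Subgroup.mul_mem _ (Subgroup.mul_mem _ hg0 h) (Subgroup.inv_mem _ hg0)
  · intro h
    exact Subgroup.mul_mem _ (Subgroup.mul_mem _ (Subgroup.inv_mem _ hg0) h) hg0

theorem conj_smul_iff {X : Type*} [MulAction (Equiv.Perm GolayPt) X] (g0 x : Equiv.Perm GolayPt)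
    (a : X) : (g0⁻¹ * x * g0) • a = a ↔ x • g0 • a = g0 • a := by
  rw [mul_smul, mul_smul, inv_smul_eq_iff]

theorem conj_apply_iff (g0 x : Equiv.Perm GolayPt) (a : GolayPt) :
    (g0⁻¹ * x * g0) a = a ↔ x (g0 a) = g0 a := by
  rw [Equiv.Perm.mul_apply, Equiv.Perm.mul_apply, Equiv.Perm.inv_def, Equiv.symm_apply_eq]

end Cfsg.Agent.Helper29.M24
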