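import Mathlib
import Cfsg.Agent.Lib.Helper29.M24Conj
import Cfsg.Agent.Lib.Helper29.M24Dodecad3
import Cfsg.Agent.Lib.Helper29.M24SextetTab

set_option autoImplicit false
open Cfsg

namespace Cfsg.Agent.Helper29.Cent11

open Cfsg.Agent.Helper27 Cfsg.Agent.Helper29 Cfsg.Agent.Helper29.M24
open Cfsg.Agent.S0358 (idx)
open scoped Pointwise

/-! ### The centralizer of an involution in the stabilizer of a dodecad and a point -/

/-- the word of the involution -/
def wx0 : List ℕ := [12, 11]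

/-- the code of its action -/
def cx0 : ℕ := 970499966350631336865513127433832480

/-- the involution -/
def x0 : Equiv.Perm GolayPt := evalW wx0

theorem wx0_ok : codesOK [(wx0, cx0)] = true := by decide +kernel

theorem x0_idx (q : GolayPt) : idx (x0 q) = app cx0 (idx q) :=
  codesOK_idx [(wx0, cx0)] wx0_ok (wx0, cx0) (List.mem_singleton_self _) q

theorem wx0_letters : ∀ l ∈ wx0, l < ngen := by decide

/-- masks: the dodecad, the point, and the four classes of points with respect to the dodecad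
and to the fixed points of the involution -/
def Ms6 : List ℕ := [340831, 1, 15, 340816, 8536096, 7900288]

def tm6 (i : ℕ) : ℕ := [8536096, 1, 15, 15, 15, 8536096, 340816].getD i 0

theorem tm6_ok : ∀ i < 7, tm6 i ∈ Ms6 ∧ (tm6 i).testBit (bpt i) = true := by decide

/-- the word commutes with the involution -/
def commW (W : List ℕ) : Bool :=
  (List.range 24).all fun x => appW W (app cx0 x) == app cx0 (appW W x)

def fin6 (W : List ℕ) : Bool := finM Ms6 W && commW W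

/-- words for the 48 elements -/
def GL6 : List (List ℕ) := searchAll (lvlM tm6) fin6

/-- the words with the codes of their actions -/
def C0C : List (List ℕ × ℕ) := [
  ([0, 2, 2, 0, 1, 2, 0, 0, 2, 0, 0, 3, 3, 5, 5, 4, 6, 6, 6, 6, 8, 12, 11, 9], 217568596627580172659656007490766944),
  ([0, 2, 2, 0, 1, 2, 0, 0, 2, 0, 0, 3, 3, 5, 5, 4, 6, 6, 6, 6, 8, 9], 221306056451638017120264557308184672),
  ([0, 2, 2, 0, 1, 2, 0, 0, 2, 0, 0, 3, 3, 4, 4, 4, 4, 4, 5, 4, 7, 6, 7, 8, 12, 10, 9], 235742061483406767849477376128910432),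
  ([0, 2, 2, 0, 1, 2, 0, 0, 2, 0, 0, 3, 3, 4, 4, 4, 4, 4, 5, 4, 7, 6, 7, 8, 11, 10, 9], 234286372747013287696275781005149280),
  ([0, 2, 2, 0, 1, 2, 0, 0, 2, 0, 0, 3, 3, 3, 2, 4, 5, 4, 4, 5, 4, 7, 7, 6, 8, 10], 228001363311221454468151101670655040),
  ([0, 2, 2, 0, 1, 2, 0, 0, 2, 0, 0, 3, 3, 3, 2, 4, 5, 4, 4, 5, 4, 7, 7, 6, 8, 12, 11, 10], 233233386906768391987032901617288256),
  ([0, 2, 2, 0, 1, 2, 0, 0, 2, 0, 0, 3, 3, 3, 2, 5, 4, 7, 6, 6, 8, 10], 221550289410297402012191048719174720),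
  ([0, 2, 2, 0, 1, 2, 0, 0, 2, 0, 0, 3, 3, 3, 2, 5, 4, 7, 6, 6, 8, 12, 11, 10], 217617199158940686300653144474946624),
  ([0, 2, 2, 0, 1, 2, 0, 0, 2, 0, 0, 2, 3, 2, 2, 3, 5, 4, 4, 5, 4, 6, 7, 6, 7, 8], 235366405754860650836778140353760288),
  ([0, 2, 2, 0, 1, 2, 0, 0, 2, 0, 0, 2, 3, 2, 2, 3, 5, 4, 4, 5, 4, 6, 7, 6, 7, 8, 12, 11], 233950865888990746377447415904013344),
  ([0, 2, 2, 0, 1, 2, 0, 0, 2, 0, 0, 2, 3, 2, 2, 3, 5, 4, 7, 6, 7, 11, 10], 232652365823391711183829569059784736),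
  ([0, 2, 2, 0, 1, 2, 0, 0, 2, 0, 0, 2, 3, 2, 2, 3, 5, 4, 7, 6, 7, 12, 10], 227578386318009578406903204956702752),
  ([2, 1, 0, 1, 3, 2, 3, 2, 2, 6, 6, 6, 7, 6, 8, 8, 10], 610727855379770684683436871688162368),
  ([2, 1, 0, 1, 3, 2, 3, 2, 2, 6, 6, 6, 7, 6, 8, 8, 12, 11, 10], 596606098937906343490530381836356672),
  ([2, 1, 0, 1, 3, 2, 3, 2, 2, 4, 5, 6, 7, 10, 9], 609429652419472343420009903857697856),
  ([2, 1, 0, 1, 3, 2, 3, 2, 2, 4, 5, 6, 7, 12, 11, 10, 9], 608288895615245987645162920685438016),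
  ([2, 1, 0, 1, 2, 2, 3, 5, 5, 4, 6, 11, 10], 608405391266436187982588441666881568),
  ([2, 1, 0, 1, 2, 2, 3, 5, 5, 4, 6, 12, 10], 609271311764373893382231684089481248),
  ([2, 1, 0, 1, 2, 2, 3, 4, 5, 6, 12, 10, 9], 601915135321570999558303616165022752),
  ([2, 1, 0, 1, 2, 2, 3, 4, 5, 6, 11, 10, 9], 606675048206788974183023727349926944),
  ([2, 1, 0, 1, 2, 5, 7, 11, 10], 610933098178650810155900481226967136),
  ([2, 1, 0, 1, 2, 5, 7, 12, 10], 596693691629046116550990400692717664),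
  ([2, 1, 0, 1, 2, 4, 4, 4, 5, 4, 6, 7, 6, 7, 8, 11, 10], 601885875835129268478585557547549792),
  ([2, 1, 0, 1, 2, 4, 4, 4, 5, 4, 6, 7, 6, 7, 8, 12, 10], 607038988187158853496018113149338720),
  ([2, 2, 1, 0, 1, 3, 2, 2, 4, 5, 4, 7, 7, 6, 8, 12], 726098387229991916328255735577218112),
  ([2, 2, 1, 0, 1, 3, 2, 2, 4, 5, 4, 7, 7, 6, 8, 11], 731722996265023435542964160459476032),
  ([2, 2, 1, 0, 1, 3, 2, 2, 4, 4, 5, 6, 6, 8, 12, 11, 9], 716146062361566097043008109225804864),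
  ([2, 2, 1, 0, 1, 3, 2, 2, 4, 4, 5, 6, 6, 8, 9], 719608059484697496685871976717321280),
  ([2, 2, 1, 0, 1, 2, 3, 2, 2, 3, 4, 5, 5, 4, 6, 12], 719923664328491199848526586197411872),
  ([2, 2, 1, 0, 1, 2, 3, 2, 2, 3, 4, 5, 5, 4, 6, 11], 715872302521680643580706198532491296),
  ([2, 2, 1, 0, 1, 2, 3, 2, 2, 3, 4, 4, 5, 6], 735500604421669808992593446508235808),
  ([2, 2, 1, 0, 1, 2, 3, 2, 2, 3, 4, 4, 5, 6, 12, 11], 721064549862662597311266359538158624),
  ([2, 2, 1, 0, 1, 2, 4, 5, 4, 5, 4, 7, 6, 7, 8, 8, 12, 11, 9], 735007443424217238740507493471945824),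
  ([2, 2, 1, 0, 1, 2, 4, 5, 4, 5, 4, 7, 6, 7, 8, 8, 9], 720846548273546509231824711698154592),
  ([2, 2, 1, 0, 1, 2, 4, 4, 4, 4, 5, 6, 7, 6, 8, 8, 11, 10], 731231112280071455683496764367734880),
  ([2, 2, 1, 0, 1, 2, 4, 4, 4, 4, 5, 6, 7, 6, 8, 8, 12, 10], 725920953632283487556548229579442272),
  ([], 984818244535754528103549039458486304), ([12, 11], 970499966350631336865513127433832480),
  ([5, 5, 4, 7, 6, 8, 8, 12, 10, 9], 965346966670364367458681901213092896),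
  ([5, 5, 4, 7, 6, 8, 8, 11, 10, 9], 969202056781860934635753244362607648),
  ([2, 2, 2, 5, 5, 4, 7, 6, 6, 8], 982939420336662894431691245045713984),
  ([2, 2, 2, 5, 5, 4, 7, 6, 6, 8, 12, 11], 981759386190175716564125263593507904),
  ([2, 2, 2, 4, 4, 4, 5, 7, 6, 8, 11, 10], 984355386066803413838770983050249280),
  ([2, 2, 2, 4, 4, 4, 5, 7, 6, 8, 12, 10], 969958826742993894265839954570609728),
  ([3, 2, 5, 4, 7, 6, 6, 6, 7, 6, 11, 10], 964944003105871756720595991810606176),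
  ([3, 2, 5, 4, 7, 6, 6, 6, 7, 6, 12, 10], 969270339852425397140562826583147616),
  ([3, 2, 4, 6, 8, 8, 12, 10, 9], 983549310955746530506231437997410400),
  ([3, 2, 4, 6, 8, 8, 11, 10, 9], 981818813153752489120759972731324512)]

set_option maxRecDepth 100000 in
theorem GL6_eq : GL6 = C0C.map Prod.fst := by decide +kernel

set_option maxRecDepth 100000 in
theorem C0C_ok : codesOK C0C = true := by decide +kernel

set_option maxRecDepth 100000 in
theorem C0C_nodup : (C0C.map fun p => codeW p.1).Nodup := by decide +kernel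

theorem C0C_length : C0C.length = 48 := by decide +kernel

/-- the property cut out by the search -/
def P6 (g : Equiv.Perm GolayPt) : Prop := FixesAll Ms6 g ∧ g * x0 = x0 * g

theorem commW_of (W : List ℕ) (hW : ∀ l ∈ W, l < ngen) (h : evalW W * x0 = x0 * evalW W) :
    commW W = true := by
  apply all_range_of_forall_idx
  intro q
  rw [beq_iff_eq, ← x0_idx, ← idx_evalW W hW, ← idx_evalW W hW, ← x0_idx,
    ← Equiv.Perm.mul_apply, ← Equiv.Perm.mul_apply, h]

theorem comm_of_commW (W : List ℕ) (hW : ∀ l ∈ W, l < ngen) (h : commW W = true) :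
    evalW W * x0 = x0 * evalW W := by
  apply eq_of_idx
  intro q
  have := forall_idx_of_all_range _ h q
  rw [beq_iff_eq] at this
  rw [Equiv.Perm.mul_apply, Equiv.Perm.mul_apply, idx_evalW W hW, x0_idx, x0_idx,
    idx_evalW W hW]
  exact this

theorem hlvl6 : ∀ i < 7, ∀ W : List ℕ, (∀ l ∈ W, l < ngen) → ∀ τ ∈ grp (i + 1),
    P6 (evalW W * τ) → lvlM tm6 i W = true :=
  fun i hi W hW τ hτ hP => lvlM_ok Ms6 tm6 tm6_ok i hi W hW τ hτ hP.1

theorem hfin6 : ∀ W : List ℕ, (∀ l ∈ W, l < ngen) → P6 (evalW W) → fin6 W = true := by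
  intro W hW hP
  unfold fin6
  rw [Bool.and_eq_true]
  exact ⟨finM_ok Ms6 W hW hP.1, commW_of W hW hP.2⟩

/-- the base group: the centralizer of the involution in the stabilizer of the standard dodecad
and its point `0` -/
def C0 : Subgroup (Equiv.Perm GolayPt) :=
  Dod3.K1 (maskSet 340831) (dec 0) ⊓ Subgroup.centralizer {x0}

theorem mem_C0 (g : Equiv.Perm GolayPt) :
    g ∈ C0 ↔ ((g ∈ M24 ∧ g • maskSet 340831 = maskSet 340831) ∧ g (dec 0) = dec 0) ∧
      g * x0 = x0 * g := by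
  unfold C0
  rw [Subgroup.mem_inf, Dod3.mem_K1, Dod3.mem_K0, Subgroup.mem_centralizer_singleton_iff]

/-- the fixed points of the involution -/
theorem x0_fix (q : GolayPt) : q ∈ maskSet 8536111 ↔ x0 q = q := by
  rw [mem_maskSet]
  constructor
  · intro h
    apply M24.idx_injective
    rw [x0_idx]
    revert q
    decide +kernel
  · intro h
    have := congrArg idx h
    rw [x0_idx] at this
    revert q
    decide +kernel

theorem smul_fix (g : Equiv.Perm GolayPt) (h : g * x0 = x0 * g) :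
    g • maskSet 8536111 = maskSet 8536111 := by
  apply Finset.eq_of_subset_of_card_le
  · intro q hq
    obtain ⟨r, hr, rfl⟩ := Finset.mem_smul_finset.1 hq
    rw [x0_fix] at hr ⊢
    rw [Equiv.Perm.smul_def, ← Equiv.Perm.mul_apply, ← h, Equiv.Perm.mul_apply, hr]
  · rw [Finset.card_smul_finset]

theorem mask_A : maskSet 15 = maskSet 340831 ∩ maskSet 8536111 := by
  rw [← maskSet_and]
  rfl

theorem mask_B : maskSet 340816 = maskSet 340831 \ maskSet 8536111 := by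
  ext x
  rw [Finset.mem_sdiff, mem_maskSet, mem_maskSet, mem_maskSet]
  revert x
  decide

theorem mask_C : maskSet 8536096 = maskSet 8536111 \ maskSet 340831 := by
  ext x
  rw [Finset.mem_sdiff, mem_maskSet, mem_maskSet, mem_maskSet]
  revert x
  decide

theorem mask_D : maskSet 7900288 = Finset.univ \ (maskSet 340831 ∪ maskSet 8536111) := by
  ext x
  rw [Finset.mem_sdiff, Finset.mem_union, mem_maskSet, mem_maskSet, mem_maskSet]
  revert x
  decide

theorem mem_C0_iff (g : Equiv.Perm GolayPt) : g ∈ C0 ↔ g ∈ M24 ∧ P6 g := by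
  rw [mem_C0]
  constructor
  · rintro ⟨⟨⟨hM, hd⟩, h0⟩, hc⟩
    have hf := smul_fix g hc
    refine ⟨hM, ?_, hc⟩
    intro T hT
    unfold Ms6 at hT
    simp only [List.mem_cons, List.not_mem_nil, or_false] at hT
    rcases hT with rfl | rfl | rfl | rfl | rfl | rfl
    · exact hd
    · rw [maskSet_one, Finset.smul_finset_singleton, Equiv.Perm.smul_def, h0]
    · rw [mask_A, Finset.smul_finset_inter, hd, hf]
    · rw [mask_B, Finset.smul_finset_sdiff, hd, hf]
    · rw [mask_C, Finset.smul_finset_sdiff, hd, hf]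
    · rw [mask_D, Finset.smul_finset_sdiff, Finset.smul_finset_univ, Finset.smul_finset_union,
        hd, hf]
  · rintro ⟨hM, hF, hc⟩
    have hd := hF 340831 (by decide)
    have h0 := hF 1 (by decide)
    rw [maskSet_one, Finset.smul_finset_singleton, Equiv.Perm.smul_def,
      Finset.singleton_inj] at h0
    exact ⟨⟨⟨hM, hd⟩, h0⟩, hc⟩

theorem C0_sub (g : Equiv.Perm GolayPt) (hg : g ∈ C0) : ∃ p ∈ C0C, g = evalW p.1 := by
  obtain ⟨hM, hP⟩ := (mem_C0_iff g).1 hg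
  obtain ⟨W, hW, rfl⟩ := searchAll_complete (lvlM tm6) fin6 P6 hlvl6 hfin6 g hM hP
  have hW' : W ∈ GL6 := hW
  rw [GL6_eq, List.mem_map] at hW'
  obtain ⟨p, hp, rfl⟩ := hW'
  exact ⟨p, hp, rfl⟩

theorem mem_C0_of_fin6 (W : List ℕ) (hW : ∀ l ∈ W, l < ngen) (h : fin6 W = true) :
    evalW W ∈ C0 := by
  unfold fin6 at h
  rw [Bool.and_eq_true] at h
  exact (mem_C0_iff _).2 ⟨evalW_mem_M24 W hW, fixesAll_of_finM Ms6 W hW h.1,
    comm_of_commW W hW h.2⟩

theorem C0C_mem (p : List ℕ × ℕ) (hp : p ∈ C0C) : evalW p.1 ∈ C0 := by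
  have hW : p.1 ∈ GL6 := by
    rw [GL6_eq, List.mem_map]
    exact ⟨p, hp, rfl⟩
  obtain ⟨h1, h2⟩ := searchAll_sound (lvlM tm6) fin6 p.1 hW
  exact mem_C0_of_fin6 p.1 h1 h2

theorem card_C0 : Nat.card ↥C0 = 48 := by
  have h := ncard_of_coded C0C C0C_ok C0C_nodup (C0 : Set (Equiv.Perm GolayPt)) C0_sub C0C_mem
  rw [C0C_length] at h
  rw [← h, ← Nat.card_coe_set_eq]
  rfl

/-! ### The isomorphism with the general linear group -/

/-- words and codes for the images of the matrices `!![a, b; c, d]`, at position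
`27 a + 9 b + 3 c + d` -/
def qtabL : List (List ℕ × ℕ) := [
  ([], 0), ([], 0), ([], 0), ([], 0), ([], 0), ([], 0), ([], 0), ([], 0), ([], 0), ([], 0),
  ([], 0), ([], 0), ([5, 5, 4, 7, 6, 8, 8, 11, 10, 9], 969202056781860934635753244362607648),
  ([2, 1, 0, 1, 3, 2, 3, 2, 2, 4, 5, 6, 7, 12, 11, 10, 9], 608288895615245987645162920685438016),
  ([2, 2, 1, 0, 1, 2, 4, 4, 4, 4, 5, 6, 7, 6, 8, 8, 11, 10], 731231112280071455683496764367734880),
  ([2, 2, 1, 0, 1, 2, 3, 2, 2, 3, 4, 5, 5, 4, 6, 11], 715872302521680643580706198532491296),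
  ([2, 2, 2, 5, 5, 4, 7, 6, 6, 8], 982939420336662894431691245045713984),
  ([2, 1, 0, 1, 2, 4, 4, 4, 5, 4, 6, 7, 6, 7, 8, 11, 10], 601885875835129268478585557547549792),
  ([], 0), ([], 0), ([], 0),
  ([2, 2, 1, 0, 1, 2, 3, 2, 2, 3, 4, 5, 5, 4, 6, 12], 719923664328491199848526586197411872),
  ([2, 1, 0, 1, 2, 4, 4, 4, 5, 4, 6, 7, 6, 7, 8, 12, 10], 607038988187158853496018113149338720),
  ([2, 2, 2, 5, 5, 4, 7, 6, 6, 8, 12, 11], 981759386190175716564125263593507904),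
  ([5, 5, 4, 7, 6, 8, 8, 12, 10, 9], 965346966670364367458681901213092896),
  ([2, 2, 1, 0, 1, 2, 4, 4, 4, 4, 5, 6, 7, 6, 8, 8, 12, 10], 725920953632283487556548229579442272),
  ([2, 1, 0, 1, 3, 2, 3, 2, 2, 4, 5, 6, 7, 10, 9], 609429652419472343420009903857697856),
  ([], 0), ([], 984818244535754528103549039458486304),
  ([2, 2, 1, 0, 1, 2, 3, 2, 2, 3, 4, 4, 5, 6], 735500604421669808992593446508235808), ([], 0),
  ([2, 1, 0, 1, 3, 2, 3, 2, 2, 6, 6, 6, 7, 6, 8, 8, 10], 610727855379770684683436871688162368),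
  ([2, 2, 2, 4, 4, 4, 5, 7, 6, 8, 11, 10], 984355386066803413838770983050249280), ([], 0),
  ([2, 2, 1, 0, 1, 2, 4, 5, 4, 5, 4, 7, 6, 7, 8, 8, 12, 11, 9], 735007443424217238740507493471945824),
  ([2, 1, 0, 1, 2, 5, 7, 11, 10], 610933098178650810155900481226967136), ([], 0),
  ([0, 2, 2, 0, 1, 2, 0, 0, 2, 0, 0, 3, 3, 4, 4, 4, 4, 4, 5, 4, 7, 6, 7, 8, 12, 10, 9], 235742061483406767849477376128910432),
  ([0, 2, 2, 0, 1, 2, 0, 0, 2, 0, 0, 3, 3, 3, 2, 4, 5, 4, 4, 5, 4, 7, 7, 6, 8, 12, 11, 10], 233233386906768391987032901617288256),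
  ([0, 2, 2, 0, 1, 2, 0, 0, 2, 0, 0, 3, 3, 5, 5, 4, 6, 6, 6, 6, 8, 9], 221306056451638017120264557308184672),
  ([], 0),
  ([0, 2, 2, 0, 1, 2, 0, 0, 2, 0, 0, 2, 3, 2, 2, 3, 5, 4, 7, 6, 7, 12, 10], 227578386318009578406903204956702752),
  ([0, 2, 2, 0, 1, 2, 0, 0, 2, 0, 0, 3, 3, 3, 2, 5, 4, 7, 6, 6, 8, 12, 11, 10], 217617199158940686300653144474946624),
  ([0, 2, 2, 0, 1, 2, 0, 0, 2, 0, 0, 2, 3, 2, 2, 3, 5, 4, 4, 5, 4, 6, 7, 6, 7, 8, 12, 11], 233950865888990746377447415904013344),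
  ([], 0), ([], 0),
  ([2, 2, 1, 0, 1, 3, 2, 2, 4, 5, 4, 7, 7, 6, 8, 11], 731722996265023435542964160459476032),
  ([3, 2, 4, 6, 8, 8, 12, 10, 9], 983549310955746530506231437997410400),
  ([3, 2, 5, 4, 7, 6, 6, 6, 7, 6, 12, 10], 969270339852425397140562826583147616),
  ([2, 1, 0, 1, 2, 2, 3, 4, 5, 6, 12, 10, 9], 601915135321570999558303616165022752), ([], 0),
  ([2, 2, 1, 0, 1, 3, 2, 2, 4, 4, 5, 6, 6, 8, 12, 11, 9], 716146062361566097043008109225804864),
  ([], 0), ([2, 1, 0, 1, 2, 2, 3, 5, 5, 4, 6, 11, 10], 608405391266436187982588441666881568),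
  ([], 0),
  ([2, 2, 1, 0, 1, 2, 3, 2, 2, 3, 4, 4, 5, 6, 12, 11], 721064549862662597311266359538158624),
  ([12, 11], 970499966350631336865513127433832480), ([], 0),
  ([2, 1, 0, 1, 2, 5, 7, 12, 10], 596693691629046116550990400692717664),
  ([2, 2, 1, 0, 1, 2, 4, 5, 4, 5, 4, 7, 6, 7, 8, 8, 9], 720846548273546509231824711698154592),
  ([], 0), ([2, 2, 2, 4, 4, 4, 5, 7, 6, 8, 12, 10], 969958826742993894265839954570609728),
  ([2, 1, 0, 1, 3, 2, 3, 2, 2, 6, 6, 6, 7, 6, 8, 8, 12, 11, 10], 596606098937906343490530381836356672),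
  ([], 0), ([3, 2, 4, 6, 8, 8, 11, 10, 9], 981818813153752489120759972731324512),
  ([2, 2, 1, 0, 1, 3, 2, 2, 4, 5, 4, 7, 7, 6, 8, 12], 726098387229991916328255735577218112),
  ([2, 2, 1, 0, 1, 3, 2, 2, 4, 4, 5, 6, 6, 8, 9], 719608059484697496685871976717321280),
  ([2, 1, 0, 1, 2, 2, 3, 5, 5, 4, 6, 12, 10], 609271311764373893382231684089481248), ([], 0),
  ([3, 2, 5, 4, 7, 6, 6, 6, 7, 6, 11, 10], 964944003105871756720595991810606176), ([], 0),
  ([2, 1, 0, 1, 2, 2, 3, 4, 5, 6, 11, 10, 9], 606675048206788974183023727349926944), ([], 0),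
  ([0, 2, 2, 0, 1, 2, 0, 0, 2, 0, 0, 3, 3, 3, 2, 4, 5, 4, 4, 5, 4, 7, 7, 6, 8, 10], 228001363311221454468151101670655040),
  ([0, 2, 2, 0, 1, 2, 0, 0, 2, 0, 0, 3, 3, 4, 4, 4, 4, 4, 5, 4, 7, 6, 7, 8, 11, 10, 9], 234286372747013287696275781005149280),
  ([0, 2, 2, 0, 1, 2, 0, 0, 2, 0, 0, 3, 3, 3, 2, 5, 4, 7, 6, 6, 8, 10], 221550289410297402012191048719174720),
  ([], 0),
  ([0, 2, 2, 0, 1, 2, 0, 0, 2, 0, 0, 2, 3, 2, 2, 3, 5, 4, 4, 5, 4, 6, 7, 6, 7, 8], 235366405754860650836778140353760288),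
  ([0, 2, 2, 0, 1, 2, 0, 0, 2, 0, 0, 3, 3, 5, 5, 4, 6, 6, 6, 6, 8, 12, 11, 9], 217568596627580172659656007490766944),
  ([0, 2, 2, 0, 1, 2, 0, 0, 2, 0, 0, 2, 3, 2, 2, 3, 5, 4, 7, 6, 7, 11, 10], 232652365823391711183829569059784736),
  ([], 0)]

def qent (a b c d : ZMod 3) : List ℕ × ℕ :=
  qtabL.getD (27 * a.val + 9 * b.val + 3 * c.val + d.val) ([], 0)

def detOK (a b c d : ZMod 3) : Bool := a * d - b * c != 0

set_option maxRecDepth 100000 in
theorem q_ok : ∀ a b c d : ZMod 3, detOK a b c d = true →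
    codesOK [qent a b c d] = true ∧ fin6 (qent a b c d).1 = true := by decide +kernel

set_option maxRecDepth 100000 in
theorem q_mul : ∀ a b c d a' b' c' d' : ZMod 3, detOK a b c d = true → detOK a' b' c' d' = true →
    ∀ x < 24, app (qent (a * a' + b * c') (a * b' + b * d') (c * a' + d * c') (c * b' + d * d')).2 x =
      app (qent a b c d).2 (app (qent a' b' c' d').2 x) := by decide +kernel

set_option maxRecDepth 100000 in
theorem q_inj : ∀ a b c d : ZMod 3, detOK a b c d = true →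
    (∀ x < 24, app (qent a b c d).2 x = x) → a = 1 ∧ b = 0 ∧ c = 0 ∧ d = 1 := by decide +kernel

theorem detOK_mul : ∀ a b c d a' b' c' d' : ZMod 3, detOK a b c d = true → detOK a' b' c' d' = true →
    detOK (a * a' + b * c') (a * b' + b * d') (c * a' + d * c') (c * b' + d * d') = true := by
  decide +kernel

/-- the entries of an invertible matrix -/
def ent (M : GL (Fin 2) (ZMod 3)) : List ℕ × ℕ := qent (M.val 0 0) (M.val 0 1) (M.val 1 0) (M.val 1 1)

theorem detOK_GL (M : GL (Fin 2) (ZMod 3)) :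
    detOK (M.val 0 0) (M.val 0 1) (M.val 1 0) (M.val 1 1) = true := by
  unfold detOK
  rw [bne_iff_ne]
  have := Matrix.GeneralLinearGroup.det_ne_zero M
  rwa [Matrix.det_fin_two] at this

theorem ent_idx (M : GL (Fin 2) (ZMod 3)) (q : GolayPt) :
    idx (evalW (ent M).1 q) = app (ent M).2 (idx q) :=
  codesOK_idx [ent M] (q_ok _ _ _ _ (detOK_GL M)).1 (ent M) (List.mem_singleton_self _) q

theorem ent_letters (M : GL (Fin 2) (ZMod 3)) : ∀ l ∈ (ent M).1, l < ngen :=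
  codesOK_letters [ent M] (q_ok _ _ _ _ (detOK_GL M)).1 (ent M) (List.mem_singleton_self _)

theorem ent_mem (M : GL (Fin 2) (ZMod 3)) : evalW (ent M).1 ∈ C0 :=
  mem_C0_of_fin6 _ (ent_letters M) (q_ok _ _ _ _ (detOK_GL M)).2

theorem ent_mul (M N : GL (Fin 2) (ZMod 3)) :
    evalW (ent (M * N)).1 = evalW (ent M).1 * evalW (ent N).1 := by
  apply eq_of_idx
  intro q
  rw [Equiv.Perm.mul_apply, ent_idx, ent_idx, ent_idx]
  have h := q_mul _ _ _ _ _ _ _ _ (detOK_GL M) (detOK_GL N) (idx q) (M24.idx_lt q)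
  have e : ent (M * N) = qent (M.val 0 0 * N.val 0 0 + M.val 0 1 * N.val 1 0)
      (M.val 0 0 * N.val 0 1 + M.val 0 1 * N.val 1 1)
      (M.val 1 0 * N.val 0 0 + M.val 1 1 * N.val 1 0)
      (M.val 1 0 * N.val 0 1 + M.val 1 1 * N.val 1 1) := by
    unfold ent
    rw [Units.val_mul]
    simp only [Matrix.mul_apply, Fin.sum_univ_two]
  rw [e]
  exact h

/-- the homomorphism from the general linear group -/
def glHom : GL (Fin 2) (ZMod 3) →* ↥C0 :=
  MonoidHom.mk' (fun M => ⟨evalW (ent M).1, ent_mem M⟩) (fun M N => Subtype.ext (ent_mul M N))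

theorem glHom_injective : Function.Injective glHom := by
  rw [injective_iff_map_eq_one]
  intro M hM
  have h1 : evalW (ent M).1 = 1 := congrArg Subtype.val hM
  have h2 : ∀ z < 24, app (ent M).2 z = z := by
    intro z hz
    have := ent_idx M (dec z)
    rw [h1, Equiv.Perm.one_apply, idx_dec ⟨z, hz⟩] at this
    exact this.symm
  obtain ⟨ha, hb, hc, hd⟩ := q_inj _ _ _ _ (detOK_GL M) h2
  apply Units.ext
  ext i j
  fin_cases i <;> fin_cases j
  · simpa using ha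
  · simpa using hb
  · simpa using hc
  · simpa using hd

theorem card_GL23 : Nat.card (GL (Fin 2) (ZMod 3)) = 48 := by
  rw [Matrix.card_GL_field, Fin.prod_univ_two, ZMod.card]
  norm_num

theorem glHom_bijective : Function.Bijective glHom := by
  rw [Nat.bijective_iff_injective_and_card]
  exact ⟨glHom_injective, by rw [card_GL23, card_C0]⟩

/-- the base group is the general linear group -/
theorem C0_iso : Nonempty (↥C0 ≃* GL (Fin 2) (ZMod 3)) :=
  ⟨(MulEquiv.ofBijective glHom glHom_bijective).symm⟩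

end Cfsg.Agent.Helper29.Cent11
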