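import Mathlib
import Cfsg.Agent.Lib.Helper29.M24OctStab
import Cfsg.Agent.Lib.Helper29.M24OctTrio
import Cfsg.Agent.Lib.Helper28.HoloF
import Cfsg.Agent.Lib.Helper28.HoloSL2

set_option autoImplicit false
open Cfsg

namespace Cfsg.Agent.Helper29.InvCent

open Cfsg.Agent.Helper27 Cfsg.Agent.Helper29 Cfsg.Agent.Helper29.M24
open Cfsg.Agent.Helper28.Holo Cfsg.Agent.Helper29.OctTrio
open scoped Pointwise

/-! ### Elements with many fixed points -/

/-- an element of the group of the code fixing every point outside an octad is trivial -/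
theorem eq_one_of_fix_compl (m : Equiv.Perm GolayPt) (hm : m ∈ Cfsg.M24) (o : Finset GolayPt)
    (ho : o ∈ Cfsg.octads) (h : ∀ q, q ∉ o → m q = q) : m = 1 := by
  have hne : (FO o).Nonempty := by
    apply Set.nonempty_of_ncard_ne_zero
    rw [ncard_FO o ho]
    norm_num
  obtain ⟨T, hT, hoT⟩ := hne
  have hex : ∃ o' ∈ T, o' ≠ o := by
    by_contra hcon
    push Not at hcon
    have : T ⊆ {o} := fun x hx => Finset.mem_singleton.2 (hcon x hx)
    have := Finset.card_le_card this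
    rw [hT.1, Finset.card_singleton] at this
    omega
  obtain ⟨o', ho'T, hne'⟩ := hex
  have ho' := hT.2.1 o' ho'T
  have hd : Disjoint o' o := hT.2.2 o' ho'T o hoT hne'
  have hmN : m ∈ octN o' :=
    (mem_octN_iff o' m).2 ⟨hm, fun x hx => h x (Finset.disjoint_left.1 hd hx)⟩
  have hex2 : ∃ q, q ∉ o ∧ q ∉ o' := by
    by_contra hcon
    push Not at hcon
    have hsub : (Finset.univ : Finset GolayPt) ⊆ o ∪ o' := fun q _ => by
      by_cases hq : q ∈ o
      · exact Finset.mem_union_left _ hq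
      · exact Finset.mem_union_right _ (hcon q hq)
    have h1 := Finset.card_le_card hsub
    have h2 := Finset.card_union_le o o'
    have h24 : Fintype.card GolayPt = 24 := by decide
    rw [Finset.card_univ, h24] at h1
    rw [ho.2, ho'.2] at h2
    omega
  obtain ⟨q, hq, hq'⟩ := hex2
  exact octN_semireg o' ho' m hmN q hq' (h q hq)

/-! ### The two subgroups -/

/-- the pointwise stabilizer of an octad, inside the group of the code -/
def UU (o : Finset GolayPt) : Subgroup ↥Cfsg.M24 := (octN o).subgroupOf Cfsg.M24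

/-- the stabilizer of an octad and a point, inside the group of the code -/
def MM (o : Finset GolayPt) (p : GolayPt) : Subgroup ↥Cfsg.M24 := (octC o p).subgroupOf Cfsg.M24

theorem mem_UU (o : Finset GolayPt) (x : ↥Cfsg.M24) :
    x ∈ UU o ↔ (x : Equiv.Perm GolayPt) ∈ octN o := Subgroup.mem_subgroupOf

theorem mem_MM (o : Finset GolayPt) (p : GolayPt) (x : ↥Cfsg.M24) :
    x ∈ MM o p ↔ (x : Equiv.Perm GolayPt) ∈ octC o p := Subgroup.mem_subgroupOf

theorem octN_le_M24 (o : Finset GolayPt) : octN o ≤ Cfsg.M24 := fun _ h =>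
  ((mem_octN_iff o _).1 h).1

theorem octC_le_M24 (o : Finset GolayPt) (p : GolayPt) : octC o p ≤ Cfsg.M24 := fun _ h =>
  ((mem_octK o _).1 (octC_le o p h)).1

theorem card_octN (o : Finset GolayPt) (ho : o ∈ Cfsg.octads) : Nat.card ↥(octN o) = 16 :=
  (octad_pointwise o ho).1

theorem card_UU (o : Finset GolayPt) (ho : o ∈ Cfsg.octads) : Nat.card ↥(UU o) = 16 := by
  rw [← card_octN o ho]
  exact Nat.card_congr (Subgroup.subgroupOfEquivOfLe (octN_le_M24 o)).toEquiv

theorem card_octC (o : Finset GolayPt) (ho : o ∈ Cfsg.octads) (p : GolayPt) (hp : p ∉ o) :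
    Nat.card ↥(octC o p) = 20160 := by
  obtain ⟨e⟩ := octC_iso o ho p hp
  rw [Nat.card_congr e.toEquiv, Nat.card_eq_fintype_card]
  have h := two_mul_card_alternatingGroup (α := Fin 8)
  rw [Fintype.card_perm, Fintype.card_fin] at h
  have h8 : Nat.factorial 8 = 40320 := rfl
  omega

theorem card_MM (o : Finset GolayPt) (ho : o ∈ Cfsg.octads) (p : GolayPt) (hp : p ∉ o) :
    Nat.card ↥(MM o p) = 20160 := by
  rw [← card_octC o ho p hp]
  exact Nat.card_congr (Subgroup.subgroupOfEquivOfLe (octC_le_M24 o p)).toEquiv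

theorem UU_sq (o : Finset GolayPt) (ho : o ∈ Cfsg.octads) (a : ↥(UU o)) : a * a = 1 := by
  apply Subtype.ext
  apply Subtype.ext
  exact (octad_pointwise o ho).2 _ ((mem_UU o a.1).1 a.2)

theorem UU_comm (o : Finset GolayPt) (ho : o ∈ Cfsg.octads) (a b : ↥(UU o)) : a * b = b * a := by
  have h1 := UU_sq o ho (a * b)
  have ha := UU_sq o ho a
  have hb := UU_sq o ho b
  have ha' : a⁻¹ = a := inv_eq_of_mul_eq_one_right ha
  have hb' : b⁻¹ = b := inv_eq_of_mul_eq_one_right hb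
  have hab' : (a * b)⁻¹ = a * b := inv_eq_of_mul_eq_one_right h1
  calc a * b = (a * b)⁻¹ := hab'.symm
    _ = b⁻¹ * a⁻¹ := mul_inv_rev a b
    _ = b * a := by rw [ha', hb']

/-- conjugation by the octad stabilizer preserves the pointwise stabilizer -/
theorem conj_mem_octN (o : Finset GolayPt) (k u : Equiv.Perm GolayPt) (hk : k ∈ octK o)
    (hu : u ∈ octN o) : k * u * k⁻¹ ∈ octN o := by
  obtain ⟨hkM, hko⟩ := (mem_octK o k).1 hk
  obtain ⟨huM, hufix⟩ := (mem_octN_iff o u).1 hu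
  rw [mem_octN_iff]
  refine ⟨Subgroup.mul_mem _ (Subgroup.mul_mem _ hkM huM) (Subgroup.inv_mem _ hkM), ?_⟩
  intro x hx
  have hx' : k⁻¹ x ∈ o := by
    have := ((smul_eq_iff_forall o k).1 hko (k⁻¹ x)).1
    rw [perm_apply_inv] at this
    exact this hx
  rw [Equiv.Perm.mul_apply, Equiv.Perm.mul_apply, hufix _ hx', perm_apply_inv]

theorem MM_le_normalizer (o : Finset GolayPt) (p : GolayPt) :
    MM o p ≤ Subgroup.normalizer ((UU o : Subgroup ↥Cfsg.M24) : Set ↥Cfsg.M24) := by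
  intro m hm
  rw [Subgroup.mem_normalizer_iff]
  have hk : (m : Equiv.Perm GolayPt) ∈ octK o := octC_le o p ((mem_MM o p m).1 hm)
  have hk' : ((m⁻¹ : ↥Cfsg.M24) : Equiv.Perm GolayPt) ∈ octK o := by
    rw [Subgroup.coe_inv]
    exact Subgroup.inv_mem _ hk
  intro u
  constructor
  · intro hu
    rw [mem_UU] at hu ⊢
    exact conj_mem_octN o _ _ hk hu
  · intro hu
    rw [mem_UU] at hu ⊢
    have h2 := conj_mem_octN o _ _ hk' hu
    have e : ((m⁻¹ : ↥Cfsg.M24) : Equiv.Perm GolayPt) * ((m * u * m⁻¹ : ↥Cfsg.M24) :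
        Equiv.Perm GolayPt) * ((m⁻¹ : ↥Cfsg.M24) : Equiv.Perm GolayPt)⁻¹ = (u : Equiv.Perm GolayPt) := by
      simp only [Subgroup.coe_mul, Subgroup.coe_inv]
      group
    rw [e] at h2
    exact h2

theorem UU_inf_MM (o : Finset GolayPt) (ho : o ∈ Cfsg.octads) (p : GolayPt) (hp : p ∉ o) :
    UU o ⊓ MM o p = ⊥ := by
  rw [eq_bot_iff]
  intro x hx
  rw [Subgroup.mem_inf, mem_UU, mem_MM] at hx
  rw [Subgroup.mem_bot]
  have : (x : Equiv.Perm GolayPt) ∈ octN o ⊓ octC o p := Subgroup.mem_inf.2 hx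
  rw [octN_inf_octC o ho p hp, Subgroup.mem_bot] at this
  exact Subtype.ext this

/-- an element of the complement commuting with the pointwise stabilizer is trivial -/
theorem MM_faith (o : Finset GolayPt) (ho : o ∈ Cfsg.octads) (p : GolayPt) (hp : p ∉ o)
    (m : ↥Cfsg.M24) (hm : m ∈ MM o p) (h : ∀ u ∈ UU o, m * u * m⁻¹ = u) : m = 1 := by
  apply Subtype.ext
  apply eq_one_of_fix_compl _ m.2 o ho
  intro q hq
  obtain ⟨u, hu, e⟩ := octN_trans o ho p q hp hq
  have huM : u ∈ Cfsg.M24 := octN_le_M24 o hu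
  have h1 := h ⟨u, huM⟩ ((mem_UU o _).2 hu)
  have h2 : (m : Equiv.Perm GolayPt) * u * (m : Equiv.Perm GolayPt)⁻¹ = u := by
    have := congrArg (fun x : ↥Cfsg.M24 => (x : Equiv.Perm GolayPt)) h1
    simpa only [Subgroup.coe_mul, Subgroup.coe_inv] using this
  have h3 : (m : Equiv.Perm GolayPt) * u = u * (m : Equiv.Perm GolayPt) := by
    calc (m : Equiv.Perm GolayPt) * u = ((m : Equiv.Perm GolayPt) * u * (m : Equiv.Perm GolayPt)⁻¹) *
          (m : Equiv.Perm GolayPt) := by group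
      _ = u * (m : Equiv.Perm GolayPt) := by rw [h2]
  have hmp : (m : Equiv.Perm GolayPt) p = p := ((mem_octC o p _).1 ((mem_MM o p m).1 hm)).2
  rw [← e, ← Equiv.Perm.mul_apply, h3, Equiv.Perm.mul_apply, hmp]

/-- the centralizer of a non-identity element of the pointwise stabilizer lies in the octad
stabilizer -/
theorem cent_le (o : Finset GolayPt) (ho : o ∈ Cfsg.octads) (p : GolayPt) (hp : p ∉ o)
    (u : ↥Cfsg.M24) (hu : u ∈ UU o) (hu1 : u ≠ 1) :
    Subgroup.centralizer ({u} : Set ↥Cfsg.M24) ≤ UU o ⊔ MM o p := by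
  intro g hg
  rw [Subgroup.mem_centralizer_singleton_iff] at hg
  have huN := (mem_UU o u).1 hu
  obtain ⟨-, hufix⟩ := (mem_octN_iff o _).1 huN
  have hcomm : ∀ x, (u : Equiv.Perm GolayPt) ((g : Equiv.Perm GolayPt) x) =
      (g : Equiv.Perm GolayPt) ((u : Equiv.Perm GolayPt) x) := by
    intro x
    have := congrArg (fun y : ↥Cfsg.M24 => (y : Equiv.Perm GolayPt) x) hg
    simpa only [Subgroup.coe_mul, Equiv.Perm.mul_apply] using this.symm
  have hmove : ∀ x, x ∉ o → (u : Equiv.Perm GolayPt) x ≠ x := by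
    intro x hx hfix
    apply hu1
    apply Subtype.ext
    exact octN_semireg o ho _ huN x hx hfix
  have hgo : (g : Equiv.Perm GolayPt) • o = o := by
    rw [smul_eq_iff_forall]
    intro x
    constructor
    · intro hgx
      by_contra hx
      apply hmove x hx
      have h1 := hcomm x
      rw [hufix _ hgx] at h1
      exact (g : Equiv.Perm GolayPt).injective h1.symm
    · intro hx
      by_contra hgx
      apply hmove _ hgx
      rw [hcomm x, hufix x hx]
  have hgK : (g : Equiv.Perm GolayPt) ∈ octK o := (mem_octK o _).2 ⟨g.2, hgo⟩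
  obtain ⟨n, hn, hc⟩ := octK_factor o ho p hp _ hgK
  have hnM : n ∈ Cfsg.M24 := octN_le_M24 o hn
  have hcM : n * (g : Equiv.Perm GolayPt) ∈ Cfsg.M24 := octC_le_M24 o p hc
  have e : g = (⟨n, hnM⟩ : ↥Cfsg.M24)⁻¹ * ⟨n * (g : Equiv.Perm GolayPt), hcM⟩ := by
    apply Subtype.ext
    simp only [Subgroup.coe_mul, Subgroup.coe_inv]
    group
  rw [e]
  exact Subgroup.mul_mem_sup (Subgroup.inv_mem _ ((mem_UU o _).2 hn)) ((mem_MM o p _).2 hc)

/-! ### Fullness by counting -/

section full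

variable {G : Type*} [Group G]

/-- conjugation by an element of the normalizer, as an automorphism -/
def conjAut (U : Subgroup G) (m : G) (hm : m ∈ Subgroup.normalizer (U : Set G)) : ↥U ≃* ↥U where
  toFun u := ⟨m * u * m⁻¹, (Subgroup.mem_normalizer_iff.1 hm u).1 u.2⟩
  invFun u := ⟨m⁻¹ * u * m, by
    have h := (Subgroup.mem_normalizer_iff.1 (Subgroup.inv_mem _ hm) u).1 u.2
    rwa [inv_inv] at h⟩
  left_inv u := by
    apply Subtype.ext
    show m⁻¹ * (m * (u : G) * m⁻¹) * m = u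
    group
  right_inv u := by
    apply Subtype.ext
    show m * (m⁻¹ * (u : G) * m) * m⁻¹ = u
    group
  map_mul' a b := by
    apply Subtype.ext
    show m * ((a : G) * (b : G)) * m⁻¹ = m * (a : G) * m⁻¹ * (m * (b : G) * m⁻¹)
    group

/-- an automorphism in coordinates -/
def coordAut {n : ℕ} {U : Type*} [Group U] (E : Vec n ≃ U) (hadd : ∀ v w, E (v + w) = E v * E w)
    (φ : U ≃* U) : Vec n ≃+ Vec n where
  toFun v := E.symm (φ (E v))
  invFun v := E.symm (φ.symm (E v))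
  left_inv v := by
    show E.symm (φ.symm (E (E.symm (φ (E v))))) = v
    rw [Equiv.apply_symm_apply, MulEquiv.symm_apply_apply, Equiv.symm_apply_apply]
  right_inv v := by
    show E.symm (φ (E (E.symm (φ.symm (E v))))) = v
    rw [Equiv.apply_symm_apply, MulEquiv.apply_symm_apply, Equiv.symm_apply_apply]
  map_add' v w := by
    show E.symm (φ (E (v + w))) = E.symm (φ (E v)) + E.symm (φ (E w))
    apply E.injective
    rw [Equiv.apply_symm_apply, hadd, map_mul, hadd, Equiv.apply_symm_apply,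
      Equiv.apply_symm_apply]

theorem full_of_card {n : ℕ} (U M : Subgroup G) [Finite ↥M] (E : Vec n ≃ ↥U)
    (hadd : ∀ v w, E (v + w) = E v * E w)
    (hnorm : M ≤ Subgroup.normalizer (U : Set G))
    (hfaith : ∀ m ∈ M, (∀ u ∈ U, m * u * m⁻¹ = u) → m = 1)
    (hcard : Nat.card (Vec n ≃+ Vec n) ≤ Nat.card ↥M) :
    ∀ f : Vec n ≃+ Vec n, ∃ m ∈ M, ∀ v, m * ((E v : ↥U) : G) * m⁻¹ = ((E (f v) : ↥U) : G) := by
  let Φ : ↥M → (Vec n ≃+ Vec n) := fun m => coordAut E hadd (conjAut U m.1 (hnorm m.2))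
  have hΦ : ∀ (m : ↥M) (v : Vec n), ((E (Φ m v) : ↥U) : G) = m.1 * ((E v : ↥U) : G) * m.1⁻¹ := by
    intro m v
    show ((E (E.symm (conjAut U m.1 (hnorm m.2) (E v))) : ↥U) : G) = _
    rw [Equiv.apply_symm_apply]
    rfl
  have hinj : Function.Injective Φ := by
    intro m m' h
    have hc : ∀ u ∈ U, (m'⁻¹ * m : ↥M).1 * u * ((m'⁻¹ * m : ↥M).1)⁻¹ = u := by
      intro u hu
      obtain ⟨v, hv⟩ := E.surjective ⟨u, hu⟩
      have h1 := hΦ m v
      have h2 := hΦ m' v
      rw [h, hv] at h1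
      rw [hv] at h2
      have h3 : m.1 * u * m.1⁻¹ = m'.1 * u * m'.1⁻¹ := h1.symm.trans h2
      simp only [Subgroup.coe_mul, Subgroup.coe_inv]
      calc m'.1⁻¹ * m.1 * u * (m'.1⁻¹ * m.1)⁻¹ = m'.1⁻¹ * (m.1 * u * m.1⁻¹) * m'.1 := by group
        _ = m'.1⁻¹ * (m'.1 * u * m'.1⁻¹) * m'.1 := by rw [h3]
        _ = u := by group
    have h4 := hfaith _ (m'⁻¹ * m : ↥M).2 hc
    have h5 : m'⁻¹ * m = 1 := Subtype.ext h4
    exact (inv_mul_eq_one.1 h5).symm
  have : Finite (Vec n ≃+ Vec n) :=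
    Finite.of_injective (fun f : Vec n ≃+ Vec n => (f : Vec n → Vec n)) DFunLike.coe_injective
  have hbij : Function.Bijective Φ := hinj.bijective_of_nat_card_le hcard
  intro f
  obtain ⟨m, rfl⟩ := hbij.2 f
  exact ⟨m.1, m.2, fun v => (hΦ m v).symm⟩

end full

/-- additive automorphisms are linear -/
def toLinEquiv (f : Vec 3 ≃+ Vec 3) : Vec 3 ≃ₗ[ZMod 2] Vec 3 :=
  { f with map_smul' := fun c v => ZMod.map_smul f c v }

theorem card_addAut_le : Nat.card (Vec 3 ≃+ Vec 3) ≤ 20160 := by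
  have hinj : Function.Injective toLinEquiv := by
    intro f g h
    apply AddEquiv.ext
    intro v
    have := congrArg (fun L : Vec 3 ≃ₗ[ZMod 2] Vec 3 => L v) h
    exact this
  have e : Matrix.GeneralLinearGroup (Fin 4) (ZMod 2) ≃* (Vec 3 ≃ₗ[ZMod 2] Vec 3) :=
    Matrix.GeneralLinearGroup.toLin.trans
      (LinearMap.GeneralLinearGroup.generalLinearEquiv (ZMod 2) (Fin 4 → ZMod 2))
  have hc : Nat.card (Vec 3 ≃ₗ[ZMod 2] Vec 3) = 20160 := by
    rw [← Nat.card_congr e.toEquiv, Matrix.card_GL_field]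
    simp [Fin.prod_univ_four]
  have : Finite (Vec 3 ≃ₗ[ZMod 2] Vec 3) := Nat.finite_of_card_ne_zero (by rw [hc]; norm_num)
  rw [← hc]
  exact Nat.card_le_card_of_injective _ hinj

/-! ### The datum -/

theorem data (o : Finset GolayPt) (ho : o ∈ Cfsg.octads) (p : GolayPt) (hp : p ∉ o)
    (E : Vec 3 → ↥(UU o)) (hE : Function.Bijective E) (hadd : ∀ v w, E (v + w) = E v * E w) :
    Data (UU o) (MM o p) 3 (fun v => ((E v : ↥(UU o)) : ↥Cfsg.M24)) where
  elt_add v w := by
    show ((E (v + w) : ↥(UU o)) : ↥Cfsg.M24) = (E v : ↥Cfsg.M24) * (E w : ↥Cfsg.M24)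
    rw [hadd]
    rfl
  elt_inj v w e := hE.1 (Subtype.ext e)
  elt_mem v := (E v).2
  elt_surj u hu := by
    obtain ⟨v, hv⟩ := hE.2 ⟨u, hu⟩
    exact ⟨v, congrArg Subtype.val hv⟩
  norm := MM_le_normalizer o p
  inf := UU_inf_MM o ho p hp
  faith m hm hmv := MM_faith o ho p hp m hm (fun u hu => by
    obtain ⟨v, hv⟩ := hE.2 ⟨u, hu⟩
    have h1 := hmv v
    have h2 : ((E v : ↥(UU o)) : ↥Cfsg.M24) = u := congrArg Subtype.val hv
    rw [h2] at h1
    exact h1)
  full := by
    have : Finite ↥(MM o p) := Nat.finite_of_card_ne_zero (by rw [card_MM o ho p hp]; norm_num)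
    exact full_of_card (UU o) (MM o p) (Equiv.ofBijective E hE) hadd (MM_le_normalizer o p)
      (MM_faith o ho p hp) (by rw [card_MM o ho p hp]; exact card_addAut_le)
  cent v hv := by
    apply cent_le o ho p hp _ (E v).2
    intro h1
    apply hv
    apply hE.1
    apply Subtype.ext
    rw [h1]
    have h0 : E 0 * E 0 = E 0 := by rw [← hadd, add_zero]
    have : E 0 = 1 := by
      calc E 0 = (E 0)⁻¹ * (E 0 * E 0) := by group
        _ = (E 0)⁻¹ * E 0 := by rw [h0]
        _ = 1 := by group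
    rw [this]
    rfl

end Cfsg.Agent.Helper29.InvCent
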