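import Mathlib
import Cfsg.Agent.Lib.Helper29.M24L211a

set_option autoImplicit false
open Cfsg

namespace Cfsg.Agent.Helper29.L211

open Cfsg.Agent.Helper27 Cfsg.Agent.Helper29 Cfsg.Agent.Helper29.M24 Cfsg.Agent.Helper29.Dod3
open Cfsg.Agent.S0358 (idx)
open scoped Pointwise


/-! ### The matrix side -/

abbrev G11 : Type := Matrix.SpecialLinearGroup (Fin 2) (ZMod 11)

/-- the entries of a matrix, as natural numbers -/
def ent (M : G11) : ℕ × ℕ × ℕ × ℕ :=
  ((M.1 0 0).val, (M.1 0 1).val, (M.1 1 0).val, (M.1 1 1).val)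

theorem ent_inj (M N : G11) (h : ent M = ent N) : M = N := by
  unfold ent at h
  simp only [Prod.mk.injEq] at h
  obtain ⟨h1, h2, h3, h4⟩ := h
  apply Subtype.ext
  ext i j
  fin_cases i <;> fin_cases j
  · exact ZMod.val_injective 11 h1
  · exact ZMod.val_injective 11 h2
  · exact ZMod.val_injective 11 h3
  · exact ZMod.val_injective 11 h4

theorem ent_mem (M : G11) : ent M ∈ allK :=
  mem_allK (ent M) (ZMod.val_lt (M.1 0 0)) (ZMod.val_lt (M.1 0 1)) (ZMod.val_lt (M.1 1 0))
    (ZMod.val_lt (M.1 1 1))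

theorem ent_valid (M : G11) : validK (ent M) = true := by
  have hdet : M.1 0 0 * M.1 1 1 - M.1 0 1 * M.1 1 0 = 1 := by
    rw [← Matrix.det_fin_two]
    exact M.2
  have h2 : M.1 0 0 * M.1 1 1 = M.1 0 1 * M.1 1 0 + 1 := by
    linear_combination hdet
  show Nat.beq (((M.1 0 0).val * (M.1 1 1).val) % 11)
    (((M.1 0 1).val * (M.1 1 0).val + 1) % 11) = true
  have h3 : ((((M.1 0 0).val * (M.1 1 1).val : ℕ)) : ZMod 11) =
      ((((M.1 0 1).val * (M.1 1 0).val + 1 : ℕ)) : ZMod 11) := by
    push_cast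
    rw [ZMod.natCast_zmod_val, ZMod.natCast_zmod_val, ZMod.natCast_zmod_val, ZMod.natCast_zmod_val]
    exact h2
  have h4 := (ZMod.natCast_eq_natCast_iff' _ _ _).1 h3
  rw [h4]
  exact Nat.beq_refl _

def SS : G11 := ⟨!![0, -1; 1, 0], by rw [Matrix.det_fin_two_of]; decide⟩

def TT : G11 := ⟨!![1, 1; 0, 1], by rw [Matrix.det_fin_two_of]; decide⟩

def gen (g : Bool) : G11 := if g then TT else SS

theorem ent_mul_gen (M : G11) (g : Bool) : ent (M * gen g) = stepK (ent M) g := by
  cases g
  · unfold gen stepK ent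
    simp only [Bool.false_eq_true, if_false]
    have e : (M * SS).1 = M.1 * SS.1 := rfl
    rw [e]
    simp only [SS, Matrix.mul_apply, Fin.sum_univ_two, Matrix.of_apply, Matrix.cons_val',
      Matrix.cons_val_zero, Matrix.cons_val_one, Matrix.cons_val_fin_one,
      mul_zero, mul_one, zero_add, add_zero, mul_neg, ZMod.neg_val']
  · unfold gen stepK ent
    simp only [if_true]
    have e : (M * TT).1 = M.1 * TT.1 := rfl
    rw [e]
    simp only [TT, Matrix.mul_apply, Fin.sum_univ_two, Matrix.of_apply, Matrix.cons_val',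
      Matrix.cons_val_zero, Matrix.cons_val_one, Matrix.cons_val_fin_one,
      mul_zero, mul_one, add_zero, ZMod.val_add]

def prodL (l : List Bool) : G11 := (l.map gen).prod

theorem prodL_cons (g : Bool) (l : List Bool) : prodL (g :: l) = gen g * prodL l := by
  unfold prodL
  rw [List.map_cons, List.prod_cons]

theorem ent_prodL : ∀ (l : List Bool) (M : G11), ent (M * prodL l) = l.foldl stepK (ent M) := by
  intro l
  induction l with
  | nil => intro M; rw [List.foldl_nil]; unfold prodL; rw [List.map_nil, List.prod_nil, mul_one]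
  | cons g l ih =>
    intro M
    rw [prodL_cons, ← mul_assoc, ih, ent_mul_gen, List.foldl_cons]

theorem ent_one : ent (1 : G11) = kI := by
  unfold ent kI
  simp only [Matrix.SpecialLinearGroup.coe_one, Matrix.one_apply_eq, Prod.mk.injEq]
  refine ⟨by decide, ?_, ?_, by decide⟩
  · rw [Matrix.one_apply_ne (by decide)]; rfl
  · rw [Matrix.one_apply_ne (by decide)]; rfl

theorem eq_prodL (M : G11) : M = prodL (swOf (ent M)) := by
  apply ent_inj
  have h := ent_prodL (swOf (ent M)) 1
  rw [one_mul, ent_one] at h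
  rw [h]
  have h2 := chk2
  rw [List.all_eq_true] at h2
  have h3 := h2 (ent M) (ent_mem M)
  rw [ent_valid M, Bool.not_true, Bool.false_or, decide_eq_true_eq] at h3
  exact h3.symm

/-! ### The homomorphism -/

/-- the word of the group of the code for a word in the two generators -/
def phi0 (l : List Bool) : List ℕ := l.flatMap wG

theorem repr_wG (g : Bool) : Repr (Cof (kG g)) (wG g) := by
  cases g
  · exact chk3.2.1
  · exact chk3.2.2.1

theorem stepK_mem (k : ℕ × ℕ × ℕ × ℕ) (hk : k ∈ allK) (g : Bool) : stepK k g ∈ allK := by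
  obtain ⟨a, b, c, d⟩ := k
  unfold allK at hk
  simp only [List.mem_flatMap, List.mem_map, List.mem_range, Prod.mk.injEq] at hk
  obtain ⟨a', ha, b', hb, c', hc, d', hd, rfl, rfl, rfl, rfl⟩ := hk
  cases g
  · exact mem_allK _ hb (Nat.mod_lt _ (by norm_num)) hd (Nat.mod_lt _ (by norm_num))
  · exact mem_allK _ ha (Nat.mod_lt _ (by norm_num)) hc (Nat.mod_lt _ (by norm_num))

theorem step_ok (k : ℕ × ℕ × ℕ × ℕ) (hk : k ∈ allK) (hv : validK k = true) (g : Bool) :
    validK (stepK k g) = true ∧ Cof (stepK k g) = compF (Cof k) (Cof (kG g)) := by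
  have h := chk1
  rw [List.all_eq_true] at h
  have h2 := h k hk
  rw [hv, Bool.not_true, Bool.false_or, List.all_eq_true] at h2
  have h3 := h2 g (by cases g <;> simp)
  rw [Bool.and_eq_true] at h3
  exact ⟨h3.1, Nat.eq_of_beq_eq_true h3.2⟩

theorem repr_run : ∀ (l : List Bool) (k : ℕ × ℕ × ℕ × ℕ) (W : List ℕ), k ∈ allK →
    validK k = true → Repr (Cof k) W → Repr (Cof (l.foldl stepK k)) (W ++ phi0 l) := by
  intro l
  induction l with
  | nil =>
    intro k W _ _ hr
    unfold phi0
    rw [List.foldl_nil, List.flatMap_nil, List.append_nil]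
    exact hr
  | cons g l ih =>
    intro k W hk hv hr
    obtain ⟨hv', hc⟩ := step_ok k hk hv g
    have hr' : Repr (Cof (stepK k g)) (W ++ wG g) := by
      rw [hc]
      exact repr_compF _ _ _ _ hr (repr_wG g)
    have := ih (stepK k g) (W ++ wG g) (stepK_mem k hk g) hv' hr'
    unfold phi0 at this ⊢
    rw [List.foldl_cons, List.flatMap_cons, ← List.append_assoc]
    exact this

theorem kI_mem : kI ∈ allK := mem_allK kI (by decide) (by decide) (by decide) (by decide)

theorem repr_kI : Repr (Cof kI) [] := by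
  rw [chk3.1]
  exact repr_cId

theorem repr_ent (M : G11) : Repr (Cof (ent M)) (phi0 (swOf (ent M))) := by
  have h := repr_run (swOf (ent M)) kI [] kI_mem (by decide) repr_kI
  rw [List.nil_append] at h
  have h2 := chk2
  rw [List.all_eq_true] at h2
  have h3 := h2 (ent M) (ent_mem M)
  rw [ent_valid M, Bool.not_true, Bool.false_or, decide_eq_true_eq] at h3
  rw [h3] at h
  exact h

/-- the homomorphism, as a map -/
def phi (M : G11) : Equiv.Perm GolayPt := evalW (phi0 (swOf (ent M)))

theorem phi_mul_gen (M : G11) (g : Bool) : phi (M * gen g) = phi M * evalW (wG g) := by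
  unfold phi
  rw [← evalW_append]
  apply evalW_eq_of_repr (Cof (ent (M * gen g)))
  · exact repr_ent _
  · rw [ent_mul_gen, (step_ok (ent M) (ent_mem M) (ent_valid M) g).2]
    exact repr_compF _ _ _ _ (repr_ent M) (repr_wG g)

theorem phi_one : phi 1 = 1 := by
  unfold phi
  rw [← evalW_nil]
  apply evalW_eq_of_repr (Cof (ent 1)) _ _ (repr_ent 1)
  rw [ent_one]
  exact repr_kI

theorem phi_gen (g : Bool) : phi (gen g) = evalW (wG g) := by
  have h := phi_mul_gen 1 g
  rwa [one_mul, phi_one, one_mul] at h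

theorem phi_mul_prodL : ∀ (l : List Bool) (M : G11), phi (M * prodL l) = phi M * phi (prodL l) := by
  intro l
  induction l with
  | nil =>
    intro M
    unfold prodL
    rw [List.map_nil, List.prod_nil, mul_one, phi_one, mul_one]
  | cons g l ih =>
    intro M
    rw [prodL_cons, ← mul_assoc, ih (M * gen g), phi_mul_gen, ih (gen g), phi_gen, mul_assoc]

theorem phi_mul (M N : G11) : phi (M * N) = phi M * phi N := by
  rw [eq_prodL N]
  exact phi_mul_prodL _ M

theorem phi_gen_mem (g : Bool) : phi (gen g) ∈ H0 := by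
  rw [phi_gen]
  cases g
  · exact mem_H0_of_fin wS (Cof kS) chk3.2.1 chk3.2.2.2.1
  · exact mem_H0_of_fin wT (Cof kT) chk3.2.2.1 chk3.2.2.2.2

theorem phi_prodL_mem : ∀ l : List Bool, phi (prodL l) ∈ H0 := by
  intro l
  induction l with
  | nil =>
    unfold prodL
    rw [List.map_nil, List.prod_nil, phi_one]
    exact Subgroup.one_mem _
  | cons g l ih =>
    rw [prodL_cons, phi_mul]
    exact Subgroup.mul_mem _ (phi_gen_mem g) ih

theorem phi_mem (M : G11) : phi M ∈ H0 := by
  rw [eq_prodL M]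
  exact phi_prodL_mem _

/-- the homomorphism onto the stabilizer -/
def phiHom : G11 →* ↥H0 :=
  MonoidHom.mk' (fun M => ⟨phi M, phi_mem M⟩) (fun a b => Subtype.ext (phi_mul a b))

theorem phiHom_coe (M : G11) : ((phiHom M : ↥H0) : Equiv.Perm GolayPt) = phi M := rfl


/-! ### Kernel and image -/

set_option maxRecDepth 100000 in
theorem chk6 : Cof kN = cId := by decide +kernel

theorem app_id_of_eval_one (W : List ℕ) (c : ℕ) (hr : Repr c W) (h : evalW W = 1) :
    ∀ x < 24, app c x = x := by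
  intro x hx
  rw [hr.2 x hx]
  have h1 := idx_evalW W hr.1 (dec x)
  rw [h, Equiv.Perm.one_apply, idx_dec ⟨x, hx⟩] at h1
  exact h1.symm

/-- the scalar matrix `-1` -/
def NN : G11 := ⟨!![10, 0; 0, 10], by rw [Matrix.det_fin_two_of]; decide⟩

theorem ent_NN : ent NN = kN := by
  unfold ent kN NN
  simp only [Matrix.of_apply, Matrix.cons_val', Matrix.cons_val_zero, Matrix.cons_val_one,
    Matrix.cons_val_fin_one, Prod.mk.injEq]
  decide

theorem ker_sub (M : G11) (h : phi M = 1) : M = 1 ∨ M = NN := by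
  have hr := repr_ent M
  have hid := app_id_of_eval_one _ _ hr h
  have h4 := chk4
  rw [List.all_eq_true] at h4
  have h5 := h4 (ent M) (ent_mem M)
  have hall : ((List.range 24).all fun x => Nat.beq (appF (Cof (ent M)) x) x) = true := by
    rw [List.all_eq_true]
    intro x hx
    rw [List.mem_range] at hx
    rw [appF_eq, hid x hx]
    exact Nat.beq_refl _
  rw [ent_valid M, hall, Bool.not_true, Bool.false_or, Bool.false_or, Bool.or_eq_true,
    decide_eq_true_eq, decide_eq_true_eq] at h5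
  rcases h5 with h5 | h5
  · left
    apply ent_inj
    rw [h5, ent_one]
  · right
    apply ent_inj
    rw [h5, ent_NN]

theorem phi_NN : phi NN = 1 := by
  unfold phi
  rw [← evalW_nil]
  apply evalW_eq_of_repr (Cof (ent NN)) _ _ (repr_ent NN)
  rw [ent_NN, chk6]
  exact repr_cId

theorem sq_one_zmod : ∀ r : ZMod 11, r ^ 2 = 1 → r = 1 ∨ r = 10 := by decide

theorem mem_center_iff' (M : G11) : M ∈ Subgroup.center G11 ↔ M = 1 ∨ M = NN := by
  constructor
  · intro h
    obtain ⟨r, hr, e⟩ := Matrix.SpecialLinearGroup.mem_center_iff.1 h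
    rw [Fintype.card_fin] at hr
    rcases sq_one_zmod r hr with rfl | rfl
    · left
      apply Subtype.ext
      rw [← e]
      simp
    · right
      apply Subtype.ext
      rw [← e]
      ext i j
      fin_cases i <;> fin_cases j <;> simp [NN, Matrix.scalar_apply, Matrix.diagonal]
  · rintro (rfl | rfl)
    · exact Subgroup.one_mem _
    · rw [Matrix.SpecialLinearGroup.mem_center_iff]
      refine ⟨10, by decide, ?_⟩
      ext i j
      fin_cases i <;> fin_cases j <;> simp [NN, Matrix.scalar_apply, Matrix.diagonal]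

theorem phiHom_ker : phiHom.ker = Subgroup.center G11 := by
  ext M
  rw [MonoidHom.mem_ker, mem_center_iff']
  constructor
  · intro h
    apply ker_sub
    have := congrArg (fun x : ↥H0 => (x : Equiv.Perm GolayPt)) h
    exact this
  · rintro (rfl | rfl)
    · exact map_one _
    · apply Subtype.ext
      exact phi_NN

/-- the matrix with given entries -/
def ofK (k : ℕ × ℕ × ℕ × ℕ) (hv : validK k = true) : G11 :=
  ⟨!![(k.1 : ZMod 11), (k.2.1 : ZMod 11); (k.2.2.1 : ZMod 11), (k.2.2.2 : ZMod 11)], by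
    rw [Matrix.det_fin_two_of]
    unfold validK at hv
    have h1 := Nat.eq_of_beq_eq_true hv
    have h2 := (ZMod.natCast_eq_natCast_iff' (k.1 * k.2.2.2) (k.2.1 * k.2.2.1 + 1) 11).2 h1
    push_cast at h2
    rw [h2]
    ring⟩

theorem ent_ofK (k : ℕ × ℕ × ℕ × ℕ) (hv : validK k = true) (hk : k ∈ allK) :
    ent (ofK k hv) = k := by
  obtain ⟨a, b, c, d⟩ := k
  unfold allK at hk
  simp only [List.mem_flatMap, List.mem_map, List.mem_range, Prod.mk.injEq] at hk
  obtain ⟨a', ha, b', hb, c', hc, d', hd, rfl, rfl, rfl, rfl⟩ := hk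
  unfold ent ofK
  simp only [Matrix.of_apply, Matrix.cons_val', Matrix.cons_val_zero, Matrix.cons_val_one,
    Matrix.cons_val_fin_one, Prod.mk.injEq, ZMod.val_natCast]
  exact ⟨Nat.mod_eq_of_lt ha, Nat.mod_eq_of_lt hb, Nat.mod_eq_of_lt hc, Nat.mod_eq_of_lt hd⟩

theorem phi_ofK (k : ℕ × ℕ × ℕ × ℕ) (hv : validK k = true) (hkm : k ∈ allK) (W : List ℕ)
    (c : ℕ) (hc : Cof k = c) (hr : Repr c W) : phi (ofK k hv) = evalW W := by
  have h := repr_ent (ofK k hv)
  have e := ent_ofK k hv hkm
  unfold phi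
  generalize ent (ofK k hv) = k' at h e ⊢
  subst e
  subst hc
  exact evalW_eq_of_repr _ _ _ h hr

theorem chk5' (e : List ℕ × ℕ × ℕ) (he : e ∈ HC) :
    ∃ k : ℕ × ℕ × ℕ × ℕ, k ∈ allK ∧ validK k = true ∧ Cof k = e.2.1 := by
  have h5 := chk5
  rw [List.all_eq_true] at h5
  have h6 := h5 e he
  rw [Bool.and_eq_true, Bool.and_eq_true, decide_eq_true_eq] at h6
  obtain ⟨⟨hc, hv⟩, hlt⟩ := h6
  exact ⟨_, mem_allK _ hlt (Nat.mod_lt _ (by norm_num)) (Nat.mod_lt _ (by norm_num))
    (Nat.mod_lt _ (by norm_num)), hv, Nat.eq_of_beq_eq_true hc⟩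

theorem phiHom_surjective : Function.Surjective phiHom := by
  rintro ⟨h, hh⟩
  obtain ⟨e, he, hr, rfl⟩ := H0_sub h hh
  obtain ⟨k, hkm, hv, hc⟩ := chk5' e he
  refine ⟨ofK k hv, ?_⟩
  apply Subtype.ext
  exact phi_ofK k hv hkm e.1 e.2.1 hc hr

/-- the stabilizer is isomorphic to `PSL(2, 11)` -/
noncomputable def iso0 : Matrix.ProjectiveSpecialLinearGroup (Fin 2) (ZMod 11) ≃* ↥H0 :=
  (QuotientGroup.quotientMulEquivOfEq phiHom_ker.symm).trans
    (QuotientGroup.quotientKerEquivOfSurjective phiHom phiHom_surjective)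

end Cfsg.Agent.Helper29.L211
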