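import Mathlib
import Cfsg.Agent.Lib.Helper29.M24Coded
import Cfsg.Agent.Lib.Helper29.M24Dodecad3
import Cfsg.Agent.Lib.Helper29.M24SextetTab

set_option autoImplicit false
open Cfsg

namespace Cfsg.Agent.Helper29.M9

open Cfsg.Agent.Helper27 Cfsg.Agent.Helper29 Cfsg.Agent.Helper29.M24
open Cfsg.Agent.S0358 (idx)
open scoped Pointwise

/-! ### The stabilizer of the standard dodecad and three of its points: 72 elements -/

/-- masks: the dodecad, its complement, the three points -/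
def Ms9 : List ℕ := [340831, 16436384, 1, 2, 4]

def tm9 (i : ℕ) : ℕ := [16436384, 1, 2, 4, 340831, 16436384, 340831].getD i 0

theorem tm9_ok : ∀ i < 7, tm9 i ∈ Ms9 ∧ (tm9 i).testBit (bpt i) = true := by decide

/-- words for the 72 elements -/
def GL9 : List (List ℕ) := searchAll (lvlM tm9) (finM Ms9)

/-- the words with the codes of their actions -/
def GLC : List (List ℕ × ℕ) := [
  ([0, 2, 2, 0, 1, 2, 0, 0, 2, 0, 0, 2, 3, 2, 2, 3, 5, 4, 7, 6, 6, 8, 12], 227468939079694360949178429167896608),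
  ([0, 2, 2, 0, 1, 2, 0, 0, 2, 0, 0, 2, 3, 2, 2, 3, 5, 4, 7, 6, 6, 8, 11], 233054687951835244750033064009402400),
  ([0, 2, 2, 0, 1, 2, 0, 0, 2, 0, 0, 2, 3, 2, 2, 3, 5, 4, 7, 6, 7, 11, 10], 232652365823391711183829569059784736),
  ([0, 2, 2, 0, 1, 2, 0, 0, 2, 0, 0, 2, 3, 2, 2, 3, 5, 4, 7, 6, 7, 12, 10], 227578386318009578406903204956702752),
  ([0, 2, 2, 0, 1, 2, 0, 0, 2, 0, 0, 2, 3, 2, 2, 3, 5, 4, 7, 6, 6, 6, 7, 6, 8, 12, 9], 227866200190482962309748417481934880),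
  ([0, 2, 2, 0, 1, 2, 0, 0, 2, 0, 0, 2, 3, 2, 2, 3, 5, 4, 7, 6, 6, 6, 7, 6, 8, 11, 9], 232783362388564428185213343297439776),
  ([0, 2, 0, 0, 1, 2, 2, 0, 3, 3, 3, 2, 4, 5, 6, 6, 8, 12, 10, 9], 313063593285160742836699179059316768),
  ([0, 2, 0, 0, 1, 2, 2, 0, 3, 3, 3, 2, 4, 5, 6, 6, 8, 11, 10, 9], 304527279934878073638008567181674528),
  ([0, 2, 0, 0, 1, 2, 2, 0, 3, 3, 3, 2, 4, 5, 7, 6, 6, 8, 8, 10], 304382488815307602047787978285647904),
  ([0, 2, 0, 0, 1, 2, 2, 0, 3, 3, 3, 2, 4, 5, 7, 6, 6, 8, 8, 12, 11, 10], 313626468097149398198142802389895200),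
  ([0, 2, 0, 0, 1, 2, 2, 0, 3, 3, 3, 2, 4, 5, 7, 6, 8, 10, 9], 303972014349329906305369256209090592),
  ([0, 2, 0, 0, 1, 2, 2, 0, 3, 3, 3, 2, 4, 5, 7, 6, 8, 12, 11, 10, 9], 313451266620471430272303061907212320),
  ([2, 0, 0, 2, 0, 1, 2, 2, 2, 0, 2, 0, 3, 3, 4, 4, 4, 4, 5, 4, 6, 6, 8], 424698032726113400716592269113985056),
  ([2, 0, 0, 2, 0, 1, 2, 2, 2, 0, 2, 0, 3, 3, 4, 4, 4, 4, 5, 4, 6, 6, 8, 12, 11], 438228640608320839931147656307705888),
  ([2, 0, 0, 2, 0, 1, 2, 2, 2, 0, 2, 0, 3, 3, 4, 4, 4, 4, 5, 4, 6, 8, 8, 12, 10, 9], 437673696385666828435562741295908896),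
  ([2, 0, 0, 2, 0, 1, 2, 2, 2, 0, 2, 0, 3, 3, 4, 4, 4, 4, 5, 4, 6, 8, 8, 11, 10, 9], 425085878865583144827023905643726880),
  ([2, 0, 0, 2, 0, 1, 2, 2, 2, 0, 2, 0, 3, 3, 4, 4, 4, 4, 5, 4, 7, 6, 6, 6, 7, 6, 10], 438084364835391119001047119775926304),
  ([2, 0, 0, 2, 0, 1, 2, 2, 2, 0, 2, 0, 3, 3, 4, 4, 4, 4, 5, 4, 7, 6, 6, 6, 7, 6, 12, 11, 10], 425260589770023667920228681599158304),
  ([1, 0, 0, 1, 3, 2, 2, 3, 4, 5, 4, 4, 5, 4, 7, 7, 6], 486317894067777385906476470720956448),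
  ([1, 0, 0, 1, 3, 2, 2, 3, 4, 5, 4, 4, 5, 4, 7, 7, 6, 12, 11], 487655643029606470073469406179395616),
  ([1, 0, 0, 1, 3, 2, 2, 3, 4, 5, 4, 4, 5, 4, 6, 7, 8, 8, 12], 486349973926430203268823274221996064),
  ([1, 0, 0, 1, 3, 2, 2, 3, 4, 5, 4, 4, 5, 4, 6, 7, 8, 8, 11], 487373122709212905255923294881187872),
  ([1, 0, 0, 1, 3, 2, 2, 3, 4, 5, 4, 4, 5, 4, 7, 12], 486073779993727295785104656607348768),
  ([1, 0, 0, 1, 3, 2, 2, 3, 4, 5, 4, 4, 5, 4, 7, 11], 487607080158395075740321133224921120),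
  ([2, 1, 0, 1, 2, 2, 3, 5, 5, 4], 609744425604512129277147896769742880),
  ([2, 1, 0, 1, 2, 2, 3, 5, 5, 4, 12, 11], 607974513007959930786473204517505056),
  ([2, 1, 0, 1, 2, 2, 3, 5, 5, 4, 6, 11, 10], 608405391266436187982588441666881568),
  ([2, 1, 0, 1, 2, 2, 3, 5, 5, 4, 6, 12, 10], 609271311764373893382231684089481248),
  ([2, 1, 0, 1, 2, 2, 3, 5, 5, 4, 6, 7, 8, 8, 12, 11, 9], 608460305594945736333983948957190176),
  ([2, 1, 0, 1, 2, 2, 3, 5, 5, 4, 6, 7, 8, 8, 9], 609718671646466476278175549440296992),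
  ([1, 0, 0, 0, 1, 3, 3, 4, 7, 6, 7, 12, 11, 9], 629994123837064240816195434993748000),
  ([1, 0, 0, 0, 1, 3, 3, 4, 7, 6, 7, 9], 648441755269428208718993426702993440),
  ([1, 0, 0, 0, 1, 3, 3, 4, 6, 6, 6, 12, 10, 9], 648154481660236051385864952584734752),
  ([1, 0, 0, 0, 1, 3, 3, 4, 6, 6, 6, 11, 10, 9], 629863500390412654982178157189269536),
  ([1, 0, 0, 0, 1, 3, 3, 4, 6, 6, 7, 6, 7, 8, 12, 9], 648045425277649902928402440926824480),
  ([1, 0, 0, 0, 1, 3, 3, 4, 6, 6, 7, 6, 7, 8, 11, 9], 630264916018297267747726081680246816),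
  ([2, 2, 1, 0, 1, 2, 3, 2, 2, 3, 4, 5, 5, 4, 6, 12], 719923664328491199848526586197411872),
  ([2, 2, 1, 0, 1, 2, 3, 2, 2, 3, 4, 5, 5, 4, 6, 11], 715872302521680643580706198532491296),
  ([2, 2, 1, 0, 1, 2, 3, 2, 2, 3, 4, 5, 5, 4, 6, 7, 6], 719748774308089385568610015441717280),
  ([2, 2, 1, 0, 1, 2, 3, 2, 2, 3, 4, 5, 5, 4, 6, 7, 6, 12, 11], 715461294005770680473893921775552544),
  ([2, 2, 1, 0, 1, 2, 3, 2, 2, 3, 4, 5, 5, 4, 7, 8, 12, 11, 9], 716016777081418520089506884598499360),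
  ([2, 2, 1, 0, 1, 2, 3, 2, 2, 3, 4, 5, 5, 4, 7, 8, 9], 719360590536681843314903822610073632),
  ([0, 2, 0, 1, 2, 2, 0, 2, 0, 2, 3, 2, 2, 4, 4, 4, 5, 8, 12, 9], 796422664143520048046740322637776928),
  ([0, 2, 0, 1, 2, 2, 0, 2, 0, 2, 3, 2, 2, 4, 4, 4, 5, 8, 11, 9], 809127892823755776035426641505355808),
  ([0, 2, 0, 1, 2, 2, 0, 2, 0, 2, 3, 2, 2, 4, 4, 4, 5, 6, 6, 10, 9], 809399594410595785774724965859756064),
  ([0, 2, 0, 1, 2, 2, 0, 2, 0, 2, 3, 2, 2, 4, 4, 4, 5, 6, 6, 12, 11, 10, 9], 796025918939784314627536738561984544),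
  ([0, 2, 0, 1, 2, 2, 0, 2, 0, 2, 3, 2, 2, 4, 4, 4, 5, 7, 6, 8, 8, 11, 10], 808997782816701570676445371466909728),
  ([0, 2, 0, 1, 2, 2, 0, 2, 0, 2, 3, 2, 2, 4, 4, 4, 5, 7, 6, 8, 8, 12, 10], 796134455581813252778404696041064480),
  ([0, 0, 2, 0, 1, 2, 2, 2, 0, 2, 0, 3, 5, 7, 6, 6, 12], 858988336336270505570052787752405024),
  ([0, 0, 2, 0, 1, 2, 2, 2, 0, 2, 0, 3, 5, 7, 6, 6, 11], 849862808090484735685470734032308256),
  ([0, 0, 2, 0, 1, 2, 2, 2, 0, 2, 0, 3, 5, 7, 6, 7, 8, 12, 11, 9], 849887890532701421127722391426172960),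
  ([0, 0, 2, 0, 1, 2, 2, 2, 0, 2, 0, 3, 5, 7, 6, 7, 8, 9], 858502712789113075489201924125100064),
  ([0, 0, 2, 0, 1, 2, 2, 2, 0, 2, 0, 3, 5, 7, 6, 6, 7, 6], 858934107515357207598970770041374752),
  ([0, 0, 2, 0, 1, 2, 2, 2, 0, 2, 0, 3, 5, 7, 6, 6, 7, 6, 12, 11], 849414919297944031155053626894092320),
  ([1, 0, 1, 0, 0, 1, 2, 0, 0, 0, 2, 0, 0, 2, 3, 2, 2, 5, 4, 4, 4, 5], 891385682027558266148352467872712736),
  ([1, 0, 1, 0, 0, 1, 2, 0, 0, 0, 2, 0, 0, 2, 3, 2, 2, 5, 4, 4, 4, 5, 12, 11], 898742143189044893377746329054414880),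
  ([1, 0, 1, 0, 0, 1, 2, 0, 0, 0, 2, 0, 0, 2, 3, 2, 2, 5, 4, 4, 4, 5, 6, 11, 10], 899214583888558003150069357295700000),
  ([1, 0, 1, 0, 0, 1, 2, 0, 0, 0, 2, 0, 0, 2, 3, 2, 2, 5, 4, 4, 4, 5, 6, 12, 10], 890954976140709938678640932563453984),
  ([1, 0, 1, 0, 0, 1, 2, 0, 0, 0, 2, 0, 0, 2, 3, 2, 2, 5, 4, 4, 4, 5, 6, 7, 8, 8, 12, 11, 9], 899189355044933402820830013086107680),
  ([1, 0, 1, 0, 0, 1, 2, 0, 0, 0, 2, 0, 0, 2, 3, 2, 2, 5, 4, 4, 4, 5, 6, 7, 8, 8, 9], 891440084380668137666183104591693856),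
  ([1, 0, 1, 3, 3, 3, 2, 4, 5, 4, 4, 5, 4, 7, 7, 6, 12], 944293816565412651426207388111472672),
  ([1, 0, 1, 3, 3, 3, 2, 4, 5, 4, 4, 5, 4, 7, 7, 6, 11], 928952864966028496604741530750814240),
  ([1, 0, 1, 3, 3, 3, 2, 4, 5, 4, 4, 5, 4, 7, 6, 10], 928718206277989008510816407558424608),
  ([1, 0, 1, 3, 3, 3, 2, 4, 5, 4, 4, 5, 4, 7, 6, 12, 11, 10], 944569772236290697579231267829188640),
  ([1, 0, 1, 3, 3, 3, 2, 4, 5, 4, 4, 5, 4, 7, 7, 6, 7, 6], 944538627742660781242037951888164896),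
  ([1, 0, 1, 3, 3, 3, 2, 4, 5, 4, 4, 5, 4, 7, 7, 6, 7, 6, 12, 11], 929000492124499343650182431580424224),
  ([], 984818244535754528103549039458486304), ([12, 11], 970499966350631336865513127433832480),
  ([6, 11, 10], 970254902120350598020240965873371168),
  ([6, 12, 10], 984769902586367543974814854303385632),
  ([6, 7, 8, 8, 12, 11, 9], 970531819526550031117983620406741024),
  ([6, 7, 8, 8, 9], 984534996141977609297800625156032544)]

set_option maxRecDepth 100000 in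
theorem GL9_eq : GL9 = GLC.map Prod.fst := by decide +kernel

set_option maxRecDepth 100000 in
theorem GLC_ok : codesOK GLC = true := by decide +kernel

set_option maxRecDepth 100000 in
theorem GLC_nodup : (GLC.map fun p => codeW p.1).Nodup := by decide +kernel

/-- the base group -/
abbrev G9 : Subgroup (Equiv.Perm GolayPt) := Dod3.K3 (maskSet 340831) (dec 0) (dec 1) (dec 2)

theorem maskSet_two : maskSet 2 = {dec 1} := by
  ext x
  rw [mem_maskSet, Finset.mem_singleton]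
  revert x
  decide

theorem maskSet_four : maskSet 4 = {dec 2} := by
  ext x
  rw [mem_maskSet, Finset.mem_singleton]
  revert x
  decide

theorem maskSet_compl9 : maskSet 16436384 = (maskSet 340831)ᶜ := by
  ext x
  rw [Finset.mem_compl, mem_maskSet, mem_maskSet]
  revert x
  decide

theorem mem_G9_iff (g : Equiv.Perm GolayPt) : g ∈ G9 ↔ g ∈ M24 ∧ FixesAll Ms9 g := by
  rw [Dod3.mem_K3, Dod3.mem_K2, Dod3.mem_K1, Dod3.mem_K0]
  constructor
  · rintro ⟨⟨⟨⟨hM, hd⟩, h0⟩, h1⟩, h2⟩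
    refine ⟨hM, ?_⟩
    intro T hT
    unfold Ms9 at hT
    simp only [List.mem_cons, List.not_mem_nil, or_false] at hT
    rcases hT with rfl | rfl | rfl | rfl | rfl
    · exact hd
    · rw [maskSet_compl9, Finset.compl_eq_univ_sdiff, Finset.smul_finset_sdiff,
        Finset.smul_finset_univ, hd]
    · rw [maskSet_one, Finset.smul_finset_singleton, Equiv.Perm.smul_def, h0]
    · rw [maskSet_two, Finset.smul_finset_singleton, Equiv.Perm.smul_def, h1]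
    · rw [maskSet_four, Finset.smul_finset_singleton, Equiv.Perm.smul_def, h2]
  · rintro ⟨hM, hF⟩
    have hd := hF 340831 (by decide)
    have h0 := hF 1 (by decide)
    have h1 := hF 2 (by decide)
    have h2 := hF 4 (by decide)
    rw [maskSet_one, Finset.smul_finset_singleton, Equiv.Perm.smul_def,
      Finset.singleton_inj] at h0
    rw [maskSet_two, Finset.smul_finset_singleton, Equiv.Perm.smul_def,
      Finset.singleton_inj] at h1
    rw [maskSet_four, Finset.smul_finset_singleton, Equiv.Perm.smul_def,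
      Finset.singleton_inj] at h2
    exact ⟨⟨⟨⟨hM, hd⟩, h0⟩, h1⟩, h2⟩

theorem G9_sub (g : Equiv.Perm GolayPt) (hg : g ∈ G9) : ∃ p ∈ GLC, g = evalW p.1 := by
  obtain ⟨hM, hF⟩ := (mem_G9_iff g).1 hg
  obtain ⟨W, hW, rfl⟩ := searchAll_complete (lvlM tm9) (finM Ms9) (FixesAll Ms9)
    (lvlM_ok Ms9 tm9 tm9_ok) (finM_ok Ms9) g hM hF
  have hW' : W ∈ GL9 := hW
  rw [GL9_eq, List.mem_map] at hW'
  obtain ⟨p, hp, rfl⟩ := hW'
  exact ⟨p, hp, rfl⟩

theorem GLC_mem (p : List ℕ × ℕ) (hp : p ∈ GLC) : evalW p.1 ∈ G9 := by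
  have hW : p.1 ∈ GL9 := by
    rw [GL9_eq, List.mem_map]
    exact ⟨p, hp, rfl⟩
  obtain ⟨h1, h2⟩ := searchAll_sound (lvlM tm9) (finM Ms9) p.1 hW
  exact (mem_G9_iff _).2 ⟨evalW_mem_M24 p.1 h1, fixesAll_of_finM Ms9 p.1 h1 h2⟩

/-! ### Iterating a coded action -/

/-- iterate a map on encoded points -/
def iterF (f : ℕ → ℕ) : ℕ → ℕ → ℕ
  | 0, x => x
  | n + 1, x => f (iterF f n x)

theorem idx_pow (g : Equiv.Perm GolayPt) (f : ℕ → ℕ) (h : ∀ q : GolayPt, idx (g q) = f (idx q))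
    (n : ℕ) (q : GolayPt) : idx ((g ^ n) q) = iterF f n (idx q) := by
  induction n with
  | zero => rfl
  | succ n ih =>
    rw [pow_succ', Equiv.Perm.mul_apply, h, ih]
    rfl

/-- the `n`-th power of the coded map is the identity -/
def powC (f : ℕ → ℕ) (n : ℕ) : Bool := (List.range 24).all fun x => iterF f n x == x

theorem powC_iff (g : Equiv.Perm GolayPt) (f : ℕ → ℕ) (h : ∀ q : GolayPt, idx (g q) = f (idx q))
    (n : ℕ) : g ^ n = 1 ↔ powC f n = true := by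
  constructor
  · intro hg
    apply all_range_of_forall_idx
    intro q
    rw [beq_iff_eq, ← idx_pow g f h n q, hg, Equiv.Perm.one_apply]
  · intro hc
    apply eq_of_idx
    intro q
    have := forall_idx_of_all_range _ hc q
    rw [beq_iff_eq] at this
    rw [idx_pow g f h n q, this, Equiv.Perm.one_apply]

/-- elements of order dividing three -/
def TL : List (List ℕ × ℕ) := GLC.filter fun p => powC (app p.2) 3

theorem TL_length : TL.length = 9 := by decide +kernel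

set_option maxRecDepth 100000 in
theorem TL_closed : (TL.all fun p => TL.all fun q =>
    powC (fun x => app p.2 (app q.2 x)) 3) = true := by decide +kernel

set_option maxRecDepth 100000 in
theorem no9 : (GLC.all fun p => !(powC (app p.2) 9) || powC (app p.2) 3) = true := by
  decide +kernel

theorem G9_h1 (x y : ↥G9) (hx : x ^ 3 = 1) (hy : y ^ 3 = 1) : (x * y) ^ 3 = 1 := by
  obtain ⟨p, hp, ep⟩ := G9_sub x.1 x.2
  obtain ⟨q, hq, eq⟩ := G9_sub y.1 y.2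
  have hx' : (x.1 : Equiv.Perm GolayPt) ^ 3 = 1 := by
    have := congrArg Subtype.val hx
    exact this
  have hy' : (y.1 : Equiv.Perm GolayPt) ^ 3 = 1 := by
    have := congrArg Subtype.val hy
    exact this
  have hpT : p ∈ TL := by
    unfold TL
    rw [List.mem_filter]
    refine ⟨hp, ?_⟩
    rw [← powC_iff (evalW p.1) (app p.2) (codesOK_idx GLC GLC_ok p hp) 3, ← ep]
    exact hx'
  have hqT : q ∈ TL := by
    unfold TL
    rw [List.mem_filter]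
    refine ⟨hq, ?_⟩
    rw [← powC_iff (evalW q.1) (app q.2) (codesOK_idx GLC GLC_ok q hq) 3, ← eq]
    exact hy'
  have h := TL_closed
  rw [List.all_eq_true] at h
  have h2 := h p hpT
  rw [List.all_eq_true] at h2
  have h3 := h2 q hqT
  have hxy : ((x.1 : Equiv.Perm GolayPt) * y.1) ^ 3 = 1 := by
    rw [powC_iff _ (fun z => app p.2 (app q.2 z)) _ 3]
    · exact h3
    · intro r
      rw [Equiv.Perm.mul_apply, ep, eq, codesOK_idx GLC GLC_ok p hp, codesOK_idx GLC GLC_ok q hq]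
  exact Subtype.ext hxy

theorem G9_h2 (x : ↥G9) (hx : x ^ 9 = 1) : x ^ 3 = 1 := by
  obtain ⟨p, hp, ep⟩ := G9_sub x.1 x.2
  have hx' : (x.1 : Equiv.Perm GolayPt) ^ 9 = 1 := by
    have := congrArg Subtype.val hx
    exact this
  have h := no9
  rw [List.all_eq_true] at h
  have h2 := h p hp
  rw [ep, powC_iff (evalW p.1) (app p.2) (codesOK_idx GLC GLC_ok p hp) 9] at hx'
  rw [hx', Bool.not_true, Bool.false_or] at h2
  rw [← powC_iff (evalW p.1) (app p.2) (codesOK_idx GLC GLC_ok p hp) 3, ← ep] at h2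
  exact Subtype.ext h2

theorem G9_h3 : Nat.card {x : ↥G9 // x ^ 3 = 1} = 9 := by
  have hsub : ∀ p ∈ TL, p ∈ GLC := fun p hp => (List.mem_filter.1 hp).1
  have hok : codesOK TL = true := by
    have h := GLC_ok
    unfold codesOK at h ⊢
    rw [List.all_eq_true] at h ⊢
    exact fun p hp => h p (hsub p hp)
  have hnd : (TL.map fun p => codeW p.1).Nodup :=
    List.Nodup.sublist (List.Sublist.map _ List.filter_sublist) GLC_nodup
  have hA := ncard_of_coded TL hok hnd {g | g ∈ G9 ∧ g ^ 3 = 1} (by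
    rintro g ⟨hg, h3⟩
    obtain ⟨p, hp, rfl⟩ := G9_sub g hg
    refine ⟨p, ?_, rfl⟩
    unfold TL
    rw [List.mem_filter]
    refine ⟨hp, ?_⟩
    rw [← powC_iff (evalW p.1) (app p.2) (codesOK_idx GLC GLC_ok p hp) 3]
    exact h3) (by
    intro p hp
    have hp' := hsub p hp
    refine ⟨GLC_mem p hp', ?_⟩
    rw [powC_iff (evalW p.1) (app p.2) (codesOK_idx GLC GLC_ok p hp') 3]
    unfold TL at hp
    exact of_decide_eq_true (by simpa using (List.mem_filter.1 hp).2))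
  rw [TL_length] at hA
  rw [← hA, ← Nat.card_coe_set_eq]
  apply Nat.card_congr
  exact
    { toFun := fun x => ⟨x.1.1, x.1.2, congrArg Subtype.val x.2⟩
      invFun := fun g => ⟨⟨g.1, g.2.1⟩, Subtype.ext g.2.2⟩
      left_inv := fun x => rfl
      right_inv := fun g => rfl }

theorem card_G9 : Nat.card ↥G9 = 72 :=
  Dod3.card_K3 _ (by rw [← Dod3.dod0_eq]; exact dod0_mem) _ _ _
    (by rw [mem_maskSet]; decide) (by rw [mem_maskSet]; decide) (by rw [mem_maskSet]; decide)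
    (by decide) (by decide) (by decide)

/-! ### The quaternion subgroup -/

def waL : List (List ℕ) := [[], [2, 1, 0, 1, 2, 2, 3, 5, 5, 4, 6, 11, 10], [12, 11], [2, 1, 0, 1, 2, 2, 3, 5, 5, 4, 6, 12, 10]]

def wxaL : List (List ℕ) := [[2, 2, 1, 0, 1, 2, 3, 2, 2, 3, 4, 5, 5, 4, 6, 11], [0, 2, 2, 0, 1, 2, 0, 0, 2, 0, 0, 2, 3, 2, 2, 3, 5, 4, 7, 6, 7, 11, 10], [2, 2, 1, 0, 1, 2, 3, 2, 2, 3, 4, 5, 5, 4, 6, 12], [0, 2, 2, 0, 1, 2, 0, 0, 2, 0, 0, 2, 3, 2, 2, 3, 5, 4, 7, 6, 7, 12, 10]]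

def wa (i : ZMod 4) : List ℕ := waL.getD i.val []

def wxa (i : ZMod 4) : List ℕ := wxaL.getD i.val []

theorem wa_ok : ∀ i : ZMod 4, (∀ l ∈ wa i, l < ngen) ∧ finM Ms9 (wa i) = true := by decide +kernel

theorem wxa_ok : ∀ i : ZMod 4, (∀ l ∈ wxa i, l < ngen) ∧ finM Ms9 (wxa i) = true := by
  decide +kernel

theorem q_aa : ∀ i j : ZMod 4, ∀ x < 24, appW (wa (i + j)) x = appW (wa i) (appW (wa j) x) := by
  decide +kernel

theorem q_axa : ∀ i j : ZMod 4, ∀ x < 24, appW (wxa (j - i)) x = appW (wa i) (appW (wxa j) x) := by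
  decide +kernel

theorem q_xaa : ∀ i j : ZMod 4, ∀ x < 24, appW (wxa (i + j)) x = appW (wxa i) (appW (wa j) x) := by
  decide +kernel

theorem q_xaxa : ∀ i j : ZMod 4, ∀ x < 24,
    appW (wa (2 + j - i)) x = appW (wxa i) (appW (wxa j) x) := by
  decide +kernel

theorem q_inj_a : ∀ i : ZMod 4, (∀ x < 24, appW (wa i) x = x) → i = 0 := by decide +kernel

theorem q_inj_xa : ∀ i : ZMod 4, ¬ (∀ x < 24, appW (wxa i) x = x) := by decide +kernel

/-- the words of the quaternion subgroup -/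
def qW : QuaternionGroup 2 → List ℕ
  | QuaternionGroup.a i => wa i
  | QuaternionGroup.xa i => wxa i

theorem qW_ok (x : QuaternionGroup 2) : (∀ l ∈ qW x, l < ngen) ∧ finM Ms9 (qW x) = true := by
  cases x with
  | a i => exact wa_ok i
  | xa i => exact wxa_ok i

theorem evalW_mul_of (W₁ W₂ W₃ : List ℕ) (h₁ : ∀ l ∈ W₁, l < ngen) (h₂ : ∀ l ∈ W₂, l < ngen)
    (h₃ : ∀ l ∈ W₃, l < ngen) (h : ∀ x < 24, appW W₃ x = appW W₁ (appW W₂ x)) :
    evalW W₃ = evalW W₁ * evalW W₂ := by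
  apply eq_of_idx
  intro q
  rw [Equiv.Perm.mul_apply, idx_evalW W₃ h₃, idx_evalW W₁ h₁, idx_evalW W₂ h₂]
  exact h _ (M24.idx_lt q)

theorem qW_mul (x y : QuaternionGroup 2) : evalW (qW (x * y)) = evalW (qW x) * evalW (qW y) := by
  apply evalW_mul_of _ _ _ (qW_ok x).1 (qW_ok y).1 (qW_ok (x * y)).1
  cases x with
  | a i =>
    cases y with
    | a j => exact q_aa i j
    | xa j => exact q_axa i j
  | xa i =>
    cases y with
    | a j => exact q_xaa i j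
    | xa j => exact q_xaxa i j

/-- the embedding of the quaternion group -/
def qHom : QuaternionGroup 2 →* ↥G9 :=
  MonoidHom.mk' (fun x => ⟨evalW (qW x), (mem_G9_iff _).2
    ⟨evalW_mem_M24 _ (qW_ok x).1, fixesAll_of_finM Ms9 _ (qW_ok x).1 (qW_ok x).2⟩⟩)
    (fun x y => Subtype.ext (qW_mul x y))

theorem qHom_injective : Function.Injective qHom := by
  rw [injective_iff_map_eq_one]
  intro x hx
  have h1 : evalW (qW x) = 1 := congrArg Subtype.val hx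
  have h2 : ∀ z < 24, appW (qW x) z = z := by
    intro z hz
    have := idx_evalW (qW x) (qW_ok x).1 (dec z)
    rw [h1, Equiv.Perm.one_apply, idx_dec ⟨z, hz⟩] at this
    exact this.symm
  cases x with
  | a i =>
    have := q_inj_a i h2
    rw [this]
    rfl
  | xa i => exact absurd h2 (q_inj_xa i)

/-- the Sylow subgroups of the base group -/
theorem G9_sylow3 : ∀ Q : Sylow 3 ↥G9, (Q : Subgroup ↥G9).Normal ∧ Nat.card ↥Q = 9 ∧
    ∀ x ∈ (Q : Subgroup ↥G9), x ^ 3 = 1 :=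
  sylow3_of_72 card_G9 G9_h1 G9_h2 G9_h3

theorem G9_sylow2 : ∀ P : Sylow 2 ↥G9, Nonempty (↥P ≃* QuaternionGroup 2) :=
  sylow2_of_72 card_G9 qHom qHom_injective

end Cfsg.Agent.Helper29.M9
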