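import Mathlib
import Cfsg.Agent.Lib.Helper29.M24Conj
import Cfsg.Agent.Lib.Helper29.M24Dodecad3
import Cfsg.Agent.Lib.Helper29.M24SextetTab

set_option autoImplicit false
open Cfsg

namespace Cfsg.Agent.Helper29.PairStab

open Cfsg.Agent.Helper27 Cfsg.Agent.Helper29 Cfsg.Agent.Helper29.M24
open Cfsg.Agent.S0358 (idx)
open scoped Pointwise

/-! ### The stabilizer of the standard dodecad, one of its points and a pair outside -/

/-- masks: the dodecad, its complement, the point, the pair -/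
def Ms5 : List ℕ := [340831, 16436384, 1, 8388640]

def tm5 (i : ℕ) : ℕ := [8388640, 1, 340831, 340831, 340831, 8388640, 340831].getD i 0

theorem tm5_ok : ∀ i < 7, tm5 i ∈ Ms5 ∧ (tm5 i).testBit (bpt i) = true := by decide

/-- words for the 120 elements -/
def GL5 : List (List ℕ) := searchAll (lvlM tm5) (finM Ms5)

/-- the words with the codes of their actions -/
def G5C : List (List ℕ × ℕ) := [
  ([0, 2, 2, 0, 1, 2, 0, 0, 2, 0, 0, 2, 3, 2, 2, 4, 5, 4, 5, 4, 7, 7, 6, 11, 10], 217611653337763082147446109433635008),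
  ([0, 2, 2, 0, 1, 2, 0, 0, 2, 0, 0, 2, 3, 2, 2, 4, 5, 4, 5, 4, 7, 7, 6, 12, 10], 236965237776001255231281930577518784),
  ([0, 2, 2, 0, 1, 2, 0, 0, 2, 0, 0, 2, 3, 2, 2, 4, 4, 5, 4, 6, 6, 6, 6, 10, 9], 222552032579028264457711235530932416),
  ([0, 2, 2, 0, 1, 2, 0, 0, 2, 0, 0, 2, 3, 2, 2, 4, 4, 5, 4, 6, 6, 6, 6, 12, 11, 10, 9], 235375635558829140802991065239306432),
  ([0, 2, 2, 0, 1, 2, 0, 0, 2, 0, 0, 2, 3, 2, 2, 4, 4, 4, 4, 4, 5, 4, 6, 7, 6, 7, 8, 8, 12, 11, 9], 217571246595310612122040093598943424),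
  ([0, 2, 2, 0, 1, 2, 0, 0, 2, 0, 0, 2, 3, 2, 2, 4, 4, 4, 4, 4, 5, 4, 6, 7, 6, 7, 8, 8, 9], 227877471271564488332498145997097152),
  ([0, 2, 2, 0, 1, 2, 0, 0, 2, 0, 0, 2, 3, 2, 2, 4, 5, 7, 6, 8, 8, 10, 9], 227755381100005911481382526495818944),
  ([0, 2, 2, 0, 1, 2, 0, 0, 2, 0, 0, 2, 3, 2, 2, 4, 5, 7, 6, 8, 8, 12, 11, 10, 9], 235740600687532869040822180309959872),
  ([0, 2, 2, 0, 1, 2, 0, 0, 2, 0, 0, 2, 3, 2, 2, 5, 7, 6, 6, 7, 6, 11, 10], 236681085738091196965317018400171200),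
  ([0, 2, 2, 0, 1, 2, 0, 0, 2, 0, 0, 2, 3, 2, 2, 5, 7, 6, 6, 7, 6, 12, 10], 222795342583832981306099073760208064),
  ([0, 2, 2, 0, 1, 2, 0, 0, 2, 0, 0, 2, 3, 3, 2, 2, 5, 4, 4, 4, 4, 5, 6, 6, 6, 12, 10, 9], 222281836544808018187636607100754208),
  ([0, 2, 2, 0, 1, 2, 0, 0, 2, 0, 0, 2, 3, 3, 2, 2, 5, 4, 4, 4, 4, 5, 6, 6, 6, 11, 10, 9], 237110930860796887111752653746575648),
  ([0, 2, 2, 0, 1, 2, 0, 0, 2, 0, 0, 2, 3, 3, 2, 2, 4, 4, 5, 4, 7], 234280256857224189134016366325957920),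
  ([0, 2, 2, 0, 1, 2, 0, 0, 2, 0, 0, 2, 3, 3, 2, 2, 4, 4, 5, 4, 7, 12, 11], 232942488088355060935167631816033568),
  ([0, 2, 2, 0, 1, 2, 0, 0, 2, 0, 0, 2, 3, 3, 2, 2, 4, 4, 5, 7, 8, 8], 221546328109491013656963159965188384),
  ([0, 2, 2, 0, 1, 2, 0, 0, 2, 0, 0, 2, 3, 3, 2, 2, 4, 4, 5, 7, 8, 8, 12, 11], 222687524377179926624296738960326944),
  ([0, 2, 2, 0, 1, 2, 0, 0, 2, 0, 0, 2, 3, 3, 2, 2, 5, 7, 6, 7, 6, 8, 8, 12], 236826897547861226479206813111230752),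
  ([0, 2, 2, 0, 1, 2, 0, 0, 2, 0, 0, 2, 3, 3, 2, 2, 5, 7, 6, 7, 6, 8, 8, 11], 233955896713040519445220299399307552),
  ([0, 2, 2, 0, 1, 2, 0, 0, 2, 0, 0, 2, 3, 3, 2, 2, 4, 4, 4, 5, 4, 7, 6, 7, 8, 8], 221303216587330239044726381799147808),
  ([0, 2, 2, 0, 1, 2, 0, 0, 2, 0, 0, 2, 3, 3, 2, 2, 4, 4, 4, 5, 4, 7, 6, 7, 8, 8, 12, 11], 233064737567318185703340759218260256),
  ([0, 2, 2, 0, 1, 2, 0, 0, 2, 0, 0, 3, 3, 3, 2, 4, 5, 4, 4, 5, 4, 7, 7, 6, 8, 10], 228001363311221454468151101670655040),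
  ([0, 2, 2, 0, 1, 2, 0, 0, 2, 0, 0, 3, 3, 3, 2, 4, 5, 4, 4, 5, 4, 7, 7, 6, 8, 12, 11, 10], 233233386906768391987032901617288256),
  ([0, 2, 2, 0, 1, 2, 0, 0, 2, 0, 0, 3, 3, 3, 2, 4, 4, 5, 7, 6, 7, 6, 12, 11, 9], 230223892696106806863731638728736832),
  ([0, 2, 2, 0, 1, 2, 0, 0, 2, 0, 0, 3, 3, 3, 2, 4, 4, 5, 7, 6, 7, 6, 9], 221255345166727967545853571384295488),
  ([0, 2, 2, 0, 1, 2, 0, 0, 2, 0, 0, 3, 3, 3, 2, 4, 4, 4, 4, 5, 4, 6, 6, 6, 6, 8, 10], 228082611514956681745175713699469376),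
  ([0, 2, 2, 0, 1, 2, 0, 0, 2, 0, 0, 3, 3, 3, 2, 4, 4, 4, 4, 5, 4, 6, 6, 6, 6, 8, 12, 11, 10], 217658950894363298784388740057012288),
  ([0, 2, 2, 0, 1, 2, 0, 0, 2, 0, 0, 3, 3, 3, 2, 4, 5, 7, 6, 6, 6, 7, 6, 8, 12, 11, 9], 230670145485465864170728665953771584),
  ([0, 2, 2, 0, 1, 2, 0, 0, 2, 0, 0, 3, 3, 3, 2, 4, 5, 7, 6, 6, 6, 7, 6, 8, 9], 217374640979208159749142808908701760),
  ([0, 2, 2, 0, 1, 2, 0, 0, 2, 0, 0, 3, 3, 3, 2, 5, 6, 7, 8, 11, 10], 221498694166642884308886271984804928),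
  ([0, 2, 2, 0, 1, 2, 0, 0, 2, 0, 0, 3, 3, 3, 2, 5, 6, 7, 8, 12, 10], 232827421405904339684847255873266752),
  ([0, 2, 2, 0, 1, 2, 0, 0, 2, 0, 0, 2, 3, 2, 2, 3, 4, 5, 4, 6, 7, 10, 9], 227618753294056793865427140508981280),
  ([0, 2, 2, 0, 1, 2, 0, 0, 2, 0, 0, 2, 3, 2, 2, 3, 4, 5, 4, 6, 7, 12, 11, 10, 9], 235249743767511380627629882912348192),
  ([0, 2, 2, 0, 1, 2, 0, 0, 2, 0, 0, 2, 3, 2, 2, 3, 4, 4, 5, 4, 6, 7, 8, 10], 234087195543560038524201801623184416),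
  ([0, 2, 2, 0, 1, 2, 0, 0, 2, 0, 0, 2, 3, 2, 2, 3, 4, 4, 5, 4, 6, 7, 8, 12, 11, 10], 233261076057752444570079998259930144),
  ([0, 2, 2, 0, 1, 2, 0, 0, 2, 0, 0, 2, 3, 2, 2, 3, 4, 5, 4, 4, 5, 4, 6, 6, 8, 12, 11, 9], 234371307503161862163929120880336928),
  ([0, 2, 2, 0, 1, 2, 0, 0, 2, 0, 0, 2, 3, 2, 2, 3, 4, 5, 4, 4, 5, 4, 6, 6, 8, 9], 226779289883713961998112600821473312),
  ([0, 2, 2, 0, 1, 2, 0, 0, 2, 0, 0, 2, 3, 2, 2, 3, 5, 4, 7, 6, 7, 11, 10], 232652365823391711183829569059784736),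
  ([0, 2, 2, 0, 1, 2, 0, 0, 2, 0, 0, 2, 3, 2, 2, 3, 5, 4, 7, 6, 7, 12, 10], 227578386318009578406903204956702752),
  ([0, 2, 2, 0, 1, 2, 0, 0, 2, 0, 0, 2, 3, 2, 2, 3, 4, 6, 7, 8, 12, 10, 9], 226332958175679868572204196623171616),
  ([0, 2, 2, 0, 1, 2, 0, 0, 2, 0, 0, 2, 3, 2, 2, 3, 4, 6, 7, 8, 11, 10, 9], 235655867277392628769175291619065888),
  ([0, 2, 2, 0, 1, 2, 0, 0, 2, 0, 0, 2, 2, 2, 3, 4, 5, 5, 4, 6, 7, 6, 10, 9], 226174978139368697859700820698833408),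
  ([0, 2, 2, 0, 1, 2, 0, 0, 2, 0, 0, 2, 2, 2, 3, 4, 5, 5, 4, 6, 7, 6, 12, 11, 10, 9], 230579916661656836397253890370806272),
  ([0, 2, 2, 0, 1, 2, 0, 0, 2, 0, 0, 2, 2, 2, 3, 5, 4, 4, 4, 4, 5, 7, 7, 6, 7, 6, 12, 11, 9], 230539629535157942664910501162060288),
  ([0, 2, 2, 0, 1, 2, 0, 0, 2, 0, 0, 2, 2, 2, 3, 5, 4, 4, 4, 4, 5, 7, 7, 6, 7, 6, 9], 220981463544619061413411678827645440),
  ([0, 2, 2, 0, 1, 2, 0, 0, 2, 0, 0, 2, 2, 2, 3, 4, 4, 5, 4, 6, 6, 8, 8, 12, 10, 9], 235863649240358179170700359039883776),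
  ([0, 2, 2, 0, 1, 2, 0, 0, 2, 0, 0, 2, 2, 2, 3, 4, 4, 5, 4, 6, 6, 8, 8, 11, 10, 9], 222607847968386424339289794077432320),
  ([0, 2, 2, 0, 1, 2, 0, 0, 2, 0, 0, 2, 2, 2, 3, 4, 5, 4, 4, 5, 4, 6, 6, 7, 6, 7, 8, 8, 11, 10], 222769592142339659428648106017826304),
  ([0, 2, 2, 0, 1, 2, 0, 0, 2, 0, 0, 2, 2, 2, 3, 4, 5, 4, 4, 5, 4, 6, 6, 7, 6, 7, 8, 8, 12, 10], 221589737482499327512262486208423424),
  ([0, 2, 2, 0, 1, 2, 0, 0, 2, 0, 0, 2, 2, 2, 3, 4, 4, 4, 4, 4, 5, 4, 6, 6], 235782043968303495532961066980345344),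
  ([0, 2, 2, 0, 1, 2, 0, 0, 2, 0, 0, 2, 2, 2, 3, 4, 4, 4, 4, 4, 5, 4, 6, 6, 12, 11], 226499615504742151499110634870932992),
  ([0, 2, 2, 0, 1, 2, 0, 0, 2, 0, 0, 3, 3, 2, 5, 5, 4, 7, 6, 6, 8, 10, 9], 217203894423776824766483921722837248),
  ([0, 2, 2, 0, 1, 2, 0, 0, 2, 0, 0, 3, 3, 2, 5, 5, 4, 7, 6, 6, 8, 12, 11, 10, 9], 230380743615963768346752783139375360),
  ([0, 2, 2, 0, 1, 2, 0, 0, 2, 0, 0, 3, 3, 2, 5, 4, 5, 4, 6, 7, 8, 8, 12, 9], 226297792120466314830782935684202752),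
  ([0, 2, 2, 0, 1, 2, 0, 0, 2, 0, 0, 3, 3, 2, 5, 4, 5, 4, 6, 7, 8, 8, 11, 9], 230624449504068125033018689321025792),
  ([0, 2, 2, 0, 1, 2, 0, 0, 2, 0, 0, 3, 3, 2, 4, 4, 4, 4, 5, 7, 6, 6, 6, 7, 6, 8, 12], 236872323915901267203337679925549312),
  ([0, 2, 2, 0, 1, 2, 0, 0, 2, 0, 0, 3, 3, 2, 4, 4, 4, 4, 5, 7, 6, 6, 6, 7, 6, 8, 11], 217244379777836183387642482196355328),
  ([0, 2, 2, 0, 1, 2, 0, 0, 2, 0, 0, 3, 3, 2, 4, 5, 4, 4, 5, 4, 7, 6, 6, 7, 6, 8, 8], 234124267970861135352840637137888512),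
  ([0, 2, 2, 0, 1, 2, 0, 0, 2, 0, 0, 3, 3, 2, 4, 5, 4, 4, 5, 4, 7, 6, 6, 7, 6, 8, 8, 12, 11], 237035019059890633598361414335538432),
  ([0, 2, 2, 0, 1, 2, 0, 0, 2, 0, 0, 3, 3, 2, 4, 4, 4, 4, 4, 5, 4, 7, 6, 6, 7, 6, 8, 8, 12, 10, 9], 226662716474521036733026438930892032),
  ([0, 2, 2, 0, 1, 2, 0, 0, 2, 0, 0, 3, 3, 2, 4, 4, 4, 4, 4, 5, 4, 7, 6, 6, 7, 6, 8, 8, 11, 10, 9], 234529717714971488925167751682721024),
  ([], 984818244535754528103549039458486304), ([12, 11], 970499966350631336865513127433832480),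
  ([5, 4, 4, 4, 5, 6, 6, 7, 6, 7, 8, 12, 11, 9], 968955966875123533138286166201145376),
  ([5, 4, 4, 4, 5, 6, 6, 7, 6, 7, 8, 9], 978239198764604640668953934463309856),
  ([4, 5, 4, 5, 4, 6, 6], 969240118097008726526406917528625184),
  ([4, 5, 4, 5, 4, 6, 6, 12, 11], 970459361523271695787015306425278496),
  ([5, 4, 4, 4, 4, 5, 6, 6, 6, 8, 8, 12, 10, 9], 978076899444677511050001024522036256),
  ([5, 4, 4, 4, 4, 5, 6, 6, 6, 8, 8, 11, 10, 9], 965056821765719142683987426599674912),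
  ([4, 4, 5, 6, 6, 7, 6, 7, 8, 8], 984574657262612311324662570656612384),
  ([4, 4, 5, 6, 6, 7, 6, 7, 8, 8, 12, 11], 965300289861748889990672440075108384),
  ([2, 2, 2, 4, 4, 4, 5, 7, 6, 8, 11, 10], 984355386066803413838770983050249280),
  ([2, 2, 2, 4, 4, 4, 5, 7, 6, 8, 12, 10], 969958826742993894265839954570609728),
  ([2, 2, 2, 4, 5, 4, 5, 4, 6, 6, 6, 11, 10], 974186084037290364777003380473472064),
  ([2, 2, 2, 4, 5, 4, 5, 4, 6, 6, 6, 12, 10], 983351572974849664803883075435373632),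
  ([2, 2, 2, 5, 4, 4, 4, 4, 5, 6, 7, 6, 7, 8, 8, 11, 10], 981652558413283068122039129386598464),
  ([2, 2, 2, 5, 4, 4, 4, 4, 5, 6, 7, 6, 7, 8, 8, 12, 10], 984720548920155097964205567319294016),
  ([2, 2, 2, 5, 4, 4, 5, 4, 7, 7, 6, 7, 6, 8, 12], 970283266291841422874497962259947584),
  ([2, 2, 2, 5, 4, 4, 5, 4, 7, 7, 6, 7, 6, 8, 11], 983067143795539784453592502664339520),
  ([2, 2, 2, 4, 4, 4, 4, 5, 4, 7, 7, 6, 7, 6, 8, 12, 10, 9], 982058404300611374656357812083497024),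
  ([2, 2, 2, 4, 4, 4, 4, 5, 4, 7, 7, 6, 7, 6, 8, 11, 10, 9], 974348224049812946477808066979043392),
  ([3, 3, 6, 8, 12, 9], 968662099639242625730464588605490368),
  ([3, 3, 6, 8, 11, 9], 977905581274514942047627828674495680),
  ([3, 3, 4, 4, 5, 4, 6, 6, 6, 7, 6, 8, 11, 10], 982224155767909524168889505747699904),
  ([3, 3, 4, 4, 5, 4, 6, 6, 6, 7, 6, 8, 12, 10], 974475317124959677040302587475265728),
  ([3, 3, 4, 4, 4, 4, 4, 5, 4, 6, 6, 7, 6, 7, 8, 8], 980958309107290892929826708479459520),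
  ([3, 3, 4, 4, 4, 4, 4, 5, 4, 6, 6, 7, 6, 7, 8, 8, 12, 11], 981980925563086763750854056418394304),
  ([3, 3, 4, 4, 5, 7, 6, 7, 12, 11, 9], 968986657566102297500802845123158208),
  ([3, 3, 4, 4, 5, 7, 6, 7, 9], 980511541392919065024443518049198272),
  ([3, 3, 5, 4, 6, 6, 7, 6, 8, 10, 9], 973866686720804476622819661296280768),
  ([3, 3, 5, 4, 6, 6, 7, 6, 8, 12, 11, 10, 9], 978311506716414001723901798772745408),
  ([3, 2, 2, 3, 5, 4, 4, 4, 4, 5, 7, 7, 6, 10, 9], 980355909918726333671898329756320000),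
  ([3, 2, 2, 3, 5, 4, 4, 4, 4, 5, 7, 7, 6, 12, 11, 10, 9], 975674583956380680074194843309555968),
  ([3, 2, 2, 3, 4, 4, 4, 4, 5, 6, 6, 6, 7, 6, 8, 8], 980761875422008216500370354613917952),
  ([3, 2, 2, 3, 4, 4, 4, 4, 5, 6, 6, 6, 7, 6, 8, 8, 12, 11], 969196510957040032812623886447679744),
  ([3, 2, 2, 3, 5, 4, 4, 5, 4, 7, 7, 6, 7, 6, 12], 983553042649537266979977019204733184),
  ([3, 2, 2, 3, 5, 4, 4, 5, 4, 7, 7, 6, 7, 6, 11], 970257515862777371154748215719790848),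
  ([3, 2, 2, 3, 4, 4, 5, 7, 12, 10, 9], 970379725149793591663282045170353408),
  ([3, 2, 2, 3, 4, 4, 5, 7, 11, 10, 9], 969277917667870129153987709871719680),
  ([3, 2, 2, 3, 5, 4, 6, 6, 7, 6, 7, 11, 10], 982944688847601544963149091911050496),
  ([3, 2, 2, 3, 5, 4, 6, 6, 7, 6, 7, 12, 10], 975431393081540716718668934846948608),
  ([2, 3, 3, 2, 2, 6, 6, 6, 8, 12, 9], 964903485947500319953893159423345952),
  ([2, 3, 3, 2, 2, 6, 6, 6, 8, 11, 9], 978355761918629566805193093439456544),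
  ([2, 3, 3, 2, 2, 5, 5, 4, 6, 6, 7, 6, 12, 10, 9], 975324830235885707264894193849934112),
  ([2, 3, 3, 2, 2, 5, 5, 4, 6, 6, 7, 6, 11, 10, 9], 983427744463106577443698771870949664),
  ([2, 3, 3, 2, 2, 4, 4, 5, 4, 7, 7, 6, 8], 965268212504371536791655442989334816),
  ([2, 3, 3, 2, 2, 4, 4, 5, 4, 7, 7, 6, 8, 12, 11], 975770646980221403864748301252444448),
  ([2, 3, 3, 2, 2, 5, 4, 4, 5, 4, 6, 6, 6, 8, 10, 9], 978274315129491235839500429281040672),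
  ([2, 3, 3, 2, 2, 5, 4, 4, 5, 4, 6, 6, 6, 8, 12, 11, 10, 9], 973987539224046515479247862101023008),
  ([2, 3, 3, 2, 2, 4, 5, 6, 6, 6, 6, 8, 12, 10, 9], 983467833533712519793701456098756896),
  ([2, 3, 3, 2, 2, 4, 5, 6, 6, 6, 6, 8, 11, 10, 9], 974027984896326309032851386650724640),
  ([2, 3, 2, 2, 3, 4, 4, 4, 5, 7, 6, 6, 6, 7, 6], 980911258911346113107841204323721728),
  ([2, 3, 2, 2, 3, 4, 4, 4, 5, 7, 6, 6, 6, 7, 6, 12, 11], 975286581787269806245098882677711360),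
  ([2, 3, 2, 2, 3, 4, 4, 4, 4, 5, 7, 8, 10], 984644637122988982120502427423999488),
  ([2, 3, 2, 2, 3, 4, 4, 4, 4, 5, 7, 8, 12, 11, 10], 964937475981399069504140369698620928),
  ([2, 3, 2, 2, 3, 4, 4, 5, 4, 7, 11, 10], 975570416600636104522042024642356736),
  ([2, 3, 2, 2, 3, 4, 4, 5, 4, 7, 12, 10], 965342965745788789474711026298660352),
  ([2, 3, 2, 2, 3, 5, 4, 4, 5, 4, 6, 7, 8, 8], 980627066914811913385087217265187328),
  ([2, 3, 2, 2, 3, 5, 4, 4, 5, 4, 6, 7, 8, 8, 12, 11], 981768338684678545046305695285549568),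
  ([2, 3, 2, 2, 3, 4, 4, 4, 4, 4, 5, 4, 6, 7, 6, 7, 8, 12, 10, 9], 981808745361848138686218733556926976),
  ([2, 3, 2, 2, 3, 4, 4, 4, 4, 4, 5, 4, 6, 7, 6, 7, 8, 11, 10, 9], 984522506754647797731288993272236544)]

set_option maxRecDepth 100000 in
theorem GL5_eq : GL5 = G5C.map Prod.fst := by decide +kernel

set_option maxRecDepth 100000 in
theorem G5C_ok : codesOK G5C = true := by decide +kernel

set_option maxRecDepth 100000 in
theorem G5C_nodup : (G5C.map fun p => codeW p.1).Nodup := by decide +kernel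

theorem G5C_length : G5C.length = 120 := by decide +kernel

/-- the stabilizer of a dodecad, one of its points and a set, in the permutation group -/
def KS (d : Finset GolayPt) (p : GolayPt) (s : Finset GolayPt) : Subgroup (Equiv.Perm GolayPt) :=
  Dod3.K1 d p ⊓ MulAction.stabilizer (Equiv.Perm GolayPt) s

theorem mem_KS (d : Finset GolayPt) (p : GolayPt) (s : Finset GolayPt) (g : Equiv.Perm GolayPt) :
    g ∈ KS d p s ↔ ((g ∈ M24 ∧ g • d = d) ∧ g p = p) ∧ g • s = s := by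
  unfold KS
  rw [Subgroup.mem_inf, Dod3.mem_K1, Dod3.mem_K0]
  exact and_congr Iff.rfl MulAction.mem_stabilizer_iff

/-- the base group -/
abbrev G5 : Subgroup (Equiv.Perm GolayPt) := KS (maskSet 340831) (dec 0) (maskSet 8388640)

theorem maskSet_compl9 : maskSet 16436384 = (maskSet 340831)ᶜ := by
  ext x
  rw [Finset.mem_compl, mem_maskSet, mem_maskSet]
  revert x
  decide

theorem maskSet_pair : maskSet 8388640 = {dec 23, dec 5} := by
  ext x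
  rw [mem_maskSet, Finset.mem_insert, Finset.mem_singleton]
  revert x
  decide

theorem mem_G5_iff (g : Equiv.Perm GolayPt) : g ∈ G5 ↔ g ∈ M24 ∧ FixesAll Ms5 g := by
  rw [mem_KS]
  constructor
  · rintro ⟨⟨⟨hM, hd⟩, h0⟩, hs⟩
    refine ⟨hM, ?_⟩
    intro T hT
    unfold Ms5 at hT
    simp only [List.mem_cons, List.not_mem_nil, or_false] at hT
    rcases hT with rfl | rfl | rfl | rfl
    · exact hd
    · rw [maskSet_compl9, Finset.compl_eq_univ_sdiff, Finset.smul_finset_sdiff,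
        Finset.smul_finset_univ, hd]
    · rw [maskSet_one, Finset.smul_finset_singleton, Equiv.Perm.smul_def, h0]
    · exact hs
  · rintro ⟨hM, hF⟩
    have hd := hF 340831 (by decide)
    have h0 := hF 1 (by decide)
    have hs := hF 8388640 (by decide)
    rw [maskSet_one, Finset.smul_finset_singleton, Equiv.Perm.smul_def,
      Finset.singleton_inj] at h0
    exact ⟨⟨⟨hM, hd⟩, h0⟩, hs⟩

theorem G5_sub (g : Equiv.Perm GolayPt) (hg : g ∈ G5) : ∃ p ∈ G5C, g = evalW p.1 := by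
  obtain ⟨hM, hF⟩ := (mem_G5_iff g).1 hg
  obtain ⟨W, hW, rfl⟩ := searchAll_complete (lvlM tm5) (finM Ms5) (FixesAll Ms5)
    (lvlM_ok Ms5 tm5 tm5_ok) (finM_ok Ms5) g hM hF
  have hW' : W ∈ GL5 := hW
  rw [GL5_eq, List.mem_map] at hW'
  obtain ⟨p, hp, rfl⟩ := hW'
  exact ⟨p, hp, rfl⟩

theorem G5C_mem (p : List ℕ × ℕ) (hp : p ∈ G5C) : evalW p.1 ∈ G5 := by
  have hW : p.1 ∈ GL5 := by
    rw [GL5_eq, List.mem_map]
    exact ⟨p, hp, rfl⟩
  obtain ⟨h1, h2⟩ := searchAll_sound (lvlM tm5) (finM Ms5) p.1 hW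
  exact (mem_G5_iff _).2 ⟨evalW_mem_M24 p.1 h1, fixesAll_of_finM Ms5 p.1 h1 h2⟩

theorem card_G5 : Nat.card ↥G5 = 120 := by
  have h := ncard_of_coded G5C G5C_ok G5C_nodup (G5 : Set (Equiv.Perm GolayPt)) G5_sub G5C_mem
  rw [G5C_length] at h
  rw [← h, ← Nat.card_coe_set_eq]
  rfl

/-! ### The invariant set of five points and the isomorphism with the symmetric group -/

/-- the invariant five points of the dodecad -/
def F5 : Finset GolayPt := maskSet 274456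

theorem card_F5 : F5.card = 5 := by
  unfold F5
  rw [card_maskSet]
  decide

set_option maxRecDepth 100000 in
theorem G5C_inv : (G5C.all fun p => decide (mapsW p.1 274456 274456)) = true := by decide +kernel

/-- the code fixes the five points -/
def fixF (c : ℕ) : Bool := [3, 4, 12, 13, 18].all fun x => app c x == x

/-- the code is that of the identity -/
def isId (c : ℕ) : Bool := (List.range 24).all fun x => app c x == x

set_option maxRecDepth 100000 in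
theorem G5C_faithful : (G5C.all fun p => !(fixF p.2) || isId p.2) = true := by decide +kernel

theorem F5_mem : ∀ x ∈ [3, 4, 12, 13, 18], dec x ∈ F5 := by
  intro x hx
  unfold F5
  rw [mem_maskSet]
  revert x
  decide

theorem F5_lt : ∀ x ∈ [3, 4, 12, 13, 18], x < 24 := by decide

theorem G5_smul_F5 (g : Equiv.Perm GolayPt) (hg : g ∈ G5) : g • F5 = F5 := by
  obtain ⟨p, hp, rfl⟩ := G5_sub g hg
  have h := G5C_inv
  rw [List.all_eq_true] at h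
  have h2 := of_decide_eq_true (h p hp)
  exact smul_eq_of_mapsW p.1 (codesOK_letters G5C G5C_ok p hp) 274456 274456 le_rfl h2

theorem G5_faithful (g : Equiv.Perm GolayPt) (hg : g ∈ G5) (hfix : ∀ x ∈ F5, g x = x) : g = 1 := by
  obtain ⟨p, hp, rfl⟩ := G5_sub g hg
  have h := G5C_faithful
  rw [List.all_eq_true] at h
  have h2 := h p hp
  have h3 : fixF p.2 = true := by
    unfold fixF
    rw [List.all_eq_true]
    intro x hx
    rw [beq_iff_eq]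
    have h4 := hfix (dec x) (F5_mem x hx)
    have h5 := codesOK_idx G5C G5C_ok p hp (dec x)
    have hx24 : x < 24 := F5_lt x hx
    rw [h4, idx_dec ⟨x, hx24⟩] at h5
    exact h5.symm
  rw [h3, Bool.not_true, Bool.false_or] at h2
  apply eq_of_idx
  intro q
  have h6 := forall_idx_of_all_range _ h2 q
  rw [beq_iff_eq] at h6
  rw [codesOK_idx G5C G5C_ok p hp q, h6, Equiv.Perm.one_apply]

theorem G5_mem_iff (g : ↥G5) (x : GolayPt) : (g : Equiv.Perm GolayPt) x ∈ F5 ↔ x ∈ F5 := by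
  have h := Finset.smul_mem_smul_finset_iff (s := F5) (b := x) (g : Equiv.Perm GolayPt)
  rwa [G5_smul_F5 g.1 g.2] at h

/-- the action on the five points -/
def actF : ↥G5 →* Equiv.Perm ↥F5 where
  toFun g := (g : Equiv.Perm GolayPt).subtypePerm (fun x => G5_mem_iff g x)
  map_one' := by
    ext x
    rfl
  map_mul' a b := by
    ext x
    rfl

theorem actF_injective : Function.Injective actF := by
  rw [injective_iff_map_eq_one]
  intro g hg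
  apply Subtype.ext
  apply G5_faithful g.1 g.2
  intro x hx
  have := congrArg (fun e : Equiv.Perm ↥F5 => ((e ⟨x, hx⟩ : ↥F5) : GolayPt)) hg
  exact this

theorem actF_bijective : Function.Bijective actF := by
  rw [Nat.bijective_iff_injective_and_card]
  refine ⟨actF_injective, ?_⟩
  rw [card_G5, Nat.card_eq_fintype_card, Fintype.card_perm, Fintype.card_coe, card_F5]
  rfl

/-- the base group is the symmetric group of degree five -/
theorem G5_iso : Nonempty (↥G5 ≃* Equiv.Perm (Fin 5)) := by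
  have e1 : ↥G5 ≃* Equiv.Perm ↥F5 := MulEquiv.ofBijective actF actF_bijective
  have e2 : ↥F5 ≃ Fin 5 := Fintype.equivFinOfCardEq (by rw [Fintype.card_coe, card_F5])
  exact ⟨e1.trans e2.permCongrHom⟩

/-! ### Transitivity on the configurations -/

/-- words of elements fixing the dodecad, the point `0` and the point `23`, moving `5` -/
def transTab : List (List ℕ) := [[], [3, 3, 3, 2, 5, 4, 9], [2, 2, 2], [3, 3, 2, 2, 10, 9], [2, 2, 6, 11, 10], [6, 7, 8, 8, 9], [2, 2, 2, 6, 11, 10], [6, 11, 10], [2, 2], [2], [2, 6, 11, 10]]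

/-- masks fixed by these elements -/
def MsT : List ℕ := [340831, 1, 8388608]

theorem transTab_ok : ∀ y < 24, (340831 : ℕ).testBit y = false → y ≠ 23 →
    ∃ W ∈ transTab, (∀ l ∈ W, l < ngen) ∧ finM MsT W = true ∧ appW W 5 = y := by decide +kernel

theorem maskSet_23 : maskSet 8388608 = {dec 23} := by
  ext x
  rw [mem_maskSet, Finset.mem_singleton]
  revert x
  decide

theorem trans11 (y : GolayPt) (hy : y ∉ maskSet 340831) (hy' : y ≠ dec 23) :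
    ∃ h ∈ M24, h • maskSet 340831 = maskSet 340831 ∧ h (dec 0) = dec 0 ∧ h (dec 23) = dec 23 ∧
      h (dec 5) = y := by
  have hb : (340831 : ℕ).testBit (idx y) = false := by
    rw [mem_maskSet] at hy
    simpa using hy
  have hne : idx y ≠ 23 := by
    intro h
    apply hy'
    apply M24.idx_injective
    rw [h, idx_dec ⟨23, by norm_num⟩]
  obtain ⟨W, _, hW, hfin, happ⟩ := transTab_ok (idx y) (M24.idx_lt y) hb hne
  have hF := fixesAll_of_finM MsT W hW hfin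
  have hd := hF 340831 (by decide)
  have h0 := hF 1 (by decide)
  have h23 := hF 8388608 (by decide)
  rw [maskSet_one, Finset.smul_finset_singleton, Equiv.Perm.smul_def,
    Finset.singleton_inj] at h0
  rw [maskSet_23, Finset.smul_finset_singleton, Equiv.Perm.smul_def,
    Finset.singleton_inj] at h23
  refine ⟨evalW W, evalW_mem_M24 W hW, hd, h0, h23, ?_⟩
  apply M24.idx_injective
  rw [idx_evalW W hW, idx_dec ⟨5, by norm_num⟩, happ]

end Cfsg.Agent.Helper29.PairStab
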