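import Mathlib
import Cfsg.Agent.Lib.Helper29.M24Conj
import Cfsg.Agent.Lib.Helper29.M24Dodecad3
import Cfsg.Agent.Lib.Helper29.M24Steiner
import Cfsg.Agent.Lib.Helper29.M24Sextet

set_option autoImplicit false
open Cfsg

namespace Cfsg.Agent.Helper29.Quartet

open Cfsg.Agent.Helper27 Cfsg.Agent.Helper29 Cfsg.Agent.Helper29.M24 Cfsg.Agent.Helper29.Dod3
open Cfsg.Agent.S0358 (idx)
open scoped Pointwise

/-! ### Hexads and quartets of a dodecad under the group of the code -/

theorem smul_hexadsOn (g : Equiv.Perm GolayPt) (hg : g ∈ M24) (d h : Finset GolayPt)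
    (hh : h ∈ hexadsOn d) : g • h ∈ hexadsOn (g • d) := by
  obtain ⟨hc, o, ho, e⟩ := hh
  refine ⟨by rw [Finset.card_smul_finset]; exact hc, g • o, smul_mem_octads hg ho, ?_⟩
  rw [← Finset.smul_finset_inter, e]

theorem smul_quartets (g : Equiv.Perm GolayPt) (hg : g ∈ M24) (d : Finset GolayPt)
    (Q : Finset (Finset GolayPt)) (hQ : Q ∈ quartets d) : g • Q ∈ quartets (g • d) := by
  obtain ⟨hc, h3, hp⟩ := hQ
  refine ⟨by rw [Finset.card_smul_finset]; exact hc, ?_, ?_⟩
  · intro t ht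
    obtain ⟨t0, ht0, rfl⟩ := Finset.mem_smul_finset.1 ht
    exact ⟨by rw [Finset.card_smul_finset]; exact (h3 t0 ht0).1,
      Finset.smul_finset_subset_smul_finset (h3 t0 ht0).2⟩
  · intro t ht u hu hne
    obtain ⟨t0, ht0, rfl⟩ := Finset.mem_smul_finset.1 ht
    obtain ⟨u0, hu0, rfl⟩ := Finset.mem_smul_finset.1 hu
    have : t0 ≠ u0 := fun h => hne (by rw [h])
    rw [← Finset.smul_finset_union]
    exact smul_hexadsOn g hg d _ (hp t0 ht0 u0 hu0 this)

/-- a hexad is determined by five of its points -/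
theorem hexad_unique (d h1 h2 : Finset GolayPt) (hh1 : h1 ∈ hexadsOn d) (hh2 : h2 ∈ hexadsOn d)
    (h : 5 ≤ (h1 ∩ h2).card) : h1 = h2 := by
  obtain ⟨-, o1, ho1, e1⟩ := hh1
  obtain ⟨-, o2, ho2, e2⟩ := hh2
  have : o1 = o2 := octad_eq_of_inter o1 o2 ho1 ho2 (le_trans h (Finset.card_le_card (by
    rw [← e1, ← e2]
    intro x hx
    simp only [Finset.mem_inter] at hx ⊢
    exact ⟨hx.1.1, hx.2.1⟩)))
  rw [← e1, ← e2, this]

/-! ### The standard quartet -/

/-- masks of the triples of the standard quartet of the standard dodecad -/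
def Q0L : List ℕ := [7, 336, 70144, 270344]

/-- the standard quartet -/
def Q0 : Finset (Finset GolayPt) := famSet Q0L

theorem card_Q0 : Q0.card = 4 :=
  card_famSet Q0L (by decide) (by decide)

theorem Q0L_props : ∀ m ∈ Q0L, pop24 m = 3 ∧ m &&& 340831 = m := by decide

theorem Q0L_pairs : ∀ m ∈ Q0L, ∀ m' ∈ Q0L, m ≠ m' →
    ∃ n ∈ [1308, 845, 1616, 1617, 844, 1309], n < 4096 ∧ pop24 (cw n) = 8 ∧
      cw n &&& 340831 = m ||| m' ∧ pop24 (m ||| m') = 6 := by decide +kernel

theorem Q0_mem : Q0 ∈ quartets (maskSet 340831) := by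
  refine ⟨card_Q0, ?_, ?_⟩
  · intro t ht
    obtain ⟨m, hm, rfl⟩ := (mem_famSet _ _).1 ht
    obtain ⟨h1, h2⟩ := Q0L_props m hm
    refine ⟨by rw [card_maskSet, h1], ?_⟩
    rw [← h2, maskSet_and]
    exact Finset.inter_subset_right
  · intro t ht u hu hne
    obtain ⟨m, hm, rfl⟩ := (mem_famSet _ _).1 ht
    obtain ⟨m', hm', rfl⟩ := (mem_famSet _ _).1 hu
    have hmm : m ≠ m' := fun h => hne (by rw [h])
    obtain ⟨n, -, hn, h8, he, h6⟩ := Q0L_pairs m hm m' hm' hmm
    rw [← maskSet_or]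
    refine ⟨by rw [card_maskSet, h6], maskSet (cw n), (mem_octads_iff' _).2 ⟨n, hn, h8, rfl⟩, ?_⟩
    rw [← maskSet_and, he]

/-- the candidates for a third triple -/
def condT (tm n : ℕ) : Bool :=
  pop24 (cw n) == 8 && pop24 (cw n &&& 340831) == 6 && ((cw n &&& 340831) &&& tm == tm)

def vmOf (tm n : ℕ) : ℕ := (cw n &&& 340831) ^^^ tm

set_option maxRecDepth 100000 in
theorem base_check' : ((List.range 4096).all fun n => !(condT 7 n) ||
    (List.range 4096).all fun n' => !(condT 336 n') || !(vmOf 7 n == vmOf 336 n') ||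
      (vmOf 7 n == 70144 || vmOf 7 n == 270344)) = true := by decide +kernel

theorem base_check : ∀ n < 4096, condT 7 n = true → ∀ n' < 4096, condT 336 n' = true →
    vmOf 7 n = vmOf 336 n' → vmOf 7 n = 70144 ∨ vmOf 7 n = 270344 := by
  intro n hn h1 n' hn' h2 h3
  have h := base_check'
  rw [List.all_eq_true] at h
  have h4 := h n (List.mem_range.2 hn)
  rw [h1, Bool.not_true, Bool.false_or, List.all_eq_true] at h4
  have h5 := h4 n' (List.mem_range.2 hn')
  rw [h2, Bool.not_true, Bool.false_or, h3, beq_self_eq_true, Bool.not_true, Bool.false_or,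
    Bool.or_eq_true, beq_iff_eq, beq_iff_eq, ← h3] at h5
  exact h5

theorem vmOf_lt (tm n : ℕ) (htm : tm < 2 ^ 24) : vmOf tm n < 2 ^ 24 :=
  Nat.xor_lt_two_pow (Nat.and_lt_two_pow _ (by norm_num)) htm

/-- a triple completing a given triple to a hexad comes from an octad -/
theorem exists_vm (tm : ℕ) (htm : tm < 2 ^ 24) (h3 : pop24 tm = 3) (v : Finset GolayPt)
    (hv : v.card = 3) (hh : maskSet tm ∪ v ∈ hexadsOn (maskSet 340831)) :
    ∃ n < 4096, condT tm n = true ∧ v = maskSet (vmOf tm n) := by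
  obtain ⟨hc6, o, ho, e⟩ := hh
  obtain ⟨n, hn, h8, rfl⟩ := (mem_octads_iff' o).1 ho
  rw [← maskSet_and] at e
  have hdisj : Disjoint (maskSet tm) v := by
    rw [← Finset.card_union_eq_card_add_card, hc6, card_maskSet, h3, hv]
  have hsub : maskSet ((cw n &&& 340831) &&& tm) = maskSet tm := by
    rw [maskSet_and, e]
    exact Finset.inter_eq_right.2 Finset.subset_union_left
  have hand : (cw n &&& 340831) &&& tm = tm :=
    maskSet_inj (Nat.and_lt_two_pow _ htm) htm hsub
  refine ⟨n, hn, ?_, ?_⟩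
  · unfold condT
    rw [Bool.and_eq_true, Bool.and_eq_true, beq_iff_eq, beq_iff_eq, beq_iff_eq]
    refine ⟨⟨h8, ?_⟩, hand⟩
    rw [← card_maskSet, e, hc6]
  · unfold vmOf
    rw [maskSet_xor, e]
    ext x
    rw [Finset.mem_symmDiff]
    constructor
    · intro hx
      exact Or.inl ⟨Finset.mem_union_right _ hx, fun h => Finset.disjoint_left.1 hdisj h hx⟩
    · rintro (⟨hx1, hx2⟩ | ⟨hx1, hx2⟩)
      · rcases Finset.mem_union.1 hx1 with h | h
        · exact absurd h hx2
        · exact h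
      · exact absurd (Finset.mem_union_left _ hx1) hx2

theorem mask7 : maskSet 7 = {dec 0, dec 1, dec 2} := by
  ext x
  rw [mem_maskSet, Finset.mem_insert, Finset.mem_insert, Finset.mem_singleton]
  revert x
  decide

theorem mask336 : maskSet 336 = {dec 4, dec 6, dec 8} := by
  ext x
  rw [mem_maskSet, Finset.mem_insert, Finset.mem_insert, Finset.mem_singleton]
  revert x
  decide

theorem T0_mem : maskSet 7 ∈ Q0 := (mem_famSet _ _).2 ⟨7, by decide, rfl⟩

theorem U0_mem : maskSet 336 ∈ Q0 := (mem_famSet _ _).2 ⟨336, by decide, rfl⟩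

/-- the standard quartet is the only one through its first two triples -/
theorem quartet_base_unique (Q : Finset (Finset GolayPt)) (hQ : Q ∈ quartets (maskSet 340831))
    (ht : maskSet 7 ∈ Q) (hu : maskSet 336 ∈ Q) : Q = Q0 := by
  apply Finset.eq_of_subset_of_card_le
  · intro v hv
    by_cases h1 : v = maskSet 7
    · rw [h1]
      exact T0_mem
    by_cases h2 : v = maskSet 336
    · rw [h2]
      exact U0_mem
    have hv3 := (hQ.2.1 v hv).1
    have hT := hQ.2.2 (maskSet 7) ht v hv (Ne.symm h1)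
    have hU := hQ.2.2 (maskSet 336) hu v hv (Ne.symm h2)
    obtain ⟨n, hn, hc, e⟩ := exists_vm 7 (by norm_num) (by decide) v hv3 hT
    obtain ⟨n', hn', hc', e'⟩ := exists_vm 336 (by norm_num) (by decide) v hv3 hU
    have heq : vmOf 7 n = vmOf 336 n' :=
      maskSet_inj (vmOf_lt _ _ (by norm_num)) (vmOf_lt _ _ (by norm_num)) (by rw [← e, ← e'])
    rcases base_check n hn hc n' hn' hc' heq with h | h
    · rw [e, h]
      exact (mem_famSet _ _).2 ⟨70144, by decide, rfl⟩
    · rw [e, h]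
      exact (mem_famSet _ _).2 ⟨270344, by decide, rfl⟩
  · rw [card_Q0, hQ.1]

theorem d0_mem : maskSet 340831 ∈ dodecads := by
  rw [← dod0_eq]
  exact dod0_mem

/-- the embedding listing pairwise different points -/
def embL (l : List GolayPt) (h : l.Nodup) : Fin l.length ↪ GolayPt :=
  ⟨l.get, List.nodup_iff_injective_get.1 h⟩

theorem hex0_mem : maskSet 7 ∪ maskSet 336 ∈ hexadsOn (maskSet 340831) :=
  Q0_mem.2.2 _ T0_mem _ U0_mem (by
    intro h
    have := maskSet_inj (by norm_num) (by norm_num) h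
    norm_num at this)

theorem disj0 : Disjoint (maskSet 7) (maskSet 336) := by
  rw [Finset.disjoint_iff_inter_eq_empty, ← maskSet_and]
  exact maskSet_zero

/-- two disjoint triples of a dodecad forming a hexad are the image of the standard pair -/
theorem exists_map_tu (d : Finset GolayPt) (hd : d ∈ dodecads) (t u : Finset GolayPt)
    (ht : t.card = 3) (hu : u.card = 3) (htu : Disjoint t u) (hh : t ∪ u ∈ hexadsOn d) :
    ∃ g ∈ M24, g • maskSet 340831 = d ∧ g • maskSet 7 = t ∧ g • maskSet 336 = u := by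
  obtain ⟨t1, t2, t3, h12, h13, h23, rfl⟩ := Finset.card_eq_three.1 ht
  obtain ⟨u1, u2, u3, k12, k13, k23, rfl⟩ := Finset.card_eq_three.1 hu
  have hsub : ∀ x ∈ ({t1, t2, t3} : Finset GolayPt) ∪ {u1, u2, u3}, x ∈ d := by
    obtain ⟨-, o, -, e⟩ := hh
    intro x hx
    rw [← e] at hx
    exact (Finset.mem_inter.1 hx).2
  have hne : ∀ a ∈ ({t1, t2, t3} : Finset GolayPt), ∀ b ∈ ({u1, u2, u3} : Finset GolayPt), a ≠ b := by
    intro a ha b hb hab
    exact Finset.disjoint_left.1 htu ha (hab ▸ hb)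
  have hnd : [t1, t2, t3, u1, u2].Nodup := by
    simp only [List.nodup_cons, List.mem_cons, List.not_mem_nil, or_false, not_or,
      List.nodup_nil, and_true, not_false_eq_true]
    refine ⟨⟨h12, h13, hne t1 (by simp) u1 (by simp), hne t1 (by simp) u2 (by simp)⟩,
      ⟨h23, hne t2 (by simp) u1 (by simp), hne t2 (by simp) u2 (by simp)⟩,
      ⟨hne t3 (by simp) u1 (by simp), hne t3 (by simp) u2 (by simp)⟩, k12⟩
  obtain ⟨g1, hg1⟩ := dodecad_transitive _ d d0_mem hd
  have hg1' : (g1 : Equiv.Perm GolayPt) • maskSet 340831 = d := hg1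
  have hback : ∀ a ∈ d, (g1 : Equiv.Perm GolayPt)⁻¹ a ∈ maskSet 340831 := by
    intro a ha
    rw [← hg1'] at ha
    obtain ⟨b, hb, rfl⟩ := Finset.mem_smul_finset.1 ha
    rw [Equiv.Perm.smul_def, perm_inv_apply]
    exact hb
  have hnd1 : ([t1, t2, t3, u1, u2].map fun a => (g1 : Equiv.Perm GolayPt)⁻¹ a).Nodup :=
    List.Nodup.map (g1 : Equiv.Perm GolayPt)⁻¹.injective hnd
  have hnd0 : [dec 0, dec 1, dec 2, dec 4, dec 6].Nodup := by decide
  obtain ⟨h, hh5⟩ := exists_map_dodecad_emb (le_refl 5) _ d0_mem (embL _ hnd0) (embL _ hnd1)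
    (by
      intro i
      show [dec 0, dec 1, dec 2, dec 4, dec 6].get i ∈ maskSet 340831
      rw [mem_maskSet]
      revert i
      decide)
    (by
      intro i
      fin_cases i
      · exact hback t1 (hsub _ (by simp))
      · exact hback t2 (hsub _ (by simp))
      · exact hback t3 (hsub _ (by simp))
      · exact hback u1 (hsub _ (by simp))
      · exact hback u2 (hsub _ (by simp)))
  have hh0 := (mem_K0 _ _).1 (stab_to_K0 _ h)
  set hP : Equiv.Perm GolayPt := ((h : M24) : Equiv.Perm GolayPt) with hhP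
  set g : Equiv.Perm GolayPt := (g1 : Equiv.Perm GolayPt) * hP with hgdef
  have hgM : g ∈ M24 := Subgroup.mul_mem _ g1.2 hh0.1
  have hgd : g • maskSet 340831 = d := by rw [hgdef, mul_smul, hh0.2, hg1']
  have e0 : g (dec 0) = t1 := by
    have : hP (dec 0) = (g1 : Equiv.Perm GolayPt)⁻¹ t1 := hh5 ⟨0, by decide⟩
    rw [hgdef, Equiv.Perm.mul_apply, this, perm_apply_inv]
  have e1 : g (dec 1) = t2 := by
    have : hP (dec 1) = (g1 : Equiv.Perm GolayPt)⁻¹ t2 := hh5 ⟨1, by decide⟩
    rw [hgdef, Equiv.Perm.mul_apply, this, perm_apply_inv]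
  have e2 : g (dec 2) = t3 := by
    have : hP (dec 2) = (g1 : Equiv.Perm GolayPt)⁻¹ t3 := hh5 ⟨2, by decide⟩
    rw [hgdef, Equiv.Perm.mul_apply, this, perm_apply_inv]
  have e4 : g (dec 4) = u1 := by
    have : hP (dec 4) = (g1 : Equiv.Perm GolayPt)⁻¹ u1 := hh5 ⟨3, by decide⟩
    rw [hgdef, Equiv.Perm.mul_apply, this, perm_apply_inv]
  have e6 : g (dec 6) = u2 := by
    have : hP (dec 6) = (g1 : Equiv.Perm GolayPt)⁻¹ u2 := hh5 ⟨4, by decide⟩
    rw [hgdef, Equiv.Perm.mul_apply, this, perm_apply_inv]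
  have hgT : g • maskSet 7 = {t1, t2, t3} := by
    rw [mask7, Finset.smul_finset_insert, Finset.smul_finset_insert, Finset.smul_finset_singleton,
      Equiv.Perm.smul_def, Equiv.Perm.smul_def, Equiv.Perm.smul_def, e0, e1, e2]
  -- the two hexads share five points
  have hH1 : g • (maskSet 7 ∪ maskSet 336) ∈ hexadsOn d := by
    rw [← hgd]
    exact smul_hexadsOn g hgM _ _ hex0_mem
  have hF : ∀ x ∈ [t1, t2, t3, u1, u2].toFinset,
      x ∈ g • (maskSet 7 ∪ maskSet 336) ∩ (({t1, t2, t3} : Finset GolayPt) ∪ {u1, u2, u3}) := by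
    intro x hx
    rw [List.mem_toFinset] at hx
    simp only [List.mem_cons, List.not_mem_nil, or_false] at hx
    rw [Finset.mem_inter, Finset.smul_finset_union, hgT]
    have hu4 : u1 ∈ g • maskSet 336 := by
      rw [← e4, mask336]
      exact Finset.smul_mem_smul_finset (by simp)
    have hu6 : u2 ∈ g • maskSet 336 := by
      rw [← e6, mask336]
      exact Finset.smul_mem_smul_finset (by simp)
    rcases hx with rfl | rfl | rfl | rfl | rfl
    · exact ⟨Finset.mem_union_left _ (by simp), Finset.mem_union_left _ (by simp)⟩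
    · exact ⟨Finset.mem_union_left _ (by simp), Finset.mem_union_left _ (by simp)⟩
    · exact ⟨Finset.mem_union_left _ (by simp), Finset.mem_union_left _ (by simp)⟩
    · exact ⟨Finset.mem_union_right _ hu4, Finset.mem_union_right _ (by simp)⟩
    · exact ⟨Finset.mem_union_right _ hu6, Finset.mem_union_right _ (by simp)⟩
  have h5 : 5 ≤ (g • (maskSet 7 ∪ maskSet 336) ∩
      (({t1, t2, t3} : Finset GolayPt) ∪ {u1, u2, u3})).card := by
    have := Finset.card_le_card hF
    rwa [List.toFinset_card_of_nodup hnd] at this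
  have heq := hexad_unique d _ _ hH1 hh h5
  refine ⟨g, hgM, hgd, hgT, ?_⟩
  have h1 : maskSet 336 = (maskSet 7 ∪ maskSet 336) \ maskSet 7 :=
    (Finset.union_sdiff_cancel_left disj0).symm
  rw [h1, Finset.smul_finset_sdiff, heq, hgT]
  exact Finset.union_sdiff_cancel_left htu

end Cfsg.Agent.Helper29.Quartet
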