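import Mathlib
import Cfsg.Agent.Lib.Helper29.M24QuartetStab

set_option autoImplicit false
open Cfsg

namespace Cfsg.Agent.Helper29.Quartet

open Cfsg.Agent.Helper27 Cfsg.Agent.Helper29 Cfsg.Agent.Helper29.M24 Cfsg.Agent.Helper29.Dod3
open Cfsg.Agent.S0358 (idx)
open scoped Pointwise

/-! ### The stabilizer of the standard quartet acts on nine points as the affine group -/

/-- the nine points, indexed by the vectors of the plane over the field with three elements -/
def betaTab : List ℕ := [5, 10, 22, 15, 17, 11, 19, 7, 23]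

/-- the inverse table (position `3 x + y` of the point) -/
def binvTab : List ℕ := [0, 0, 0, 0, 0, 0, 0, 7, 0, 0, 1, 5, 0, 0, 0, 3, 0, 4, 0, 6, 0, 0, 2, 8]

abbrev V3 : Type := ZMod 3 × ZMod 3

def betZ (v : V3) : ℕ := betaTab.getD (3 * v.1.val + v.2.val) 0

def binv (x : ℕ) : ℕ := binvTab.getD x 0

/-- affine data: the matrix `(a, b, c, d)` and the translation `(s, t)` -/
abbrev Aff3 : Type := ZMod 3 × ZMod 3 × ZMod 3 × ZMod 3 × ZMod 3 × ZMod 3

def actZ (D : Aff3) (v : V3) : V3 :=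
  (D.1 * v.1 + D.2.1 * v.2 + D.2.2.2.2.1, D.2.2.1 * v.1 + D.2.2.2.1 * v.2 + D.2.2.2.2.2)

/-- the affine data read off from a coded permutation -/
def affOf (c : ℕ) : Aff3 :=
  (((binv (app c 15) / 3 + 3 - binv (app c 5) / 3 : ℕ) : ZMod 3),
   ((binv (app c 10) / 3 + 3 - binv (app c 5) / 3 : ℕ) : ZMod 3),
   ((binv (app c 15) % 3 + 3 - binv (app c 5) % 3 : ℕ) : ZMod 3),
   ((binv (app c 10) % 3 + 3 - binv (app c 5) % 3 : ℕ) : ZMod 3),
   ((binv (app c 5) / 3 : ℕ) : ZMod 3), ((binv (app c 5) % 3 : ℕ) : ZMod 3))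

set_option maxRecDepth 100000 in
theorem affChk : (GQC.all fun p => decide (∀ v : V3, app p.2 (betZ v) = betZ (actZ (affOf p.2) v)))
    = true := by decide +kernel

theorem betZ_lt : ∀ v : V3, betZ v < 24 := by decide

theorem betZ_inj : ∀ v w : V3, betZ v = betZ w → v = w := by decide

/-- the nine points -/
def β (v : V3) : GolayPt := dec (betZ v)

theorem β_injective : Function.Injective β := by
  intro v w h
  apply betZ_inj
  have := congrArg idx h
  unfold β at this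
  rwa [idx_dec ⟨_, betZ_lt v⟩, idx_dec ⟨_, betZ_lt w⟩] at this

/-- `g` acts on the nine points by the affine map with data `D` -/
def AffD (g : Equiv.Perm GolayPt) (D : Aff3) : Prop := ∀ v : V3, g (β v) = β (actZ D v)

theorem affD_of_mem (p : List ℕ × ℕ) (hp : p ∈ GQC) : AffD (evalW p.1) (affOf p.2) := by
  intro v
  have h := affChk
  rw [List.all_eq_true] at h
  have h1 := of_decide_eq_true (h p hp) v
  apply M24.idx_injective
  unfold β
  rw [codesOK_idx GQC GQC_ok p hp, idx_dec ⟨_, betZ_lt v⟩, idx_dec ⟨_, betZ_lt _⟩, h1]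

theorem exists_affD (g : Equiv.Perm GolayPt) (hg : g ∈ GQ) : ∃ D : Aff3, AffD g D := by
  obtain ⟨p, hp, rfl⟩ := GQ_sub g hg
  exact ⟨_, affD_of_mem p hp⟩

theorem actZ_unique : ∀ D D' : Aff3, (∀ v : V3, actZ D v = actZ D' v) → D = D' := by
  intro D D' h
  obtain ⟨a, b, c, d, s, t⟩ := D
  obtain ⟨a', b', c', d', s', t'⟩ := D'
  have h0 := h (0, 0)
  have h1 := h (1, 0)
  have h2 := h (0, 1)
  simp only [actZ, mul_zero, mul_one, zero_add, add_zero, Prod.mk.injEq] at h0 h1 h2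
  obtain ⟨hs, ht⟩ := h0
  subst hs ht
  obtain ⟨ha, hc⟩ := h1
  obtain ⟨hb, hd⟩ := h2
  rw [add_left_inj] at ha hc hb hd
  subst ha hb hc hd
  rfl

theorem affD_unique (g : Equiv.Perm GolayPt) (D D' : Aff3) (h : AffD g D) (h' : AffD g D') :
    D = D' := by
  apply actZ_unique
  intro v
  apply β_injective
  rw [← h v, ← h' v]

/-- composition of affine data -/
def compA (D D' : Aff3) : Aff3 :=
  (D.1 * D'.1 + D.2.1 * D'.2.2.1, D.1 * D'.2.1 + D.2.1 * D'.2.2.2.1,
   D.2.2.1 * D'.1 + D.2.2.2.1 * D'.2.2.1, D.2.2.1 * D'.2.1 + D.2.2.2.1 * D'.2.2.2.1,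
   D.1 * D'.2.2.2.2.1 + D.2.1 * D'.2.2.2.2.2 + D.2.2.2.2.1,
   D.2.2.1 * D'.2.2.2.2.1 + D.2.2.2.1 * D'.2.2.2.2.2 + D.2.2.2.2.2)

theorem actZ_comp (D D' : Aff3) (v : V3) : actZ D (actZ D' v) = actZ (compA D D') v := by
  obtain ⟨a, b, c, d, s, t⟩ := D
  obtain ⟨a', b', c', d', s', t'⟩ := D'
  simp only [actZ, compA]
  ext <;> ring

theorem affD_mul (g h : Equiv.Perm GolayPt) (D D' : Aff3) (hg : AffD g D) (hh : AffD h D') :
    AffD (g * h) (compA D D') := by
  intro v
  rw [Equiv.Perm.mul_apply, hh v, hg _, actZ_comp]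

def idA : Aff3 := (1, 0, 0, 1, 0, 0)

theorem affD_one : AffD 1 idA := by
  intro v
  rw [Equiv.Perm.one_apply]
  congr 1
  simp [actZ, idA]

/-- the affine data of an element of the stabilizer -/
noncomputable def dataOf (g : ↥GQ) : Aff3 := Classical.choose (exists_affD g.1 g.2)

theorem dataOf_spec (g : ↥GQ) : AffD g.1 (dataOf g) := Classical.choose_spec (exists_affD g.1 g.2)

theorem dataOf_eq (g : ↥GQ) (D : Aff3) (h : AffD g.1 D) : dataOf g = D :=
  affD_unique g.1 _ _ (dataOf_spec g) h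

/-- the matrix of affine data -/
def matA (D : Aff3) : Matrix (Fin 2) (Fin 2) (ZMod 3) := !![D.1, D.2.1; D.2.2.1, D.2.2.2.1]

theorem matA_comp (D D' : Aff3) : matA (compA D D') = matA D * matA D' := by
  unfold matA compA
  rw [Matrix.mul_fin_two]

theorem matA_id : matA idA = 1 := by
  unfold matA idA
  exact Matrix.one_fin_two.symm

/-- the linear part, as a homomorphism to the matrices -/
noncomputable def linHom : ↥GQ →* Matrix (Fin 2) (Fin 2) (ZMod 3) where
  toFun g := matA (dataOf g)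
  map_one' := by
    rw [dataOf_eq 1 idA affD_one, matA_id]
  map_mul' g h := by
    rw [dataOf_eq (g * h) _ (affD_mul g.1 h.1 _ _ (dataOf_spec g) (dataOf_spec h)), matA_comp]

/-- the linear part, as a homomorphism to the general linear group -/
noncomputable def glHom : ↥GQ →* GL (Fin 2) (ZMod 3) := linHom.toHomUnits

theorem glHom_val (g : ↥GQ) : (glHom g).val = matA (dataOf g) := rfl

set_option maxRecDepth 100000 in
theorem surjChk : ∀ a b c d : ZMod 3, a * d - b * c ≠ 0 →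
    ∃ p ∈ GQC, (affOf p.2).1 = a ∧ (affOf p.2).2.1 = b ∧ (affOf p.2).2.2.1 = c ∧
      (affOf p.2).2.2.2.1 = d := by decide +kernel

theorem glHom_surjective : Function.Surjective glHom := by
  intro M
  have hdet : M.val 0 0 * M.val 1 1 - M.val 0 1 * M.val 1 0 ≠ 0 := by
    have := Matrix.GeneralLinearGroup.det_ne_zero M
    rwa [Matrix.det_fin_two] at this
  obtain ⟨p, hp, ha, hb, hc, hd⟩ := surjChk _ _ _ _ hdet
  refine ⟨⟨evalW p.1, GQC_mem p hp⟩, ?_⟩
  apply Units.ext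
  rw [glHom_val, dataOf_eq ⟨evalW p.1, GQC_mem p hp⟩ _ (affD_of_mem p hp)]
  unfold matA
  rw [ha, hb, hc, hd]
  ext i j
  fin_cases i <;> fin_cases j <;> rfl

theorem card_GL23 : Nat.card (GL (Fin 2) (ZMod 3)) = 48 := by
  rw [Matrix.card_GL_field, Fin.prod_univ_two, ZMod.card]
  norm_num

/-- transitivity on the dodecad -/
theorem transChk : ∀ y < 24, (340831 : ℕ).testBit y = true → ∃ p ∈ GQC, app p.2 0 = y := by
  decide +kernel

theorem GQ_trans (a b : GolayPt) (ha : a ∈ maskSet 340831) (hb : b ∈ maskSet 340831) :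
    ∃ g ∈ GQ, g a = b := by
  rw [mem_maskSet] at ha hb
  obtain ⟨p, hp, ep⟩ := transChk _ (M24.idx_lt a) ha
  obtain ⟨q, hq, eq⟩ := transChk _ (M24.idx_lt b) hb
  refine ⟨evalW q.1 * (evalW p.1)⁻¹, Subgroup.mul_mem _ (GQC_mem q hq)
    (Subgroup.inv_mem _ (GQC_mem p hp)), ?_⟩
  have h1 : evalW p.1 (dec 0) = a := by
    apply M24.idx_injective
    rw [codesOK_idx GQC GQC_ok p hp, idx_dec ⟨0, by norm_num⟩, ep]
  have h2 : evalW q.1 (dec 0) = b := by
    apply M24.idx_injective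
    rw [codesOK_idx GQC GQC_ok q hq, idx_dec ⟨0, by norm_num⟩, eq]
  rw [Equiv.Perm.mul_apply, ← h1, perm_inv_apply, h2]

end Cfsg.Agent.Helper29.Quartet
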