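import Mathlib
import Cfsg.Agent.Lib.Helper29.M24QuartetStab

set_option autoImplicit false
open Cfsg

namespace Cfsg.Agent.Helper29.Quartet

open Cfsg.Agent.Helper27 Cfsg.Agent.Helper29 Cfsg.Agent.Helper29.M24 Cfsg.Agent.Helper29.Dod3
open Cfsg.Agent.S0358 (idx)
open scoped Pointwise

/-! ### The orbits of the stabilizer of the standard quartet on the quartets -/

/-- the quartet with a packed code -/
def semQ (c : ℕ) : Finset (Finset GolayPt) := famSet (unpackF 4 c)

/-- the code of the standard quartet -/
def q0c : ℕ := 1276663464188692137680830471

theorem semQ_q0 : semQ q0c = Q0 := by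
  have : unpackF 4 q0c = Q0L := by decide
  unfold semQ Q0
  rw [this]

/-- the images of the triples of a coded quartet under a coded permutation -/
def imgsOf (P a : ℕ) : List ℕ := (unpackF 4 a).map (imgP P)

/-- two lists of masks with the same members -/
def sameFam (L L' : List ℕ) : Bool :=
  (L.all fun m => L'.contains m) && (L'.all fun m => L.contains m)

theorem famSet_eq_of_sameFam (L L' : List ℕ) (h : sameFam L L' = true) : famSet L = famSet L' := by
  unfold sameFam at h
  simp only [Bool.and_eq_true, List.all_eq_true, List.contains_iff_mem] at h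
  ext s
  rw [mem_famSet, mem_famSet]
  constructor
  · rintro ⟨m, hm, rfl⟩
    exact ⟨m, h.1 m hm, rfl⟩
  · rintro ⟨m, hm, rfl⟩
    exact ⟨m, h.2 m hm, rfl⟩

theorem smul_semQ (w : List ℕ) (P : ℕ) (hw : ∀ j ∈ w, j < ngen)
    (hP : ∀ x < 24, app P x = appW w x) (a : ℕ) : evalW w • semQ a = famSet (imgsOf P a) := by
  unfold semQ imgsOf
  apply smul_famSet
  · intro m hm
    exact ⟨imgP P m, List.mem_map.2 ⟨m, hm, rfl⟩, maskSet_imgP P w hw hP m⟩
  · intro m' hm'
    obtain ⟨m, hm, rfl⟩ := List.mem_map.1 hm'
    exact ⟨m, hm, maskSet_imgP P w hw hP m⟩

theorem codesOK_app (L : List (List ℕ × ℕ)) (h : codesOK L = true) (p : List ℕ × ℕ) (hp : p ∈ L) :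
    ∀ x < 24, app p.2 x = appW p.1 x := by
  intro x hx
  have := codesOK_idx L h p hp (dec x)
  rw [idx_evalW p.1 (codesOK_letters L h p hp), idx_dec ⟨x, hx⟩] at this
  exact this.symm

/-- elements of the stabilizer of the standard dodecad carrying the standard quartet to the
representatives of the four other orbits -/
def MR : List (List ℕ × ℕ) := [([3, 2, 4, 4, 5, 4, 6, 10, 9], 962790070575192799523521748419481696), ([0, 5, 5, 4, 8, 8], 984770138262899971154973784701931585), ([2, 2], 977864963184960973661438897150854272), ([2], 974380510768821363662145534143076928)]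

/-- the codes of the four representatives -/
def xs : List ℕ := [1239158429581741548336316441, 1295968497219993542269599766, 1276927915630868990527537171, 1238247011555199935861228056]

theorem MR_ok : codesOK MR = true := by decide +kernel

theorem MR_chk : ((MR.zip xs).all fun q => decide (mapsW q.1.1 340831 340831) &&
    sameFam (imgsOf q.1.2 q0c) (unpackF 4 q.2)) = true := by decide +kernel

/-- the orbits: codes of the quartets, each with the position of an element carrying the
representative to it -/
def O1 : List (ℕ × ℕ) := [
  (1238034506358818575946350666, 51), (1238247012850547705971212556, 2),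
  (1239158429581741548336316441, 0), (1240376801143691113576530256, 1),
  (1240433467309389122365292551, 14), (1257292315582302000460595536, 4),
  (1258491798975919663217639431, 151), (1276663462896722058802103041, 5),
  (1276663462909951385895174676, 3), (1276663462964839002310443586, 49),
  (1547429774933098635754209616, 52), (1547727283083644861367189511, 16)]

def O2 : List (ℕ × ℕ) := [
  (1237954225988998199418815296, 9), (1237963669780711616555257936, 27),
  (1237968392007582897735209536, 2), (1237982560255449411599991376, 4),
  (1237987281487025175131066896, 23), (1237996726292048508425867536, 6),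
  (1238053394529120737785025026, 22), (1238280068264132193049120771, 7),
  (1238317847195432200123191301, 13), (1239186763636805053309780486, 28),
  (1239224541417153880613982721, 3), (1239451216160690177432355331, 14),
  (1240395691761981082335969361, 5), (1257320652227779574485745731, 41),
  (1259700724793282487360946246, 16), (1276630406474894213635899406, 20),
  (1276635129863694137759367181, 78), (1276644573448242040521359371, 24),
  (1276701241967915128395399496, 1), (1276927916568180602727039256, 56),
  (1277834609780251613680631896, 11), (1279043536754195049566175301, 57),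
  (1295968497219993542269599766, 0), (1547462831641468008084275221, 34),
  (1549842904206970919986397266, 12), (1566767864672769412958257171, 8),
  (1586110676633681974056190036, 10)]

def O3 : List (ℕ × ℕ) := [
  (1237954224850713470709006616, 2), (1237954224977940084214993156, 220),
  (1237963669583116187300008456, 72), (1237963673023303219547210056, 68),
  (1237968393086195013708153361, 9), (1237968394380979836800729176, 146),
  (1237982559175148519871742276, 54), (1237982561354327660515295506, 17),
  (1237987281541349918566776916, 113), (1237987282551000596677132561, 107),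
  (1237996727283403385208832321, 15), (1237996728507819464929050706, 58),
  (1238020338052405331417367046, 80), (1238025062636910885338087941, 27),
  (1238053394743886208382795846, 55), (1238053395698649269306130691, 5),
  (1238251733921401266239443216, 116), (1238261178653804115705987856, 3),
  (1238280069276316213360722181, 56), (1238280070425015528858845206, 148),
  (1238317847123093203988774926, 85), (1238317848205927362135589636, 4),
  (1239153705940739991728558086, 201), (1239167875325765334161424976, 184),
  (1239186762632220928840302661, 13), (1239186764790570922448781331, 211),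
  (1239224541561832017519185986, 133), (1239224544874229415658127371, 241),
  (1239451215011427847220761096, 199), (1239451217456600901388075021, 26),
  (1240362632908772521587769366, 8), (1240367355329298583540203541, 105),
  (1240395688304061126824431936, 320), (1240395688379777896331350021, 57),
  (1240660141979460381442048276, 71), (1241566836344452828283011156, 19),
  (1257287593374571009476133126, 147), (1257301760460508820334969091, 258),
  (1257320649779510360150115136, 149), (1257320649800339512470012421, 12),
  (1257358428854925555300041026, 114), (1257585102445258873390498066, 32),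
  (1259700722490817310776885576, 152), (1259700722557808356525867021, 22),
  (1276630406346541627510620436, 127), (1276630407480322769377296466, 65),
  (1276635128699513698256945476, 25), (1276635128837999382621061201, 21),
  (1276644573570402168736842001, 61), (1276644574578926949356273986, 103),
  (1276701241826333224672952581, 62), (1276701243048497503958728771, 159),
  (1276927915417229491861192966, 10), (1276927915630868990527537171, 0),
  (1277834609941536766846566421, 131), (1277834610936832224349126726, 202),
  (1279043535600710660470604041, 11), (1279043535689093801865904156, 1),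
  (1295968497075033933810237706, 111), (1295968497150187751300137036, 209),
  (1547434496152289573173461061, 37), (1547443940952809302847914051, 53),
  (1547462830362727252305642256, 7), (1547462830417614874005733891, 50),
  (1547500609279109094304645441, 81), (1548633977235560759075799121, 108),
  (1549842903053486530857271576, 6), (1549842903141869672789442571, 48),
  (1566767864527809807434907736, 104), (1566767864602963622978650126, 144),
  (1586110676488722370663546906, 63), (1586110676563876184177246281, 145)]

def O4 : List (ℕ × ℕ) := [
  (1237954227209473630723375636, 7), (1237963669571294243378434306, 145),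
  (1237968391949317646393017096, 5), (1237982559036099825273671746, 46),
  (1237987283707299723711873796, 230), (1237996726134704066187494146, 43),
  (1238020337965710970844091136, 34), (1238020339115817728938607176, 154),
  (1238020340412291399727186186, 37), (1238025060401999634696770056, 69),
  (1238025060490945795033399561, 104), (1238025061482019132129935436, 92),
  (1238034505064315222495331136, 72), (1238034505134402431667408961, 131),
  (1238034507385639222384787971, 85), (1238053396834119252342473281, 42),
  (1238247011555199935861228056, 0), (1238247011630072215308865546, 79),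
  (1238247013861605753629967106, 13), (1238251733994303276768563716, 33),
  (1238251734068612674697039881, 36), (1238251737378758271914999836, 90),
  (1238261178799326614140227601, 105), (1238261179877938729173647386, 139),
  (1238261180963306170667237641, 157), (1238280068191511713280950801, 63),
  (1238317849357722902394307081, 29), (1239153706063463142643466266, 39),
  (1239153707073395289623626306, 94), (1239153708224627884173557836, 31),
  (1239158428290334422900671041, 17), (1239158428304971061694304261, 199),
  (1239158430590829271325868556, 25), (1239167873022737220693393481, 32),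
  (1239167873162067257963057176, 41), (1239167874188606497204732426, 93),
  (1239186762502179429453664276, 45), (1239224541433760911655440396, 111),
  (1239451215009457591019373076, 23), (1240362631740651364950216976, 110),
  (1240362631811020176740057176, 132), (1240362634048183154365169986, 181),
  (1240367354106852763041271876, 78), (1240367354126837550560575756, 26),
  (1240367356411288324491182401, 18), (1240376798857551494315507731, 11),
  (1240376798909624292395192386, 12), (1240376799994710328302633226, 91),
  (1240395688322357004286824466, 62), (1240433467253657007384695041, 16),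
  (1240433468389127067562672201, 95), (1240433469541204074359161156, 20),
  (1240660140829635170399158531, 9), (1240660140831323951355400456, 202),
  (1240660143204157936323526681, 2), (1241566835192375748757295176, 144),
  (1241566835197723841799389251, 89), (1241566837514825712860659726, 50),
  (1257287593217507977437643276, 19), (1257287593286750824963244116, 28),
  (1257287595519410207323062346, 81), (1257292315583709371166622276, 15),
  (1257292315795097074582683721, 38), (1257292317902781571410166021, 149),
  (1257301760314704794075791441, 24), (1257301760401962024273183241, 21),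
  (1257301762618014387872465176, 83), (1257320649850160580160127506, 44),
  (1257358428710528901760155916, 6), (1257358428729950665590178561, 3),
  (1257358431087584941736722501, 201), (1257585102307617613889405446, 53),
  (1257585102374045712939745291, 86), (1257585104607268044883886101, 146),
  (1258491796668106465465073746, 170), (1258491796684713480601731601, 165),
  (1258491796810251321137430556, 225), (1259700722503483689040609306, 35),
  (1276630406398895964957966916, 59), (1276635128765097359559361096, 191),
  (1276644573500033423653208641, 55), (1276701241842658763809489666, 57),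
  (1276927915420325712058384906, 54), (1277834609782784880904503826, 116),
  (1279043535603806888234319946, 58), (1295968497092203910409486361, 117),
  (1547429773799317489827447556, 130), (1547429773851671844857315356, 68),
  (1547429773927670083334701126, 48), (1547434496217873230063469136, 133),
  (1547434496290775249115414856, 73), (1547434497316470003985285396, 80),
  (1547443940901017898442556161, 27), (1547443941023178043535917081, 22),
  (1547443942031702820799906066, 219), (1547462830349497932611322436, 47),
  (1547500609295434634347152136, 10), (1547500609420691000141021446, 1),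
  (1547500610501273375503024141, 147), (1547727282870005358003225106, 14),
  (1547727282873101586991677706, 30), (1547727284020956473482805521, 82),
  (1548633977233027476802765336, 8), (1548633977394312637468114966, 4),
  (1548633978389608094920343626, 148), (1549842903056582758839091276, 40),
  (1566767864544979777021280521, 138), (1586110676505892339159400716, 56)]

def anyFam (L : List ℕ) (O : List (ℕ × ℕ)) : Bool := O.any fun c => sameFam L (unpackF 4 c.1)

def fwdChk (x : ℕ) (O : List (ℕ × ℕ)) : Bool := GQC.all fun p => anyFam (imgsOf p.2 x) O

def bwdChk (x : ℕ) (O : List (ℕ × ℕ)) : Bool :=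
  O.all fun c => sameFam (imgsOf (GQC.getD c.2 ([], 0)).2 x) (unpackF 4 c.1) &&
    decide (c.2 < 432)

set_option maxRecDepth 100000 in
theorem fwd4 : fwdChk (xs.getD 3 0) O4 = true := by decide +kernel

set_option maxRecDepth 100000 in
theorem fwd1 : fwdChk (xs.getD 0 0) O1 = true := by decide +kernel

set_option maxRecDepth 100000 in
theorem fwd2 : fwdChk (xs.getD 1 0) O2 = true := by decide +kernel

set_option maxRecDepth 100000 in
theorem fwd3 : fwdChk (xs.getD 2 0) O3 = true := by decide +kernel

set_option maxRecDepth 100000 in
theorem bwd1 : bwdChk (xs.getD 0 0) O1 = true := by decide +kernel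

set_option maxRecDepth 100000 in
theorem bwd2 : bwdChk (xs.getD 1 0) O2 = true := by decide +kernel

set_option maxRecDepth 100000 in
theorem bwd3 : bwdChk (xs.getD 2 0) O3 = true := by decide +kernel

set_option maxRecDepth 100000 in
theorem bwd4 : bwdChk (xs.getD 3 0) O4 = true := by decide +kernel

/-- all the codes -/
def allC : List ℕ :=
  q0c :: (O1.map Prod.fst ++ O2.map Prod.fst ++ O3.map Prod.fst ++ O4.map Prod.fst)

theorem allC_length : allC.length = 220 := by decide +kernel

set_option maxRecDepth 100000 in
theorem allC_sorted : (allC.all fun c => sortedB (unpackF 4 c)) = true := by decide +kernel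

set_option maxRecDepth 100000 in
theorem allC_nodup : (allC.map (unpackF 4)).Nodup := by decide +kernel

theorem O_lengths : O1.length = 12 ∧ O2.length = 27 ∧ O3.length = 72 ∧ O4.length = 108 := by
  decide +kernel

theorem semQ_injOn (c c' : ℕ) (hc : c ∈ allC) (hc' : c' ∈ allC) (h : semQ c = semQ c') :
    c = c' := by
  have hs := allC_sorted
  rw [List.all_eq_true] at hs
  have h1 := famSet_inj _ _ (sortedB_spec _ (hs c hc)) (sortedB_spec _ (hs c' hc'))
    (unpackF_lt 4 c) (unpackF_lt 4 c') h
  exact List.inj_on_of_nodup_map allC_nodup hc hc' h1

/-- the orbit of a family under the stabilizer of the standard quartet -/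
def orbGQ (X : Finset (Finset GolayPt)) : Set (Finset (Finset GolayPt)) :=
  {Y | ∃ h ∈ GQ, Y = h • X}

theorem orbGQ_eq (x : ℕ) (O : List (ℕ × ℕ)) (hf : fwdChk x O = true) (hb : bwdChk x O = true) :
    orbGQ (semQ x) = semQ '' {c | c ∈ O.map Prod.fst} := by
  ext Y
  constructor
  · rintro ⟨g, hg, rfl⟩
    obtain ⟨p, hp, rfl⟩ := GQ_sub g hg
    unfold fwdChk at hf
    rw [List.all_eq_true] at hf
    have h1 := hf p hp
    unfold anyFam at h1
    rw [List.any_eq_true] at h1
    obtain ⟨c, hc, hs⟩ := h1
    refine ⟨c.1, List.mem_map.2 ⟨c, hc, rfl⟩, ?_⟩
    rw [smul_semQ p.1 p.2 (codesOK_letters GQC GQC_ok p hp) (codesOK_app GQC GQC_ok p hp) x]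
    exact (famSet_eq_of_sameFam _ _ hs).symm
  · rintro ⟨c1, hc1, rfl⟩
    obtain ⟨c, hc, rfl⟩ := List.mem_map.1 hc1
    unfold bwdChk at hb
    rw [List.all_eq_true] at hb
    have h1 := hb c hc
    rw [Bool.and_eq_true, decide_eq_true_eq] at h1
    obtain ⟨hs, hlt⟩ := h1
    have hlt' : c.2 < GQC.length := by rw [GQC_length]; exact hlt
    have hget : GQC.getD c.2 ([], 0) = GQC[c.2] := List.getD_eq_getElem _ _ hlt'
    have hp : GQC.getD c.2 ([], 0) ∈ GQC := by
      rw [hget]
      exact List.getElem_mem hlt'
    refine ⟨evalW (GQC.getD c.2 ([], 0)).1, GQC_mem _ hp, ?_⟩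
    rw [smul_semQ _ _ (codesOK_letters GQC GQC_ok _ hp) (codesOK_app GQC GQC_ok _ hp) x]
    exact (famSet_eq_of_sameFam _ _ hs).symm

theorem mem_allC_of (O : List (ℕ × ℕ)) (h : O = O1 ∨ O = O2 ∨ O = O3 ∨ O = O4) :
    ∀ c ∈ O.map Prod.fst, c ∈ allC := by
  intro c hc
  unfold allC
  rw [List.mem_cons]
  right
  simp only [List.mem_append]
  rcases h with rfl | rfl | rfl | rfl
  · exact Or.inl (Or.inl (Or.inl hc))
  · exact Or.inl (Or.inl (Or.inr hc))
  · exact Or.inl (Or.inr hc)
  · exact Or.inr hc

theorem ncard_orbGQ (x : ℕ) (O : List (ℕ × ℕ)) (hf : fwdChk x O = true) (hb : bwdChk x O = true)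
    (h : O = O1 ∨ O = O2 ∨ O = O3 ∨ O = O4) : (orbGQ (semQ x)).ncard = O.length := by
  classical
  rw [orbGQ_eq x O hf hb]
  have hnd : (O.map Prod.fst).Nodup := by
    have h1 : (O.map Prod.fst).Sublist allC := by
      unfold allC
      apply List.Sublist.cons
      rcases h with rfl | rfl | rfl | rfl
      · exact List.Sublist.trans (List.sublist_append_left _ _)
          (List.Sublist.trans (List.sublist_append_left _ _) (List.sublist_append_left _ _))
      · exact List.Sublist.trans (List.sublist_append_right _ _)
          (List.Sublist.trans (List.sublist_append_left _ _) (List.sublist_append_left _ _))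
      · exact List.Sublist.trans (List.sublist_append_right _ _) (List.sublist_append_left _ _)
      · exact List.sublist_append_right _ _
    exact List.Nodup.sublist h1 (List.Nodup.of_map _ allC_nodup)
  have hset : {c | c ∈ O.map Prod.fst} = ((O.map Prod.fst).toFinset : Set ℕ) := by
    ext c
    rw [Finset.mem_coe, List.mem_toFinset]
    rfl
  rw [hset, Set.InjOn.ncard_image, Set.ncard_coe_finset, List.toFinset_card_of_nodup hnd,
    List.length_map]
  intro c hc c' hc' hcc
  rw [Finset.mem_coe, List.mem_toFinset] at hc hc'
  exact semQ_injOn c c' (mem_allC_of O h c hc) (mem_allC_of O h c' hc') hcc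

/-- the four representatives -/
def X (k : ℕ) : Finset (Finset GolayPt) := semQ (xs.getD k 0)

theorem X_mem (k : ℕ) (hk : k < 4) : X k ∈ quartets (maskSet 340831) := by
  have h := MR_chk
  rw [List.all_eq_true] at h
  have hz : ((MR.getD k ([], 0)), xs.getD k 0) ∈ MR.zip xs := by
    interval_cases k <;> decide
  have h1 := h _ hz
  rw [Bool.and_eq_true, decide_eq_true_eq] at h1
  have hp : MR.getD k ([], 0) ∈ MR := by
    interval_cases k <;> decide
  have hW := codesOK_letters MR MR_ok _ hp
  have hd : evalW (MR.getD k ([], 0)).1 • maskSet 340831 = maskSet 340831 :=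
    smul_eq_of_mapsW _ hW _ _ le_rfl h1.1
  have hq := smul_quartets _ (evalW_mem_M24 _ hW) _ _ Q0_mem
  rw [hd, ← semQ_q0, smul_semQ _ _ hW (codesOK_app MR MR_ok _ hp) q0c,
    famSet_eq_of_sameFam _ _ h1.2] at hq
  exact hq

theorem orbGQ_sub (Y : Finset (Finset GolayPt)) (hY : Y ∈ quartets (maskSet 340831)) :
    orbGQ Y ⊆ quartets (maskSet 340831) := by
  rintro Z ⟨g, hg, rfl⟩
  obtain ⟨⟨hM, hd⟩, -⟩ := (mem_GQ g).1 hg
  have := smul_quartets g hM _ _ hY
  rwa [hd] at this

/-- every quartet of the standard dodecad is an image of the standard one -/
theorem quartets_base (Q : Finset (Finset GolayPt)) (hQ : Q ∈ quartets (maskSet 340831)) :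
    ∃ g ∈ K0 (maskSet 340831), Q = g • Q0 := by
  obtain ⟨t, ht, u, hu, hne⟩ := Finset.one_lt_card.1 (by rw [hQ.1]; norm_num : 1 < Q.card)
  have ht3 := (hQ.2.1 t ht).1
  have hu3 := (hQ.2.1 u hu).1
  have hh := hQ.2.2 t ht u hu hne
  have hdisj : Disjoint t u := by
    rw [← Finset.card_union_eq_card_add_card, hh.1, ht3, hu3]
  obtain ⟨g, hgM, hgd, hgt, hgu⟩ := exists_map_tu _ d0_mem t u ht3 hu3 hdisj hh
  refine ⟨g, (mem_K0 _ _).2 ⟨hgM, hgd⟩, ?_⟩
  have h1 : g⁻¹ • Q ∈ quartets (maskSet 340831) := by
    have := smul_quartets g⁻¹ (Subgroup.inv_mem _ hgM) _ _ hQ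
    rwa [inv_smul_eq_iff.2 hgd.symm] at this
  have h2 : g⁻¹ • Q = Q0 := by
    apply quartet_base_unique _ h1
    · have := Finset.smul_mem_smul_finset (a := g⁻¹) ht
      rwa [← hgt, inv_smul_smul] at this
    · have := Finset.smul_mem_smul_finset (a := g⁻¹) hu
      rwa [← hgu, inv_smul_smul] at this
  rw [← h2, smul_inv_smul]

theorem ncard_quartets_base : (quartets (maskSet 340831)).ncard = 220 := by
  have horb : MulAction.orbit ↥(K0 (maskSet 340831)) Q0 = quartets (maskSet 340831) := by
    ext Q
    constructor
    · rintro ⟨g, rfl⟩
      have hg := (mem_K0 _ _).1 g.2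
      have := smul_quartets (g : Equiv.Perm GolayPt) hg.1 _ _ Q0_mem
      rw [hg.2] at this
      exact this
    · intro hQ
      obtain ⟨g, hg, rfl⟩ := quartets_base Q hQ
      exact ⟨⟨g, hg⟩, rfl⟩
  have hstab : Nat.card ↥(MulAction.stabilizer ↥(K0 (maskSet 340831)) Q0) = 432 := by
    rw [← card_GQ]
    apply Nat.card_congr
    exact
      { toFun := fun g => ⟨(g.1 : Equiv.Perm GolayPt), (mem_GQ _).2
          ⟨(mem_K0 _ _).1 g.1.2, MulAction.mem_stabilizer_iff.1 g.2⟩⟩
        invFun := fun g => ⟨⟨g.1, (mem_K0 _ _).2 ((mem_GQ _).1 g.2).1⟩,
          MulAction.mem_stabilizer_iff.2 ((mem_GQ _).1 g.2).2⟩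
        left_inv := fun g => rfl
        right_inv := fun g => rfl }
  have h1 := Nat.card_congr (MulAction.orbitProdStabilizerEquivGroup ↥(K0 (maskSet 340831)) Q0)
  rw [Nat.card_prod, horb, Nat.card_coe_set_eq, hstab, card_K0 _ d0_mem] at h1
  generalize (quartets (maskSet 340831)).ncard = n at h1 ⊢
  omega

/-- the quartets of the standard dodecad: the standard one and the four orbits -/
theorem quartets_eq : quartets (maskSet 340831) =
    {Q0} ∪ orbGQ (X 0) ∪ orbGQ (X 1) ∪ orbGQ (X 2) ∪ orbGQ (X 3) := by
  classical
  symm
  apply Set.eq_of_subset_of_ncard_le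
  · intro Y hY
    simp only [Set.mem_union, Set.mem_singleton_iff] at hY
    rcases hY with (((rfl | h) | h) | h) | h
    · exact Q0_mem
    · exact orbGQ_sub _ (X_mem 0 (by norm_num)) h
    · exact orbGQ_sub _ (X_mem 1 (by norm_num)) h
    · exact orbGQ_sub _ (X_mem 2 (by norm_num)) h
    · exact orbGQ_sub _ (X_mem 3 (by norm_num)) h
  · rw [ncard_quartets_base]
    have himg : semQ '' ((allC.toFinset : Finset ℕ) : Set ℕ) ⊆
        {Q0} ∪ orbGQ (X 0) ∪ orbGQ (X 1) ∪ orbGQ (X 2) ∪ orbGQ (X 3) := by
      rintro Y ⟨c, hc, rfl⟩
      rw [Finset.mem_coe, List.mem_toFinset] at hc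
      unfold allC at hc
      rw [List.mem_cons] at hc
      simp only [List.mem_append] at hc
      simp only [Set.mem_union, Set.mem_singleton_iff]
      rcases hc with rfl | ((h | h) | h) | h
      · exact Or.inl (Or.inl (Or.inl (Or.inl semQ_q0)))
      · refine Or.inl (Or.inl (Or.inl (Or.inr ?_)))
        unfold X
        rw [orbGQ_eq _ O1 fwd1 bwd1]
        exact ⟨c, h, rfl⟩
      · refine Or.inl (Or.inl (Or.inr ?_))
        unfold X
        rw [orbGQ_eq _ O2 fwd2 bwd2]
        exact ⟨c, h, rfl⟩
      · refine Or.inl (Or.inr ?_)
        unfold X
        rw [orbGQ_eq _ O3 fwd3 bwd3]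
        exact ⟨c, h, rfl⟩
      · refine Or.inr ?_
        unfold X
        rw [orbGQ_eq _ O4 fwd4 bwd4]
        exact ⟨c, h, rfl⟩
    have hcard : (semQ '' ((allC.toFinset : Finset ℕ) : Set ℕ)).ncard = 220 := by
      rw [Set.InjOn.ncard_image, Set.ncard_coe_finset,
        List.toFinset_card_of_nodup (List.Nodup.of_map _ allC_nodup), allC_length]
      intro c hc c' hc' hcc
      rw [Finset.mem_coe, List.mem_toFinset] at hc hc'
      exact semQ_injOn c c' hc hc' hcc
    rw [← hcard]
    exact Set.ncard_le_ncard himg (Set.toFinite _)
  · exact Set.toFinite _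

theorem ncard_orbits : (orbGQ (X 0)).ncard = 12 ∧ (orbGQ (X 1)).ncard = 27 ∧
    (orbGQ (X 2)).ncard = 72 ∧ (orbGQ (X 3)).ncard = 108 := by
  obtain ⟨l1, l2, l3, l4⟩ := O_lengths
  refine ⟨?_, ?_, ?_, ?_⟩
  · rw [← l1]
    exact ncard_orbGQ _ O1 fwd1 bwd1 (Or.inl rfl)
  · rw [← l2]
    exact ncard_orbGQ _ O2 fwd2 bwd2 (Or.inr (Or.inl rfl))
  · rw [← l3]
    exact ncard_orbGQ _ O3 fwd3 bwd3 (Or.inr (Or.inr (Or.inl rfl)))
  · rw [← l4]
    exact ncard_orbGQ _ O4 fwd4 bwd4 (Or.inr (Or.inr (Or.inr rfl)))

end Cfsg.Agent.Helper29.Quartet
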