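import Mathlib
import Cfsg.Agent.Lib.Helper29.M24Search
import Cfsg.Agent.Lib.Helper29.M24Orbits

set_option autoImplicit false
open Cfsg

namespace Cfsg.Agent.Helper29.SextetKer

open Cfsg.Agent.Helper27 Cfsg.Agent.Helper29 Cfsg.Agent.Helper29.M24
open Cfsg.Agent.S0358 (idx)
open scoped Pointwise

/-- the tetrad of the base sextet containing the `i`-th base point -/
def tmS (i : ℕ) : ℕ := [8388615, 8388615, 8388615, 8388615, 147496, 147496, 4268048].getD i 0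

theorem tmS_ok : ∀ i < 7, tmS i ∈ sext0 ∧ (tmS i).testBit (bpt i) = true := by decide

/-- words for the elements fixing each tetrad of the base sextet -/
def KL : List (List ℕ) := searchAll (lvlM tmS) (finM sext0)

/-- the same list, written out -/
def KLlit : List (List ℕ) := [
  [1, 3, 2, 2, 2, 4, 4, 4, 4, 5, 4, 8, 8, 11, 9], [1, 3, 2, 2, 2, 4, 4, 4, 4, 5, 4, 8, 8, 9],
  [1, 3, 2, 2, 2, 4, 4, 4, 4, 5, 4, 8, 8, 11, 10], [1, 3, 2, 2, 2, 4, 4, 4, 4, 5, 4, 8, 8, 10],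
  [1, 3, 2, 2, 2, 4, 4, 4, 4, 5, 4, 6, 6, 7, 6, 8],
  [1, 3, 2, 2, 2, 4, 4, 4, 4, 5, 4, 6, 6, 7, 6, 8, 10, 9],
  [1, 3, 2, 2, 2, 4, 4, 4, 4, 5, 4, 6, 6, 7, 6, 8, 11, 10, 9],
  [1, 3, 2, 2, 2, 4, 4, 4, 4, 5, 4, 6, 6, 7, 6, 8, 11],
  [1, 3, 2, 2, 2, 4, 4, 4, 4, 5, 4, 6, 7, 6, 7, 8, 8, 11, 9],
  [1, 3, 2, 2, 2, 4, 4, 4, 4, 5, 4, 6, 7, 6, 7, 8, 8, 9],
  [1, 3, 2, 2, 2, 4, 4, 4, 4, 5, 4, 6, 7, 6, 7, 8, 8, 11, 10],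
  [1, 3, 2, 2, 2, 4, 4, 4, 4, 5, 4, 6, 7, 6, 7, 8, 8, 10],
  [1, 3, 2, 2, 2, 4, 4, 4, 4, 5, 4, 7, 6, 7, 6, 8, 8, 11, 9],
  [1, 3, 2, 2, 2, 4, 4, 4, 4, 5, 4, 7, 6, 7, 6, 8, 8, 9],
  [1, 3, 2, 2, 2, 4, 4, 4, 4, 5, 4, 7, 6, 7, 6, 8, 8, 11, 10],
  [1, 3, 2, 2, 2, 4, 4, 4, 4, 5, 4, 7, 6, 7, 6, 8, 8, 10],
  [1, 0, 2, 0, 0, 2, 0, 2, 2, 2, 4, 4, 5, 4, 6, 8],
  [1, 0, 2, 0, 0, 2, 0, 2, 2, 2, 4, 4, 5, 4, 6, 8, 10, 9],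
  [1, 0, 2, 0, 0, 2, 0, 2, 2, 2, 4, 4, 5, 4, 6, 8, 11, 10, 9],
  [1, 0, 2, 0, 0, 2, 0, 2, 2, 2, 4, 4, 5, 4, 6, 8, 11],
  [1, 0, 2, 0, 0, 2, 0, 2, 2, 2, 4, 4, 5, 4, 7, 6, 6, 8, 12, 9],
  [1, 0, 2, 0, 0, 2, 0, 2, 2, 2, 4, 4, 5, 4, 7, 6, 6, 8, 12, 11, 9],
  [1, 0, 2, 0, 0, 2, 0, 2, 2, 2, 4, 4, 5, 4, 7, 6, 6, 8, 12, 10],
  [1, 0, 2, 0, 0, 2, 0, 2, 2, 2, 4, 4, 5, 4, 7, 6, 6, 8, 12, 11, 10],
  [1, 0, 2, 0, 0, 2, 0, 2, 2, 2, 4, 4, 5, 4, 6, 6, 6, 7, 6, 12, 9],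
  [1, 0, 2, 0, 0, 2, 0, 2, 2, 2, 4, 4, 5, 4, 6, 6, 6, 7, 6, 12, 11, 9],
  [1, 0, 2, 0, 0, 2, 0, 2, 2, 2, 4, 4, 5, 4, 6, 6, 6, 7, 6, 12, 10],
  [1, 0, 2, 0, 0, 2, 0, 2, 2, 2, 4, 4, 5, 4, 6, 6, 6, 7, 6, 12, 11, 10],
  [1, 0, 2, 0, 0, 2, 0, 2, 2, 2, 4, 4, 5, 4, 6, 6, 7, 6, 7, 8],
  [1, 0, 2, 0, 0, 2, 0, 2, 2, 2, 4, 4, 5, 4, 6, 6, 7, 6, 7, 8, 10, 9],
  [1, 0, 2, 0, 0, 2, 0, 2, 2, 2, 4, 4, 5, 4, 6, 6, 7, 6, 7, 8, 11, 10, 9],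
  [1, 0, 2, 0, 0, 2, 0, 2, 2, 2, 4, 4, 5, 4, 6, 6, 7, 6, 7, 8, 11],
  [1, 2, 0, 2, 0, 2, 4, 4, 4, 4, 5, 6, 7, 8, 8, 12, 10, 9],
  [1, 2, 0, 2, 0, 2, 4, 4, 4, 4, 5, 6, 7, 8, 8, 12],
  [1, 2, 0, 2, 0, 2, 4, 4, 4, 4, 5, 6, 7, 8, 8, 12, 11],
  [1, 2, 0, 2, 0, 2, 4, 4, 4, 4, 5, 6, 7, 8, 8, 12, 11, 10, 9],
  [1, 2, 0, 2, 0, 2, 4, 4, 4, 4, 5, 7, 6, 11, 9], [1, 2, 0, 2, 0, 2, 4, 4, 4, 4, 5, 7, 6, 9],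
  [1, 2, 0, 2, 0, 2, 4, 4, 4, 4, 5, 7, 6, 11, 10], [1, 2, 0, 2, 0, 2, 4, 4, 4, 4, 5, 7, 6, 10],
  [1, 2, 0, 2, 0, 2, 4, 4, 4, 4, 5, 6, 6, 6, 8, 12, 10, 9],
  [1, 2, 0, 2, 0, 2, 4, 4, 4, 4, 5, 6, 6, 6, 8, 12],
  [1, 2, 0, 2, 0, 2, 4, 4, 4, 4, 5, 6, 6, 6, 8, 12, 11],
  [1, 2, 0, 2, 0, 2, 4, 4, 4, 4, 5, 6, 6, 6, 8, 12, 11, 10, 9],
  [1, 2, 0, 2, 0, 2, 4, 4, 4, 4, 5, 7, 6, 6, 6, 7, 6, 8, 8, 12, 9],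
  [1, 2, 0, 2, 0, 2, 4, 4, 4, 4, 5, 7, 6, 6, 6, 7, 6, 8, 8, 12, 11, 9],
  [1, 2, 0, 2, 0, 2, 4, 4, 4, 4, 5, 7, 6, 6, 6, 7, 6, 8, 8, 12, 10],
  [1, 2, 0, 2, 0, 2, 4, 4, 4, 4, 5, 7, 6, 6, 6, 7, 6, 8, 8, 12, 11, 10],
  [0, 1, 4, 4, 4, 5, 4, 7, 7, 6, 11, 9], [0, 1, 4, 4, 4, 5, 4, 7, 7, 6, 9],
  [0, 1, 4, 4, 4, 5, 4, 7, 7, 6, 11, 10], [0, 1, 4, 4, 4, 5, 4, 7, 7, 6, 10],
  [0, 1, 4, 4, 4, 5, 4, 7, 6, 7, 8, 8, 12, 10, 9], [0, 1, 4, 4, 4, 5, 4, 7, 6, 7, 8, 8, 12],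
  [0, 1, 4, 4, 4, 5, 4, 7, 6, 7, 8, 8, 12, 11],
  [0, 1, 4, 4, 4, 5, 4, 7, 6, 7, 8, 8, 12, 11, 10, 9], [0, 1, 4, 4, 4, 5, 4, 6, 7, 6, 8, 12, 9],
  [0, 1, 4, 4, 4, 5, 4, 6, 7, 6, 8, 12, 11, 9], [0, 1, 4, 4, 4, 5, 4, 6, 7, 6, 8, 12, 10],
  [0, 1, 4, 4, 4, 5, 4, 6, 7, 6, 8, 12, 11, 10],
  [0, 1, 4, 4, 4, 5, 4, 6, 6, 6, 6, 8, 8, 12, 10, 9],
  [0, 1, 4, 4, 4, 5, 4, 6, 6, 6, 6, 8, 8, 12], [0, 1, 4, 4, 4, 5, 4, 6, 6, 6, 6, 8, 8, 12, 11],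
  [0, 1, 4, 4, 4, 5, 4, 6, 6, 6, 6, 8, 8, 12, 11, 10, 9],
  [0, 1, 0, 3, 3, 2, 4, 5, 4, 7, 7, 6, 8, 11, 9], [0, 1, 0, 3, 3, 2, 4, 5, 4, 7, 7, 6, 8, 9],
  [0, 1, 0, 3, 3, 2, 4, 5, 4, 7, 7, 6, 8, 11, 10], [0, 1, 0, 3, 3, 2, 4, 5, 4, 7, 7, 6, 8, 10],
  [0, 1, 0, 3, 3, 2, 4, 5, 4, 7, 6, 7], [0, 1, 0, 3, 3, 2, 4, 5, 4, 7, 6, 7, 10, 9],
  [0, 1, 0, 3, 3, 2, 4, 5, 4, 7, 6, 7, 11, 10, 9], [0, 1, 0, 3, 3, 2, 4, 5, 4, 7, 6, 7, 11],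
  [0, 1, 0, 3, 3, 2, 4, 5, 4, 6, 7, 6, 8, 8, 12, 10, 9],
  [0, 1, 0, 3, 3, 2, 4, 5, 4, 6, 7, 6, 8, 8, 12],
  [0, 1, 0, 3, 3, 2, 4, 5, 4, 6, 7, 6, 8, 8, 12, 11],
  [0, 1, 0, 3, 3, 2, 4, 5, 4, 6, 7, 6, 8, 8, 12, 11, 10, 9],
  [0, 1, 0, 3, 3, 2, 4, 5, 4, 6, 6, 6, 6], [0, 1, 0, 3, 3, 2, 4, 5, 4, 6, 6, 6, 6, 10, 9],
  [0, 1, 0, 3, 3, 2, 4, 5, 4, 6, 6, 6, 6, 11, 10, 9],
  [0, 1, 0, 3, 3, 2, 4, 5, 4, 6, 6, 6, 6, 11], [0, 1, 2, 0, 2, 0, 2, 6, 7, 8],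
  [0, 1, 2, 0, 2, 0, 2, 6, 7, 8, 10, 9], [0, 1, 2, 0, 2, 0, 2, 6, 7, 8, 11, 10, 9],
  [0, 1, 2, 0, 2, 0, 2, 6, 7, 8, 11], [0, 1, 2, 0, 2, 0, 2, 7, 6, 8, 8, 12, 10, 9],
  [0, 1, 2, 0, 2, 0, 2, 7, 6, 8, 8, 12], [0, 1, 2, 0, 2, 0, 2, 7, 6, 8, 8, 12, 11],
  [0, 1, 2, 0, 2, 0, 2, 7, 6, 8, 8, 12, 11, 10, 9], [0, 1, 2, 0, 2, 0, 2, 6, 6, 6],
  [0, 1, 2, 0, 2, 0, 2, 6, 6, 6, 10, 9], [0, 1, 2, 0, 2, 0, 2, 6, 6, 6, 11, 10, 9],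
  [0, 1, 2, 0, 2, 0, 2, 6, 6, 6, 11], [0, 1, 2, 0, 2, 0, 2, 7, 6, 6, 6, 7, 6, 8, 12, 9],
  [0, 1, 2, 0, 2, 0, 2, 7, 6, 6, 6, 7, 6, 8, 12, 11, 9],
  [0, 1, 2, 0, 2, 0, 2, 7, 6, 6, 6, 7, 6, 8, 12, 10],
  [0, 1, 2, 0, 2, 0, 2, 7, 6, 6, 6, 7, 6, 8, 12, 11, 10], [0, 0, 1, 4, 4, 5, 4, 8, 12, 10, 9],
  [0, 0, 1, 4, 4, 5, 4, 8, 12], [0, 0, 1, 4, 4, 5, 4, 8, 12, 11],
  [0, 0, 1, 4, 4, 5, 4, 8, 12, 11, 10, 9], [0, 0, 1, 4, 4, 5, 4, 6, 6, 7, 6, 11, 9],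
  [0, 0, 1, 4, 4, 5, 4, 6, 6, 7, 6, 9], [0, 0, 1, 4, 4, 5, 4, 6, 6, 7, 6, 11, 10],
  [0, 0, 1, 4, 4, 5, 4, 6, 6, 7, 6, 10], [0, 0, 1, 4, 4, 5, 4, 6, 7, 6, 7, 8, 12, 10, 9],
  [0, 0, 1, 4, 4, 5, 4, 6, 7, 6, 7, 8, 12], [0, 0, 1, 4, 4, 5, 4, 6, 7, 6, 7, 8, 12, 11],
  [0, 0, 1, 4, 4, 5, 4, 6, 7, 6, 7, 8, 12, 11, 10, 9],
  [0, 0, 1, 4, 4, 5, 4, 7, 6, 7, 6, 8, 12, 10, 9], [0, 0, 1, 4, 4, 5, 4, 7, 6, 7, 6, 8, 12],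
  [0, 0, 1, 4, 4, 5, 4, 7, 6, 7, 6, 8, 12, 11],
  [0, 0, 1, 4, 4, 5, 4, 7, 6, 7, 6, 8, 12, 11, 10, 9],
  [0, 0, 1, 0, 3, 2, 2, 2, 4, 4, 4, 4, 5, 4, 6, 8, 12, 9],
  [0, 0, 1, 0, 3, 2, 2, 2, 4, 4, 4, 4, 5, 4, 6, 8, 12, 11, 9],
  [0, 0, 1, 0, 3, 2, 2, 2, 4, 4, 4, 4, 5, 4, 6, 8, 12, 10],
  [0, 0, 1, 0, 3, 2, 2, 2, 4, 4, 4, 4, 5, 4, 6, 8, 12, 11, 10],
  [0, 0, 1, 0, 3, 2, 2, 2, 4, 4, 4, 4, 5, 4, 7, 6, 6, 8],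
  [0, 0, 1, 0, 3, 2, 2, 2, 4, 4, 4, 4, 5, 4, 7, 6, 6, 8, 10, 9],
  [0, 0, 1, 0, 3, 2, 2, 2, 4, 4, 4, 4, 5, 4, 7, 6, 6, 8, 11, 10, 9],
  [0, 0, 1, 0, 3, 2, 2, 2, 4, 4, 4, 4, 5, 4, 7, 6, 6, 8, 11],
  [0, 0, 1, 0, 3, 2, 2, 2, 4, 4, 4, 4, 5, 4, 6, 6, 6, 7, 6],
  [0, 0, 1, 0, 3, 2, 2, 2, 4, 4, 4, 4, 5, 4, 6, 6, 6, 7, 6, 10, 9],
  [0, 0, 1, 0, 3, 2, 2, 2, 4, 4, 4, 4, 5, 4, 6, 6, 6, 7, 6, 11, 10, 9],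
  [0, 0, 1, 0, 3, 2, 2, 2, 4, 4, 4, 4, 5, 4, 6, 6, 6, 7, 6, 11],
  [0, 0, 1, 0, 3, 2, 2, 2, 4, 4, 4, 4, 5, 4, 6, 6, 7, 6, 7, 8, 12, 9],
  [0, 0, 1, 0, 3, 2, 2, 2, 4, 4, 4, 4, 5, 4, 6, 6, 7, 6, 7, 8, 12, 11, 9],
  [0, 0, 1, 0, 3, 2, 2, 2, 4, 4, 4, 4, 5, 4, 6, 6, 7, 6, 7, 8, 12, 10],
  [0, 0, 1, 0, 3, 2, 2, 2, 4, 4, 4, 4, 5, 4, 6, 6, 7, 6, 7, 8, 12, 11, 10],
  [0, 0, 1, 2, 0, 0, 0, 2, 0, 0, 3, 4, 5, 4, 6, 7, 8, 8, 12, 10, 9],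
  [0, 0, 1, 2, 0, 0, 0, 2, 0, 0, 3, 4, 5, 4, 6, 7, 8, 8, 12],
  [0, 0, 1, 2, 0, 0, 0, 2, 0, 0, 3, 4, 5, 4, 6, 7, 8, 8, 12, 11],
  [0, 0, 1, 2, 0, 0, 0, 2, 0, 0, 3, 4, 5, 4, 6, 7, 8, 8, 12, 11, 10, 9],
  [0, 0, 1, 2, 0, 0, 0, 2, 0, 0, 3, 4, 5, 4, 7, 6, 11, 9],
  [0, 0, 1, 2, 0, 0, 0, 2, 0, 0, 3, 4, 5, 4, 7, 6, 9],
  [0, 0, 1, 2, 0, 0, 0, 2, 0, 0, 3, 4, 5, 4, 7, 6, 11, 10],
  [0, 0, 1, 2, 0, 0, 0, 2, 0, 0, 3, 4, 5, 4, 7, 6, 10],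
  [0, 0, 1, 2, 0, 0, 0, 2, 0, 0, 3, 4, 5, 4, 6, 6, 6, 8, 12, 10, 9],
  [0, 0, 1, 2, 0, 0, 0, 2, 0, 0, 3, 4, 5, 4, 6, 6, 6, 8, 12],
  [0, 0, 1, 2, 0, 0, 0, 2, 0, 0, 3, 4, 5, 4, 6, 6, 6, 8, 12, 11],
  [0, 0, 1, 2, 0, 0, 0, 2, 0, 0, 3, 4, 5, 4, 6, 6, 6, 8, 12, 11, 10, 9],
  [0, 0, 1, 2, 0, 0, 0, 2, 0, 0, 3, 4, 5, 4, 7, 6, 6, 6, 7, 6, 8, 8, 12, 9],
  [0, 0, 1, 2, 0, 0, 0, 2, 0, 0, 3, 4, 5, 4, 7, 6, 6, 6, 7, 6, 8, 8, 12, 11, 9],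
  [0, 0, 1, 2, 0, 0, 0, 2, 0, 0, 3, 4, 5, 4, 7, 6, 6, 6, 7, 6, 8, 8, 12, 10],
  [0, 0, 1, 2, 0, 0, 0, 2, 0, 0, 3, 4, 5, 4, 7, 6, 6, 6, 7, 6, 8, 8, 12, 11, 10], [], [10, 9],
  [11, 10, 9], [11], [6, 6, 7, 6, 8, 8, 12, 10, 9], [6, 6, 7, 6, 8, 8, 12],
  [6, 6, 7, 6, 8, 8, 12, 11], [6, 6, 7, 6, 8, 8, 12, 11, 10, 9], [6, 7, 6, 7],
  [6, 7, 6, 7, 10, 9], [6, 7, 6, 7, 11, 10, 9], [6, 7, 6, 7, 11], [7, 6, 7, 6],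
  [7, 6, 7, 6, 10, 9], [7, 6, 7, 6, 11, 10, 9], [7, 6, 7, 6, 11],
  [0, 4, 4, 4, 5, 4, 6, 7, 8, 8, 11, 9], [0, 4, 4, 4, 5, 4, 6, 7, 8, 8, 9],
  [0, 4, 4, 4, 5, 4, 6, 7, 8, 8, 11, 10], [0, 4, 4, 4, 5, 4, 6, 7, 8, 8, 10],
  [0, 4, 4, 4, 5, 4, 7, 6, 12, 10, 9], [0, 4, 4, 4, 5, 4, 7, 6, 12],
  [0, 4, 4, 4, 5, 4, 7, 6, 12, 11], [0, 4, 4, 4, 5, 4, 7, 6, 12, 11, 10, 9],
  [0, 4, 4, 4, 5, 4, 6, 6, 6, 8, 11, 9], [0, 4, 4, 4, 5, 4, 6, 6, 6, 8, 9],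
  [0, 4, 4, 4, 5, 4, 6, 6, 6, 8, 11, 10], [0, 4, 4, 4, 5, 4, 6, 6, 6, 8, 10],
  [0, 4, 4, 4, 5, 4, 7, 6, 6, 6, 7, 6, 8, 8], [0, 4, 4, 4, 5, 4, 7, 6, 6, 6, 7, 6, 8, 8, 10, 9],
  [0, 4, 4, 4, 5, 4, 7, 6, 6, 6, 7, 6, 8, 8, 11, 10, 9],
  [0, 4, 4, 4, 5, 4, 7, 6, 6, 6, 7, 6, 8, 8, 11], [0, 0, 3, 3, 2, 4, 5, 4, 6, 7, 8, 11, 9],
  [0, 0, 3, 3, 2, 4, 5, 4, 6, 7, 8, 9], [0, 0, 3, 3, 2, 4, 5, 4, 6, 7, 8, 11, 10],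
  [0, 0, 3, 3, 2, 4, 5, 4, 6, 7, 8, 10], [0, 0, 3, 3, 2, 4, 5, 4, 7, 6, 8, 8, 12, 9],
  [0, 0, 3, 3, 2, 4, 5, 4, 7, 6, 8, 8, 12, 11, 9], [0, 0, 3, 3, 2, 4, 5, 4, 7, 6, 8, 8, 12, 10],
  [0, 0, 3, 3, 2, 4, 5, 4, 7, 6, 8, 8, 12, 11, 10], [0, 0, 3, 3, 2, 4, 5, 4, 6, 6, 6, 11, 9],
  [0, 0, 3, 3, 2, 4, 5, 4, 6, 6, 6, 9], [0, 0, 3, 3, 2, 4, 5, 4, 6, 6, 6, 11, 10],
  [0, 0, 3, 3, 2, 4, 5, 4, 6, 6, 6, 10],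
  [0, 0, 3, 3, 2, 4, 5, 4, 7, 6, 6, 6, 7, 6, 8, 12, 10, 9],
  [0, 0, 3, 3, 2, 4, 5, 4, 7, 6, 6, 6, 7, 6, 8, 12],
  [0, 0, 3, 3, 2, 4, 5, 4, 7, 6, 6, 6, 7, 6, 8, 12, 11],
  [0, 0, 3, 3, 2, 4, 5, 4, 7, 6, 6, 6, 7, 6, 8, 12, 11, 10, 9]]

set_option maxRecDepth 100000 in
theorem KL_eq : KL = KLlit := by decide +kernel

theorem KL_length : KL.length = 192 := by
  rw [KL_eq]
  rfl

/-- involution test on words -/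
def invW (W : List ℕ) : Bool := (List.range 24).all fun x => appW W (appW W x) == x

/-- words for the involutions (and the identity) among them, with the codes of their actions -/
def NLC : List (List ℕ × ℕ) := [
  ([1, 3, 2, 2, 2, 4, 4, 4, 4, 5, 4, 8, 8, 11, 9], 5447382388983081592886053788877911),
  ([1, 3, 2, 2, 2, 4, 4, 4, 4, 5, 4, 8, 8, 9], 28854523491105362182008475499005015),
  ([1, 3, 2, 2, 2, 4, 4, 4, 4, 5, 4, 8, 8, 11, 10], 17665557174438149324336018692932695),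
  ([1, 3, 2, 2, 2, 4, 4, 4, 4, 5, 4, 8, 8, 10], 21647169741103660076458455793304663),
  ([1, 3, 2, 2, 2, 4, 4, 4, 4, 5, 4, 6, 6, 7, 6, 8], 17131322563941782780614511264466007),
  ([1, 3, 2, 2, 2, 4, 4, 4, 4, 5, 4, 6, 6, 7, 6, 8, 10, 9], 5989235823820259689967313196876887),
  ([1, 3, 2, 2, 2, 4, 4, 4, 4, 5, 4, 6, 6, 7, 6, 8, 11, 10, 9], 29429271468893102754624345968411735),
  ([1, 3, 2, 2, 2, 4, 4, 4, 4, 5, 4, 6, 6, 7, 6, 8, 11], 21064801546226450623669850930086999),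
  ([1, 3, 2, 2, 2, 4, 4, 4, 4, 5, 4, 6, 7, 6, 7, 8, 8, 11, 9], 6057601526503618116306465909212247),
  ([1, 3, 2, 2, 2, 4, 4, 4, 4, 5, 4, 6, 7, 6, 7, 8, 8, 9], 29340620570662517957029049942508631),
  ([1, 3, 2, 2, 2, 4, 4, 4, 4, 5, 4, 6, 7, 6, 7, 8, 8, 11, 10], 17184519787777121035013027289728087),
  ([1, 3, 2, 2, 2, 4, 4, 4, 4, 5, 4, 6, 7, 6, 7, 8, 8, 10], 21031891374900343699909455052375127),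
  ([1, 3, 2, 2, 2, 4, 4, 4, 4, 5, 4, 7, 6, 7, 6, 8, 8, 11, 9], 21553437447306391113730797094863959),
  ([1, 3, 2, 2, 2, 4, 4, 4, 4, 5, 4, 7, 6, 7, 6, 8, 8, 9], 17739009920735306807106826245014615),
  ([1, 3, 2, 2, 2, 4, 4, 4, 4, 5, 4, 7, 6, 7, 6, 8, 8, 11, 10], 28826665701071936886111872293045335),
  ([1, 3, 2, 2, 2, 4, 4, 4, 4, 5, 4, 7, 6, 7, 6, 8, 8, 10], 5495518024292395953547195890304087),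
  ([0, 1, 2, 0, 2, 0, 2, 6, 7, 8], 47027549764763033801098060336923362),
  ([0, 1, 2, 0, 2, 0, 2, 6, 7, 8, 10, 9], 59291320357593944927018385712546530),
  ([0, 1, 2, 0, 2, 0, 2, 6, 7, 8, 11, 10, 9], 63098155598130777866857538834072290),
  ([0, 1, 2, 0, 2, 0, 2, 6, 7, 8, 11], 70351105155508323366877919011341026),
  ([0, 1, 2, 0, 2, 0, 2, 7, 6, 8, 8, 12, 10, 9], 63171595616884047768281205928198882),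
  ([0, 1, 2, 0, 2, 0, 2, 7, 6, 8, 8, 12], 70399228063273750146191920654811874),
  ([0, 1, 2, 0, 2, 0, 2, 7, 6, 8, 8, 12, 11], 46999706481866609773835742131356386),
  ([0, 1, 2, 0, 2, 0, 2, 7, 6, 8, 8, 12, 11, 10, 9], 59197602570933677232925012014498530),
  ([0, 1, 2, 0, 2, 0, 2, 6, 6, 6], 58708955334971165046248774589121250),
  ([0, 1, 2, 0, 2, 0, 2, 6, 6, 6, 10, 9], 47602323197725890978489344939164386),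
  ([0, 1, 2, 0, 2, 0, 2, 6, 6, 6, 11, 10, 9], 70892934527919042185996746700784354),
  ([0, 1, 2, 0, 2, 0, 2, 6, 6, 6, 11], 62563919208128639077930020080091874),
  ([0, 1, 2, 0, 2, 0, 2, 7, 6, 6, 6, 7, 6, 8, 12, 9], 47513657792358304912259763912868578),
  ([0, 1, 2, 0, 2, 0, 2, 7, 6, 6, 6, 7, 6, 8, 12, 11, 9], 70961312958146288193683039871075042),
  ([0, 1, 2, 0, 2, 0, 2, 7, 6, 6, 6, 7, 6, 8, 12, 10], 58676030656508056853854093711016674),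
  ([0, 1, 2, 0, 2, 0, 2, 7, 6, 6, 6, 7, 6, 8, 12, 11, 10], 62617129159507864913675676563309282),
  ([0, 0, 1, 0, 3, 2, 2, 2, 4, 4, 4, 4, 5, 4, 6, 8, 12, 9], 89053301974695481301600181090966529),
  ([0, 0, 1, 0, 3, 2, 2, 2, 4, 4, 4, 4, 5, 4, 6, 8, 12, 11, 9], 112498419363478465068426720085990401),
  ([0, 0, 1, 0, 3, 2, 2, 2, 4, 4, 4, 4, 5, 4, 6, 8, 12, 10], 100220756582555373945364017112603649),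
  ([0, 0, 1, 0, 3, 2, 2, 2, 4, 4, 4, 4, 5, 4, 6, 8, 12, 11, 10], 104149153821129901086249850554735617),
  ([0, 0, 1, 0, 3, 2, 2, 2, 4, 4, 4, 4, 5, 4, 7, 6, 6, 8], 104642867945522096169424165652257793),
  ([0, 0, 1, 0, 3, 2, 2, 2, 4, 4, 4, 4, 5, 4, 7, 6, 6, 8, 10, 9], 111890735759189500967275039606037505),
  ([0, 0, 1, 0, 3, 2, 2, 2, 4, 4, 4, 4, 5, 4, 7, 6, 6, 8, 11, 10, 9], 88564669826120100736879869426785281),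
  ([0, 0, 1, 0, 3, 2, 2, 2, 4, 4, 4, 4, 5, 4, 7, 6, 6, 8, 11], 100823358675240871160630688578919425),
  ([0, 0, 1, 0, 3, 2, 2, 2, 4, 4, 4, 4, 5, 4, 6, 6, 6, 7, 6], 100248596190316129319380533109120001),
  ([0, 0, 1, 0, 3, 2, 2, 2, 4, 4, 4, 4, 5, 4, 6, 6, 6, 7, 6, 10, 9], 89147023513860308921034189289610241),
  ([0, 0, 1, 0, 3, 2, 2, 2, 4, 4, 4, 4, 5, 4, 6, 6, 6, 7, 6, 11, 10, 9], 112424983097229755092343687492459521),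
  ([0, 0, 1, 0, 3, 2, 2, 2, 4, 4, 4, 4, 5, 4, 6, 6, 6, 7, 6, 11], 104101027238228805653690046702214145),
  ([0, 0, 1, 0, 3, 2, 2, 2, 4, 4, 4, 4, 5, 4, 6, 6, 7, 6, 7, 8, 12, 9], 104711250050885010830356261031599105),
  ([0, 0, 1, 0, 3, 2, 2, 2, 4, 4, 4, 4, 5, 4, 6, 6, 7, 6, 7, 8, 12, 11, 9], 100734696945008953747646909761674241),
  ([0, 0, 1, 0, 3, 2, 2, 2, 4, 4, 4, 4, 5, 4, 6, 6, 7, 6, 7, 8, 12, 10], 111943941958064166877680061588659201),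
  ([0, 0, 1, 0, 3, 2, 2, 2, 4, 4, 4, 4, 5, 4, 6, 6, 7, 6, 7, 8, 12, 11, 10], 88531741395152432619144554048084993),
  ([], 984818244535754528103549039458486304), ([10, 9], 976448692869377735270425038196672544),
  ([11, 10, 9], 972512676110088067912772961567868960),
  ([11], 961365507626256404119956257276790816),
  ([6, 6, 7, 6, 8, 8, 12, 10, 9], 960884477435128931241433760505432096),
  ([6, 6, 7, 6, 8, 8, 12], 973122887587861701392823884636653600),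
  ([6, 6, 7, 6, 8, 8, 12, 11], 976934804572108675034832543981668384),
  ([6, 6, 7, 6, 8, 8, 12, 11, 10, 9], 984202951082164080105044112956360736),
  ([6, 7, 6, 7], 984724508489452699215480746259449888),
  ([6, 7, 6, 7, 10, 9], 976420838754479978627774237199763488),
  ([6, 7, 6, 7, 11, 10, 9], 972560815420533050926679905878345760),
  ([6, 7, 6, 7, 11], 961438956620049001677386430328277024),
  ([7, 6, 7, 6], 977023451795203591179182037798520864),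
  ([7, 6, 7, 6, 10, 9], 984235865005994746954145143334668320),
  ([7, 6, 7, 6, 11, 10, 9], 960831283963798152912375878980765728),
  ([7, 6, 7, 6, 11], 973054518210042674313238929715267616)]

set_option maxRecDepth 100000 in
theorem NL_eq : KLlit.filter invW = NLC.map Prod.fst := by decide +kernel

set_option maxRecDepth 100000 in
theorem NLC_ok : (NLC.all fun p => (List.range 24).all fun x => appW p.1 x == app p.2 x) = true := by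
  decide +kernel

set_option maxRecDepth 100000 in
theorem NLC_closed : (NLC.all fun p => NLC.all fun q => (List.range 24).all fun x =>
    app p.2 (app q.2 (app p.2 (app q.2 x))) == x) = true := by
  decide +kernel

set_option maxRecDepth 100000 in
theorem NLC_nodup : (NLC.map fun p => codeW p.1).Nodup := by decide +kernel

theorem NLC_length : NLC.length = 64 := by decide

/-! ### The base sextet -/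

/-- the elements of the group of the code fixing every member of a family -/
def KP (S : Finset (Finset GolayPt)) : Set (Equiv.Perm GolayPt) :=
  {x | x ∈ Cfsg.M24 ∧ ∀ t ∈ S, x • t = t}

/-- those of them that square to the identity -/
def NP (S : Finset (Finset GolayPt)) : Set (Equiv.Perm GolayPt) :=
  {x | x ∈ KP S ∧ x * x = 1}

/-- the base sextet -/
def B : Finset (Finset GolayPt) := famSet sext0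

theorem KP_B_sub (g : Equiv.Perm GolayPt) (hg : g ∈ KP B) : ∃ W ∈ KL, g = evalW W := by
  obtain ⟨hM, hfix⟩ := hg
  exact searchAll_complete (lvlM tmS) (finM sext0) (FixesAll sext0) (lvlM_ok sext0 tmS tmS_ok)
    (finM_ok sext0) g hM ((fixesAll_iff_famSet sext0 g).2 hfix)

theorem KL_sound (W : List ℕ) (hW : W ∈ KL) : (∀ l ∈ W, l < ngen) ∧ evalW W ∈ KP B := by
  obtain ⟨h1, h2⟩ := searchAll_sound (lvlM tmS) (finM sext0) W hW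
  exact ⟨h1, evalW_mem_M24 W h1,
    (fixesAll_iff_famSet sext0 _).1 (fixesAll_of_finM sext0 W h1 h2)⟩

theorem ncard_KP_B_le : (KP B).ncard ≤ 192 := by
  classical
  have hsub : KP B ⊆ ((KL.map evalW).toFinset : Set (Equiv.Perm GolayPt)) := by
    intro g hg
    obtain ⟨W, hW, rfl⟩ := KP_B_sub g hg
    rw [Finset.mem_coe, List.mem_toFinset, List.mem_map]
    exact ⟨W, hW, rfl⟩
  calc (KP B).ncard ≤ ((KL.map evalW).toFinset : Set (Equiv.Perm GolayPt)).ncard :=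
        Set.ncard_le_ncard hsub (Finset.finite_toSet _)
    _ = (KL.map evalW).toFinset.card := Set.ncard_coe_finset _
    _ ≤ (KL.map evalW).length := List.toFinset_card_le _
    _ = 192 := by rw [List.length_map, KL_length]

theorem appW_dec (W : List ℕ) (hW : ∀ l ∈ W, l < ngen) (x : ℕ) (hx : x < 24) :
    appW W x = idx (evalW W (dec x)) := by
  rw [idx_evalW W hW, idx_dec ⟨x, hx⟩]

theorem invW_of_sq (W : List ℕ) (hW : ∀ l ∈ W, l < ngen) (h : evalW W * evalW W = 1) :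
    invW W = true := by
  unfold invW
  rw [List.all_eq_true]
  intro x hx
  rw [List.mem_range] at hx
  rw [beq_iff_eq, appW_dec W hW x hx, ← idx_evalW W hW, ← Equiv.Perm.mul_apply, h,
    Equiv.Perm.one_apply, idx_dec ⟨x, hx⟩]

theorem mem_NLC_of (g : Equiv.Perm GolayPt) (hg : g ∈ NP B) :
    ∃ p ∈ NLC, g = evalW p.1 := by
  obtain ⟨hK, hsq⟩ := hg
  obtain ⟨W, hW, rfl⟩ := KP_B_sub g hK
  have hi := invW_of_sq W (KL_sound W hW).1 hsq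
  have hmem : W ∈ KLlit.filter invW := by
    rw [List.mem_filter, ← KL_eq]
    exact ⟨hW, hi⟩
  rw [NL_eq, List.mem_map] at hmem
  obtain ⟨p, hp, rfl⟩ := hmem
  exact ⟨p, hp, rfl⟩

theorem NLC_mem_KL (p : List ℕ × ℕ) (hp : p ∈ NLC) : p.1 ∈ KL ∧ invW p.1 = true := by
  have : p.1 ∈ KLlit.filter invW := by
    rw [NL_eq, List.mem_map]
    exact ⟨p, hp, rfl⟩
  rw [List.mem_filter, ← KL_eq] at this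
  exact this

theorem NLC_idx (p : List ℕ × ℕ) (hp : p ∈ NLC) (q : GolayPt) :
    idx (evalW p.1 q) = app p.2 (idx q) := by
  have hW := (KL_sound p.1 (NLC_mem_KL p hp).1).1
  rw [idx_evalW p.1 hW]
  have h := NLC_ok
  rw [List.all_eq_true] at h
  have h2 := h p hp
  rw [List.all_eq_true] at h2
  have h3 := h2 (idx q) (List.mem_range.2 (M24.idx_lt q))
  rwa [beq_iff_eq] at h3

theorem NLC_sq (p q : List ℕ × ℕ) (hp : p ∈ NLC) (hq : q ∈ NLC) :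
    (evalW p.1 * evalW q.1) * (evalW p.1 * evalW q.1) = 1 := by
  apply Equiv.ext
  intro r
  apply M24.idx_injective
  simp only [Equiv.Perm.mul_apply, Equiv.Perm.one_apply]
  rw [NLC_idx p hp, NLC_idx q hq, NLC_idx p hp, NLC_idx q hq]
  have h := NLC_closed
  rw [List.all_eq_true] at h
  have h2 := h p hp
  rw [List.all_eq_true] at h2
  have h3 := h2 q hq
  rw [List.all_eq_true] at h3
  have h4 := h3 (idx r) (List.mem_range.2 (M24.idx_lt r))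
  rwa [beq_iff_eq] at h4

theorem KP_mul (S : Finset (Finset GolayPt)) (x y : Equiv.Perm GolayPt) (hx : x ∈ KP S)
    (hy : y ∈ KP S) : x * y ∈ KP S := by
  refine ⟨Subgroup.mul_mem _ hx.1 hy.1, fun t ht => ?_⟩
  rw [mul_smul, hy.2 t ht, hx.2 t ht]

theorem NLC_mem_NP (p : List ℕ × ℕ) (hp : p ∈ NLC) : evalW p.1 ∈ NP B := by
  refine ⟨(KL_sound p.1 (NLC_mem_KL p hp).1).2, ?_⟩
  have hW := (KL_sound p.1 (NLC_mem_KL p hp).1).1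
  have hi := (NLC_mem_KL p hp).2
  unfold invW at hi
  rw [List.all_eq_true] at hi
  apply Equiv.ext
  intro r
  apply M24.idx_injective
  rw [Equiv.Perm.mul_apply, Equiv.Perm.one_apply, idx_evalW p.1 hW, idx_evalW p.1 hW]
  have := hi (idx r) (List.mem_range.2 (M24.idx_lt r))
  rwa [beq_iff_eq] at this

theorem NP_B_mul (x y : Equiv.Perm GolayPt) (hx : x ∈ NP B) (hy : y ∈ NP B) : x * y ∈ NP B := by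
  obtain ⟨p, hp, rfl⟩ := mem_NLC_of x hx
  obtain ⟨q, hq, rfl⟩ := mem_NLC_of y hy
  exact ⟨KP_mul B _ _ hx.1 hy.1, NLC_sq p q hp hq⟩

theorem ncard_NP_B : (NP B).ncard = 64 := by
  classical
  have heq : NP B = (fun p : List ℕ × ℕ => evalW p.1) '' (NLC.toFinset : Set (List ℕ × ℕ)) := by
    ext g
    constructor
    · intro hg
      obtain ⟨p, hp, rfl⟩ := mem_NLC_of g hg
      exact ⟨p, by rw [Finset.mem_coe, List.mem_toFinset]; exact hp, rfl⟩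
    · rintro ⟨p, hp, rfl⟩
      rw [Finset.mem_coe, List.mem_toFinset] at hp
      exact NLC_mem_NP p hp
  have hinj : Set.InjOn (fun p : List ℕ × ℕ => evalW p.1) (NLC.toFinset : Set (List ℕ × ℕ)) := by
    intro p hp q hq h
    rw [Finset.mem_coe, List.mem_toFinset] at hp hq
    have hWp := (KL_sound p.1 (NLC_mem_KL p hp).1).1
    have hWq := (KL_sound q.1 (NLC_mem_KL q hq).1).1
    have hc : codeW p.1 = codeW q.1 := codeW_eq_of_evalW_eq p.1 q.1 hWp hWq h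
    exact List.inj_on_of_nodup_map NLC_nodup hp hq hc
  rw [heq, Set.InjOn.ncard_image hinj, Set.ncard_coe_finset,
    List.toFinset_card_of_nodup (List.Nodup.of_map _ NLC_nodup), NLC_length]

/-! ### Transport to an arbitrary sextet -/

theorem mem_KP_smul (g0 : Equiv.Perm GolayPt) (hg0 : g0 ∈ Cfsg.M24) (S : Finset (Finset GolayPt))
    (x : Equiv.Perm GolayPt) : x ∈ KP (g0 • S) ↔ g0⁻¹ * x * g0 ∈ KP S := by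
  constructor
  · rintro ⟨hM, hfix⟩
    refine ⟨Subgroup.mul_mem _ (Subgroup.mul_mem _ (Subgroup.inv_mem _ hg0) hM) hg0, ?_⟩
    intro t ht
    have := hfix (g0 • t) (Finset.smul_mem_smul_finset ht)
    rw [mul_smul, mul_smul, this, inv_smul_smul]
  · rintro ⟨hM, hfix⟩
    have hx : x = g0 * (g0⁻¹ * x * g0) * g0⁻¹ := by group
    refine ⟨?_, ?_⟩
    · rw [hx]
      exact Subgroup.mul_mem _ (Subgroup.mul_mem _ hg0 hM) (Subgroup.inv_mem _ hg0)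
    · intro t ht
      obtain ⟨t0, ht0, rfl⟩ := Finset.mem_smul_finset.1 ht
      have := hfix t0 ht0
      rw [mul_smul, mul_smul] at this
      exact inv_smul_eq_iff.1 this

theorem mem_NP_smul (g0 : Equiv.Perm GolayPt) (hg0 : g0 ∈ Cfsg.M24) (S : Finset (Finset GolayPt))
    (x : Equiv.Perm GolayPt) : x ∈ NP (g0 • S) ↔ g0⁻¹ * x * g0 ∈ NP S := by
  unfold NP
  simp only [Set.mem_ofPred_eq]
  rw [mem_KP_smul g0 hg0 S x]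
  have h : g0⁻¹ * x * g0 * (g0⁻¹ * x * g0) = g0⁻¹ * (x * x) * g0 := by group
  rw [h]
  constructor
  · rintro ⟨h1, h2⟩
    exact ⟨h1, by rw [h2]; group⟩
  · rintro ⟨h1, h2⟩
    refine ⟨h1, ?_⟩
    have : x * x = g0 * (g0⁻¹ * (x * x) * g0) * g0⁻¹ := by group
    rw [this, h2]
    group

theorem KP_smul_eq (g0 : Equiv.Perm GolayPt) (hg0 : g0 ∈ Cfsg.M24) (S : Finset (Finset GolayPt)) :
    KP (g0 • S) = (MulAut.conj g0) '' KP S := by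
  ext x
  rw [mem_KP_smul g0 hg0 S x]
  constructor
  · intro h
    exact ⟨_, h, by rw [MulAut.conj_apply]; group⟩
  · rintro ⟨y, hy, rfl⟩
    rw [MulAut.conj_apply]
    have : g0⁻¹ * (g0 * y * g0⁻¹) * g0 = y := by group
    rwa [this]

theorem NP_smul_eq (g0 : Equiv.Perm GolayPt) (hg0 : g0 ∈ Cfsg.M24) (S : Finset (Finset GolayPt)) :
    NP (g0 • S) = (MulAut.conj g0) '' NP S := by
  ext x
  rw [mem_NP_smul g0 hg0 S x]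
  constructor
  · intro h
    exact ⟨_, h, by rw [MulAut.conj_apply]; group⟩
  · rintro ⟨y, hy, rfl⟩
    rw [MulAut.conj_apply]
    have : g0⁻¹ * (g0 * y * g0⁻¹) * g0 = y := by group
    rwa [this]

end Cfsg.Agent.Helper29.SextetKer
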