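import Mathlib
import Cfsg.Agent.Lib.Helper29.M24SearchC

set_option autoImplicit false
open Cfsg

namespace Cfsg.Agent.Helper29.Syl2

open Cfsg.Agent.Helper27 Cfsg.Agent.Helper29 Cfsg.Agent.Helper29.M24
open Cfsg.Agent.S0358 (idx)
open scoped Pointwise

/-! ### A Sylow 2-subgroup of the group of the code, as the stabilizer of three families of sets -/

/-- four pairs, two tetrads and eight 8-sets: the cycles of the elements of order 8 -/
def F2 : List ℕ := [12, 16416, 131074, 8388609]
def F4 : List ℕ := [131086, 8405025]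
def F8 : List ℕ := [47824, 1945664, 2925328, 3254656, 4986448, 5315776, 6295440, 8193280]

/-- `g` maps the family to itself -/
def PresF (LF : List ℕ) (g : Equiv.Perm GolayPt) : Prop := g • famSet LF = famSet LF

/-- the defining property of the subgroup -/
def PS (g : Equiv.Perm GolayPt) : Prop := PresF F2 g ∧ PresF F4 g ∧ PresF F8 g

/-- some set of the family contains both points -/
def coB (LF : List ℕ) (x y : ℕ) : Bool := LF.any fun A => A.testBit x && A.testBit y

theorem coB_iff (LF : List ℕ) (a b : GolayPt) :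
    coB LF (idx a) (idx b) = true ↔ ∃ s ∈ famSet LF, a ∈ s ∧ b ∈ s := by
  unfold coB
  rw [List.any_eq_true]
  constructor
  · rintro ⟨A, hA, h⟩
    rw [Bool.and_eq_true] at h
    exact ⟨maskSet A, (mem_famSet _ _).2 ⟨A, hA, rfl⟩, (mem_maskSet _ _).2 h.1,
      (mem_maskSet _ _).2 h.2⟩
  · rintro ⟨s, hs, ha, hb⟩
    obtain ⟨A, hA, rfl⟩ := (mem_famSet _ _).1 hs
    exact ⟨A, hA, by rw [Bool.and_eq_true]; exact ⟨(mem_maskSet _ _).1 ha, (mem_maskSet _ _).1 hb⟩⟩

theorem coB_inv (LF : List ℕ) (g : Equiv.Perm GolayPt) (h : PresF LF g) (a b : GolayPt) :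
    coB LF (idx (g a)) (idx (g b)) = coB LF (idx a) (idx b) := by
  rw [Bool.eq_iff_iff, coB_iff, coB_iff]
  constructor
  · rintro ⟨s, hs, ha, hb⟩
    rw [← h] at hs
    obtain ⟨t, ht, rfl⟩ := Finset.mem_smul_finset.1 hs
    refine ⟨t, ht, ?_, ?_⟩
    · exact (Finset.smul_mem_smul_finset_iff g).1 ha
    · exact (Finset.smul_mem_smul_finset_iff g).1 hb
  · rintro ⟨s, hs, ha, hb⟩
    refine ⟨g • s, ?_, Finset.smul_mem_smul_finset ha, Finset.smul_mem_smul_finset hb⟩
    rw [← h]
    exact Finset.smul_mem_smul_finset hs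

/-- the three co-occurrence bits of a pair of points -/
def sigS (x y : ℕ) : ℕ := (coB F2 x y).toNat + 2 * (coB F4 x y).toNat + 4 * (coB F8 x y).toNat

theorem sigS_inv (g : Equiv.Perm GolayPt) (h : PS g) (a b : GolayPt) :
    sigS (idx (g a)) (idx (g b)) = sigS (idx a) (idx b) := by
  unfold sigS
  rw [coB_inv F2 g h.1, coB_inv F4 g h.2.1, coB_inv F8 g h.2.2]

/-- the table of `sigS`, three bits for each pair of points -/
def sigTab : ℕ := 5673666147375190609905248804971543099099556204552107057477255442434526680388236588481129483425755044316036571580581174607790115477837987947356367415306481737404623778256741024769516469585434505256336370428442366928452880771496468591962440333303966176541910141592193782519506680170367493051698037128274969982280787557782147312888366734710357267546950852685450878451941021777774190709744551816645671500373439694896881117913527775275933290828254165616115638783446248612818391904923566597497737020370658606549939236775198723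

def sigT (x y : ℕ) : ℕ :=
  Nat.land (Nat.shiftRight sigTab (Nat.mul 3 (Nat.add (Nat.mul 24 x) y))) 7

theorem sigT_eq : ∀ x < 24, ∀ y < 24, sigT x y = sigS x y := by decide +kernel

/-- level test: the new image point has the right co-occurrence bits with the earlier images -/
def lvlC (i c p : ℕ) : Bool :=
  Nat.beq (sigT (appF c p) (appF c p)) (sigT (bpt i) (bpt i)) &&
    (List.range i).all fun j => Nat.beq (sigT (appF c (bpt j)) (appF c p)) (sigT (bpt j) (bpt i))

/-- final test for a family -/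
def famOKc (LF : List ℕ) (c : ℕ) : Bool := LF.all fun A => LF.any fun A' => Nat.beq (imgP c A) A'

def finC (c : ℕ) : Bool := famOKc F2 c && famOKc F4 c && famOKc F8 c

theorem lvlC_ok : ∀ i < 7, ∀ (W : List ℕ) (c : ℕ), Repr c W → ∀ p ∈ orb i, ∀ τ ∈ grp (i + 1),
    PS (evalW (W ++ tw i p) * τ) → lvlC i c p = true := by
  intro i hi W c hr p hp τ hτ hP
  have hpi := idx_ext_eq i hi W c hr p hp τ hτ
  have key : ∀ j, j ≤ i → ∀ xj, idx ((evalW (W ++ tw i p) * τ) (dec (bpt j))) = xj →
      sigT xj (appF c p) = sigT (bpt j) (bpt i) := by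
    intro j hj xj hxj
    have hj7 : j < 7 := by omega
    have h1 := sigS_inv _ hP (dec (bpt j)) (dec (bpt i))
    rw [hxj, hpi, idx_dec_bpt j hj7, idx_dec_bpt i hi] at h1
    have hlt1 : xj < 24 := by rw [← hxj]; exact M24.idx_lt _
    have hlt2 : app c p < 24 := by rw [← hpi]; exact M24.idx_lt _
    rw [appF_eq, sigT_eq _ hlt1 _ hlt2, sigT_eq _ (bpt_lt j hj7) _ (bpt_lt i hi)]
    exact h1
  unfold lvlC
  rw [Bool.and_eq_true, List.all_eq_true]
  constructor
  · have e : sigT (appF c p) (appF c p) = sigT (bpt i) (bpt i) := key i le_rfl _ hpi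
    rw [e]
    exact Nat.beq_refl _
  · intro j hj
    rw [List.mem_range] at hj
    have e : sigT (appF c (bpt j)) (appF c p) = sigT (bpt j) (bpt i) :=
      key j (by omega) _ (idx_ext_lt i hi W c hr p hp τ hτ j hj)
    rw [e]
    exact Nat.beq_refl _

theorem famOKc_ok (LF : List ℕ) (hlt : ∀ A ∈ LF, A < 2 ^ 24) (W : List ℕ) (c : ℕ)
    (hr : Repr c W) (hP : PresF LF (evalW W)) : famOKc LF c = true := by
  unfold famOKc
  rw [List.all_eq_true]
  intro A hA
  rw [List.any_eq_true]
  have hmem : evalW W • maskSet A ∈ famSet LF := by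
    rw [← hP]
    exact Finset.smul_mem_smul_finset ((mem_famSet _ _).2 ⟨A, hA, rfl⟩)
  obtain ⟨A', hA', e⟩ := (mem_famSet _ _).1 hmem
  refine ⟨A', hA', ?_⟩
  rw [maskSet_imgP c W hr.1 hr.2] at e
  rw [maskSet_inj (hlt A' hA') (testBit_imgP_lt c W hr A) e]
  exact Nat.beq_refl _

theorem presF_of_famOKc (LF : List ℕ) (W : List ℕ) (c : ℕ) (hr : Repr c W)
    (h : famOKc LF c = true) : PresF LF (evalW W) := by
  unfold famOKc at h
  rw [List.all_eq_true] at h
  unfold PresF
  apply Finset.eq_of_subset_of_card_le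
  · intro t ht
    obtain ⟨s, hs, rfl⟩ := Finset.mem_smul_finset.1 ht
    obtain ⟨A, hA, rfl⟩ := (mem_famSet _ _).1 hs
    have h2 := h A hA
    rw [List.any_eq_true] at h2
    obtain ⟨A', hA', hm⟩ := h2
    rw [maskSet_imgP c W hr.1 hr.2, Nat.eq_of_beq_eq_true hm]
    exact (mem_famSet _ _).2 ⟨A', hA', rfl⟩
  · rw [Finset.card_smul_finset]

theorem finC_ok : ∀ (W : List ℕ) (c : ℕ), Repr c W → PS (evalW W) → finC c = true := by
  intro W c hr hP
  unfold finC
  rw [Bool.and_eq_true, Bool.and_eq_true]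
  exact ⟨⟨famOKc_ok F2 (by decide) W c hr hP.1, famOKc_ok F4 (by decide) W c hr hP.2.1⟩,
    famOKc_ok F8 (by decide) W c hr hP.2.2⟩

theorem PS_of_finC (W : List ℕ) (c : ℕ) (hr : Repr c W) (h : finC c = true) : PS (evalW W) := by
  unfold finC at h
  rw [Bool.and_eq_true, Bool.and_eq_true] at h
  exact ⟨presF_of_famOKc F2 W c hr h.1.1, presF_of_famOKc F4 W c hr h.1.2,
    presF_of_famOKc F8 W c hr h.2⟩

end Cfsg.Agent.Helper29.Syl2
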