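import Mathlib
import Cfsg.Agent.Lib.Helper29.M24Sextet
import Cfsg.Agent.S1556

set_option autoImplicit false
open Cfsg

namespace Cfsg.Agent.Helper29.M24

open Cfsg.Agent.Helper27 Cfsg.Agent.Helper29
open Cfsg.Agent.S0358 (idx)
open scoped Pointwise

/-! ### Trios -/

theorem maskSet_full : maskSet 16777215 = Finset.univ := by
  ext x
  rw [mem_maskSet]
  simp only [Finset.mem_univ, iff_true]
  revert x
  decide

theorem inCode_univ : inCode (Finset.univ : Finset GolayPt) := by
  have := inCode_maskSet_cw 2048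
  have h : cw 2048 = 16777215 := by decide
  rwa [h, maskSet_full] at this

theorem inCode_compl {s : Finset GolayPt} (hs : inCode s) : inCode sᶜ := by
  have := inCode_symmDiff hs inCode_univ
  have e : symmDiff s Finset.univ = sᶜ := by
    ext p
    simp [Finset.mem_symmDiff]
  rwa [e] at this

/-- the complement of the union of two disjoint octads is an octad -/
theorem compl_union_octad {o o' : Finset GolayPt} (ho : o ∈ octads) (ho' : o' ∈ octads)
    (hd : Disjoint o o') : (o ∪ o')ᶜ ∈ octads := by
  have h1 : symmDiff o o' = o ∪ o' := by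
    rw [symmDiff_eq_sup_sdiff_inf]
    have : o ⊓ o' = ∅ := Finset.disjoint_iff_inter_eq_empty.1 hd
    rw [this]
    simp
  have h2 : inCode (o ∪ o') := by
    rw [← h1]
    exact inCode_symmDiff ho.1 ho'.1
  refine mem_octads_of_inCode (inCode_compl h2) ?_
  rw [Finset.card_compl, Finset.card_union_of_disjoint hd, ho.2, ho'.2]
  rfl

theorem compl_union_disjoint (o o' : Finset GolayPt) :
    Disjoint o (o ∪ o')ᶜ ∧ Disjoint o' (o ∪ o')ᶜ := by
  constructor
  · rw [Finset.disjoint_left]
    intro p hp hp'
    exact (Finset.mem_compl.1 hp') (Finset.mem_union_left _ hp)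
  · rw [Finset.disjoint_left]
    intro p hp hp'
    exact (Finset.mem_compl.1 hp') (Finset.mem_union_right _ hp)

theorem octad_ne_of_disjoint {o o' : Finset GolayPt} (ho : o ∈ octads) (hd : Disjoint o o') :
    o ≠ o' := by
  rintro rfl
  have : o = ∅ := (Finset.disjoint_self_iff_empty o).1 hd
  have h8 := ho.2
  rw [this] at h8
  simp at h8

/-- two disjoint octads and the complement of their union form a trio -/
theorem mk_trio {o o' : Finset GolayPt} (ho : o ∈ octads) (ho' : o' ∈ octads) (hd : Disjoint o o') :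
    ({o, o', (o ∪ o')ᶜ} : Finset (Finset GolayPt)) ∈ trios := by
  have hc := compl_union_octad ho ho' hd
  obtain ⟨d1, d2⟩ := compl_union_disjoint o o'
  have n1 := octad_ne_of_disjoint ho hd
  have n2 := octad_ne_of_disjoint ho d1
  have n3 := octad_ne_of_disjoint ho' d2
  refine ⟨?_, ?_, ?_⟩
  · rw [Finset.card_insert_of_notMem, Finset.card_insert_of_notMem, Finset.card_singleton]
    · simpa using n3
    · simp only [Finset.mem_insert, Finset.mem_singleton]
      rintro (h | h)
      · exact n1 h
      · exact n2 h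
  · intro x hx
    simp only [Finset.mem_insert, Finset.mem_singleton] at hx
    rcases hx with rfl | rfl | rfl
    · exact ho
    · exact ho'
    · exact hc
  · intro x hx y hy hne
    simp only [Finset.mem_insert, Finset.mem_singleton] at hx hy
    rcases hx with rfl | rfl | rfl <;> rcases hy with rfl | rfl | rfl
    · exact absurd rfl hne
    · exact hd
    · exact d1
    · exact hd.symm
    · exact absurd rfl hne
    · exact d2
    · exact d1.symm
    · exact d2.symm
    · exact absurd rfl hne

/-- a trio is determined by two of its members -/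
theorem trio_eq_of_two (T : Finset (Finset GolayPt)) (hT : T ∈ trios) (o o' : Finset GolayPt)
    (ho : o ∈ T) (ho' : o' ∈ T) (hne : o ≠ o') : T = {o, o', (o ∪ o')ᶜ} := by
  obtain ⟨h3, hoct, hdis⟩ := hT
  have hd := hdis o ho o' ho' hne
  -- the third member
  have hex : ∃ x ∈ T, x ≠ o ∧ x ≠ o' := by
    by_contra hcon
    push Not at hcon
    have : T ⊆ {o, o'} := by
      intro x hx
      simp only [Finset.mem_insert, Finset.mem_singleton]
      by_cases h : x = o
      · exact Or.inl h
      · exact Or.inr (hcon x hx h)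
    have := Finset.card_le_card this
    rw [h3] at this
    have h2 : ({o, o'} : Finset (Finset GolayPt)).card ≤ 2 := Finset.card_le_two
    omega
  obtain ⟨x, hx, hxo, hxo'⟩ := hex
  have hxe : x = (o ∪ o')ᶜ := by
    apply Finset.eq_of_subset_of_card_le
    · intro p hp
      rw [Finset.mem_compl, Finset.mem_union]
      rintro (h | h)
      · exact Finset.disjoint_left.1 (hdis x hx o ho hxo) hp h
      · exact Finset.disjoint_left.1 (hdis x hx o' ho' hxo') hp h
    · rw [Finset.card_compl, Finset.card_union_of_disjoint hd, (hoct o ho).2, (hoct o' ho').2,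
        (hoct x hx).2]
      rfl
  symm
  apply Finset.eq_of_subset_of_card_le
  · intro y hy
    simp only [Finset.mem_insert, Finset.mem_singleton] at hy
    rcases hy with rfl | rfl | rfl
    · exact ho
    · exact ho'
    · rw [← hxe]; exact hx
  · rw [h3]
    have := (mk_trio (hoct o ho) (hoct o' ho') hd).1
    rw [this]

theorem trio_ext (T T' : Finset (Finset GolayPt)) (hT : T ∈ trios) (hT' : T' ∈ trios)
    (o o' : Finset GolayPt) (hne : o ≠ o') (ho : o ∈ T) (ho' : o' ∈ T) (h1 : o ∈ T')
    (h1' : o' ∈ T') : T = T' := by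
  rw [trio_eq_of_two T hT o o' ho ho' hne, trio_eq_of_two T' hT' o o' h1 h1' hne]

theorem smul_mem_trios {g : Equiv.Perm GolayPt} (hg : g ∈ M24) {T : Finset (Finset GolayPt)}
    (hT : T ∈ trios) : g • T ∈ trios := by
  obtain ⟨h3, hoct, hdis⟩ := hT
  refine ⟨by rw [Finset.card_smul_finset]; exact h3, ?_, ?_⟩
  · intro o ho
    obtain ⟨o0, ho0, rfl⟩ := Finset.mem_smul_finset.1 ho
    exact smul_mem_octads hg (hoct o0 ho0)
  · intro o ho o' ho' hne
    obtain ⟨o0, ho0, rfl⟩ := Finset.mem_smul_finset.1 ho
    obtain ⟨o1, ho1, rfl⟩ := Finset.mem_smul_finset.1 ho'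
    have hne' : o0 ≠ o1 := fun h => hne (by rw [h])
    have := hdis o0 ho0 o1 ho1 hne'
    rw [Finset.disjoint_iff_inter_eq_empty] at this ⊢
    rw [← Finset.smul_finset_inter, this, Finset.smul_finset_empty]

theorem trio_cover (T : Finset (Finset GolayPt)) (hT : T ∈ trios) (p : GolayPt) :
    ∃ o ∈ T, p ∈ o := by
  obtain ⟨h3, hoct, hdis⟩ := hT
  have hcard : (T.biUnion id).card = 24 := by
    rw [Finset.card_biUnion]
    · have : ∀ o ∈ T, (id o).card = 8 := fun o ho => (hoct o ho).2
      rw [Finset.sum_congr rfl this, Finset.sum_const, h3]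
      rfl
    · intro o ho o' ho' hne
      exact hdis o ho o' ho' hne
  have huniv : T.biUnion id = Finset.univ := by
    apply Finset.eq_univ_of_card
    rw [hcard]
    rfl
  have : p ∈ T.biUnion id := by rw [huniv]; exact Finset.mem_univ p
  obtain ⟨o, ho, hp⟩ := Finset.mem_biUnion.1 this
  exact ⟨o, ho, hp⟩

/-- the second base octad, disjoint from the first -/
def octB : ℕ := 2702848

theorem octB_mem : maskSet octB ∈ octads := by
  refine mem_octads_of_inCode (isCW_spec _ (by decide +kernel)) ?_
  rw [card_maskSet]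
  decide

theorem octB_disjoint : Disjoint oct0 (maskSet octB) := by
  rw [oct0_eq, disjoint_maskSet_iff]
  decide

/-- the base trio -/
def trio0 : Finset (Finset GolayPt) := {oct0, maskSet octB, (oct0 ∪ maskSet octB)ᶜ}

theorem trio0_mem : trio0 ∈ trios := mk_trio oct0_mem octB_mem octB_disjoint

/-- every trio is an image of the base trio -/
theorem exists_map_trio (T : Finset (Finset GolayPt)) (hT : T ∈ trios) :
    ∃ g0 ∈ M24, T = g0 • trio0 := by
  obtain ⟨o1, ho1, -⟩ := trio_cover T hT (dec 0)
  have hex : ∃ o2 ∈ T, o2 ≠ o1 := by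
    by_contra hcon
    push Not at hcon
    have : T ⊆ {o1} := fun x hx => Finset.mem_singleton.2 (hcon x hx)
    have := Finset.card_le_card this
    rw [hT.1, Finset.card_singleton] at this
    omega
  obtain ⟨o2, ho2, hne⟩ := hex
  have hoct1 := hT.2.1 o1 ho1
  have hoct2 := hT.2.1 o2 ho2
  have hd := hT.2.2 o1 ho1 o2 ho2 hne.symm
  obtain ⟨g1, hg1, e1⟩ := octad_transitive oct0 o1 oct0_mem hoct1
  have hi : g1⁻¹ ∈ M24 := Subgroup.inv_mem _ hg1
  have hc : (oct0 ∩ maskSet octB).card = (oct0 ∩ g1⁻¹ • o2).card := by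
    rw [Finset.disjoint_iff_inter_eq_empty.1 octB_disjoint]
    have : oct0 ∩ g1⁻¹ • o2 = g1⁻¹ • (o1 ∩ o2) := by
      rw [Finset.smul_finset_inter, ← e1, inv_smul_smul]
    rw [this, Finset.disjoint_iff_inter_eq_empty.1 hd, Finset.smul_finset_empty]
  obtain ⟨h, hh, hh0, hhB⟩ := Cfsg.Agent.S1556.result oct0 (maskSet octB) (g1⁻¹ • o2) oct0_mem
    octB_mem (smul_mem_octads hi hoct2) hc
  have hg0 : g1 * h ∈ M24 := Subgroup.mul_mem _ hg1 hh
  refine ⟨g1 * h, hg0, ?_⟩
  apply trio_ext T _ hT (smul_mem_trios hg0 trio0_mem) o1 o2 hne.symm ho1 ho2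
  · have : o1 = (g1 * h) • oct0 := by
      rw [mul_smul, hh0, e1]
    rw [this]
    apply Finset.smul_mem_smul_finset
    unfold trio0
    simp
  · have : o2 = (g1 * h) • maskSet octB := by
      rw [mul_smul, hhB, smul_inv_smul]
    rw [this]
    apply Finset.smul_mem_smul_finset
    unfold trio0
    simp

end Cfsg.Agent.Helper29.M24
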