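import Mathlib
import Cfsg.Agent.Lib.Helper29.M24TrioLa

set_option autoImplicit false
open Cfsg

namespace Cfsg.Agent.Helper29.TrioL

open Cfsg.Agent.Helper27 Cfsg.Agent.Helper29 Cfsg.Agent.Helper29.M24 Cfsg.Agent.Helper29.TrioN
open Cfsg.Agent.S0358 (idx)
open scoped Pointwise

/-! ### The matrix side -/

abbrev G3 : Type := Matrix.GeneralLinearGroup (Fin 3) (ZMod 2)

/-- the key of a matrix: its entries read as a binary number -/
def entM (A : Matrix (Fin 3) (Fin 3) (ZMod 2)) : ℕ :=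
  mk9 (A 0 0).val (A 0 1).val (A 0 2).val (A 1 0).val (A 1 1).val (A 1 2).val
    (A 2 0).val (A 2 1).val (A 2 2).val

def ent (M : G3) : ℕ := entM M.1

theorem bits_mk9 (a b c d e f g h i : ℕ) (ha : a < 2) (hb : b < 2) (hc : c < 2) (hd : d < 2)
    (he : e < 2) (hf : f < 2) (hg : g < 2) (hh : h < 2) (hi : i < 2) :
    b0 (mk9 a b c d e f g h i) = a ∧ b1 (mk9 a b c d e f g h i) = b ∧
    b2 (mk9 a b c d e f g h i) = c ∧ b3 (mk9 a b c d e f g h i) = d ∧
    b4 (mk9 a b c d e f g h i) = e ∧ b5 (mk9 a b c d e f g h i) = f ∧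
    b6 (mk9 a b c d e f g h i) = g ∧ b7 (mk9 a b c d e f g h i) = h ∧
    b8 (mk9 a b c d e f g h i) = i := by
  unfold b0 b1 b2 b3 b4 b5 b6 b7 b8 mk9
  omega

theorem entM_bits (A : Matrix (Fin 3) (Fin 3) (ZMod 2)) :
    b0 (entM A) = (A 0 0).val ∧ b1 (entM A) = (A 0 1).val ∧ b2 (entM A) = (A 0 2).val ∧
    b3 (entM A) = (A 1 0).val ∧ b4 (entM A) = (A 1 1).val ∧ b5 (entM A) = (A 1 2).val ∧
    b6 (entM A) = (A 2 0).val ∧ b7 (entM A) = (A 2 1).val ∧ b8 (entM A) = (A 2 2).val :=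
  bits_mk9 _ _ _ _ _ _ _ _ _ (ZMod.val_lt _) (ZMod.val_lt _) (ZMod.val_lt _) (ZMod.val_lt _)
    (ZMod.val_lt _) (ZMod.val_lt _) (ZMod.val_lt _) (ZMod.val_lt _) (ZMod.val_lt _)

theorem entM_lt (A : Matrix (Fin 3) (Fin 3) (ZMod 2)) : entM A < 512 := by
  have h1 := ZMod.val_lt (A 0 0)
  have h2 := ZMod.val_lt (A 0 1)
  have h3 := ZMod.val_lt (A 0 2)
  have h4 := ZMod.val_lt (A 1 0)
  have h5 := ZMod.val_lt (A 1 1)
  have h6 := ZMod.val_lt (A 1 2)
  have h7 := ZMod.val_lt (A 2 0)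
  have h8 := ZMod.val_lt (A 2 1)
  have h9 := ZMod.val_lt (A 2 2)
  unfold entM mk9
  omega

theorem entM_inj (A B : Matrix (Fin 3) (Fin 3) (ZMod 2)) (h : entM A = entM B) : A = B := by
  obtain ⟨a0, a1, a2, a3, a4, a5, a6, a7, a8⟩ := entM_bits A
  obtain ⟨c0, c1, c2, c3, c4, c5, c6, c7, c8⟩ := entM_bits B
  rw [h] at a0 a1 a2 a3 a4 a5 a6 a7 a8
  ext i j
  apply ZMod.val_injective 2
  fin_cases i <;> fin_cases j
  · exact a0.symm.trans c0
  · exact a1.symm.trans c1
  · exact a2.symm.trans c2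
  · exact a3.symm.trans c3
  · exact a4.symm.trans c4
  · exact a5.symm.trans c5
  · exact a6.symm.trans c6
  · exact a7.symm.trans c7
  · exact a8.symm.trans c8

theorem ent_inj (M N : G3) (h : ent M = ent N) : M = N :=
  Units.ext (entM_inj _ _ h)

theorem ent_mem (M : G3) : ent M ∈ allK := List.mem_range.2 (entM_lt _)

theorem zmod2_cases : ∀ x : ZMod 2, x ≠ 0 → x = 1 := by decide

theorem two_eq_zero : (2 : ZMod 2) = 0 := by decide

theorem ent_valid (M : G3) : validK (ent M) = true := by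
  have hdet : M.1.det = 1 := by
    apply zmod2_cases
    exact ((Matrix.isUnit_iff_isUnit_det _).1 M.isUnit).ne_zero
  rw [Matrix.det_fin_three] at hdet
  obtain ⟨a0, a1, a2, a3, a4, a5, a6, a7, a8⟩ := entM_bits M.1
  unfold validK ent
  rw [a0, a1, a2, a3, a4, a5, a6, a7, a8]
  have h3 : ((((M.1 0 0).val * ((M.1 1 1).val * (M.1 2 2).val + (M.1 1 2).val * (M.1 2 1).val) +
      (M.1 0 1).val * ((M.1 1 0).val * (M.1 2 2).val + (M.1 1 2).val * (M.1 2 0).val) +
      (M.1 0 2).val * ((M.1 1 0).val * (M.1 2 1).val + (M.1 1 1).val * (M.1 2 0).val) : ℕ)) :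
        ZMod 2) = ((1 : ℕ) : ZMod 2) := by
    push_cast
    simp only [ZMod.natCast_zmod_val]
    linear_combination hdet + (M.1 0 0 * M.1 1 2 * M.1 2 1 + M.1 0 1 * M.1 1 0 * M.1 2 2 +
      M.1 0 2 * M.1 1 1 * M.1 2 0) * two_eq_zero
  have h4 := (ZMod.natCast_eq_natCast_iff' _ _ _).1 h3
  rw [h4]
  rfl

/-- the cyclic permutation matrix -/
def PPm : Matrix (Fin 3) (Fin 3) (ZMod 2) := !![0, 0, 1; 1, 0, 0; 0, 1, 0]

def PPi : Matrix (Fin 3) (Fin 3) (ZMod 2) := !![0, 1, 0; 0, 0, 1; 1, 0, 0]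

/-- the transvection -/
def EEm : Matrix (Fin 3) (Fin 3) (ZMod 2) := !![1, 1, 0; 0, 1, 0; 0, 0, 1]

def PP : G3 := ⟨PPm, PPi, by decide, by decide⟩

def EE : G3 := ⟨EEm, EEm, by decide, by decide⟩

def gen (g : Bool) : G3 := if g then EE else PP

theorem mul_PP (A : Matrix (Fin 3) (Fin 3) (ZMod 2)) (i : Fin 3) :
    (A * PPm) i 0 = A i 1 ∧ (A * PPm) i 1 = A i 2 ∧ (A * PPm) i 2 = A i 0 := by
  simp [Matrix.mul_apply, Fin.sum_univ_three, PPm]

theorem mul_EE (A : Matrix (Fin 3) (Fin 3) (ZMod 2)) (i : Fin 3) :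
    (A * EEm) i 0 = A i 0 ∧ (A * EEm) i 1 = A i 0 + A i 1 ∧ (A * EEm) i 2 = A i 2 := by
  simp [Matrix.mul_apply, Fin.sum_univ_three, EEm]

theorem ent_mul_gen (M : G3) (g : Bool) : ent (M * gen g) = stepK (ent M) g := by
  obtain ⟨a0, a1, a2, a3, a4, a5, a6, a7, a8⟩ := entM_bits M.1
  cases g
  · have e : (M * gen false).1 = M.1 * PPm := rfl
    unfold stepK ent
    rw [e, a0, a1, a2, a3, a4, a5, a6, a7, a8]
    simp only [Bool.false_eq_true, if_false]
    unfold entM
    rw [(mul_PP M.1 0).1, (mul_PP M.1 0).2.1, (mul_PP M.1 0).2.2, (mul_PP M.1 1).1,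
      (mul_PP M.1 1).2.1, (mul_PP M.1 1).2.2, (mul_PP M.1 2).1, (mul_PP M.1 2).2.1,
      (mul_PP M.1 2).2.2]
  · have e : (M * gen true).1 = M.1 * EEm := rfl
    unfold stepK ent
    rw [e, a0, a1, a2, a3, a4, a5, a6, a7, a8]
    simp only [if_true]
    unfold entM
    rw [(mul_EE M.1 0).1, (mul_EE M.1 0).2.1, (mul_EE M.1 0).2.2, (mul_EE M.1 1).1,
      (mul_EE M.1 1).2.1, (mul_EE M.1 1).2.2, (mul_EE M.1 2).1, (mul_EE M.1 2).2.1,
      (mul_EE M.1 2).2.2, ZMod.val_add, ZMod.val_add, ZMod.val_add]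

def prodL (l : List Bool) : G3 := (l.map gen).prod

theorem prodL_cons (g : Bool) (l : List Bool) : prodL (g :: l) = gen g * prodL l := by
  unfold prodL
  rw [List.map_cons, List.prod_cons]

theorem ent_prodL : ∀ (l : List Bool) (M : G3), ent (M * prodL l) = l.foldl stepK (ent M) := by
  intro l
  induction l with
  | nil => intro M; rw [List.foldl_nil]; unfold prodL; rw [List.map_nil, List.prod_nil, mul_one]
  | cons g l ih =>
    intro M
    rw [prodL_cons, ← mul_assoc, ih, ent_mul_gen, List.foldl_cons]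

theorem ent_one : ent (1 : G3) = kI := by
  unfold ent entM kI mk9
  simp only [Units.val_one, Matrix.one_apply_eq]
  rw [Matrix.one_apply_ne (by decide), Matrix.one_apply_ne (by decide),
    Matrix.one_apply_ne (by decide), Matrix.one_apply_ne (by decide),
    Matrix.one_apply_ne (by decide), Matrix.one_apply_ne (by decide)]
  rfl

theorem swOf_ok (M : G3) : (swOf (ent M)).foldl stepK kI = ent M := by
  have h2 := chk2
  rw [List.all_eq_true] at h2
  have h3 := h2 (ent M) (ent_mem M)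
  rw [ent_valid M, Bool.not_true, Bool.false_or] at h3
  exact Nat.eq_of_beq_eq_true h3

theorem eq_prodL (M : G3) : M = prodL (swOf (ent M)) := by
  apply ent_inj
  have h := ent_prodL (swOf (ent M)) 1
  rw [one_mul, ent_one] at h
  rw [h, swOf_ok]

/-! ### The homomorphism from the matrix group -/

/-- the word of the group of the code for a word in the two generators -/
def phi0 (l : List Bool) : List ℕ := l.flatMap wG

theorem repr_wG (g : Bool) : Repr (Cof (kG g)) (wG g) := by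
  cases g
  · exact chk3.2.1
  · exact chk3.2.2.1

theorem stepK_lt (k : ℕ) (g : Bool) : stepK k g < 512 := by
  unfold stepK mk9 b0 b1 b2 b3 b4 b5 b6 b7 b8
  split_ifs <;> omega

theorem step_ok (k : ℕ) (hk : k ∈ allK) (hv : validK k = true) (g : Bool) :
    validK (stepK k g) = true ∧ Cof (stepK k g) = compF (Cof k) (Cof (kG g)) := by
  have h := chk1
  rw [List.all_eq_true] at h
  have h2 := h k hk
  rw [hv, Bool.not_true, Bool.false_or, List.all_eq_true] at h2
  have h3 := h2 g (by cases g <;> simp)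
  rw [Bool.and_eq_true] at h3
  exact ⟨h3.1, Nat.eq_of_beq_eq_true h3.2⟩

theorem repr_run : ∀ (l : List Bool) (k : ℕ) (W : List ℕ), k ∈ allK →
    validK k = true → Repr (Cof k) W → Repr (Cof (l.foldl stepK k)) (W ++ phi0 l) := by
  intro l
  induction l with
  | nil =>
    intro k W _ _ hr
    unfold phi0
    rw [List.foldl_nil, List.flatMap_nil, List.append_nil]
    exact hr
  | cons g l ih =>
    intro k W hk hv hr
    obtain ⟨hv', hc⟩ := step_ok k hk hv g
    have hr' : Repr (Cof (stepK k g)) (W ++ wG g) := by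
      rw [hc]
      exact repr_compF _ _ _ _ hr (repr_wG g)
    have := ih (stepK k g) (W ++ wG g) (List.mem_range.2 (stepK_lt k g)) hv' hr'
    unfold phi0 at this ⊢
    rw [List.foldl_cons, List.flatMap_cons, ← List.append_assoc]
    exact this

theorem kI_mem : kI ∈ allK := List.mem_range.2 (by unfold kI; norm_num)

theorem repr_kI : Repr (Cof kI) [] := by
  rw [chk3.1]
  exact repr_cId

theorem repr_ent (M : G3) : Repr (Cof (ent M)) (phi0 (swOf (ent M))) := by
  have h := repr_run (swOf (ent M)) kI [] kI_mem (by decide) repr_kI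
  rw [List.nil_append, swOf_ok] at h
  exact h

/-- the homomorphism, as a map -/
def phi (M : G3) : Equiv.Perm GolayPt := evalW (phi0 (swOf (ent M)))

theorem phi_mul_gen (M : G3) (g : Bool) : phi (M * gen g) = phi M * evalW (wG g) := by
  unfold phi
  rw [← evalW_append]
  apply evalW_eq_of_repr (Cof (ent (M * gen g)))
  · exact repr_ent _
  · rw [ent_mul_gen, (step_ok (ent M) (ent_mem M) (ent_valid M) g).2]
    exact repr_compF _ _ _ _ (repr_ent M) (repr_wG g)

theorem phi_one : phi 1 = 1 := by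
  unfold phi
  rw [← evalW_nil]
  apply evalW_eq_of_repr (Cof (ent 1)) _ _ (repr_ent 1)
  rw [ent_one]
  exact repr_kI

theorem phi_gen (g : Bool) : phi (gen g) = evalW (wG g) := by
  have h := phi_mul_gen 1 g
  rwa [one_mul, phi_one, one_mul] at h

theorem phi_mul_prodL : ∀ (l : List Bool) (M : G3), phi (M * prodL l) = phi M * phi (prodL l) := by
  intro l
  induction l with
  | nil =>
    intro M
    unfold prodL
    rw [List.map_nil, List.prod_nil, mul_one, phi_one, mul_one]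
  | cons g l ih =>
    intro M
    rw [prodL_cons, ← mul_assoc, ih (M * gen g), phi_mul_gen, ih (gen g), phi_gen, mul_assoc]

theorem phi_mul (M N : G3) : phi (M * N) = phi M * phi N := by
  rw [eq_prodL N]
  exact phi_mul_prodL _ M

theorem T0_eq : T0 = famSet (unpackF 3 trioC0) := by
  unfold T0
  rw [trioC0_unpack]

theorem mem_K0_of_relF (W : List ℕ) (c : ℕ) (hr : Repr c W) (h : relF 3 c trioC0 trioC0 = true) :
    evalW W ∈ K0 := by
  unfold K0
  rw [T0_eq]
  exact famStab_cfg 3 trioC0 c W hr h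

theorem phi_gen_mem (g : Bool) : phi (gen g) ∈ K0 := by
  rw [phi_gen]
  cases g
  · exact mem_K0_of_relF wP (Cof kP) chk3.2.1 chk3.2.2.2.1
  · exact mem_K0_of_relF wE (Cof kE) chk3.2.2.1 chk3.2.2.2.2

theorem phi_prodL_mem : ∀ l : List Bool, phi (prodL l) ∈ K0 := by
  intro l
  induction l with
  | nil =>
    unfold prodL
    rw [List.map_nil, List.prod_nil, phi_one]
    exact Subgroup.one_mem _
  | cons g l ih =>
    rw [prodL_cons, phi_mul]
    exact Subgroup.mul_mem _ (phi_gen_mem g) ih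

theorem phi_mem (M : G3) : phi M ∈ K0 := by
  rw [eq_prodL M]
  exact phi_prodL_mem _

/-- the homomorphism from the matrix group into the stabilizer -/
def phiHom : G3 →* ↥K0 :=
  MonoidHom.mk' (fun M => ⟨phi M, phi_mem M⟩) (fun a b => Subtype.ext (phi_mul a b))

theorem phiHom_coe (M : G3) : ((phiHom M : ↥K0) : Equiv.Perm GolayPt) = phi M := rfl

end Cfsg.Agent.Helper29.TrioL
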