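import Mathlib
import Cfsg.Agent.Lib.Helper29.M24TrioLb

set_option autoImplicit false
open Cfsg

namespace Cfsg.Agent.Helper29.TrioL

open Cfsg.Agent.Helper27 Cfsg.Agent.Helper29 Cfsg.Agent.Helper29.M24 Cfsg.Agent.Helper29.TrioN
open Cfsg.Agent.S0358 (idx)
open scoped Pointwise

/-! ### The symmetric group side -/

/-- the key of a permutation of three letters -/
def keyS (π : Equiv.Perm (Fin 3)) : ℕ := (π 0).val + 3 * (π 1).val + 9 * (π 2).val

theorem keyS_mem : ∀ π : Equiv.Perm (Fin 3), keyS π ∈ validS := by decide +kernel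

theorem keyS_inj : ∀ π ρ : Equiv.Perm (Fin 3), keyS π = keyS ρ → π = ρ := by decide +kernel

theorem keyS_one : keyS 1 = 21 := by decide +kernel

def cS (π : Equiv.Perm (Fin 3)) : ℕ := cS' (keyS π)

def wS (π : Equiv.Perm (Fin 3)) : List ℕ := wS' (keyS π)

set_option maxRecDepth 100000 in
theorem chkS1 : ∀ π ρ : Equiv.Perm (Fin 3), cS (π * ρ) = compF (cS π) (cS ρ) := by decide +kernel

/-- the masks of the three octads -/
def mkO (i : Fin 3) : ℕ := trioL0.getD i.val 0

set_option maxRecDepth 100000 in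
theorem chkS4 : ∀ π : Equiv.Perm (Fin 3), ∀ i : Fin 3, imgP (cS π) (mkO i) = mkO (π i) := by
  decide +kernel

theorem chkS_at (π : Equiv.Perm (Fin 3)) :
    Repr (cS π) (wS π) ∧ relF 3 (cS π) trioC0 trioC0 = true := by
  have h := chkS.2.2
  rw [List.all_eq_true] at h
  have h2 := h (keyS π) (keyS_mem π)
  rw [Bool.and_eq_true, decide_eq_true_eq] at h2
  exact h2

theorem repr_cS (π : Equiv.Perm (Fin 3)) : Repr (cS π) (wS π) := (chkS_at π).1

/-- the homomorphism from the symmetric group, as a map -/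
def phi2 (π : Equiv.Perm (Fin 3)) : Equiv.Perm GolayPt := evalW (wS π)

theorem phi2_mul (π ρ : Equiv.Perm (Fin 3)) : phi2 (π * ρ) = phi2 π * phi2 ρ := by
  unfold phi2
  rw [← evalW_append]
  apply evalW_eq_of_repr (cS (π * ρ)) _ _ (repr_cS _)
  rw [chkS1]
  exact repr_compF _ _ _ _ (repr_cS π) (repr_cS ρ)

theorem phi2_mem (π : Equiv.Perm (Fin 3)) : phi2 π ∈ K0 :=
  mem_K0_of_relF _ _ (repr_cS π) (chkS_at π).2

def phi2Hom : Equiv.Perm (Fin 3) →* ↥K0 :=
  MonoidHom.mk' (fun π => ⟨phi2 π, phi2_mem π⟩) (fun a b => Subtype.ext (phi2_mul a b))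

theorem phi2_smul (π : Equiv.Perm (Fin 3)) (i : Fin 3) :
    phi2 π • maskSet (mkO i) = maskSet (mkO (π i)) := by
  unfold phi2
  rw [maskSet_imgP (cS π) (wS π) (repr_cS π).1 (repr_cS π).2, chkS4]

theorem comp_comm (M : G3) (π : Equiv.Perm (Fin 3)) :
    compF (Cof (ent M)) (cS π) = compF (cS π) (Cof (ent M)) := by
  have h := chkC
  rw [List.all_eq_true] at h
  have h2 := h (ent M) (ent_mem M)
  rw [ent_valid M, Bool.not_true, Bool.false_or, List.all_eq_true] at h2
  exact Nat.eq_of_beq_eq_true (h2 (keyS π) (keyS_mem π))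

theorem phi_comm (M : G3) (π : Equiv.Perm (Fin 3)) : phi M * phi2 π = phi2 π * phi M := by
  unfold phi phi2
  rw [← evalW_append, ← evalW_append]
  apply evalW_eq_of_repr (compF (Cof (ent M)) (cS π))
  · exact repr_compF _ _ _ _ (repr_ent M) (repr_cS π)
  · rw [comp_comm]
    exact repr_compF _ _ _ _ (repr_cS π) (repr_ent M)

/-- the homomorphism from the product into the stabilizer -/
def PhiHom : G3 × Equiv.Perm (Fin 3) →* ↥K0 :=
  MonoidHom.noncommCoprod phiHom phi2Hom (fun M π => Subtype.ext (phi_comm M π))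

theorem PhiHom_coe (x : G3 × Equiv.Perm (Fin 3)) :
    ((PhiHom x : ↥K0) : Equiv.Perm GolayPt) = phi x.1 * phi2 x.2 := rfl

/-- only the identity is mapped into the normal subgroup -/
theorem Phi_inj (x : G3 × Equiv.Perm (Fin 3))
    (h : ((PhiHom x : ↥K0) : Equiv.Perm GolayPt) ∈ N0) : x = 1 := by
  rw [PhiHom_coe] at h
  have hr : Repr (compF (Cof (ent x.1)) (cS x.2)) (phi0 (swOf (ent x.1)) ++ wS x.2) :=
    repr_compF _ _ _ _ (repr_ent x.1) (repr_cS x.2)
  have hP : NP (evalW (phi0 (swOf (ent x.1)) ++ wS x.2)) := by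
    rw [evalW_append]
    exact h.2
  have hf := finN_ok _ _ hr hP
  have h1 := chkI
  rw [List.all_eq_true] at h1
  have h2 := h1 (ent x.1) (ent_mem x.1)
  rw [ent_valid x.1, Bool.not_true, Bool.false_or, List.all_eq_true] at h2
  have h3 := h2 (keyS x.2) (keyS_mem x.2)
  have hf' : finN (compF (Cof (ent x.1)) (cS' (keyS x.2))) = true := hf
  rw [hf', Bool.not_true, Bool.false_or, Bool.and_eq_true] at h3
  have e1 : x.1 = 1 := by
    apply ent_inj
    rw [ent_one]
    exact Nat.eq_of_beq_eq_true h3.1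
  have e2 : x.2 = 1 := by
    apply keyS_inj
    rw [keyS_one]
    exact Nat.eq_of_beq_eq_true h3.2
  exact Prod.ext e1 e2

end Cfsg.Agent.Helper29.TrioL
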