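import Mathlib
import Cfsg.Agent.Lib.Helper29.M24SearchM
import Cfsg.Agent.Lib.Helper29.M24SextetTab
import Cfsg.Agent.Lib.Helper29.M24TrioObj
import Cfsg.Agent.Lib.Helper29.M24Fixed

set_option autoImplicit false
open Cfsg

namespace Cfsg.Agent.Helper29.TrioN

open Cfsg.Agent.Helper27 Cfsg.Agent.Helper29 Cfsg.Agent.Helper29.M24
open Cfsg.Agent.S0358 (idx)
open scoped Pointwise

/-! ### The seven sextets refining the base trio -/

/-- the codes of the seven sextets refining the base trio -/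
def R7 : List ℕ := [11346378319048940866623047481557647318057005,
  11172162966123704828275713586763834704535040, 11324650695931149709899825577102979129950215,
  11324604152197321342526243961038220447203370, 11150419558403180716445210652446611810058640,
  11172198876053848716627350484966313335797760, 11150391623871435084294352694298710624059425]

/-- the base trio -/
def T0 : Finset (Finset GolayPt) := famSet trioL0

/-- every member of the family lies inside an octad of the base trio -/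
def Refines (S : Finset (Finset GolayPt)) : Prop := ∀ t ∈ S, ∃ o ∈ T0, t ⊆ o

/-- the same for a code -/
def refB (c : ℕ) : Bool :=
  (unpackF 6 c).all fun m => trioL0.any fun o => Nat.beq (popF (Nat.land m o)) (popF m)

theorem refB_iff (c : ℕ) : Refines (semS c) ↔ refB c = true := by
  unfold Refines refB semS T0
  simp only [List.all_eq_true, List.any_eq_true]
  constructor
  · intro h m hm
    obtain ⟨o, ho, hsub⟩ := h (maskSet m) ((mem_famSet _ _).2 ⟨m, hm, rfl⟩)
    obtain ⟨mo, hmo, rfl⟩ := (mem_famSet _ _).1 ho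
    refine ⟨mo, hmo, ?_⟩
    rw [maskSet_subset_iff] at hsub
    rw [popF_eq, popF_eq]
    show Nat.beq (pop24 (m &&& mo)) (pop24 m) = true
    rw [hsub]
    exact Nat.beq_refl _
  · intro h t ht
    obtain ⟨m, hm, rfl⟩ := (mem_famSet _ _).1 ht
    obtain ⟨mo, hmo, hb⟩ := h m hm
    refine ⟨maskSet mo, (mem_famSet _ _).2 ⟨mo, hmo, rfl⟩, ?_⟩
    rw [maskSet_subset_iff]
    have := Nat.eq_of_beq_eq_true hb
    rw [popF_eq, popF_eq] at this
    exact this

set_option maxRecDepth 100000 in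
theorem R_table : ((List.range 2024).all fun i =>
    Nat.beq (sextetAt i) 0 || !refB (sextetAt i) || R7.contains (sextetAt i)) = true := by
  decide +kernel

theorem R7_ok : (R7.all fun s => sextetP s && refB s) = true := by decide +kernel

/-- a sextet refining the base trio is one of the seven -/
theorem R_sub (S : Finset (Finset GolayPt)) (hS : S ∈ sextets) (hr : Refines S) :
    ∃ s ∈ R7, S = semS s := by
  obtain ⟨i, hi, hne, rfl⟩ := (mem_sextets_iff_at S).1 hS
  have h := R_table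
  rw [List.all_eq_true] at h
  have h2 := h i (List.mem_range.2 hi)
  have hb := (refB_iff _).1 hr
  have hne' : Nat.beq (sextetAt i) 0 = false := by
    rw [bne_iff_ne] at hne
    by_contra hcon
    rw [Bool.not_eq_false] at hcon
    exact hne (Nat.eq_of_beq_eq_true hcon)
  rw [hne', hb, Bool.not_true, Bool.false_or, Bool.false_or, List.contains_iff_mem] at h2
  exact ⟨_, h2, rfl⟩

theorem R_sup (s : ℕ) (hs : s ∈ R7) : semS s ∈ sextets ∧ Refines (semS s) := by
  have h := R7_ok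
  rw [List.all_eq_true] at h
  have h2 := h s hs
  rw [Bool.and_eq_true] at h2
  exact ⟨(sextetP_spec s h2.1).2.2.2, (refB_iff s).2 h2.2⟩

/-! ### The stabilizer of the base trio and its normal subgroup -/

/-- the stabilizer of the base trio -/
def K0 : Subgroup (Equiv.Perm GolayPt) := famStab T0

theorem mem_K0 (g : Equiv.Perm GolayPt) : g ∈ K0 ↔ g ∈ Cfsg.M24 ∧ g • T0 = T0 := by
  unfold K0 famStab
  rw [Subgroup.mem_inf]
  exact and_congr Iff.rfl MulAction.mem_stabilizer_iff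

/-- the defining property of the normal subgroup -/
def NP (g : Equiv.Perm GolayPt) : Prop :=
  FixesAll trioL0 g ∧ ∀ s ∈ R7, g • semS s = semS s

/-- the normal subgroup: the elements fixing the three octads and the seven sextets -/
def N0 : Subgroup (Equiv.Perm GolayPt) where
  carrier := {g | g ∈ Cfsg.M24 ∧ NP g}
  mul_mem' := by
    rintro a b ⟨ha, ha1, ha2⟩ ⟨hb, hb1, hb2⟩
    refine ⟨Subgroup.mul_mem _ ha hb, ?_, ?_⟩
    · intro T hT
      rw [mul_smul, hb1 T hT, ha1 T hT]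
    · intro s hs
      rw [mul_smul, hb2 s hs, ha2 s hs]
  one_mem' := ⟨Subgroup.one_mem _, fun T _ => one_smul _ _, fun s _ => one_smul _ _⟩
  inv_mem' := by
    rintro a ⟨ha, ha1, ha2⟩
    refine ⟨Subgroup.inv_mem _ ha, ?_, ?_⟩
    · intro T hT
      rw [inv_smul_eq_iff, ha1 T hT]
    · intro s hs
      rw [inv_smul_eq_iff, ha2 s hs]

theorem mem_N0 (g : Equiv.Perm GolayPt) : g ∈ N0 ↔ g ∈ Cfsg.M24 ∧ NP g := Iff.rfl

theorem N0_le_K0 : N0 ≤ K0 := by
  intro g hg
  obtain ⟨hM, h1, -⟩ := hg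
  rw [mem_K0]
  refine ⟨hM, ?_⟩
  unfold T0
  apply smul_famSet
  · intro m hm
    exact ⟨m, hm, h1 m hm⟩
  · intro m hm
    exact ⟨m, hm, h1 m hm⟩

theorem refines_smul (h : Equiv.Perm GolayPt) (hh : h • T0 = T0) (S : Finset (Finset GolayPt))
    (hS : Refines S) : Refines (h • S) := by
  intro t ht
  obtain ⟨t', ht', rfl⟩ := Finset.mem_smul_finset.1 ht
  obtain ⟨o, ho, hsub⟩ := hS t' ht'
  refine ⟨h • o, ?_, Finset.smul_finset_subset_smul_finset hsub⟩
  rw [← hh]
  exact Finset.smul_mem_smul_finset ho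

theorem N0_conj (h g : Equiv.Perm GolayPt) (hh : h ∈ K0) (hg : g ∈ N0) : h * g * h⁻¹ ∈ N0 := by
  obtain ⟨hM, hT⟩ := (mem_K0 h).1 hh
  obtain ⟨gM, g1, g2⟩ := hg
  have hT' : h⁻¹ • T0 = T0 := by rw [inv_smul_eq_iff, hT]
  refine ⟨Subgroup.mul_mem _ (Subgroup.mul_mem _ hM gM) (Subgroup.inv_mem _ hM), ?_, ?_⟩
  · intro T hTm
    have h1 : h⁻¹ • maskSet T ∈ T0 := by
      rw [← hT']
      exact Finset.smul_mem_smul_finset ((mem_famSet _ _).2 ⟨T, hTm, rfl⟩)
    obtain ⟨T', hT'm, e⟩ := (mem_famSet _ _).1 h1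
    rw [mul_smul, mul_smul, ← e, g1 T' hT'm, e, smul_inv_smul]
  · intro s hs
    obtain ⟨hsx, hrf⟩ := R_sup s hs
    have h1 : h⁻¹ • semS s ∈ sextets := smul_mem_sextets (Subgroup.inv_mem _ hM) hsx
    have h2 : Refines (h⁻¹ • semS s) := refines_smul h⁻¹ hT' _ hrf
    obtain ⟨s', hs', e⟩ := R_sub _ h1 h2
    rw [mul_smul, mul_smul, e, g2 s' hs', ← e, smul_inv_smul]

/-! ### The search for the elements of the normal subgroup -/

/-- the octad of the base trio containing each base point -/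
def tmT (i : ℕ) : ℕ := [8536111, 8536111, 8536111, 8536111, 8536111, 8536111, 5538256].getD i 0

theorem tmT_ok : ∀ i < 7, tmT i ∈ trioL0 ∧ (tmT i).testBit (bpt i) = true := by decide

/-- pairs of a level and a sextet in which the base point of the level shares a tetrad with the
first base point -/
def consN : List (ℕ × ℕ) := [(1, 11172162966123704828275713586763834704535040), (1, 11324604152197321342526243961038220447203370), (1, 11150419558403180716445210652446611810058640), (2, 11346378319048940866623047481557647318057005), (2, 11150419558403180716445210652446611810058640), (2, 11150391623871435084294352694298710624059425), (3, 11324604152197321342526243961038220447203370), (3, 11172198876053848716627350484966313335797760), (3, 11150391623871435084294352694298710624059425), (4, 11172162966123704828275713586763834704535040), (4, 11324650695931149709899825577102979129950215), (4, 11150391623871435084294352694298710624059425), (5, 11324650695931149709899825577102979129950215),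 (5, 11150419558403180716445210652446611810058640), (5, 11172198876053848716627350484966313335797760)]

theorem consN_ok : ∀ e ∈ consN, 0 < e.1 ∧ e.1 < 7 ∧ e.2 ∈ R7 ∧
    ∃ m ∈ unpackF 6 e.2, m.testBit (bpt 0) = true ∧ m.testBit (bpt e.1) = true := by decide

/-- level test -/
def lvlN (i c p : ℕ) : Bool :=
  lvlMC tmT i c p && consN.all fun e => !(Nat.beq e.1 i) ||
    (unpackF 6 e.2).any fun m =>
      Nat.beq (bitF m (appF c (bpt 0))) 1 && Nat.beq (bitF m (appF c p)) 1

/-- final test -/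
def finN (c : ℕ) : Bool := finMC trioL0 c && R7.all fun s => relF 6 c s s

theorem lvlN_ok : ∀ i < 7, ∀ (W : List ℕ) (c : ℕ), Repr c W → ∀ p ∈ orb i, ∀ τ ∈ grp (i + 1),
    NP (evalW (W ++ tw i p) * τ) → lvlN i c p = true := by
  intro i hi W c hr p hp τ hτ hP
  unfold lvlN
  rw [Bool.and_eq_true]
  constructor
  · exact lvlMC_ok trioL0 tmT tmT_ok i hi W c hr p hp τ hτ hP.1
  · rw [List.all_eq_true]
    intro e he
    by_cases hei : e.1 = i
    · subst hei
      obtain ⟨h0, h7, hR, m, hm, hb0, hbi⟩ := consN_ok e he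
      have hfix := hP.2 e.2 hR
      have hmem : (evalW (W ++ tw e.1 p) * τ) • maskSet m ∈ semS e.2 := by
        rw [← hfix]
        exact Finset.smul_mem_smul_finset ((mem_famSet _ _).2 ⟨m, hm, rfl⟩)
      obtain ⟨m', hm', e'⟩ := (mem_famSet _ _).1 hmem
      have hx0 : (evalW (W ++ tw e.1 p) * τ) (dec (bpt 0)) ∈ maskSet m' := by
        rw [e']
        exact Finset.smul_mem_smul_finset
          ((mem_maskSet_idx _ _ (bpt_lt 0 (by norm_num))).2 hb0)
      have hxi : (evalW (W ++ tw e.1 p) * τ) (dec (bpt e.1)) ∈ maskSet m' := by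
        rw [e']
        exact Finset.smul_mem_smul_finset ((mem_maskSet_idx _ _ (bpt_lt e.1 h7)).2 hbi)
      rw [mem_maskSet, idx_ext_lt e.1 h7 W c hr p hp τ hτ 0 h0] at hx0
      rw [mem_maskSet, idx_ext_eq e.1 h7 W c hr p hp τ hτ] at hxi
      rw [Bool.or_eq_true]
      right
      rw [List.any_eq_true]
      refine ⟨m', hm', ?_⟩
      rw [bitF_eq, bitF_eq, appF_eq, appF_eq, if_pos hx0, if_pos hxi]
      rfl
    · rw [Bool.or_eq_true]
      left
      rw [Bool.not_eq_true']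
      by_contra hcon
      rw [Bool.not_eq_false] at hcon
      exact hei (Nat.eq_of_beq_eq_true hcon)

theorem finN_ok : ∀ (W : List ℕ) (c : ℕ), Repr c W → NP (evalW W) → finN c = true := by
  intro W c hr hP
  unfold finN
  rw [Bool.and_eq_true, List.all_eq_true]
  refine ⟨finMC_ok trioL0 trioL0_lt W c hr hP.1, fun s hs => ?_⟩
  exact (relF_iff 6 c W hr s).1 (hP.2 s hs)

theorem NP_of_finN (W : List ℕ) (c : ℕ) (hr : Repr c W) (h : finN c = true) : NP (evalW W) := by
  unfold finN at h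
  rw [Bool.and_eq_true, List.all_eq_true] at h
  exact ⟨fixesAll_of_finMC trioL0 W c hr h.1, fun s hs => (relF_iff 6 c W hr s).2 (h.2 s hs)⟩

/-! ### The list of the elements -/

set_option maxRecDepth 100000 in
/-- the elements of the normal subgroup: words and packed actions -/
def NC : List (List ℕ × ℕ) := [([1, 2, 3, 3, 2, 2, 4, 4, 4, 5, 6, 6, 7, 6, 8], 23819657471673239989883455574328503), ([1, 2, 3, 3, 2, 2, 4, 4, 4, 5, 6, 6, 7, 6, 8, 12, 9], 19882197297795712177817492734297271), ([1, 2, 3, 3, 2, 2, 4, 4, 4, 5, 6, 6, 7, 6, 8, 12, 11, 9], 26354859639231140849738892359189687), ([1, 2, 3, 3, 2, 2, 4, 4, 4, 5, 6, 6, 7, 6, 8, 12, 10, 9], 29110984592773736638968905211528375), ([1, 2, 3, 3, 2, 2, 4, 4, 4, 5, 6, 6, 7, 6, 8, 11, 10], 8663901725324723605890300993029303), ([1, 2, 3, 3, 2, 2, 4, 4, 4, 5, 6, 6, 7, 6, 8, 12, 11, 10, 9], 5860873714950288329404020460831927), ([1, 2, 3, 3, 2, 2, 4, 4, 4, 5, 6, 6, 7, 6, 8, 10], 9868242830754980797021188019143863),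 ([1, 2, 3, 3, 2, 2, 4, 4, 4, 5, 6, 6, 7, 6, 8, 11], 10880685896895072592336648304805047), ([0, 1, 2, 2, 2, 0, 2, 0, 2, 4, 4, 4, 4, 5, 4, 7, 6, 11, 9], 49715142695792660998012126014541541), ([0, 1, 2, 2, 2, 0, 2, 0, 2, 4, 4, 4, 4, 5, 4, 7, 6, 9], 51041059419018832436920001172147941), ([0, 1, 2, 2, 2, 0, 2, 0, 2, 4, 4, 4, 4, 5, 4, 7, 6, 12], 70568071819676001186373189022846693), ([0, 1, 2, 2, 2, 0, 2, 0, 2, 4, 4, 4, 4, 5, 4, 7, 6, 12, 11], 47236910527973797029567355238289125), ([0, 1, 2, 2, 2, 0, 2, 0, 2, 4, 4, 4, 4, 5, 4, 7, 6, 10, 9], 65439320909816303528382406653447909), ([0, 1, 2, 2, 2, 0, 2, 0, 2, 4, 4, 4, 4, 5, 4, 7, 6, 11, 10, 9], 52581399748916891978076548417785573), ([0, 1, 2, 2, 2, 0, 2, 0, 2, 4, 4, 4, 4, 5, 4, 7, 6, 12, 10], 61786131374577188623821914471730917), ([0, 1, 2, 2, 2, 0, 2, 0, 2, 4, 4, 4, 4, 5, 4, 7, 6, 12, 11, 10], 68380369333808531543520302228115173), ([0, 0, 1, 0, 0, 0, 3, 4, 4, 5, 4, 7, 6, 7, 6, 8, 11, 9], 107221282214878357848221748855626865),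 ([0, 0, 1, 0, 0, 0, 3, 4, 4, 5, 4, 7, 6, 7, 6, 8, 9], 94322835850061791251330120890244209), ([0, 0, 1, 0, 0, 0, 3, 4, 4, 5, 4, 7, 6, 7, 6, 8, 12], 109715681885995005753149713554660465), ([0, 0, 1, 0, 0, 0, 3, 4, 4, 5, 4, 7, 6, 7, 6, 8, 12, 11], 103080918722846507786865556068555889), ([0, 0, 1, 0, 0, 0, 3, 4, 4, 5, 4, 7, 6, 7, 6, 8, 10, 9], 91375251090534706515683047097031793), ([0, 0, 1, 0, 0, 0, 3, 4, 4, 5, 4, 7, 6, 7, 6, 8, 11, 10, 9], 92620117405926564507469113427287153), ([0, 0, 1, 0, 0, 0, 3, 4, 4, 5, 4, 7, 6, 7, 6, 8, 12, 10], 88653550786563124994779417954802801), ([0, 0, 1, 0, 0, 0, 3, 4, 4, 5, 4, 7, 6, 7, 6, 8, 12, 11, 10], 112065762486099642598707060566711409), ([0, 0, 0, 1, 0, 0, 2, 3, 4, 4, 5, 4, 6], 148475307396479599495823501097141326), ([0, 0, 0, 1, 0, 0, 2, 3, 4, 4, 5, 4, 6, 12, 9], 144456796814767758236635729429759054), ([0, 0, 0, 1, 0, 0, 2, 3, 4, 4, 5, 4, 6, 12, 11, 9], 151010509564037494776668977616356430), ([0, 0, 0, 1, 0,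 0, 2, 3, 4, 4, 5, 4, 6, 12, 10, 9], 153847684931458851992149899768202318), ([0, 0, 0, 1, 0, 0, 2, 3, 4, 4, 5, 4, 6, 11, 10], 133197976032335163285043398118704206), ([0, 0, 0, 1, 0, 0, 2, 3, 4, 4, 5, 4, 6, 12, 11, 10, 9], 130354422818043572961971347856786510), ([0, 0, 0, 1, 0, 0, 2, 3, 4, 4, 5, 4, 6, 10], 134564417965522941103616412846097486), ([0, 0, 0, 1, 0, 0, 2, 3, 4, 4, 5, 4, 6, 11], 135455285413867113072144924734620750), ([0, 2, 2, 0, 1, 0, 3, 2, 2, 2, 3, 4, 5, 5, 4, 6, 6, 6, 6, 11, 9], 227817619061531623140046550390585345), ([0, 2, 2, 0, 1, 0, 3, 2, 2, 2, 3, 4, 5, 5, 4, 6, 6, 6, 6, 9], 234209230989088290385717040715970561), ([0, 2, 2, 0, 1, 0, 3, 2, 2, 2, 3, 4, 5, 5, 4, 6, 6, 6, 6, 12], 218856910157072230930483217781274625), ([0, 2, 2, 0, 1, 0, 3, 2, 2, 2, 3, 4, 5, 5, 4, 6, 6, 6, 6, 12, 11], 231917457349646318154816973447936001), ([0, 2, 2, 0, 1, 0, 3, 2, 2, 2, 3, 4, 5, 5, 4, 6, 6, 6, 6, 10, 9], 213309200711369478921709502977325057), ([0,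 2, 2, 0, 1, 0, 3, 2, 2, 2, 3, 4, 5, 5, 4, 6, 6, 6, 6, 11, 10, 9], 236640362003071688657525297027528705), ([0, 2, 2, 0, 1, 0, 3, 2, 2, 2, 3, 4, 5, 5, 4, 6, 6, 6, 6, 12, 10], 215949850607506746995491323292203009), ([0, 2, 2, 0, 1, 0, 3, 2, 2, 2, 3, 4, 5, 5, 4, 6, 6, 6, 6, 12, 11, 10], 217275767330732924013409158715455489), ([2, 1, 0, 1, 2, 0, 2, 2, 2, 3, 4, 5, 6, 7, 6, 7, 8, 8], 587601183606668180861377904574993955), ([2, 1, 0, 1, 2, 0, 2, 2, 2, 3, 4, 5, 6, 7, 6, 7, 8, 8, 12, 9], 589998088068084191074240023961277987), ([2, 1, 0, 1, 2, 0, 2, 2, 2, 3, 4, 5, 6, 7, 6, 7, 8, 8, 12, 11, 9], 591161903969597293218785141257672227), ([2, 1, 0, 1, 2, 0, 2, 2, 2, 3, 4, 5, 6, 7, 6, 7, 8, 8, 12, 10, 9], 592296199946057393816269022663022115), ([2, 1, 0, 1, 2, 0, 2, 2, 2, 3, 4, 5, 6, 7, 6, 7, 8, 8, 11, 10], 601460129075276437507086916631139875), ([2, 1, 0, 1, 2, 0, 2, 2, 2, 3, 4, 5, 6, 7, 6, 7, 8, 8, 12, 11, 10, 9], 605316221928669874660937638759896611), ([2,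 1, 0, 1, 2, 0, 2, 2, 2, 3, 4, 5, 6, 7, 6, 7, 8, 8, 10], 608013841824546179626130125083383331), ([2, 1, 0, 1, 2, 0, 2, 2, 2, 3, 4, 5, 6, 7, 6, 7, 8, 8, 11], 610891819688408784217528559055410723), ([2, 2, 1, 0, 1, 0, 2, 0, 0, 3, 2, 3, 2, 2, 5, 4, 4, 5, 4, 6, 6, 6, 6], 726481180029065631972528232297824706), ([2, 2, 1, 0, 1, 0, 2, 0, 0, 3, 2, 3, 2, 2, 5, 4, 4, 5, 4, 6, 6, 6, 6, 12, 9], 730174894768221901923674494209262018), ([2, 2, 1, 0, 1, 0, 2, 0, 0, 3, 2, 3, 2, 2, 5, 4, 4, 5, 4, 6, 6, 6, 6, 12, 11, 9], 717073822371730659652754968812880322), ([2, 2, 1, 0, 1, 0, 2, 0, 0, 3, 2, 3, 2, 2, 5, 4, 4, 5, 4, 6, 6, 6, 6, 12, 10, 9], 715614532455711361537849330866749890), ([2, 2, 1, 0, 1, 0, 2, 0, 0, 3, 2, 3, 2, 2, 5, 4, 4, 5, 4, 6, 6, 6, 6, 11, 10], 711810383564666320551486724667244994), ([2, 2, 1, 0, 1, 0, 2, 0, 0, 3, 2, 3, 2, 2, 5, 4, 4, 5, 4, 6, 6, 6, 6, 12, 11, 10, 9], 714369666140319497967053304270848450), ([2, 2, 1, 0, 1, 0, 2, 0, 0, 3, 2, 3, 2, 2,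 5, 4, 4, 5, 4, 6, 6, 6, 6, 10], 735222595264202843734424327544799682), ([2, 2, 1, 0, 1, 0, 2, 0, 0, 3, 2, 3, 2, 2, 5, 4, 4, 5, 4, 6, 6, 6, 6, 11], 732913317160539454264784492352930242), ([], 984818244535754528103549039458486304), ([12, 9], 965128854020860192151391391390468128), ([12, 11, 9], 963721886883755259286232606933354528), ([12, 10, 9], 979121071158219704299181131031480352), ([11, 10], 981818691054096003685363657089320992), ([12, 11, 10, 9], 966182099583441531322624363496310816), ([10], 975346028712660580592452217730074656), ([11], 961365507626256404119956257276790816)]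

set_option maxRecDepth 100000 in
theorem N_search : searchCAll lvlN finN = NC := by decide +kernel

theorem mem_N0_iff_NC (g : Equiv.Perm GolayPt) :
    g ∈ N0 ↔ ∃ q ∈ NC, Repr q.2 q.1 ∧ g = evalW q.1 := by
  constructor
  · rintro ⟨hM, hP⟩
    obtain ⟨q, hq, e⟩ := searchCAll_complete lvlN finN NP lvlN_ok finN_ok g hM hP
    have hr := (searchCAll_sound lvlN finN q hq).1
    rw [N_search] at hq
    exact ⟨q, hq, hr, e⟩
  · rintro ⟨q, hq, hr, rfl⟩
    rw [← N_search] at hq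
    have h := (searchCAll_sound lvlN finN q hq).2
    exact ⟨evalW_mem_M24 q.1 hr.1, NP_of_finN q.1 q.2 hr h⟩

/-- the list of the images of the points under a packed action -/
def sig (c : ℕ) : List ℕ := (List.range 24).map (appF c)

theorem sig_eq_of_evalW_eq (c c' : ℕ) (W W' : List ℕ) (h : Repr c W) (h' : Repr c' W')
    (e : evalW W = evalW W') : sig c = sig c' := by
  unfold sig
  apply List.map_congr_left
  intro x hx
  rw [List.mem_range] at hx
  rw [appF_eq, appF_eq, h.2 x hx, h'.2 x hx]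
  have h1 := idx_evalW W h.1 (dec x)
  have h2 := idx_evalW W' h'.1 (dec x)
  have hx' : idx (dec x) = x := idx_dec ⟨x, hx⟩
  rw [hx'] at h1 h2
  rw [← h1, ← h2, e]

set_option maxRecDepth 100000 in
theorem NC_nodup : (NC.map fun q => sig q.2).Nodup := by decide +kernel

theorem NC_length : NC.length = 64 := by decide

set_option maxRecDepth 100000 in
theorem NC_sq : (NC.all fun q => (List.range 24).all fun x =>
    Nat.beq (appF q.2 (appF q.2 x)) x) = true := by decide +kernel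

theorem N0_sq (g : Equiv.Perm GolayPt) (hg : g ∈ N0) : g * g = 1 := by
  obtain ⟨q, hq, hr, rfl⟩ := (mem_N0_iff_NC g).1 hg
  have h := NC_sq
  rw [List.all_eq_true] at h
  have h2 := h q hq
  rw [List.all_eq_true] at h2
  apply Equiv.ext
  intro r
  apply M24.idx_injective
  rw [Equiv.Perm.mul_apply, Equiv.Perm.one_apply, idx_evalW q.1 hr.1, idx_evalW q.1 hr.1]
  have hlt := M24.idx_lt r
  have h3 := Nat.eq_of_beq_eq_true (h2 (idx r) (List.mem_range.2 hlt))
  rw [appF_eq, appF_eq, hr.2 _ hlt, hr.2 _ (appW_lt q.1 hr.1 _ hlt)] at h3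
  exact h3

theorem card_N0 : Nat.card ↥N0 = 64 := by
  classical
  have heq : (N0 : Set (Equiv.Perm GolayPt)) =
      (fun q : List ℕ × ℕ => evalW q.1) '' (NC.toFinset : Set (List ℕ × ℕ)) := by
    ext g
    rw [SetLike.mem_coe, mem_N0_iff_NC]
    constructor
    · rintro ⟨q, hq, -, rfl⟩
      exact ⟨q, by rw [Finset.mem_coe, List.mem_toFinset]; exact hq, rfl⟩
    · rintro ⟨q, hq, rfl⟩
      rw [Finset.mem_coe, List.mem_toFinset] at hq
      have hq' := hq
      rw [← N_search] at hq'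
      exact ⟨q, hq, (searchCAll_sound lvlN finN q hq').1, rfl⟩
  have hinj : Set.InjOn (fun q : List ℕ × ℕ => evalW q.1) (NC.toFinset : Set (List ℕ × ℕ)) := by
    intro p hp q hq h
    rw [Finset.mem_coe, List.mem_toFinset] at hp hq
    have hp' := hp
    have hq' := hq
    rw [← N_search] at hp' hq'
    have hc : sig p.2 = sig q.2 := sig_eq_of_evalW_eq _ _ _ _
      (searchCAll_sound lvlN finN p hp').1 (searchCAll_sound lvlN finN q hq').1 h
    exact List.inj_on_of_nodup_map NC_nodup hp hq hc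
  have h1 : Nat.card ↥N0 = (N0 : Set (Equiv.Perm GolayPt)).ncard := Nat.card_coe_set_eq _
  rw [h1, heq, Set.InjOn.ncard_image hinj, Set.ncard_coe_finset,
    List.toFinset_card_of_nodup (List.Nodup.of_map _ NC_nodup), NC_length]

end Cfsg.Agent.Helper29.TrioN
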