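import Mathlib

set_option autoImplicit false

namespace Cfsg.Agent.Helper29

/-! ### Maximality of a point stabilizer from the sizes of its orbits -/

/-- Let `H` be the stabilizer of `x` in a finite group `G` acting on `X`, and let `cls` be an
`H`-invariant labelling such that `H` is transitive on the points of the orbit of `x` with a given
label, the label of `x` belonging to `x` alone.  If no union of label classes containing `x`, other
than `{x}` and the whole orbit, has size dividing the size of the orbit, then `H` is a maximal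
subgroup. -/
theorem isCoatom_stabilizer_of_classes {G X : Type*} [Group G] [Finite G] [MulAction G X] (x : X)
    (cls : X → ℕ) (L : Finset ℕ) (sz : ℕ → ℕ) (n : ℕ)
    (htrans : ∀ y ∈ MulAction.orbit G x, ∀ z ∈ MulAction.orbit G x, cls y = cls z →
      ∃ h ∈ MulAction.stabilizer G x, h • y = z)
    (hL : ∀ y ∈ MulAction.orbit G x, cls y ∈ L)
    (hsz : ∀ l ∈ L, {y | y ∈ MulAction.orbit G x ∧ cls y = l}.ncard = sz l)
    (hx : ∀ y ∈ MulAction.orbit G x, cls y = cls x → y = x)
    (hn : (MulAction.orbit G x).ncard = n) (h1 : 1 < n)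
    (arith : ∀ S ∈ L.powerset, cls x ∈ S → (∑ l ∈ S, sz l) ∣ n → S = {cls x} ∨ S = L) :
    IsCoatom (MulAction.stabilizer G x) := by
  classical
  have hfin : (MulAction.orbit G x).Finite := Set.finite_range _
  have hG : Nat.card (MulAction.orbit G x) * Nat.card (MulAction.stabilizer G x) = Nat.card G := by
    rw [← Nat.card_prod, Nat.card_congr (MulAction.orbitProdStabilizerEquivGroup G x)]
  rw [Nat.card_coe_set_eq, hn] at hG
  have hHpos : 0 < Nat.card (MulAction.stabilizer G x) := Nat.card_pos
  refine ⟨?_, ?_⟩
  · intro htop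
    have : MulAction.orbit G x = {x} := by
      ext y
      constructor
      · rintro ⟨g, rfl⟩
        have hg : g ∈ MulAction.stabilizer G x := by rw [htop]; exact Subgroup.mem_top g
        exact hg
      · rintro rfl
        exact MulAction.mem_orbit_self y
    rw [this, Set.ncard_singleton] at hn
    omega
  · intro K hK
    have hle : MulAction.stabilizer G x ≤ K := le_of_lt hK
    -- the orbit of `x` under `K`
    set OK : Set X := {y | ∃ k ∈ K, k • x = y} with hOK
    have hOKsub : OK ⊆ MulAction.orbit G x := by
      rintro y ⟨k, -, rfl⟩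
      exact ⟨k, rfl⟩
    have hOKfin : OK.Finite := hfin.subset hOKsub
    have hOKorb : OK = (fun y : X => y) '' (MulAction.orbit K x) := by
      ext y
      constructor
      · rintro ⟨k, hk, rfl⟩
        exact ⟨_, ⟨⟨k, hk⟩, rfl⟩, rfl⟩
      · rintro ⟨_, ⟨k, rfl⟩, rfl⟩
        exact ⟨k.1, k.2, rfl⟩
    have hOKcard : OK.ncard = Nat.card (MulAction.orbit K x) := by
      rw [hOKorb, Set.image_id', Nat.card_coe_set_eq]
    have hKcard : OK.ncard * Nat.card (MulAction.stabilizer G x) = Nat.card K := by
      have h2 : Nat.card (MulAction.orbit K x) * Nat.card (MulAction.stabilizer K x) = Nat.card K := by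
        rw [← Nat.card_prod, Nat.card_congr (MulAction.orbitProdStabilizerEquivGroup K x)]
      have h3 : Nat.card (MulAction.stabilizer K x) = Nat.card (MulAction.stabilizer G x) := by
        have e : MulAction.stabilizer K x = (MulAction.stabilizer G x).subgroupOf K := by
          ext k
          rfl
        rw [e]
        exact Nat.card_congr (Subgroup.subgroupOfEquivOfLe hle).toEquiv
      rw [hOKcard, ← h3]
      exact h2
    have hdvd : OK.ncard ∣ n := by
      have h4 : Nat.card K ∣ Nat.card G := Subgroup.card_subgroup_dvd_card K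
      rw [← hKcard, ← hG] at h4
      exact (Nat.mul_dvd_mul_iff_right hHpos).1 h4
    -- the labels occurring in `OK`
    set S : Finset ℕ := hOKfin.toFinset.image cls with hS
    have hSL : S ⊆ L := by
      intro l hl
      rw [hS, Finset.mem_image] at hl
      obtain ⟨y, hy, rfl⟩ := hl
      exact hL y (hOKsub ((Set.Finite.mem_toFinset _).1 hy))
    have hxOK : x ∈ OK := ⟨1, K.one_mem, one_smul _ _⟩
    have hxS : cls x ∈ S := by
      rw [hS, Finset.mem_image]
      exact ⟨x, (Set.Finite.mem_toFinset _).2 hxOK, rfl⟩
    have hOKeq : OK = {y | y ∈ MulAction.orbit G x ∧ cls y ∈ S} := by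
      ext y
      constructor
      · intro hy
        refine ⟨hOKsub hy, ?_⟩
        rw [hS, Finset.mem_image]
        exact ⟨y, (Set.Finite.mem_toFinset _).2 hy, rfl⟩
      · rintro ⟨hy, hyS⟩
        rw [hS, Finset.mem_image] at hyS
        obtain ⟨z, hz, hzy⟩ := hyS
        have hz' : z ∈ OK := (Set.Finite.mem_toFinset _).1 hz
        obtain ⟨h, hh, rfl⟩ := htrans z (hOKsub hz') y hy hzy
        obtain ⟨k, hk, rfl⟩ := hz'
        exact ⟨h * k, K.mul_mem (hle hh) hk, mul_smul _ _ _⟩
    have hsum : OK.ncard = ∑ l ∈ S, sz l := by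
      rw [Set.ncard_eq_toFinset_card OK hOKfin,
        Finset.card_eq_sum_card_fiberwise (f := cls) (t := S) (by
          intro y hy
          rw [hS]
          exact Finset.mem_image_of_mem _ hy)]
      apply Finset.sum_congr rfl
      intro l hl
      rw [← hsz l (hSL hl), Set.ncard_eq_toFinset_card _ (hfin.subset (fun y hy => hy.1))]
      congr 1
      ext y
      simp only [Finset.mem_filter, Set.Finite.mem_toFinset, Set.mem_ofPred_eq]
      constructor
      · rintro ⟨hy, rfl⟩
        exact ⟨hOKsub hy, rfl⟩
      · rintro ⟨hy, rfl⟩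
        refine ⟨?_, rfl⟩
        rw [hOKeq]
        exact ⟨hy, hl⟩
    rw [hsum] at hdvd
    rcases arith S (Finset.mem_powerset.2 hSL) hxS hdvd with hcase | hcase
    · -- `K` fixes `x`
      exfalso
      have hKle : K ≤ MulAction.stabilizer G x := by
        intro k hk
        rw [MulAction.mem_stabilizer_iff]
        have hkx : k • x ∈ OK := ⟨k, hk, rfl⟩
        rw [hOKeq] at hkx
        obtain ⟨h1', h2'⟩ := hkx
        rw [hcase, Finset.mem_singleton] at h2'
        exact hx _ h1' h2'
      exact absurd (le_antisymm hKle hle) (ne_of_gt hK)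
    · -- `K` is transitive on the orbit
      have hOKall : OK = MulAction.orbit G x := by
        rw [hOKeq, hcase]
        ext y
        exact ⟨fun h => h.1, fun h => ⟨h, hL y h⟩⟩
      have : Nat.card K = Nat.card G := by
        rw [← hKcard, ← hG, hOKall, hn]
      exact (Subgroup.card_eq_iff_eq_top K).1 this

end Cfsg.Agent.Helper29
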