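import Mathlib
import Cfsg.Agent.Lib.Helper29.McLTwoA
import Cfsg.Agent.Lib.Helper29.McLOutDA
import Cfsg.Agent.Lib.Helper29.McLOutDB
import Cfsg.Agent.Lib.Helper29.McLOutDC
import Cfsg.Agent.Lib.Helper29.McLOutDD

set_option autoImplicit false

/-! The involutions of the McLaughlin group on 275 points: tables and check functions. -/

namespace Cfsg.Agent.Helper29.McLX

open Cfsg.Agent.Helper29.HSP (tg force force_eq allBelow allBelow_iff)
open Cfsg.Agent.Helper29.PN Cfsg.Agent.Helper29.McLD Cfsg.Agent.Helper29.McLM
open Cfsg.Agent.Helper29.McLXD Cfsg.Agent.Helper29.McLT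

/-- bounded universal quantifier on an interval, as a boolean -/
def allR (lo n : ℕ) (p : ℕ → Bool) : Bool := allBelow n fun k => p (lo + k)

theorem allR_iff (lo n : ℕ) (p : ℕ → Bool) :
    allR lo n p = true ↔ ∀ k, lo ≤ k → k < lo + n → p k = true := by
  unfold allR
  rw [allBelow_iff]
  constructor
  · intro h k h1 h2
    have := h (k - lo) (by omega)
    rwa [Nat.add_sub_cancel' h1] at this
  · intro h k hk
    exact h (lo + k) (by omega) (by omega)

/-- the number of involutions -/
def NL : ℕ := 22275
/-- a packed row of codes of involutions: 75 codes in a row, 75 rows in each of the four parts -/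
def irow (i : ℕ) : ℕ :=
  force (i / 75) fun r =>
    cond (Nat.blt r 75) (ILA.getD r 0)
      (cond (Nat.blt r 150) (ILB.getD (r - 75) 0)
        (cond (Nat.blt r 225) (ILC.getD (r - 150) 0) (ILD.getD (r - 225) 0)))
/-- the code of the involution with index `i` -/
def Lc (i : ℕ) : ℕ := tg (irow i) 2475 (i % 75)
/-- the index of the conjugate by the generator `l` of the involution `i` -/
def cw (l i : ℕ) : ℕ := tg (CWL.getD l 0) 15 i
/-- the codes of the powers of the element of order eleven -/
def XP (k : ℕ) : ℕ := XPL.getD k 0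

/-- closure of the list of involutions under conjugation by a generator -/
def closOK (l i : ℕ) : Bool :=
  force (PC.getD l 0) fun s => force (Lc i) fun a => force (cw l i) fun j => force (Lc j) fun b =>
    Nat.blt j NL && allBelow 275 fun y => Nat.beq (tg b 9 (tg s 9 y)) (tg s 9 (tg a 9 y))

/-- one syllable-word applied to a point: the rightmost syllable first -/
def iterW (c : ℕ) : List ℕ → ℕ → ℕ
  | [], v => v
  | e :: E, v => tg (XP e) 9 (tg c 9 (iterW c E v))

/-- iterate -/
def iterN (c : ℕ) (E : List ℕ) (m v : ℕ) : ℕ :=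
  Nat.rec (motive := fun _ => ℕ) v (fun _ r => iterW c E r) m

/-- the power `m` of the syllable-word is the identity -/
def powOK (c : ℕ) (E : List ℕ) (m : ℕ) : Bool := allBelow 275 fun p => Nat.beq (iterN c E m p) p

/-- a list of relations -/
def relsOK (c : ℕ) : List (List ℕ × ℕ) → Bool
  | [] => true
  | r :: R => powOK c r.1 r.2 && relsOK c R

/-- the index is one of the twenty-two -/
def yMem (i : ℕ) : Bool := YIL.any fun j => Nat.beq i j

/-- the filter -/
def filtOK (i : ℕ) : Bool := force (Lc i) fun c => !(relsOK c RL) || yMem i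

/-- the filter for the inverse -/
def filtOKm (i : ℕ) : Bool := force (Lc i) fun c => !(relsOK c RLm)

/-- the outer involution is not in the list -/
def notPi (i : ℕ) : Bool :=
  force (Lc i) fun c => !(allBelow 275 fun y => Nat.beq (tg c 9 y) (tg PC0 9 y))

/-- the involutions of the Sylow subgroup are in the list -/
def s2OK (i : ℕ) : Bool :=
  force (NC i) fun c =>
    !(allBelow 275 fun y => Nat.beq (tg c 9 (tg c 9 y)) y) || Nat.beq i 0 ||
      (force (tg S2IP 15 i) fun j => Nat.blt j NL && Nat.beq (Lc j) c)

end Cfsg.Agent.Helper29.McLX
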