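import Mathlib
import Cfsg.Agent.Lib.Helper29.McLOutDefs
import Cfsg.Agent.Lib.Helper29.McLFusD

set_option autoImplicit false

/-! The 2-fusion system of the McLaughlin group: check functions. -/

namespace Cfsg.Agent.Helper29.McLF

open Cfsg.Agent.Helper29.HSP (tg force force_eq allBelow allBelow_iff)
open Cfsg.Agent.Helper29.PN Cfsg.Agent.Helper29.McLD Cfsg.Agent.Helper29.McLM
open Cfsg.Agent.Helper29.McLXD Cfsg.Agent.Helper29.McLT Cfsg.Agent.Helper29.McLX
open Cfsg.Agent.Helper29.McLFD

/-- the parent in the tree of involutions -/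
def tpar (i : ℕ) : ℕ := tg TPAR 15 i
/-- the generator conjugating the parent to the involution -/
def tlet (i : ℕ) : ℕ := tg TLET 1 i
/-- the position in the tree -/
def tpos (i : ℕ) : ℕ := tg TPOS 15 i

/-- the check of a tree edge -/
def treeOK (i : ℕ) : Bool :=
  Nat.beq i 0 || (force (tpar i) fun p => force (tlet i) fun l =>
    Nat.blt p NL && Nat.blt l 2 && Nat.blt (tpos p) (tpos i) && Nat.beq (cw l p) i)

end Cfsg.Agent.Helper29.McLF
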