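import Mathlib
import Cfsg.Agent.Lib.Helper29.McLOutDefs

set_option autoImplicit false

/-! Kernel checks for the elements used for the outer automorphism group of the McLaughlin
group. -/

namespace Cfsg.Agent.Helper29.McLX

open Cfsg.Agent.Helper29.HSP (tg force force_eq allBelow allBelow_iff)
open Cfsg.Agent.Helper29.PN Cfsg.Agent.Helper29.McLD Cfsg.Agent.Helper29.McLM
open Cfsg.Agent.Helper29.McLXD Cfsg.Agent.Helper29.McLT

/-- the code moves some point -/
def moved (c : ℕ) : Bool := !(allBelow 275 fun p => Nat.beq (tg c 9 p) p)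

theorem ne_one_of_moved {g : Equiv.Perm (Fin 275)} {c : ℕ} (hg : Acts 275 g c)
    (h : moved c = true) : g ≠ 1 := by
  intro e
  unfold moved at h
  rw [Bool.not_eq_true'] at h
  have : (allBelow 275 fun p => Nat.beq (tg c 9 p) p) = true := by
    rw [allBelow_iff]
    intro p hp
    have h1 := hg ⟨p, hp⟩
    rw [e] at h1
    have h2 : tg c 9 p = p := h1.symm
    rw [h2]
    exact Nat.beq_refl p
  rw [this] at h
  exact Bool.noConfusion h

set_option maxRecDepth 100000 in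
theorem wx_chk : reprL 275 PC (XP 1) Wx = true ∧ reprL 275 PC YC Wy = true ∧
    reprL 275 PC NC1 Wn = true ∧ reprL 275 PC PA0C V0 = true ∧ reprL 275 PC PB0C V1 = true := by
  decide +kernel

theorem xp_chk : (∀ y < 275, tg (XP 0) 9 y = y) ∧
    (∀ k < 10, ∀ y < 275, tg (XP (k + 1)) 9 y = tg (XP 1) 9 (tg (XP k) 9 y)) ∧
    (∀ y < 275, tg (XP 1) 9 (tg (XP 10) 9 y) = y) ∧ moved (XP 1) = true := by
  decide +kernel

theorem n_chk : ∀ y < 275, tg NC1 9 (tg (XP 1) 9 y) = tg (XP 3) 9 (tg NC1 9 y) := by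
  decide +kernel

theorem y_chk : (∀ y < 275, tg YC 9 (tg YC 9 y) = y) ∧ relsOK YC RL = true ∧
    moved YC = true := by
  decide +kernel

theorem pi_chk : validC 275 PC0 PC0 = true ∧
    (∀ y < 275, tg PC0 9 (tg (XP 1) 9 y) = tg (XP 1) 9 (tg PC0 9 y)) ∧
    (∀ y < 275, tg YoC 9 (tg PC0 9 y) = tg PC0 9 (tg YC 9 y)) ∧
    (∀ y < 275, tg PA0C 9 y = tg PC0 9 (tg (pc 0) 9 (tg PC0 9 y))) ∧
    (∀ y < 275, tg PB0C 9 y = tg PC0 9 (tg (pc 1) 9 (tg PC0 9 y))) ∧ moved PC0 = true := by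
  decide +kernel

theorem yi_chk : YIL.length = 22 ∧ (∀ k < 22, YIL.getD k 0 < NL) ∧
    (∀ k < 11, ∀ y < 275,
      tg (Lc (YIL.getD k 0)) 9 (tg (XP k) 9 y) = tg (XP k) 9 (tg YC 9 y)) ∧
    (∀ k < 11, ∀ y < 275,
      tg (Lc (YIL.getD (11 + k) 0)) 9 (tg (XP k) 9 y) = tg (XP k) 9 (tg YoC 9 y)) := by
  decide +kernel

set_option maxRecDepth 100000 in
theorem gen_chk : reprL 275 [XP 1, YC, XP 10] (pc 0) W0 = true ∧
    reprL 275 [XP 1, YC, XP 10] (pc 1) W1 = true := by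
  decide +kernel

theorem fix_chk : (∀ c < 7, tg (XC c) 9 0 = 0) ∧
    ∀ v < 275, (∀ c < 7, tg (XC c) 9 v = v) → v = 0 := by
  decide +kernel

theorem om0_chk : ∀ q < 275, Nat.testBit (OM 0) q = true := by
  decide +kernel

theorem ord_chk : (∀ y < 275, appL PC (List.replicate 11 0) y = y) ∧
    (∀ y < 275, appL PC (List.replicate 10 1) y = y) := by
  decide +kernel

end Cfsg.Agent.Helper29.McLX
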