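import Mathlib
import Cfsg.Agent.Lib.Helper29.McLFusDefs
import Cfsg.Agent.Lib.Helper29.McLOutChkM

set_option autoImplicit false

/-! Kernel checks for the 2-fusion system of the McLaughlin group (generated). -/

namespace Cfsg.Agent.Helper29.McLF

open Cfsg.Agent.Helper29.HSP (tg force force_eq allBelow allBelow_iff)
open Cfsg.Agent.Helper29.PN Cfsg.Agent.Helper29.McLD Cfsg.Agent.Helper29.McLM
open Cfsg.Agent.Helper29.McLXD Cfsg.Agent.Helper29.McLT Cfsg.Agent.Helper29.McLX
open Cfsg.Agent.Helper29.McLFD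

theorem tree_0 : allR 0 2785 treeOK = true := by decide +kernel

theorem tree_1 : allR 2785 2785 treeOK = true := by decide +kernel

theorem tree_2 : allR 5570 2785 treeOK = true := by decide +kernel

theorem tree_3 : allR 8355 2785 treeOK = true := by decide +kernel

theorem tree_4 : allR 11140 2785 treeOK = true := by decide +kernel

theorem tree_5 : allR 13925 2785 treeOK = true := by decide +kernel

theorem tree_6 : allR 16710 2785 treeOK = true := by decide +kernel

theorem tree_7 : allR 19495 2780 treeOK = true := by decide +kernel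

theorem root_chk : ∀ y < 275, tg (Lc 0) 9 y = tg (XC 0) 9 y := by decide +kernel

set_option maxRecDepth 100000 in
theorem f_chk : reprL 275 PC FC FW = true ∧ tg FC 9 0 = 0 ∧ tg FC 9 1 = 1 ∧ tg FC 9 96 = 96 ∧
    (∀ y < 275, tg FXC 9 (tg FC 9 y) = tg FC 9 (tg (XC 6) 9 y)) ∧
    (allBelow 128 fun i => !(allBelow 275 fun y => Nat.beq (tg (NC i) 9 y) (tg FXC 9 y))) = true := by
  decide +kernel

/-- all generators moving the point move it to the same point -/
def orb2OK (v : ℕ) : Bool :=
  !(allBelow 7 fun c => allBelow 7 fun c' => Nat.beq (tg (XC c) 9 v) v ||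
      Nat.beq (tg (XC c') 9 v) v || Nat.beq (tg (XC c) 9 v) (tg (XC c') 9 v)) ||
    Nat.beq v 0 || Nat.beq v 1 || Nat.beq v 96

theorem orb2_chk0 : allBelow 275 orb2OK = true := by decide +kernel

theorem orb2_chk : ∀ v < 275, (∀ c < 7, ∀ c' < 7, tg (XC c) 9 v ≠ v → tg (XC c') 9 v ≠ v →
    tg (XC c) 9 v = tg (XC c') 9 v) → v = 0 ∨ v = 1 ∨ v = 96 := by
  intro v hv h
  have h0 := (allBelow_iff _ _).1 orb2_chk0 v hv
  unfold orb2OK at h0
  rw [Bool.or_eq_true, Bool.or_eq_true, Bool.or_eq_true] at h0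
  rcases h0 with ((h0 | h0) | h0) | h0
  · exfalso
    rw [Bool.not_eq_true'] at h0
    have : (allBelow 7 fun c => allBelow 7 fun c' => Nat.beq (tg (XC c) 9 v) v ||
        Nat.beq (tg (XC c') 9 v) v || Nat.beq (tg (XC c) 9 v) (tg (XC c') 9 v)) = true := by
      rw [allBelow_iff]
      intro c hc
      rw [allBelow_iff]
      intro c' hc'
      by_cases h1 : tg (XC c) 9 v = v
      · rw [h1, Nat.beq_refl]; rfl
      · by_cases h2 : tg (XC c') 9 v = v
        · rw [h2, Nat.beq_refl, Bool.or_true]; rfl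
        · rw [h c hc c' hc' h1 h2, Nat.beq_refl, Bool.or_true]
    rw [this] at h0
    exact Bool.noConfusion h0
  · left; exact Nat.eq_of_beq_eq_true h0
  · right; left; exact Nat.eq_of_beq_eq_true h0
  · right; right; exact Nat.eq_of_beq_eq_true h0

theorem nodes_chk : ∀ i < 128, tg (NC i) 9 0 = 0 ∧ (tg (NC i) 9 1 = 1 ∨ tg (NC i) 9 1 = 96) ∧
    (tg (NC i) 9 96 = 1 ∨ tg (NC i) 9 96 = 96) := by
  decide +kernel

set_option maxRecDepth 100000 in
theorem u_chk : (∀ l ∈ TW 2 96, l < 4) ∧ appL PC (TW 2 96) 2 = 96 ∧ appL PC (TW 2 96) 0 = 0 ∧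
    appL PC (TW 2 96) 1 = 1 := by
  decide +kernel

theorem xmoved_chk : ∀ c < 7, moved (XC c) = true := by decide +kernel

end Cfsg.Agent.Helper29.McLF
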