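import Mathlib
import Cfsg.Agent.Lib.Helper29.McLOutDefs

set_option autoImplicit false

/-! Kernel checks for the list of involutions of the McLaughlin group (generated). -/

namespace Cfsg.Agent.Helper29.McLX

open Cfsg.Agent.Helper29.HSP (tg force force_eq allBelow allBelow_iff)
open Cfsg.Agent.Helper29.PN Cfsg.Agent.Helper29.McLD Cfsg.Agent.Helper29.McLM
open Cfsg.Agent.Helper29.McLXD Cfsg.Agent.Helper29.McLT

theorem clos_0_4 : allR 11140 2785 (closOK 0) = true := by decide +kernel

theorem clos_0_5 : allR 13925 2785 (closOK 0) = true := by decide +kernel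

theorem clos_0_6 : allR 16710 2785 (closOK 0) = true := by decide +kernel

theorem clos_0_7 : allR 19495 2780 (closOK 0) = true := by decide +kernel

end Cfsg.Agent.Helper29.McLX
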