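import Mathlib
import Cfsg.Agent.Lib.Helper29.McLOutChkC0
import Cfsg.Agent.Lib.Helper29.McLOutChkC1
import Cfsg.Agent.Lib.Helper29.McLOutChkC2
import Cfsg.Agent.Lib.Helper29.McLOutChkC3
import Cfsg.Agent.Lib.Helper29.McLOutChkF0
import Cfsg.Agent.Lib.Helper29.McLOutChkF1
import Cfsg.Agent.Lib.Helper29.McLOutChkF2
import Cfsg.Agent.Lib.Helper29.McLOutChkM
import Cfsg.Agent.Lib.Helper29.McLOutGen

set_option autoImplicit false
open Cfsg

/-! The involutions of the McLaughlin group on 275 points: every involution is in the list, and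
the relations. -/

namespace Cfsg.Agent.Helper29.McLX

open Cfsg.Agent.Helper29.HSP (tg force force_eq allBelow allBelow_iff)
open Cfsg.Agent.Helper29.PN Cfsg.Agent.Helper29.McLD Cfsg.Agent.Helper29.McLM
open Cfsg.Agent.Helper29.McLXD Cfsg.Agent.Helper29.McLT Cfsg.Agent.Helper29.DedCheck
open Cfsg.Agent.Helper29.HSXG Cfsg.Agent.Helper29.McLXG

/-- the permutations -/
abbrev Pm : Type := Equiv.Perm (Fin 275)

/-! ### The list of involutions -/

/-- the permutation is in the list -/
def InL (t : Pm) : Prop := ∃ i < NL, Acts 275 t (Lc i)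

theorem clos_chunks (p : ℕ → Bool) (h0 : allR 0 2785 p = true) (h1 : allR 2785 2785 p = true)
    (h2 : allR 5570 2785 p = true) (h3 : allR 8355 2785 p = true) (h4 : allR 11140 2785 p = true)
    (h5 : allR 13925 2785 p = true) (h6 : allR 16710 2785 p = true)
    (h7 : allR 19495 2780 p = true) : ∀ i < NL, p i = true := by
  intro i hi
  have hi' : i < 22275 := hi
  have hq : i / 2785 < 8 := by omega
  interval_cases hq' : i / 2785
  · exact (allR_iff _ _ _).1 h0 i (by omega) (by omega)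
  · exact (allR_iff _ _ _).1 h1 i (by omega) (by omega)
  · exact (allR_iff _ _ _).1 h2 i (by omega) (by omega)
  · exact (allR_iff _ _ _).1 h3 i (by omega) (by omega)
  · exact (allR_iff _ _ _).1 h4 i (by omega) (by omega)
  · exact (allR_iff _ _ _).1 h5 i (by omega) (by omega)
  · exact (allR_iff _ _ _).1 h6 i (by omega) (by omega)
  · exact (allR_iff _ _ _).1 h7 i (by omega) (by omega)

theorem clos_all : ∀ l < 2, ∀ i < NL, closOK l i = true := by
  intro l hl
  interval_cases l
  · exact clos_chunks _ clos_0_0 clos_0_1 clos_0_2 clos_0_3 clos_0_4 clos_0_5 clos_0_6 clos_0_7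
  · exact clos_chunks _ clos_1_0 clos_1_1 clos_1_2 clos_1_3 clos_1_4 clos_1_5 clos_1_6 clos_1_7

theorem filt_chk : ∀ i < NL, filtOK i = true :=
  clos_chunks _ filt_0 filt_1 filt_2 filt_3 filt_4 filt_5 filt_6 filt_7

theorem filtm_chk : ∀ i < NL, filtOKm i = true :=
  clos_chunks _ filtm_0 filtm_1 filtm_2 filtm_3 filtm_4 filtm_5 filtm_6 filtm_7

theorem notpi_chk : ∀ i < NL, notPi i = true :=
  clos_chunks _ notpi_0 notpi_1 notpi_2 notpi_3 notpi_4 notpi_5 notpi_6 notpi_7

/-- closed under conjugation -/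
def CC (g : Pm) : Prop := ∀ t : Pm, InL t → InL (g * t * g⁻¹)

theorem cc_ge (l : ℕ) (hl : l < 2) : CC (ge l) := by
  intro t h
  obtain ⟨i, hi, ht⟩ := h
  have hc := clos_all l hl i hi
  unfold closOK at hc
  rw [force_eq, force_eq, force_eq, force_eq, Bool.and_eq_true, allBelow_iff] at hc
  obtain ⟨hj, hall⟩ := hc
  refine ⟨cw l i, Eq.mp Nat.blt_eq hj, ?_⟩
  intro u
  have hg := acts_ge l (by rw [PC_length]; omega)
  show (ge l (t ((ge l)⁻¹ u))).val = tg (Lc (cw l i)) 9 u.val
  rw [hg, ht, ← Nat.eq_of_beq_eq_true (hall _ ((ge l)⁻¹ u).2), ← hg]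
  simp

theorem cc_one : CC 1 := by
  intro t h
  rw [one_mul, inv_one, mul_one]
  exact h

theorem cc_mul {g h : Pm} (hg : CC g) (hh : CC h) : CC (g * h) := by
  intro t ht
  have e : g * h * t * (g * h)⁻¹ = g * (h * t * h⁻¹) * g⁻¹ := by group
  rw [e]
  exact hg _ (hh _ ht)

theorem cc_pow {g : Pm} (hg : CC g) (m : ℕ) : CC (g ^ m) := by
  induction m with
  | zero => rw [pow_zero]; exact cc_one
  | succ m ih => rw [pow_succ]; exact cc_mul ih hg

theorem ge_pow (l m : ℕ) (hl : l < 2)
    (h : ∀ y < 275, appL PC (List.replicate m l) y = y) : ge l ^ m = 1 := by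
  apply Equiv.ext
  intro u
  apply Fin.ext
  have h1 := prod_apply PC ge acts_ge (List.replicate m l)
    (by intro l' hl'; rw [List.eq_of_mem_replicate hl', PC_length]; omega) u
  rw [List.map_replicate, List.prod_replicate, h u.val u.2] at h1
  exact h1

theorem cc_ge_inv (l : ℕ) (hl : l < 2) : CC (ge l)⁻¹ := by
  interval_cases l
  · have e : (ge 0)⁻¹ = ge 0 ^ 10 := by
      symm
      apply eq_inv_of_mul_eq_one_left
      rw [← pow_succ]
      exact ge_pow 0 11 (by norm_num) ord_chk.1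
    rw [e]
    exact cc_pow (cc_ge 0 (by norm_num)) 10
  · have e : (ge 1)⁻¹ = ge 1 ^ 9 := by
      symm
      apply eq_inv_of_mul_eq_one_left
      rw [← pow_succ]
      exact ge_pow 1 10 (by norm_num) ord_chk.2
    rw [e]
    exact cc_pow (cc_ge 1 (by norm_num)) 9

theorem ge_eq_gp (l : ℕ) (hl : l < 2) : ge l = gp l := by
  unfold ge
  rw [if_pos hl]

theorem inL_conj (g : Pm) (hg : g ∈ G275) (t : Pm) (h : InL t) : InL (g * t * g⁻¹) := by
  have key : CC g ∧ CC g⁻¹ := by
    unfold G275 at hg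
    induction hg using Subgroup.closure_induction with
    | mem x hx =>
      obtain ⟨k, hk, rfl⟩ := hx
      rw [← ge_eq_gp k hk]
      exact ⟨cc_ge k hk, cc_ge_inv k hk⟩
    | one =>
      rw [inv_one]
      exact ⟨cc_one, cc_one⟩
    | mul x y _ _ hx hy =>
      rw [mul_inv_rev]
      exact ⟨cc_mul hx.1 hy.1, cc_mul hy.2 hx.2⟩
    | inv x _ hx =>
      rw [inv_inv]
      exact ⟨hx.2, hx.1⟩
  exact key.1 t h

theorem card_S2_pow : Nat.card ↥S2 = 2 ^ 7 := by
  rw [card_S2]
  norm_num

/-- every involution of the group is in the list -/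
theorem inL_of_invol (t : ↥G275) (h2 : t * t = 1) (h1 : t ≠ 1) : InL t.val := by
  obtain ⟨g, hg⟩ := exists_conj_mem_of_sq_one S2 7 card_S2_pow not_dvd_index_S2 t h2
  obtain ⟨i, hi, e⟩ := exists_node _ hg
  have hact := acts_node i hi
  rw [← e] at hact
  have hi0 : i ≠ 0 := by
    intro h0
    rw [h0, D.node_zero] at e
    apply h1
    have : t = g⁻¹ * (g * t * g⁻¹) * g := by group
    rw [this, e]
    group
  have hsq : (g * t * g⁻¹) * (g * t * g⁻¹) = 1 := by
    have : (g * t * g⁻¹) * (g * t * g⁻¹) = g * (t * t) * g⁻¹ := by group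
    rw [this, h2]
    group
  have hinv : ∀ y < 275, tg (NC i) 9 (tg (NC i) 9 y) = y := by
    intro y hy
    have h3 := congrArg (fun k : ↥G275 => (k.val ⟨y, hy⟩).val) hsq
    have h4 : ((g * t * g⁻¹).val ((g * t * g⁻¹).val ⟨y, hy⟩)).val = y := h3
    rw [hact, hact] at h4
    exact h4
  have hs := (allBelow_iff _ _).1 s2_chk i hi
  unfold s2OK at hs
  rw [force_eq, Bool.or_eq_true, Bool.or_eq_true] at hs
  have hin : InL (g * t * g⁻¹).val := by
    rcases hs with (hs | hs) | hs
    · exfalso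
      rw [Bool.not_eq_true'] at hs
      have : (allBelow 275 fun y => Nat.beq (tg (NC i) 9 (tg (NC i) 9 y)) y) = true := by
        rw [allBelow_iff]
        intro y hy
        rw [hinv y hy]
        exact Nat.beq_refl y
      rw [this] at hs
      exact Bool.noConfusion hs
    · exact absurd (Nat.eq_of_beq_eq_true hs) hi0
    · rw [force_eq, Bool.and_eq_true] at hs
      refine ⟨tg S2IP 15 i, Eq.mp Nat.blt_eq hs.1, ?_⟩
      rw [Nat.eq_of_beq_eq_true hs.2]
      exact hact
  have e3 : t.val = (g⁻¹).val * (g * t * g⁻¹).val * ((g⁻¹).val)⁻¹ := by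
    rw [← Subgroup.coe_inv, ← Subgroup.coe_mul, ← Subgroup.coe_mul]
    congr 1
    group
  rw [e3]
  exact inL_conj _ (g⁻¹).2 _ hin

/-! ### Syllable words and the relations -/

/-- the product of the syllables `x ^ e * t` -/
def relEl {M : Type*} [Monoid M] (x t : M) (E : List ℕ) : M := (E.map fun e => x ^ e * t).prod

theorem map_relEl {M N : Type*} [Monoid M] [Monoid N] (f : M →* N) (x t : M) (E : List ℕ) :
    f (relEl x t E) = relEl (f x) (f t) E := by
  unfold relEl
  rw [map_list_prod, List.map_map]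
  congr 1
  apply List.map_congr_left
  intro e _
  show f (x ^ e * t) = f x ^ e * f t
  rw [map_mul, map_pow]

theorem iterW_spec (x t : Pm) (c : ℕ) (hx : ∀ e < 11, Acts 275 (x ^ e) (XP e))
    (ht : Acts 275 t c) (E : List ℕ) (hE : ∀ e ∈ E, e < 11) (u : Fin 275) :
    (relEl x t E u).val = iterW c E u.val := by
  induction E with
  | nil => rfl
  | cons e E ih =>
    have e1 : relEl x t (e :: E) = x ^ e * t * relEl x t E := by
      unfold relEl
      rw [List.map_cons, List.prod_cons]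
    rw [e1]
    show ((x ^ e) (t (relEl x t E u))).val = tg (XP e) 9 (tg c 9 (iterW c E u.val))
    rw [hx e (hE e List.mem_cons_self), ht, ih (fun e' he' => hE e' (List.mem_cons_of_mem _ he'))]

theorem iterN_spec (x t : Pm) (c : ℕ) (hx : ∀ e < 11, Acts 275 (x ^ e) (XP e))
    (ht : Acts 275 t c) (E : List ℕ) (hE : ∀ e ∈ E, e < 11) (m : ℕ) (u : Fin 275) :
    ((relEl x t E ^ m) u).val = iterN c E m u.val := by
  induction m with
  | zero => rfl
  | succ m ih =>
    rw [pow_succ']
    show (relEl x t E ((relEl x t E ^ m) u)).val = iterW c E (iterN c E m u.val)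
    rw [iterW_spec x t c hx ht E hE, ih]

theorem powOK_iff (x t : Pm) (c : ℕ) (hx : ∀ e < 11, Acts 275 (x ^ e) (XP e))
    (ht : Acts 275 t c) (E : List ℕ) (hE : ∀ e ∈ E, e < 11) (m : ℕ) :
    powOK c E m = true ↔ relEl x t E ^ m = 1 := by
  unfold powOK
  rw [allBelow_iff]
  constructor
  · intro h
    apply Equiv.ext
    intro u
    apply Fin.ext
    rw [iterN_spec x t c hx ht E hE m u]
    exact Nat.eq_of_beq_eq_true (h u.val u.2)
  · intro h p hp
    have := iterN_spec x t c hx ht E hE m ⟨p, hp⟩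
    rw [h] at this
    rw [← this]
    exact Nat.beq_refl p

theorem relsOK_iff (x t : Pm) (c : ℕ) (hx : ∀ e < 11, Acts 275 (x ^ e) (XP e))
    (ht : Acts 275 t c) (R : List (List ℕ × ℕ)) (hR : ∀ r ∈ R, ∀ e ∈ r.1, e < 11) :
    relsOK c R = true ↔ ∀ r ∈ R, relEl x t r.1 ^ r.2 = 1 := by
  induction R with
  | nil => simp [relsOK]
  | cons r R ih =>
    rw [relsOK, Bool.and_eq_true, powOK_iff x t c hx ht r.1 (hR r List.mem_cons_self) r.2,
      ih (fun r' hr' => hR r' (List.mem_cons_of_mem _ hr'))]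
    simp

end Cfsg.Agent.Helper29.McLX
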