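import Mathlib
import Cfsg.Agent.Lib.Helper29.McLOutA
import Cfsg.Agent.Lib.Helper26.AutOuter

set_option autoImplicit false
open Cfsg

/-! The automorphisms of the McLaughlin group on 275 points. -/

namespace Cfsg.Agent.Helper29.McLX

open Cfsg.Agent.Helper29.HSP (tg force force_eq allBelow allBelow_iff)
open Cfsg.Agent.Helper29.PN Cfsg.Agent.Helper29.McLD Cfsg.Agent.Helper29.McLM
open Cfsg.Agent.Helper29.McLXD Cfsg.Agent.Helper29.McLT Cfsg.Agent.Helper29.DedCheck
open Cfsg.Agent.Helper29.HSXG Cfsg.Agent.Helper29.McLXG Cfsg.Agent.Helper26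

/-! ### Tools for codes -/

theorem eq_of_acts_comp {a b a' b' : Pm} {A B A' B' : ℕ} (ha : Acts 275 a A) (hb : Acts 275 b B)
    (ha' : Acts 275 a' A') (hb' : Acts 275 b' B')
    (h : ∀ y < 275, tg A 9 (tg B 9 y) = tg A' 9 (tg B' 9 y)) : a * b = a' * b' := by
  apply Equiv.ext
  intro u
  apply Fin.ext
  show (a (b u)).val = (a' (b' u)).val
  rw [ha, hb, ha', hb', h u.val u.2]

theorem acts_conj {g t : Pm} {A c d : ℕ} (hg : Acts 275 g A) (ht : Acts 275 t c)
    (h : ∀ y < 275, tg d 9 (tg A 9 y) = tg A 9 (tg c 9 y)) : Acts 275 (g * t * g⁻¹) d := by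
  intro u
  show (g (t (g⁻¹ u))).val = tg d 9 u.val
  rw [hg, ht, ← h _ (g⁻¹ u).2, ← hg]
  simp

theorem sq_one_of_acts {g : Pm} {c : ℕ} (hg : Acts 275 g c)
    (h : ∀ y < 275, tg c 9 (tg c 9 y) = y) : g * g = 1 := by
  apply Equiv.ext
  intro u
  apply Fin.ext
  show (g (g u)).val = u.val
  rw [hg, hg, h u.val u.2]

theorem letters4 {c : ℕ} {w : List ℕ} (h : reprL 275 PC c w = true) : ∀ l ∈ w, l < 4 := by
  have := letters_of_reprL h
  rwa [PC_length] at this

/-! ### The elements -/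

def xE : ↥G275 := ⟨evalW Wx, evalW_mem _ (letters4 wx_chk.1)⟩
def yE : ↥G275 := ⟨evalW Wy, evalW_mem _ (letters4 wx_chk.2.1)⟩
def nE : ↥G275 := ⟨evalW Wn, evalW_mem _ (letters4 wx_chk.2.2.1)⟩

theorem acts_xE : Acts 275 xE.val (XP 1) := acts_evalW wx_chk.1
theorem acts_yE : Acts 275 yE.val YC := acts_evalW wx_chk.2.1
theorem acts_nE : Acts 275 nE.val NC1 := acts_evalW wx_chk.2.2.1

theorem acts_xpow (k : ℕ) (hk : k < 11) : Acts 275 (xE.val ^ k) (XP k) := by
  induction k with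
  | zero =>
    rw [pow_zero]
    exact acts_one xp_chk.1
  | succ k ih =>
    rw [pow_succ']
    exact acts_mul acts_xE (ih (by omega)) (xp_chk.2.1 k (by omega))

theorem xE_val_pow11 : xE.val ^ 11 = 1 := by
  rw [pow_succ']
  apply Equiv.ext
  intro u
  apply Fin.ext
  rw [Equiv.Perm.mul_apply, Equiv.Perm.one_apply, acts_xE, acts_xpow 10 (by norm_num),
    xp_chk.2.2.1 u.val u.2]

theorem xE_pow11 : xE ^ 11 = 1 := by
  apply Subtype.ext
  rw [Subgroup.coe_pow]
  exact xE_val_pow11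

theorem xE_ne_one : xE ≠ 1 := by
  intro h
  exact ne_one_of_moved acts_xE xp_chk.2.2.2 (congrArg Subtype.val h)

theorem xE_inv_val : (xE⁻¹).val = xE.val ^ 10 := by
  rw [Subgroup.coe_inv]
  symm
  apply eq_inv_of_mul_eq_one_left
  rw [← pow_succ]
  exact xE_val_pow11

theorem nE_conj : nE * xE * nE⁻¹ = xE ^ 3 := by
  rw [mul_inv_eq_iff_eq_mul]
  apply Subtype.ext
  rw [Subgroup.coe_mul, Subgroup.coe_mul, Subgroup.coe_pow]
  exact eq_of_acts_comp acts_nE acts_xE (acts_xpow 3 (by norm_num)) acts_nE n_chk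

theorem yE_sq : yE * yE = 1 := by
  apply Subtype.ext
  rw [Subgroup.coe_mul]
  exact sq_one_of_acts acts_yE y_chk.1

theorem yE_ne_one : yE ≠ 1 := by
  intro h
  exact ne_one_of_moved acts_yE y_chk.2.2 (congrArg Subtype.val h)

theorem not_121_dvd : ¬ 121 ∣ Nat.card ↥G275 := by
  rw [card_G275]
  norm_num

/-- every automorphism moves `xE` to a conjugate of it or of its inverse -/
theorem stepA (φ : MulAut ↥G275) :
    ∃ g : ↥G275, (MulAut.conj g * φ) xE = xE ∨ (MulAut.conj g * φ) xE = xE ^ 10 := by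
  obtain ⟨g, hg⟩ := exists_conj_eq_of_eleven xE nE xE_pow11 xE_ne_one not_121_dvd nE_conj φ
  refine ⟨g, ?_⟩
  rw [MulAut.mul_apply, MulAut.conj_apply]
  exact hg

/-! ### The relations -/

theorem hRL : ∀ r ∈ RL, ∀ e ∈ r.1, e < 11 := by decide

theorem hRLm : ∀ r ∈ RLm, ∀ e ∈ r.1, e < 11 := by decide

theorem RLm_eq : RLm = RL.map fun r => (r.1.map fun e => 11 - e, r.2) := by decide

theorem coe_relEl (x t : ↥G275) (E : List ℕ) : (relEl x t E).val = relEl x.val t.val E :=
  map_relEl G275.subtype x t E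

theorem rel_y : ∀ r ∈ RL, relEl xE yE r.1 ^ r.2 = 1 := by
  intro r hr
  apply Subtype.ext
  rw [Subgroup.coe_pow, coe_relEl]
  exact (relsOK_iff xE.val yE.val YC acts_xpow acts_yE RL hRL).1 y_chk.2.1 r hr

theorem relEl_pow10 {M : Type*} [Monoid M] (x t : M) (hx : x ^ 11 = 1) (E : List ℕ)
    (hE : ∀ e ∈ E, e < 11) : relEl (x ^ 10) t E = relEl x t (E.map fun e => 11 - e) := by
  unfold relEl
  rw [List.map_map]
  congr 1
  apply List.map_congr_left
  intro e he
  show (x ^ 10) ^ e * t = x ^ (11 - e) * t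
  congr 1
  have h11 := hE e he
  rcases e with _ | e'
  · rw [pow_zero, Nat.sub_zero, hx]
  · rw [← pow_mul]
    have e1 : 10 * (e' + 1) = 11 * e' + (11 - (e' + 1)) := by omega
    rw [e1, pow_add, pow_mul, hx, one_pow, one_mul]

/-- the image of `yE` under an automorphism fixing `xE` has one of the twenty-two indices -/
theorem image_index (φ : MulAut ↥G275) (hx : φ xE = xE) :
    ∃ k < 22, Acts 275 (φ yE).val (Lc (YIL.getD k 0)) := by
  have h2 : φ yE * φ yE = 1 := by rw [← map_mul, yE_sq, map_one]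
  have h1 : φ yE ≠ 1 := fun h => yE_ne_one (φ.injective (h.trans (map_one φ).symm))
  obtain ⟨i, hi, hact⟩ := inL_of_invol (φ yE) h2 h1
  have hrel : relsOK (Lc i) RL = true := by
    rw [relsOK_iff xE.val (φ yE).val (Lc i) acts_xpow hact RL hRL]
    intro r hr
    have h3 : relEl xE (φ yE) r.1 ^ r.2 = 1 := by
      have : relEl xE (φ yE) r.1 = φ (relEl xE yE r.1) := by
        have := map_relEl φ.toMonoidHom xE yE r.1
        rw [MulEquiv.coe_toMonoidHom, hx] at this
        exact this.symm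
      rw [this, ← map_pow, rel_y r hr, map_one]
    have h4 := congrArg Subtype.val h3
    rw [Subgroup.coe_pow, coe_relEl] at h4
    exact h4
  have hf := filt_chk i hi
  unfold filtOK at hf
  rw [force_eq, Bool.or_eq_true] at hf
  rcases hf with hf | hf
  · exfalso
    rw [Bool.not_eq_true', hrel] at hf
    exact Bool.noConfusion hf
  · unfold yMem at hf
    rw [List.any_eq_true] at hf
    obtain ⟨j, hj, hij⟩ := hf
    have hij' : i = j := Nat.eq_of_beq_eq_true hij
    obtain ⟨k, hk, hkj⟩ := List.getElem_of_mem hj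
    refine ⟨k, by rw [← yi_chk.1]; exact hk, ?_⟩
    have : YIL.getD k 0 = j := by
      rw [List.getD_eq_getElem _ _ hk]
      exact hkj
    rw [this, ← hij']
    exact hact

/-- no automorphism inverts `xE` -/
theorem no_inverting (φ : MulAut ↥G275) (hx : φ xE = xE ^ 10) : False := by
  have h2 : φ yE * φ yE = 1 := by rw [← map_mul, yE_sq, map_one]
  have h1 : φ yE ≠ 1 := fun h => yE_ne_one (φ.injective (h.trans (map_one φ).symm))
  obtain ⟨i, hi, hact⟩ := inL_of_invol (φ yE) h2 h1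
  have hrel : relsOK (Lc i) RLm = true := by
    rw [relsOK_iff xE.val (φ yE).val (Lc i) acts_xpow hact RLm hRLm, RLm_eq]
    intro r' hr'
    obtain ⟨r, hr, rfl⟩ := List.mem_map.1 hr'
    show relEl xE.val (φ yE).val (r.1.map fun e => 11 - e) ^ r.2 = 1
    have h3 : relEl xE (φ yE) (r.1.map fun e => 11 - e) ^ r.2 = 1 := by
      have : relEl xE (φ yE) (r.1.map fun e => 11 - e) = φ (relEl xE yE r.1) := by
        have := map_relEl φ.toMonoidHom xE yE r.1
        rw [MulEquiv.coe_toMonoidHom, hx, relEl_pow10 xE (φ yE) xE_pow11 r.1 (hRL r hr)] at this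
        exact this.symm
      rw [this, ← map_pow, rel_y r hr, map_one]
    have h4 := congrArg Subtype.val h3
    rw [Subgroup.coe_pow, coe_relEl] at h4
    exact h4
  have hf := filtm_chk i hi
  unfold filtOKm at hf
  rw [force_eq, Bool.not_eq_true', hrel] at hf
  exact Bool.noConfusion hf

/-! ### The outer automorphism -/

/-- the permutation normalising the group -/
def pi0 : Pm := cP 275 PC0 PC0

theorem acts_pi0 : Acts 275 pi0 PC0 := acts_cP pi_chk.1

theorem pi0_sq : pi0 * pi0 = 1 :=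
  sq_one_of_acts acts_pi0 (fun y hy => (validC_spec 275 pi_chk.1 y hy).2.2.1)

theorem pi0_inv : pi0⁻¹ = pi0 := by
  symm
  exact eq_inv_of_mul_eq_one_left pi0_sq

theorem pi0_ne_one : pi0 ≠ 1 := ne_one_of_moved acts_pi0 pi_chk.2.2.2.2.2

theorem pi0_gp0 : pi0 * gp 0 * pi0 = evalW V0 := by
  apply eq_of_acts _ (acts_evalW wx_chk.2.2.2.1)
  intro u
  show (pi0 (gp 0 (pi0 u))).val = tg PA0C 9 u.val
  rw [acts_pi0, acts_gp 0 (by norm_num), acts_pi0, pi_chk.2.2.2.1 u.val u.2]

theorem pi0_gp1 : pi0 * gp 1 * pi0 = evalW V1 := by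
  apply eq_of_acts _ (acts_evalW wx_chk.2.2.2.2)
  intro u
  show (pi0 (gp 1 (pi0 u))).val = tg PB0C 9 u.val
  rw [acts_pi0, acts_gp 1 (by norm_num), acts_pi0, pi_chk.2.2.2.2.1 u.val u.2]

theorem pi0_conj_mem : ∀ h ∈ G275, pi0 * h * pi0 ∈ G275 := by
  intro h hh
  unfold G275 at hh
  induction hh using Subgroup.closure_induction with
  | mem x hx =>
    obtain ⟨k, hk, rfl⟩ := hx
    interval_cases k
    · rw [pi0_gp0]
      exact evalW_mem _ (letters4 wx_chk.2.2.2.1)
    · rw [pi0_gp1]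
      exact evalW_mem _ (letters4 wx_chk.2.2.2.2)
  | one =>
    rw [mul_one, pi0_sq]
    exact Subgroup.one_mem _
  | mul x y _ _ hx hy =>
    have e : pi0 * (x * y) * pi0 = (pi0 * x * pi0) * (pi0 * y * pi0) := by
      have : (pi0 * x * pi0) * (pi0 * y * pi0) = pi0 * x * (pi0 * pi0) * y * pi0 := by
        simp only [mul_assoc]
      rw [this, pi0_sq, mul_one]
      simp only [mul_assoc]
    rw [e]
    exact Subgroup.mul_mem _ hx hy
  | inv x _ hx =>
    have e : pi0 * x⁻¹ * pi0 = (pi0 * x * pi0)⁻¹ := by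
      rw [mul_inv_rev, mul_inv_rev, pi0_inv]
      simp only [mul_assoc]
    rw [e]
    exact Subgroup.inv_mem _ hx

/-- the outer automorphism -/
def tau0 : MulAut ↥G275 := AutOuter.conjAut G275 pi0 pi0_sq pi0_conj_mem

theorem tau0_val (h : ↥G275) : (tau0 h).val = pi0 * h.val * pi0 := rfl

theorem pi0_xE : pi0 * xE.val = xE.val * pi0 :=
  eq_of_acts_comp acts_pi0 acts_xE acts_xE acts_pi0 pi_chk.2.1

theorem tau0_xE : tau0 xE = xE := by
  apply Subtype.ext
  rw [tau0_val, pi0_xE, mul_assoc, pi0_sq, mul_one]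

theorem acts_tau0_yE : Acts 275 (tau0 yE).val YoC := by
  rw [tau0_val]
  have h := acts_conj (d := YoC) acts_pi0 acts_yE pi_chk.2.2.1
  rw [pi0_inv] at h
  exact h

/-! ### The twenty-two elements -/

theorem acts_EA (k : ℕ) (hk : k < 11) :
    Acts 275 (xE ^ k * yE * (xE ^ k)⁻¹).val (Lc (YIL.getD k 0)) := by
  rw [Subgroup.coe_mul, Subgroup.coe_mul, Subgroup.coe_inv, Subgroup.coe_pow]
  exact acts_conj (acts_xpow k hk) acts_yE (yi_chk.2.2.1 k hk)

theorem acts_EB (k : ℕ) (hk : k < 11) :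
    Acts 275 (xE ^ k * tau0 yE * (xE ^ k)⁻¹).val (Lc (YIL.getD (11 + k) 0)) := by
  rw [Subgroup.coe_mul, Subgroup.coe_mul, Subgroup.coe_inv, Subgroup.coe_pow]
  exact acts_conj (acts_xpow k hk) acts_tau0_yE (yi_chk.2.2.2 k hk)

/-! ### Generation -/

/-- the letters for words in the two generators -/
def ge3 (l : ℕ) : ↥G275 :=
  match l with
  | 0 => xE
  | 1 => yE
  | 2 => xE⁻¹
  | _ => 1

theorem acts_ge3 : ∀ l < [XP 1, YC, XP 10].length,
    Acts 275 ((fun l => (ge3 l).val) l) ([XP 1, YC, XP 10].getD l 0) := by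
  intro l hl
  have hl' : l < 3 := hl
  interval_cases l
  · exact acts_xE
  · exact acts_yE
  · show Acts 275 (xE⁻¹).val (XP 10)
    rw [xE_inv_val]
    exact acts_xpow 10 (by norm_num)

theorem coe_prod_ge3 (w : List ℕ) :
    ((w.map ge3).prod : ↥G275).val = (w.map fun l => (ge3 l).val).prod := by
  induction w with
  | nil => rfl
  | cons c t ih =>
    rw [List.map_cons, List.prod_cons, List.map_cons, List.prod_cons, Subgroup.coe_mul, ih]

theorem ge3_mem (l : ℕ) : ge3 l ∈ Subgroup.closure ({xE, yE} : Set ↥G275) := by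
  have h0 : xE ∈ Subgroup.closure ({xE, yE} : Set ↥G275) := Subgroup.subset_closure (by simp)
  have h1 : yE ∈ Subgroup.closure ({xE, yE} : Set ↥G275) := Subgroup.subset_closure (by simp)
  unfold ge3
  split
  · exact h0
  · exact h1
  · exact Subgroup.inv_mem _ h0
  · exact Subgroup.one_mem _

theorem prod_ge3_mem (w : List ℕ) :
    (w.map ge3).prod ∈ Subgroup.closure ({xE, yE} : Set ↥G275) := by
  apply Subgroup.list_prod_mem
  intro x hx
  obtain ⟨l, _, rfl⟩ := List.mem_map.1 hx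
  exact ge3_mem l

theorem closure_xy : Subgroup.closure ({xE, yE} : Set ↥G275) = ⊤ := by
  rw [eq_top_iff]
  intro g _
  have hle : G275 ≤ (Subgroup.closure ({xE, yE} : Set ↥G275)).map G275.subtype := by
    unfold G275
    rw [Subgroup.closure_le]
    intro s hs
    obtain ⟨k, hk, rfl⟩ := hs
    interval_cases k
    · refine ⟨(W0.map ge3).prod, prod_ge3_mem W0, ?_⟩
      show ((W0.map ge3).prod : ↥G275).val = gp 0
      rw [coe_prod_ge3]
      exact eq_of_acts (acts_of_reprL _ _ acts_ge3 gen_chk.1) (acts_gp 0 (by norm_num))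
    · refine ⟨(W1.map ge3).prod, prod_ge3_mem W1, ?_⟩
      show ((W1.map ge3).prod : ↥G275).val = gp 1
      rw [coe_prod_ge3]
      exact eq_of_acts (acts_of_reprL _ _ acts_ge3 gen_chk.2) (acts_gp 1 (by norm_num))
  obtain ⟨k, hk, e⟩ := hle g.2
  have : k = g := Subtype.ext e
  rw [← this]
  exact hk

theorem aut_ext {φ ψ : MulAut ↥G275} (hx : φ xE = ψ xE) (hy : φ yE = ψ yE) : φ = ψ := by
  have key : φ.toMonoidHom = ψ.toMonoidHom := by
    apply MonoidHom.eq_of_eqOn_dense closure_xy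
    rintro x (rfl | rfl)
    · exact hx
    · exact hy
  exact MulEquiv.ext (fun x => DFunLike.congr_fun key x)

end Cfsg.Agent.Helper29.McLX
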