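import Mathlib
import Cfsg.Agent.Lib.Helper29.McLOutB
import Cfsg.Agent.Lib.Helper29.McLFusChk
import Cfsg.Agent.Lib.Helper25.FusionSimpCrit2

set_option autoImplicit false
open Cfsg

/-! The McLaughlin group on 275 points: one class of involutions, and the Sylow 2-subgroup is
its own normalizer. -/

namespace Cfsg.Agent.Helper29.McLF

open Cfsg.Agent.Helper29.HSP (tg force force_eq allBelow allBelow_iff)
open Cfsg.Agent.Helper29.PN Cfsg.Agent.Helper29.McLD Cfsg.Agent.Helper29.McLM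
open Cfsg.Agent.Helper29.McLXD Cfsg.Agent.Helper29.McLT Cfsg.Agent.Helper29.McLX
open Cfsg.Agent.Helper29.McLFD Cfsg.Agent.Helper29.DedCheck

/-! ### One class of involutions -/

theorem tree_chk : ∀ i < NL, treeOK i = true :=
  clos_chunks _ tree_0 tree_1 tree_2 tree_3 tree_4 tree_5 tree_6 tree_7

theorem acts_conj_ge (l : ℕ) (hl : l < 2) (i : ℕ) (hi : i < NL) (t : Pm)
    (ht : Acts 275 t (Lc i)) : cw l i < NL ∧ Acts 275 (ge l * t * (ge l)⁻¹) (Lc (cw l i)) := by
  have hc := clos_all l hl i hi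
  unfold closOK at hc
  rw [force_eq, force_eq, force_eq, force_eq, Bool.and_eq_true, allBelow_iff] at hc
  obtain ⟨hj, hall⟩ := hc
  refine ⟨Eq.mp Nat.blt_eq hj, ?_⟩
  intro u
  have hg := acts_ge l (by rw [PC_length]; omega)
  show (ge l (t ((ge l)⁻¹ u))).val = tg (Lc (cw l i)) 9 u.val
  rw [hg, ht, ← Nat.eq_of_beq_eq_true (hall _ ((ge l)⁻¹ u).2), ← hg]
  simp

/-- the root involution -/
def tE : ↥G275 := xg 0

theorem acts_tE : Acts 275 tE.val (Lc 0) := by
  intro u
  rw [root_chk u.val u.2]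
  exact acts_xg 0 (by norm_num) u

theorem conj_root : ∀ n i : ℕ, i < NL → tpos i = n →
    ∃ g : ↥G275, Acts 275 (g * tE * g⁻¹).val (Lc i) := by
  intro n
  induction n using Nat.strong_induction_on with
  | _ n ih =>
    intro i hi hn
    have h := tree_chk i hi
    unfold treeOK at h
    rw [Bool.or_eq_true] at h
    rcases h with h | h
    · have h0 : i = 0 := Nat.eq_of_beq_eq_true h
      refine ⟨1, ?_⟩
      rw [h0, one_mul, inv_one, mul_one]
      exact acts_tE
    · rw [force_eq, force_eq, Bool.and_eq_true, Bool.and_eq_true, Bool.and_eq_true] at h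
      obtain ⟨⟨⟨h1, h2⟩, h3⟩, h4⟩ := h
      have hp : tpar i < NL := Eq.mp Nat.blt_eq h1
      have hl : tlet i < 2 := Eq.mp Nat.blt_eq h2
      have hpos : tpos (tpar i) < tpos i := Eq.mp Nat.blt_eq h3
      have hcw : cw (tlet i) (tpar i) = i := Nat.eq_of_beq_eq_true h4
      obtain ⟨g, hg⟩ := ih (tpos (tpar i)) (by rw [← hn]; exact hpos) (tpar i) hp rfl
      have hmem : ge (tlet i) ∈ G275 := ge_mem _ (by omega)
      refine ⟨⟨ge (tlet i), hmem⟩ * g, ?_⟩
      have e : ((⟨ge (tlet i), hmem⟩ * g) * tE * (⟨ge (tlet i), hmem⟩ * g)⁻¹ : ↥G275).val =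
          ge (tlet i) * (g * tE * g⁻¹).val * (ge (tlet i))⁻¹ := by
        simp only [Subgroup.coe_mul, Subgroup.coe_inv, mul_inv_rev]
        group
      rw [e]
      have h5 := (acts_conj_ge (tlet i) hl (tpar i) hp _ hg).2
      rw [hcw] at h5
      exact h5

/-- every involution is conjugate to the root involution -/
theorem all_conj (t : ↥G275) (h2 : t * t = 1) (h1 : t ≠ 1) : ∃ g : ↥G275, g * tE * g⁻¹ = t := by
  obtain ⟨i, hi, hact⟩ := inL_of_invol t h2 h1
  obtain ⟨g, hg⟩ := conj_root (tpos i) i hi rfl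
  exact ⟨g, Subtype.ext (eq_of_acts hg hact)⟩

/-- any two involutions are conjugate -/
theorem conj_invol (s t : ↥G275) (hs2 : s * s = 1) (hs1 : s ≠ 1) (ht2 : t * t = 1) (ht1 : t ≠ 1) :
    ∃ g : ↥G275, g * s * g⁻¹ = t := by
  obtain ⟨a, ha⟩ := all_conj s hs2 hs1
  obtain ⟨b, hb⟩ := all_conj t ht2 ht1
  refine ⟨b * a⁻¹, ?_⟩
  rw [← ha, ← hb]
  group

/-! ### No proper subgroup closed under fusion -/

theorem xg_ne_one (c : ℕ) (hc : c < 7) : xg c ≠ 1 := by
  intro h
  exact ne_one_of_moved (acts_xg c hc) (xmoved_chk c hc) (congrArg Subtype.val h)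

theorem xg_mem (c : ℕ) (hc : c < 7) : xg c ∈ S2 := Subgroup.subset_closure ⟨c, hc, rfl⟩

open Cfsg.Agent.Helper25.SimpCrit in
theorem noClosed_S2 : NoClosed S2 := by
  intro T hTS hTne hTc
  apply le_antisymm hTS
  -- an involution in `T`
  have hcard : Nat.card ↥T ∣ 2 ^ 7 := by
    rw [← card_S2_pow]
    exact Subgroup.card_dvd_of_le hTS
  obtain ⟨j, _, hj⟩ := (Nat.dvd_prime_pow Nat.prime_two).1 hcard
  have hj0 : j ≠ 0 := by
    intro h0
    rw [h0, pow_zero] at hj
    exact hTne (Subgroup.card_eq_one.1 hj)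
  have h2dvd : 2 ∣ Nat.card ↥T := by
    rw [hj]
    exact dvd_pow_self 2 hj0
  have : Fact (Nat.Prime 2) := ⟨Nat.prime_two⟩
  obtain ⟨s, hs⟩ := exists_prime_orderOf_dvd_card' 2 h2dvd
  have hs' : orderOf (s : ↥G275) = 2 := by
    rw [Subgroup.orderOf_coe]; exact hs
  have hs2 : (s : ↥G275) * s = 1 := by
    rw [← pow_two, ← hs']; exact pow_orderOf_eq_one _
  have hs1 : (s : ↥G275) ≠ 1 := by
    intro h
    rw [h, orderOf_one] at hs'
    omega
  unfold S2
  rw [Subgroup.closure_le]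
  rintro x ⟨c, hc, rfl⟩
  have hc7 : c < 7 := hc
  obtain ⟨g, hg⟩ := conj_invol s (xg c) hs2 hs1 (xg_sq c hc7) (xg_ne_one c hc7)
  have := hTc (s : ↥G275) s.2 g (by rw [hg]; exact xg_mem c hc7)
  rw [hg] at this
  exact this

/-! ### The stabilizer of three points -/

theorem card_Hst3 : Nat.card ↥(Hst G275 bpt 3) = 192 := by
  have h0 := step 0 (by norm_num)
  have h1 := step 1 (by norm_num)
  have h2 := step 2 (by norm_num)
  have h3 := step 3 (by norm_num)
  have h4 := step 4 (by norm_num)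
  have h6 : 1 ≤ Nat.card ↥(Hst G275 bpt 5) := Nat.card_pos
  have e : Hst G275 bpt 0 = G275 := rfl
  rw [e, card_G275] at h0
  simp only [sizes, List.getD_cons_zero, List.getD_cons_succ, Nat.reduceAdd, zero_add]
    at h0 h1 h2 h3 h4
  omega

/-- the element moving the third base point to the point 96 -/
def uE : ↥G275 := ⟨evalW (TW 2 96), evalW_mem _ u_chk.1⟩

theorem uE_apply (v : Fin 275) : (uE.val v).val = appL PC (TW 2 96) v.val :=
  evalW_apply _ u_chk.1 v

theorem uE_0 : uE.val 0 = 0 := Fin.ext ((uE_apply 0).trans u_chk.2.2.1)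
theorem uE_1 : uE.val 1 = 1 := Fin.ext ((uE_apply 1).trans u_chk.2.2.2)
theorem uE_2 : uE.val 2 = 96 := Fin.ext ((uE_apply 2).trans u_chk.2.1)

theorem bpt_0 : bpt 0 = 0 := Fin.ext (by decide)
theorem bpt_1 : bpt 1 = 1 := Fin.ext (by decide)
theorem bpt_2 : bpt 2 = 2 := Fin.ext (by decide)

/-- the stabilizer of the three base points, inside the group -/
def H3 : Subgroup ↥G275 := (Hst G275 bpt 3).subgroupOf G275

theorem Hst3_le : Hst G275 bpt 3 ≤ G275 := fun g hg => ((mem_Hst G275 bpt 3 g).1 hg).1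

theorem card_H3 : Nat.card ↥H3 = 192 := by
  rw [← card_Hst3]
  exact Nat.card_congr (Subgroup.subgroupOfEquivOfLe Hst3_le).toEquiv

theorem mem_H3 (g : ↥G275) : g ∈ H3 ↔ g.val 0 = 0 ∧ g.val 1 = 1 ∧ g.val 2 = 2 := by
  unfold H3
  rw [Subgroup.mem_subgroupOf, mem_Hst]
  constructor
  · rintro ⟨_, h⟩
    have h0 := h 0 (by norm_num)
    have h1 := h 1 (by norm_num)
    have h2 := h 2 (by norm_num)
    rw [bpt_0] at h0
    rw [bpt_1] at h1
    rw [bpt_2] at h2
    exact ⟨h0, h1, h2⟩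
  · rintro ⟨h0, h1, h2⟩
    refine ⟨g.2, fun j hj => ?_⟩
    interval_cases j
    · rw [bpt_0]; exact h0
    · rw [bpt_1]; exact h1
    · rw [bpt_2]; exact h2

/-- the stabilizer of the points 0, 1, 96 -/
def F3 : Subgroup ↥G275 := H3.map (MulAut.conj uE).toMonoidHom

theorem card_F3 : Nat.card ↥F3 = 192 := by
  rw [← card_H3]
  exact Subgroup.card_map_of_injective (MulAut.conj uE).injective

theorem mem_F3 (g : ↥G275) (h0 : g.val 0 = 0) (h1 : g.val 1 = 1) (h96 : g.val 96 = 96) :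
    g ∈ F3 := by
  have e : ∀ v w : Fin 275, uE.val v = w → g.val w = w → (uE⁻¹ * g * uE : ↥G275).val v = v := by
    intro v w hv hw
    rw [Subgroup.coe_mul, Subgroup.coe_mul, Equiv.Perm.mul_apply, Equiv.Perm.mul_apply, hv, hw,
      ← hv, Subgroup.coe_inv, Equiv.Perm.inv_eq_iff_eq]
  refine ⟨uE⁻¹ * g * uE, (mem_H3 _).2 ⟨e 0 0 uE_0 h0, e 1 1 uE_1 h1, e 2 96 uE_2 h96⟩, ?_⟩
  show uE * (uE⁻¹ * g * uE) * uE⁻¹ = g
  group

/-! ### The normalizer of the Sylow subgroup -/

theorem S2_acts (s : ↥G275) (hs : s ∈ S2) : ∃ i < 128, Acts 275 s.val (NC i) := by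
  obtain ⟨i, hi, e⟩ := exists_node s hs
  refine ⟨i, hi, ?_⟩
  rw [e]
  exact acts_node i hi

theorem S2_fix0 (s : ↥G275) (hs : s ∈ S2) : s.val 0 = 0 := by
  obtain ⟨i, hi, h⟩ := S2_acts s hs
  exact Fin.ext ((h 0).trans (nodes_chk i hi).1)

theorem S2_pres (s : ↥G275) (hs : s ∈ S2) :
    (s.val 1 = 1 ∨ s.val 1 = 96) ∧ (s.val 96 = 1 ∨ s.val 96 = 96) := by
  obtain ⟨i, hi, h⟩ := S2_acts s hs
  obtain ⟨_, h1, h2⟩ := nodes_chk i hi
  constructor
  · rcases h1 with h1 | h1
    · left; exact Fin.ext ((h 1).trans h1)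
    · right; exact Fin.ext ((h 1).trans h1)
  · rcases h2 with h2 | h2
    · left; exact Fin.ext ((h 96).trans h2)
    · right; exact Fin.ext ((h 96).trans h2)

/-- the normalizer -/
def N2 : Subgroup ↥G275 := Subgroup.normalizer (S2 : Set ↥G275)

theorem conj_mem_of_N2 {g : ↥G275} (hg : g ∈ N2) {s : ↥G275} (hs : s ∈ S2) :
    g⁻¹ * s * g ∈ S2 := by
  have hg' : g⁻¹ ∈ N2 := N2.inv_mem hg
  have := (Subgroup.mem_normalizer_iff.1 hg' s).1 hs
  rwa [inv_inv] at this

theorem N2_fix0 {g : ↥G275} (hg : g ∈ N2) : g.val 0 = 0 := by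
  apply Fin.ext
  apply fix_chk.2 _ (g.val 0).2
  intro c hc
  have h1 := S2_fix0 _ (conj_mem_of_N2 hg (xg_mem c hc))
  have h2 : (xg c).val (g.val 0) = g.val 0 := by
    have : (g⁻¹ * xg c * g : ↥G275).val 0 = (g⁻¹).val ((xg c).val (g.val 0)) := rfl
    rw [this, Subgroup.coe_inv, Equiv.Perm.inv_eq_iff_eq] at h1
    exact h1
  have h3 := acts_xg c hc (g.val 0)
  rw [h2] at h3
  exact h3.symm

theorem N2_small {g : ↥G275} (hg : g ∈ N2) (v : Fin 275) (hv : v = 1 ∨ v = 96) :
    g.val v = 1 ∨ g.val v = 96 := by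
  -- the generators move `g v` only to `g w`, where `w` is the other point
  obtain ⟨w, hw⟩ : ∃ w : Fin 275, ∀ s ∈ S2, s.val v = v ∨ s.val v = w := by
    rcases hv with rfl | rfl
    · exact ⟨96, fun s hs => (S2_pres s hs).1⟩
    · exact ⟨1, fun s hs => (S2_pres s hs).2.symm⟩
  have key : ∀ c < 7, (xg c).val (g.val v) = g.val v ∨ (xg c).val (g.val v) = g.val w := by
    intro c hc
    have h1 := hw _ (conj_mem_of_N2 hg (xg_mem c hc))
    have e : (g⁻¹ * xg c * g : ↥G275).val v = (g⁻¹).val ((xg c).val (g.val v)) := rfl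
    rw [e, Subgroup.coe_inv, Equiv.Perm.inv_eq_iff_eq, Equiv.Perm.inv_eq_iff_eq] at h1
    exact h1
  have h3 := orb2_chk (g.val v).val (g.val v).2 (by
    intro c hc c' hc' h1 h2
    have a1 := acts_xg c hc (g.val v)
    have a2 := acts_xg c' hc' (g.val v)
    rcases key c hc with k1 | k1
    · exact absurd (a1.symm.trans (congrArg Fin.val k1)) h1
    · rcases key c' hc' with k2 | k2
      · exact absurd (a2.symm.trans (congrArg Fin.val k2)) h2
      · rw [← a1, ← a2, k1, k2])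
  have hne : g.val v ≠ 0 := by
    intro h0
    have := (N2_fix0 hg).trans h0.symm
    have e := g.val.injective this
    rcases hv with rfl | rfl
    · exact absurd (congrArg Fin.val e) (by decide)
    · exact absurd (congrArg Fin.val e) (by decide)
  rcases h3 with h3 | h3 | h3
  · exact absurd (Fin.ext h3) hne
  · left; exact Fin.ext h3
  · right; exact Fin.ext h3

theorem N2_odd_fix {g : ↥G275} (hg : g ∈ N2) (k : ℕ) (hk : g ^ (2 * k + 1) = 1) :
    g.val 1 = 1 ∧ g.val 96 = 96 := by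
  have h1 := N2_small hg 1 (Or.inl rfl)
  have h96 := N2_small hg 96 (Or.inr rfl)
  have hne : g.val 1 ≠ g.val 96 := by
    intro h
    exact absurd (congrArg Fin.val (g.val.injective h)) (by decide)
  have hgood : g.val 1 = 1 := by
    rcases h1 with h1 | h1
    · exact h1
    · exfalso
      have h96' : g.val 96 = 1 := by
        rcases h96 with h | h
        · exact h
        · exact absurd (h1.trans h.symm) hne
      have hsq : ∀ m : ℕ, ((g ^ (2 * m) : ↥G275)).val 1 = 1 := by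
        intro m
        induction m with
        | zero => rfl
        | succ m ih =>
          have e : g ^ (2 * (m + 1)) = g * g * g ^ (2 * m) := by
            rw [show 2 * (m + 1) = 2 + 2 * m by ring, pow_add, pow_two]
          rw [e]
          show g.val (g.val ((g ^ (2 * m) : ↥G275).val 1)) = 1
          rw [ih, h1, h96']
      have e2 : g ^ (2 * k + 1) = g * g ^ (2 * k) := by rw [pow_succ']
      rw [e2] at hk
      have := congrArg (fun x : ↥G275 => x.val 1) hk
      have h5 : g.val ((g ^ (2 * k) : ↥G275).val 1) = 1 := this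
      rw [hsq k, h1] at h5
      exact absurd (congrArg Fin.val h5) (by decide)
  refine ⟨hgood, ?_⟩
  rcases h96 with h | h
  · exact absurd (hgood.trans h.symm) hne
  · exact h

/-- the explicit element of order three fixing the three points -/
def fE : ↥G275 := ⟨evalW FW, evalW_mem _ (letters4 f_chk.1)⟩

theorem acts_fE : Acts 275 fE.val FC := acts_evalW f_chk.1

theorem fE_mem_F3 : fE ∈ F3 :=
  mem_F3 fE (Fin.ext ((acts_fE 0).trans f_chk.2.1)) (Fin.ext ((acts_fE 1).trans f_chk.2.2.1))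
    (Fin.ext ((acts_fE 96).trans f_chk.2.2.2.1))

theorem fE_not_mem_N2 : fE ∉ N2 := by
  intro h
  have hmem : fE * xg 6 * fE⁻¹ ∈ S2 := (Subgroup.mem_normalizer_iff.1 h (xg 6)).1 (xg_mem 6 (by norm_num))
  obtain ⟨i, hi, hact⟩ := S2_acts _ hmem
  have hact2 : Acts 275 (fE * xg 6 * fE⁻¹ : ↥G275).val FXC := by
    rw [Subgroup.coe_mul, Subgroup.coe_mul, Subgroup.coe_inv]
    exact acts_conj acts_fE (acts_xg 6 (by norm_num)) f_chk.2.2.2.2.1
  have hchk := (allBelow_iff _ _).1 f_chk.2.2.2.2.2 i hi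
  rw [Bool.not_eq_true'] at hchk
  have : (allBelow 275 fun y => Nat.beq (tg (NC i) 9 y) (tg FXC 9 y)) = true := by
    rw [allBelow_iff]
    intro y hy
    have e := (hact ⟨y, hy⟩).symm.trans (hact2 ⟨y, hy⟩)
    have e' : tg (NC i) 9 y = tg FXC 9 y := e
    rw [e']
    exact Nat.beq_refl _
  rw [this] at hchk
  exact Bool.noConfusion hchk

end Cfsg.Agent.Helper29.McLF
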