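import Mathlib
import Cfsg.Agent.Lib.Helper29.McLFusA
import Cfsg.Agent.Lib.Helper29.McLCenD

set_option autoImplicit false

/-! The centralizer of an involution of the McLaughlin group on 275 points: kernel checks. -/

namespace Cfsg.Agent.Helper29.McLC

open Cfsg.Agent.Helper29.HSP (tg force force_eq allBelow allBelow_iff)
open Cfsg.Agent.Helper29.PN Cfsg.Agent.Helper29.McLD Cfsg.Agent.Helper29.McLM
open Cfsg.Agent.Helper29.McLX Cfsg.Agent.Helper29.McLCD

/-- the index of the involution in position `k` of the sorted order -/
def So (k : ℕ) : ℕ := tg SO 15 k
/-- the position of the involution `i` in the sorted order -/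
def Rk (i : ℕ) : ℕ := tg RK 15 i
/-- the codes increase along the sorted order -/
def sortOK (k : ℕ) : Bool := Nat.blt (Lc (So k)) (Lc (So (k + 1)))
/-- the position table is inverse to the order table -/
def rankOK (i : ℕ) : Bool := Nat.blt (Rk i) NL && Nat.beq (So (Rk i)) i

set_option maxRecDepth 100000 in
theorem sort_chk : allBelow 22274 sortOK = true := by decide +kernel

set_option maxRecDepth 100000 in
theorem rank_chk : allBelow 22275 rankOK = true := by decide +kernel

end Cfsg.Agent.Helper29.McLC
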