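import Mathlib
import Cfsg.Agent.Lib.Helper29.McLFusA
import Cfsg.Agent.Lib.Helper29.McLCenD

set_option autoImplicit false

/-! The centralizer of an involution of the McLaughlin group on 275 points: kernel checks. -/

namespace Cfsg.Agent.Helper29.McLC

open Cfsg.Agent.Helper29.HSP (tg force force_eq allBelow allBelow_iff)
open Cfsg.Agent.Helper29.PN Cfsg.Agent.Helper29.McLD Cfsg.Agent.Helper29.McLM
open Cfsg.Agent.Helper29.McLX Cfsg.Agent.Helper29.McLCD

/-- the code of the generator `l` -/
def cgc (l : ℕ) : ℕ := CGC.getD l 0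
/-- the word of the generator `l` -/
def cgw (l : ℕ) : List ℕ := CWL.getD l []

set_option maxRecDepth 100000 in
theorem cw_chk_0 : reprL 275 PC (cgc 0) (cgw 0) = true := by decide +kernel

set_option maxRecDepth 100000 in
theorem cw_chk_1 : reprL 275 PC (cgc 1) (cgw 1) = true := by decide +kernel

set_option maxRecDepth 100000 in
theorem cw_chk_2 : reprL 275 PC (cgc 2) (cgw 2) = true := by decide +kernel

set_option maxRecDepth 100000 in
theorem cw_chk_3 : reprL 275 PC (cgc 3) (cgw 3) = true := by decide +kernel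

set_option maxRecDepth 100000 in
theorem cw_chk_4 : reprL 275 PC (cgc 4) (cgw 4) = true := by decide +kernel

set_option maxRecDepth 100000 in
theorem cw_chk_5 : reprL 275 PC (cgc 5) (cgw 5) = true := by decide +kernel

theorem cw_chk : ∀ l < 6, reprL 275 PC (cgc l) (cgw l) = true := by
  intro l hl
  have h : l = 0 ∨ l = 1 ∨ l = 2 ∨ l = 3 ∨ l = 4 ∨ l = 5 := by omega
  rcases h with rfl | rfl | rfl | rfl | rfl | rfl
  · exact cw_chk_0
  · exact cw_chk_1
  · exact cw_chk_2
  · exact cw_chk_3
  · exact cw_chk_4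
  · exact cw_chk_5

set_option maxRecDepth 100000 in
theorem gq_chk : reprL 275 PC GQC GQW = true := by decide +kernel

/-- the code commutes with the root involution -/
def commT (c : ℕ) : Bool :=
  force (Lc 0) fun t => allBelow 275 fun y => Nat.beq (tg t 9 (tg c 9 y)) (tg c 9 (tg t 9 y))

set_option maxRecDepth 100000 in
theorem comm_chk : (∀ l < 6, commT (cgc l) = true) ∧ commT GQC = true := by decide +kernel

set_option maxRecDepth 100000 in
theorem gq_sq : ∀ y < 275, tg GQC 9 (tg GQC 9 y) = tg (Lc 0) 9 y := by decide +kernel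

/-- the word in the generators is the identity or the root involution -/
def relW (w : List ℕ) : Bool :=
  (allBelow 275 fun y => Nat.beq (appL CGC w y) y) ||
    force (Lc 0) fun t => allBelow 275 fun y => Nat.beq (appL CGC w y) (tg t 9 y)

set_option maxRecDepth 100000 in
theorem rel_chk : relW [0, 0, 0] = true ∧ (∀ i < 6, 1 ≤ i → relW [i, i] = true) ∧
    (∀ i < 6, ∀ j < 6, j = i + 1 → relW [i, j, i, j, i, j] = true) ∧
    (∀ i < 6, ∀ j < 6, i + 1 < j → relW [i, j, i, j] = true) := by decide +kernel

theorem c0_chk : tg (cgc 0) 9 Y1 ≠ Y1 ∧ tg (cgc 0) 9 Y2 ≠ tg (Lc 0) 9 Y2 := by decide +kernel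

end Cfsg.Agent.Helper29.McLC
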