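import Mathlib
import Cfsg.Prelude.Def_SporadicB
import Cfsg.Agent.Lib.Helper11.CarmichaelD

set_option autoImplicit false

/-! A criterion for a group of order 40320 to be a non-split double cover of the alternating group
of degree 8: a central involution, elements satisfying Carmichael's relations modulo it, and a
square root of it. -/

namespace Cfsg.Agent.Helper29.McLCG

open Cfsg.Agent.Helper11.Carmichael

variable {C : Type*} [Group C] [Finite C]

theorem card_alt8 : Nat.card (alternatingGroup (Fin 8)) = 20160 := by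
  have hnt : Nontrivial (Fin 8) := Fin.nontrivial_iff_two_le.mpr (by omega)
  have hA : 2 * Nat.card (alternatingGroup (Fin 8)) = (8 : ℕ).factorial := by
    rw [two_mul_nat_card_alternatingGroup, Nat.card_perm, Nat.card_eq_fintype_card,
      Fintype.card_fin]
  have : (8 : ℕ).factorial = 40320 := by decide
  omega

theorem nonsplit_of_data (t : C) (htc : ∀ x : C, t * x = x * t) (ht2 : t * t = 1) (ht1 : t ≠ 1)
    (hcard : Nat.card C = 40320) (c : Fin 6 → C)
    (hrel : ∀ r ∈ carRels 6, FreeGroup.lift c r = 1 ∨ FreeGroup.lift c r = t)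
    (hc0 : c 0 ≠ 1 ∧ c 0 ≠ t) (g : C) (hg : g * g = t) :
    Cfsg.IsNonsplitDoubleCover C (alternatingGroup (Fin 8)) := by
  have ho : orderOf t = 2 := orderOf_eq_prime (by rw [pow_two]; exact ht2) ht1
  have hZmem : ∀ z : C, z ∈ Subgroup.zpowers t ↔ z = 1 ∨ z = t := by
    intro z
    constructor
    · intro hz
      obtain ⟨k, rfl⟩ := Subgroup.mem_zpowers_iff.1 hz
      have h := zpow_mod_orderOf t k
      rw [ho] at h
      rw [← h]
      have h2 : k % ((2 : ℕ) : ℤ) = 0 ∨ k % ((2 : ℕ) : ℤ) = 1 := by
        have h3 := Int.emod_two_eq_zero_or_one k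
        simpa using h3
      rcases h2 with h2 | h2
      · left; rw [h2, zpow_zero]
      · right; rw [h2, zpow_one]
    · rintro (rfl | rfl)
      · exact Subgroup.one_mem _
      · exact Subgroup.mem_zpowers _
  have hZn : (Subgroup.zpowers t).Normal := by
    constructor
    intro n hn x
    rcases (hZmem n).1 hn with rfl | rfl
    · rw [mul_one, mul_inv_cancel]
      exact Subgroup.one_mem _
    · rw [← htc x, mul_assoc, mul_inv_cancel, mul_one]
      exact Subgroup.mem_zpowers _
  have hZcard : Nat.card (Subgroup.zpowers t) = 2 := by rw [Nat.card_zpowers, ho]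
  have hQcard : Nat.card (C ⧸ Subgroup.zpowers t) = 20160 := by
    have h := Subgroup.card_eq_card_quotient_mul_card_subgroup (Subgroup.zpowers t)
    rw [hcard, hZcard] at h
    omega
  -- the homomorphism from the presented group
  have hlift : ∀ r : FreeGroup (Fin 6),
      FreeGroup.lift (fun i => (QuotientGroup.mk (c i) : C ⧸ Subgroup.zpowers t)) r =
        (QuotientGroup.mk (FreeGroup.lift c r) : C ⧸ Subgroup.zpowers t) := by
    intro r
    have : FreeGroup.lift (fun i => (QuotientGroup.mk (c i) : C ⧸ Subgroup.zpowers t)) =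
        (QuotientGroup.mk' (Subgroup.zpowers t)).comp (FreeGroup.lift c) := by
      apply FreeGroup.ext_hom
      intro i
      simp
    rw [this]
    rfl
  have hrelQ : ∀ r ∈ carRels 6,
      FreeGroup.lift (fun i => (QuotientGroup.mk (c i) : C ⧸ Subgroup.zpowers t)) r = 1 := by
    intro r hr
    rw [hlift r, QuotientGroup.eq_one_iff, hZmem]
    exact hrel r hr
  let φ : PresentedGroup (carRels 6) →* C ⧸ Subgroup.zpowers t := PresentedGroup.toGroup hrelQ
  obtain ⟨e⟩ := carmichael 6
  let ψ : alternatingGroup (Fin 8) →* C ⧸ Subgroup.zpowers t := φ.comp e.symm.toMonoidHom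
  have hsimple : IsSimpleGroup (alternatingGroup (Fin 8)) :=
    alternatingGroup.isSimpleGroup (by simp)
  have hψinj : Function.Injective ψ := by
    rw [← MonoidHom.ker_eq_bot_iff]
    rcases (MonoidHom.normal_ker ψ).eq_bot_or_eq_top with h | h
    · exact h
    · exfalso
      have hm : e (PresentedGroup.of 0) ∈ ψ.ker := by rw [h]; exact Subgroup.mem_top _
      rw [MonoidHom.mem_ker] at hm
      have h1 : ψ (e (PresentedGroup.of 0)) = (QuotientGroup.mk (c 0) : C ⧸ Subgroup.zpowers t) := by
        show φ (e.symm (e (PresentedGroup.of 0))) = _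
        rw [MulEquiv.symm_apply_apply]
        exact PresentedGroup.toGroup.of hrelQ
      rw [h1, QuotientGroup.eq_one_iff, hZmem] at hm
      rcases hm with hm | hm
      · exact hc0.1 hm
      · exact hc0.2 hm
  have hψbij : Function.Bijective ψ := by
    apply Function.Injective.bijective_of_nat_card_le hψinj
    rw [hQcard, card_alt8]
  let eQ : (C ⧸ Subgroup.zpowers t) ≃* alternatingGroup (Fin 8) :=
    (MulEquiv.ofBijective ψ hψbij).symm
  -- the centre
  have hcenA : Subgroup.center (alternatingGroup (Fin 8)) = ⊥ :=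
    alternatingGroup.center_eq_bot (by simp)
  have hcen : Subgroup.center C = Subgroup.zpowers t := by
    apply le_antisymm
    · intro z hz
      rw [Subgroup.mem_center_iff] at hz
      have h1 : eQ (QuotientGroup.mk z) ∈ Subgroup.center (alternatingGroup (Fin 8)) := by
        rw [Subgroup.mem_center_iff]
        intro a
        obtain ⟨q, rfl⟩ := eQ.surjective a
        obtain ⟨x, rfl⟩ := QuotientGroup.mk_surjective q
        rw [← map_mul, ← map_mul, ← QuotientGroup.mk_mul, ← QuotientGroup.mk_mul, hz x]
      rw [hcenA, Subgroup.mem_bot] at h1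
      have h2 : (QuotientGroup.mk z : C ⧸ Subgroup.zpowers t) = 1 := by
        apply eQ.injective
        rw [h1, map_one]
      exact (QuotientGroup.eq_one_iff z).1 h2
    · rw [Subgroup.zpowers_le, Subgroup.mem_center_iff]
      intro x
      exact (htc x).symm
  refine ⟨by rw [hcen, hZcard], ?_, ?_⟩
  · exact ⟨(QuotientGroup.quotientMulEquivOfEq hcen).trans eQ⟩
  · intro L hL
    rw [hcen] at hL
    obtain ⟨⟨⟨z, hz⟩, ⟨l, hl⟩⟩, hzl, -⟩ := hL.existsUnique g
    have hzl' : z * l = g := hzl
    have hz2 : z * z = 1 := by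
      rcases (hZmem z).1 hz with rfl | rfl
      · rw [mul_one]
      · exact ht2
    have hzc : ∀ x : C, z * x = x * z := by
      intro x
      rcases (hZmem z).1 hz with rfl | rfl
      · rw [one_mul, mul_one]
      · exact htc x
    have ht_l : t = l * l := by
      rw [← hg, ← hzl']
      calc z * l * (z * l) = (z * l * z) * l := by group
        _ = (l * z * z) * l := by rw [hzc l]
        _ = l * (z * z) * l := by group
        _ = l * l := by rw [hz2, mul_one]
    have htL : t ∈ L := by
      rw [ht_l]
      exact L.mul_mem hl hl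
    have hdis := hL.disjoint
    have : t ∈ (⊥ : Subgroup C) := by
      rw [← disjoint_iff.1 hdis]
      exact ⟨Subgroup.mem_zpowers t, htL⟩
    exact ht1 (Subgroup.mem_bot.1 this)

/-- Carmichael's relations modulo `t`, from the relations for the generators written out -/
theorem rel_of_explicit {D : Type*} [Group D] (c : Fin 6 → D) (P : D → Prop)
    (h0 : ∀ i : Fin 6, i.val = 0 → P (([i, i, i].map c).prod))
    (h1 : ∀ i : Fin 6, 1 ≤ i.val → P (([i, i].map c).prod))
    (h2 : ∀ i j : Fin 6, j.val = i.val + 1 → P (([i, j, i, j, i, j].map c).prod))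
    (h3 : ∀ i j : Fin 6, i.val + 1 < j.val → P (([i, j, i, j].map c).prod)) :
    ∀ r ∈ carRels 6, P (FreeGroup.lift c r) := by
  rintro r (((⟨i, hi, rfl⟩ | ⟨i, hi, rfl⟩) | ⟨i, j, hij, rfl⟩) | ⟨i, j, hij, rfl⟩)
  · have h := h0 i hi
    simp only [List.map, List.prod_cons, List.prod_nil, mul_one] at h
    simpa only [map_pow, map_mul, FreeGroup.lift_apply_of, pow_succ, pow_zero, one_mul,
      mul_assoc] using h
  · have h := h1 i hi
    simp only [List.map, List.prod_cons, List.prod_nil, mul_one] at h
    simpa only [map_pow, map_mul, FreeGroup.lift_apply_of, pow_succ, pow_zero, one_mul,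
      mul_assoc] using h
  · have h := h2 i j hij
    simp only [List.map, List.prod_cons, List.prod_nil, mul_one] at h
    simpa only [map_pow, map_mul, FreeGroup.lift_apply_of, pow_succ, pow_zero, one_mul,
      mul_assoc] using h
  · have h := h3 i j hij
    simp only [List.map, List.prod_cons, List.prod_nil, mul_one] at h
    simpa only [map_pow, map_mul, FreeGroup.lift_apply_of, pow_succ, pow_zero, one_mul,
      mul_assoc] using h

/-- the criterion transported along an isomorphism -/
theorem nonsplit_of_equiv {C' : Type*} [Group C'] [Finite C'] (φ : C ≃* C') (t : C)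
    (htc : ∀ x : C, t * x = x * t) (ht2 : t * t = 1) (ht1 : t ≠ 1)
    (hcard : Nat.card C = 40320) (c : Fin 6 → C)
    (hrel : ∀ r ∈ carRels 6, FreeGroup.lift c r = 1 ∨ FreeGroup.lift c r = t)
    (hc0 : c 0 ≠ 1 ∧ c 0 ≠ t) (g : C) (hg : g * g = t) :
    Cfsg.IsNonsplitDoubleCover C' (alternatingGroup (Fin 8)) := by
  have hlift : ∀ r : FreeGroup (Fin 6),
      FreeGroup.lift (fun i => φ (c i)) r = φ (FreeGroup.lift c r) := by
    intro r
    have : FreeGroup.lift (fun i => φ (c i)) = φ.toMonoidHom.comp (FreeGroup.lift c) := by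
      apply FreeGroup.ext_hom
      intro i
      simp
    rw [this]
    rfl
  refine nonsplit_of_data (φ t) ?_ ?_ ?_ ?_ (fun i => φ (c i)) ?_ ?_ (φ g) ?_
  · intro x'
    obtain ⟨x, rfl⟩ := φ.surjective x'
    rw [← map_mul, ← map_mul, htc x]
  · rw [← map_mul, ht2, map_one]
  · intro h
    apply ht1
    apply φ.injective
    rw [h, map_one]
  · rw [← Nat.card_congr φ.toEquiv]
    exact hcard
  · intro r hr
    rw [hlift r]
    rcases hrel r hr with h | h
    · left; rw [h, map_one]
    · right; rw [h]
  · constructor
    · intro h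
      apply hc0.1
      apply φ.injective
      rw [h, map_one]
    · intro h
      exact hc0.2 (φ.injective h)
  · rw [← map_mul, hg]

/-- centralizers of elements correspond under isomorphisms -/
def centMap {X Y : Type*} [Group X] [Group Y] (e : X ≃* Y) (a : X) :
    Subgroup.centralizer ({a} : Set X) ≃* Subgroup.centralizer ({e a} : Set Y) where
  toFun x := ⟨e x.1, by
    rw [Subgroup.mem_centralizer_singleton_iff, ← map_mul, ← map_mul,
      Subgroup.mem_centralizer_singleton_iff.1 x.2]⟩
  invFun y := ⟨e.symm y.1, by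
    rw [Subgroup.mem_centralizer_singleton_iff]
    apply e.injective
    rw [map_mul, map_mul, e.apply_symm_apply]
    exact Subgroup.mem_centralizer_singleton_iff.1 y.2⟩
  left_inv x := Subtype.ext (e.symm_apply_apply x.1)
  right_inv y := Subtype.ext (e.apply_symm_apply y.1)
  map_mul' x y := Subtype.ext (map_mul e x.1 y.1)

end Cfsg.Agent.Helper29.McLCG
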