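import Mathlib
import Cfsg.Agent.Lib.Helper29.McLCenChkS
import Cfsg.Agent.Lib.Helper29.McLCenChkW
import Cfsg.Agent.Lib.Helper29.McLCenGen

set_option autoImplicit false
open Cfsg

/-! The centralizer of an involution of the McLaughlin group on 275 points is a non-split double
cover of the alternating group of degree eight. -/

namespace Cfsg.Agent.Helper29.McLC

open Cfsg.Agent.Helper29.HSP (tg force force_eq allBelow allBelow_iff)
open Cfsg.Agent.Helper29.PN Cfsg.Agent.Helper29.McLD Cfsg.Agent.Helper29.McLM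
open Cfsg.Agent.Helper29.McLT Cfsg.Agent.Helper29.McLX Cfsg.Agent.Helper29.McLCD
open Cfsg.Agent.Helper29.McLF Cfsg.Agent.Helper29.McLFD
open Cfsg.Agent.Helper11.Carmichael

/-! ### Codes are determined by their entries -/

theorem tg_testBit (T b y r : ℕ) (hr : r < b) :
    (tg T b y).testBit r = T.testBit (b * y + r) := by
  unfold tg
  show ((T >>> (b * y)) &&& (2 ^ b - 1)).testBit r = _
  rw [Nat.testBit_and, Nat.testBit_shiftRight, Nat.testBit_two_pow_sub_one, decide_eq_true hr,
    Bool.and_true]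

theorem code_ext (n a b : ℕ) (ha : a < 2 ^ (9 * n)) (hb : b < 2 ^ (9 * n))
    (h : ∀ y < n, tg a 9 y = tg b 9 y) : a = b := by
  apply Nat.eq_of_testBit_eq
  intro k
  by_cases hk : k < 9 * n
  · have h1 := tg_testBit a 9 (k / 9) (k % 9) (Nat.mod_lt _ (by norm_num))
    have h2 := tg_testBit b 9 (k / 9) (k % 9) (Nat.mod_lt _ (by norm_num))
    rw [Nat.div_add_mod] at h1 h2
    rw [← h1, ← h2, h (k / 9) (by omega)]
  · have hk' : 2 ^ (9 * n) ≤ 2 ^ k := Nat.pow_le_pow_right (by norm_num) (by omega)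
    rw [Nat.testBit_lt_two_pow (lt_of_lt_of_le ha hk'),
      Nat.testBit_lt_two_pow (lt_of_lt_of_le hb hk')]

theorem Lc_lt (i : ℕ) : Lc i < 2 ^ (9 * 275) := by
  unfold Lc tg
  show (Nat.shiftRight (irow i) (2475 * (i % 75))) &&& (2 ^ 2475 - 1) < 2 ^ 2475
  exact lt_of_le_of_lt Nat.and_le_right (Nat.sub_lt (Nat.two_pow_pos _) Nat.one_pos)

/-! ### The codes of the involutions are distinct -/

theorem sort_step (k : ℕ) (hk : k < 22274) : Lc (So k) < Lc (So (k + 1)) := by
  have h := (allBelow_iff _ _).1 sort_chk k hk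
  exact Eq.mp Nat.blt_eq h

theorem sort_strict (a b : ℕ) (hab : a < b) (hb : b < 22275) : Lc (So a) < Lc (So b) := by
  induction b with
  | zero => omega
  | succ b ih =>
    rcases Nat.lt_succ_iff_lt_or_eq.1 hab with h | h
    · exact lt_trans (ih h (by omega)) (sort_step b (by omega))
    · rw [h]; exact sort_step b (by omega)

theorem rank_spec (i : ℕ) (hi : i < 22275) : Rk i < 22275 ∧ So (Rk i) = i := by
  have h := (allBelow_iff _ _).1 rank_chk i hi
  unfold rankOK at h
  rw [Bool.and_eq_true] at h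
  exact ⟨Eq.mp Nat.blt_eq h.1, Nat.eq_of_beq_eq_true h.2⟩

theorem Lc_inj (i j : ℕ) (hi : i < NL) (hj : j < NL) (h : Lc i = Lc j) : i = j := by
  obtain ⟨hri, hsi⟩ := rank_spec i hi
  obtain ⟨hrj, hsj⟩ := rank_spec j hj
  by_contra hne
  have hr : Rk i ≠ Rk j := by
    intro e
    apply hne
    rw [← hsi, ← hsj, e]
  rcases Nat.lt_or_gt_of_ne hr with hlt | hlt
  · have := sort_strict _ _ hlt hrj
    rw [hsi, hsj, h] at this
    exact lt_irrefl _ this
  · have := sort_strict _ _ hlt hri
    rw [hsi, hsj, h] at this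
    exact lt_irrefl _ this

/-! ### The class of the root involution -/

/-- the group -/
abbrev Gm : Type := ↥G275

theorem tE_sq : tE * tE = 1 := xg_sq 0 (by norm_num)

theorem tE_ne : tE ≠ 1 := xg_ne_one 0 (by norm_num)

theorem conj_tE (g : Gm) : (g * tE * g⁻¹) * (g * tE * g⁻¹) = 1 ∧ g * tE * g⁻¹ ≠ 1 := by
  constructor
  · calc g * tE * g⁻¹ * (g * tE * g⁻¹) = g * (tE * tE) * g⁻¹ := by group
      _ = 1 := by rw [tE_sq, mul_one, mul_inv_cancel]
  · intro h
    apply tE_ne
    have e : tE = g⁻¹ * (g * tE * g⁻¹) * g := by group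
    rw [e, h, mul_one, inv_mul_cancel]

theorem mem_orbit_tE (s : Gm) :
    s ∈ MulAction.orbit (ConjAct Gm) tE ↔ ∃ g : Gm, g * tE * g⁻¹ = s := by
  rw [MulAction.mem_orbit_iff]
  constructor
  · rintro ⟨g, hg⟩
    exact ⟨ConjAct.ofConjAct g, by rw [← hg, ConjAct.smul_def]⟩
  · rintro ⟨g, hg⟩
    exact ⟨ConjAct.toConjAct g, by rw [ConjAct.smul_def, ConjAct.ofConjAct_toConjAct, hg]⟩

theorem orbit_inL (s : MulAction.orbit (ConjAct Gm) tE) :
    ∃ i : Fin NL, Acts 275 s.val.val (Lc i.val) := by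
  obtain ⟨g, hg⟩ := (mem_orbit_tE s.val).1 s.2
  have h := conj_tE g
  rw [hg] at h
  obtain ⟨i, hi, hact⟩ := inL_of_invol s.val h.1 h.2
  exact ⟨⟨i, hi⟩, hact⟩

/-- the index of a conjugate of the root involution -/
noncomputable def idx (s : MulAction.orbit (ConjAct Gm) tE) : Fin NL :=
  Classical.choose (orbit_inL s)

theorem idx_spec (s : MulAction.orbit (ConjAct Gm) tE) :
    Acts 275 s.val.val (Lc (idx s).val) := Classical.choose_spec (orbit_inL s)

theorem idx_bij : Function.Bijective idx := by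
  constructor
  · intro s s' h
    have h1 := idx_spec s
    have h2 := idx_spec s'
    rw [h] at h1
    exact Subtype.ext (Subtype.ext (eq_of_acts h1 h2))
  · intro i
    obtain ⟨g, hg⟩ := conj_root (tpos i.val) i.val i.2 rfl
    refine ⟨⟨g * tE * g⁻¹, (mem_orbit_tE _).2 ⟨g, rfl⟩⟩, ?_⟩
    have h1 := idx_spec ⟨g * tE * g⁻¹, (mem_orbit_tE _).2 ⟨g, rfl⟩⟩
    apply Fin.ext
    apply Lc_inj _ _ (idx _).2 i.2
    apply code_ext 275 _ _ (Lc_lt _) (Lc_lt _)
    intro y hy
    have e1 := h1 ⟨y, hy⟩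
    have e2 := hg ⟨y, hy⟩
    exact e1.symm.trans e2

theorem card_orbit : Nat.card (MulAction.orbit (ConjAct Gm) tE) = 22275 := by
  rw [Nat.card_eq_of_bijective idx idx_bij, Nat.card_eq_fintype_card, Fintype.card_fin]
  rfl

/-- the centralizer of the root involution -/
abbrev Ct : Subgroup Gm := Subgroup.centralizer ({tE} : Set Gm)

theorem card_Ct : Nat.card ↥Ct = 40320 := by
  rw [Subgroup.nat_card_centralizer_nat_card_stabilizer]
  have h1 := Subgroup.card_eq_card_quotient_mul_card_subgroup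
    (MulAction.stabilizer (ConjAct Gm) tE)
  have h2 := Nat.card_congr (MulAction.orbitEquivQuotientStabilizer (ConjAct Gm) tE)
  rw [← h2, card_orbit] at h1
  have h3 : Nat.card (ConjAct Gm) = 898128000 := by
    rw [← Nat.card_congr (ConjAct.toConjAct (G := Gm)).toEquiv]
    exact card_G275
  omega

/-! ### The generators -/

/-- the permutations of the generators -/
def cp (l : ℕ) : Pm := evalW (cgw l)

theorem acts_cp (l : ℕ) (hl : l < 6) : Acts 275 (cp l) (cgc l) := acts_evalW (cw_chk l hl)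

theorem cp_mem (l : ℕ) (hl : l < 6) : cp l ∈ G275 := evalW_mem _ (letters4 (cw_chk l hl))

theorem comm_of_codes {t g : Pm} {T c : ℕ} (ht : Acts 275 t T) (hg : Acts 275 g c)
    (h : ∀ y < 275, tg T 9 (tg c 9 y) = tg c 9 (tg T 9 y)) : g * t = t * g := by
  apply Equiv.ext
  intro u
  apply Fin.ext
  show (g (t u)).val = (t (g u)).val
  rw [hg (t u), ht u, ht (g u), hg u]
  exact (h u.val u.2).symm

theorem comm_of_commT {g : Pm} {c : ℕ} (hg : Acts 275 g c) (h : commT c = true) :
    g * tE.val = tE.val * g := by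
  unfold commT at h
  rw [force_eq, allBelow_iff] at h
  exact comm_of_codes acts_tE hg fun y hy => Nat.eq_of_beq_eq_true (h y hy)

theorem sq_of_codes {t g : Pm} {T c : ℕ} (ht : Acts 275 t T) (hg : Acts 275 g c)
    (h : ∀ y < 275, tg c 9 (tg c 9 y) = tg T 9 y) : g * g = t := by
  apply Equiv.ext
  intro u
  apply Fin.ext
  show (g (g u)).val = (t u).val
  rw [hg (g u), hg u, ht u]
  exact h u.val u.2

/-- the generators in the group -/
def cg (l : Fin 6) : Gm := ⟨cp l.val, cp_mem l.val l.2⟩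

theorem cg_mem (l : Fin 6) : cg l ∈ Ct := by
  rw [Subgroup.mem_centralizer_singleton_iff]
  apply Subtype.ext
  exact comm_of_commT (acts_cp l.val l.2) (comm_chk.1 l.val l.2)

/-- the generators in the centralizer -/
def cC (l : Fin 6) : ↥Ct := ⟨cg l, cg_mem l⟩

/-- the root involution in its centralizer -/
def tC : ↥Ct := ⟨tE, by rw [Subgroup.mem_centralizer_singleton_iff]⟩

/-- the square root of the root involution -/
def gq : Gm := ⟨evalW GQW, evalW_mem _ (letters4 gq_chk)⟩

theorem acts_gq : Acts 275 gq.val GQC := acts_evalW gq_chk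

theorem gq_mem : gq ∈ Ct := by
  rw [Subgroup.mem_centralizer_singleton_iff]
  apply Subtype.ext
  exact comm_of_commT acts_gq comm_chk.2

/-- the square root in the centralizer -/
def gC : ↥Ct := ⟨gq, gq_mem⟩

theorem eq_of_val {x y : ↥Ct} (h : x.val.val = y.val.val) : x = y :=
  Subtype.ext (Subtype.ext h)

theorem gC_sq : gC * gC = tC := by
  apply eq_of_val
  exact sq_of_codes acts_tE acts_gq gq_sq

theorem CGC_length : CGC.length = 6 := by decide

theorem word_cases (w : List ℕ) (hw : ∀ l ∈ w, l < 6) (h : relW w = true) :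
    (w.map cp).prod = 1 ∨ (w.map cp).prod = tE.val := by
  have hge : ∀ l < CGC.length, Acts 275 (cp l) (CGC.getD l 0) := by
    intro l hl
    rw [CGC_length] at hl
    exact acts_cp l hl
  have hw' : ∀ l ∈ w, l < CGC.length := by
    rw [CGC_length]
    exact hw
  unfold relW at h
  rw [Bool.or_eq_true, force_eq, allBelow_iff, allBelow_iff] at h
  rcases h with h | h
  · left
    apply Equiv.ext
    intro u
    apply Fin.ext
    rw [prod_apply CGC cp hge w hw' u]
    exact Nat.eq_of_beq_eq_true (h u.val u.2)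
  · right
    apply Equiv.ext
    intro u
    apply Fin.ext
    rw [prod_apply CGC cp hge w hw' u, acts_tE u]
    exact Nat.eq_of_beq_eq_true (h u.val u.2)

theorem prod_val (w : List (Fin 6)) :
    ((w.map cC).prod).val.val = ((w.map fun i => i.val).map cp).prod := by
  induction w with
  | nil => rfl
  | cons a t ih =>
    rw [List.map_cons, List.prod_cons, List.map_cons, List.map_cons, List.prod_cons, ← ih]
    rfl

theorem word_rel (w : List (Fin 6)) (h : relW (w.map fun i => i.val) = true) :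
    (w.map cC).prod = 1 ∨ (w.map cC).prod = tC := by
  have hw : ∀ l ∈ w.map (fun i : Fin 6 => i.val), l < 6 := by
    intro l hl
    obtain ⟨i, _, rfl⟩ := List.mem_map.1 hl
    exact i.2
  rcases word_cases _ hw h with e | e
  · left
    apply eq_of_val
    rw [prod_val, e]
    rfl
  · right
    apply eq_of_val
    rw [prod_val, e]
    rfl

theorem hrel : ∀ r ∈ carRels 6, FreeGroup.lift cC r = 1 ∨ FreeGroup.lift cC r = tC := by
  obtain ⟨r0, r1, r2, r3⟩ := rel_chk
  apply McLCG.rel_of_explicit cC (fun x => x = 1 ∨ x = tC)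
  · intro i hi
    apply word_rel
    show relW [i.val, i.val, i.val] = true
    rw [hi]
    exact r0
  · intro i hi
    apply word_rel
    exact r1 i.val i.2 hi
  · intro i j hij
    apply word_rel
    exact r2 i.val i.2 j.val j.2 hij
  · intro i j hij
    apply word_rel
    exact r3 i.val i.2 j.val j.2 hij

theorem tC_central (x : ↥Ct) : tC * x = x * tC := by
  apply Subtype.ext
  exact (Subgroup.mem_centralizer_singleton_iff.1 x.2).symm

theorem tC_sq : tC * tC = 1 := Subtype.ext tE_sq

theorem tC_ne : tC ≠ 1 := by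
  intro h
  exact tE_ne (congrArg Subtype.val h)

theorem cC0_ne : cC 0 ≠ 1 ∧ cC 0 ≠ tC := by
  have hY1 : Y1 < 275 := by decide
  have hY2 : Y2 < 275 := by decide
  have ha : Acts 275 (cC 0).val.val (cgc 0) := acts_cp 0 (by norm_num)
  constructor
  · intro h
    have h1 := ha ⟨Y1, hY1⟩
    rw [h] at h1
    exact c0_chk.1 h1.symm
  · intro h
    have h1 := ha ⟨Y2, hY2⟩
    rw [h] at h1
    have h2 : ((tC.val.val : Pm) ⟨Y2, hY2⟩).val = tg (Lc 0) 9 Y2 := acts_tE ⟨Y2, hY2⟩
    exact c0_chk.2 (h1.symm.trans h2)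

end Cfsg.Agent.Helper29.McLC
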