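import Mathlib
import Cfsg.Agent.Lib.Helper29.McLFusA

set_option autoImplicit false
open Cfsg

/-! The 2-fusion system of the McLaughlin group is simple. -/

namespace Cfsg.Agent.Helper29.McLF

open Cfsg.Agent.Helper29.HSP (tg force force_eq allBelow allBelow_iff)
open Cfsg.Agent.Helper29.PN Cfsg.Agent.Helper29.McLD Cfsg.Agent.Helper29.McLM
open Cfsg.Agent.Helper29.McLXD Cfsg.Agent.Helper29.McLT Cfsg.Agent.Helper29.McLX
open Cfsg.Agent.Helper29.McLFD Cfsg.Agent.Helper29.DedCheck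
open Cfsg.Agent.Helper25.SimpCrit

theorem S2_le_N2 : S2 ≤ N2 := Subgroup.le_normalizer

/-- the action of the Sylow subgroup on the points -/
theorem card_stab_dvd : ∃ Q : Subgroup ↥G275, Q ≤ S2 ⊓ F3 ∧ 64 ∣ Nat.card ↥Q := by
  -- the stabilizer of the point `1` in the Sylow subgroup
  let K : Subgroup ↥S2 := MulAction.stabilizer ↥S2 (1 : Fin 275)
  have hos : Nat.card ↥(MulAction.orbit ↥S2 (1 : Fin 275)) *
      Nat.card ↥(MulAction.stabilizer ↥S2 (1 : Fin 275)) = Nat.card ↥S2 := by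
    rw [← Nat.card_prod, Nat.card_congr (MulAction.orbitProdStabilizerEquivGroup ↥S2 (1 : Fin 275))]
  rw [card_S2] at hos
  have horb : Nat.card ↥(MulAction.orbit ↥S2 (1 : Fin 275)) ≤ 2 := by
    have hsub : MulAction.orbit ↥S2 (1 : Fin 275) ⊆ ({1, 96} : Set (Fin 275)) := by
      rintro _ ⟨s, rfl⟩
      have := (S2_pres s.val s.2).1
      rcases this with h | h
      · left; exact h
      · right; exact h
    have h2 : ({1, 96} : Set (Fin 275)).ncard ≤ 2 := by
      rw [Set.ncard_pair (by decide)]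
    rw [Nat.card_coe_set_eq]
    exact (Set.ncard_le_ncard hsub (Set.toFinite _)).trans h2
  have hK : 64 ∣ Nat.card ↥K := by
    have hpos : 0 < Nat.card ↥(MulAction.orbit ↥S2 (1 : Fin 275)) := by
      have : Nonempty ↥(MulAction.orbit ↥S2 (1 : Fin 275)) := ⟨⟨1, MulAction.mem_orbit_self _⟩⟩
      exact Nat.card_pos
    have hle : Nat.card ↥(MulAction.orbit ↥S2 (1 : Fin 275)) = 1 ∨
        Nat.card ↥(MulAction.orbit ↥S2 (1 : Fin 275)) = 2 := by omega
    rcases hle with h | h
    · rw [h, one_mul] at hos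
      show 64 ∣ Nat.card ↥(MulAction.stabilizer ↥S2 (1 : Fin 275))
      rw [hos]
      norm_num
    · rw [h] at hos
      have : Nat.card ↥(MulAction.stabilizer ↥S2 (1 : Fin 275)) = 64 := by omega
      show 64 ∣ Nat.card ↥(MulAction.stabilizer ↥S2 (1 : Fin 275))
      rw [this]
  refine ⟨K.map S2.subtype, ?_, ?_⟩
  · rintro _ ⟨s, hs, rfl⟩
    refine ⟨s.2, ?_⟩
    have h1 : s.val.val 1 = 1 := hs
    have h96 : s.val.val 96 = 96 := by
      rcases (S2_pres s.val s.2).2 with h | h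
      · exfalso
        have := s.val.val.injective (h.trans h1.symm)
        exact absurd (congrArg Fin.val this) (by decide)
      · exact h
    exact mem_F3 s.val (S2_fix0 s.val s.2) h1 h96
  · rw [Subgroup.card_map_of_injective S2.subtype_injective]
    exact hK

/-- the Sylow subgroup is its own normalizer -/
theorem N2_le_S2 : N2 ≤ S2 := by
  by_contra hne
  -- the index is odd and not one: a prime divisor
  have hcardN : Nat.card ↥S2 ∣ Nat.card ↥N2 := Subgroup.card_dvd_of_le S2_le_N2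
  obtain ⟨m, hm⟩ := hcardN
  rw [card_S2] at hm
  have hNG : Nat.card ↥N2 ∣ 898128000 := by
    rw [← card_G275]
    exact Subgroup.card_subgroup_dvd_card N2
  have hm1 : m ≠ 1 := by
    intro h1
    apply hne
    rw [h1, mul_one] at hm
    have : N2 = S2 := by
      symm
      apply Subgroup.eq_of_le_of_card_ge S2_le_N2
      rw [hm, card_S2]
    rw [this]
  have hmodd : ¬ 2 ∣ m := by
    intro h2
    obtain ⟨r, rfl⟩ := h2
    rw [hm] at hNG
    have : (256 : ℕ) ∣ 898128000 := Dvd.dvd.trans ⟨r, by ring⟩ hNG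
    norm_num at this
  obtain ⟨p, hp, hpm⟩ := Nat.exists_prime_and_dvd hm1
  have hp2 : p ≠ 2 := fun h => hmodd (h ▸ hpm)
  have hpN : p ∣ Nat.card ↥N2 := by
    rw [hm]
    exact Dvd.dvd.mul_left hpm 128
  have : Fact p.Prime := ⟨hp⟩
  obtain ⟨g, hg⟩ := exists_prime_orderOf_dvd_card' p hpN
  have hg' : orderOf (g : ↥G275) = p := by rw [Subgroup.orderOf_coe]; exact hg
  have hodd : ∃ k, p = 2 * k + 1 := by
    rcases Nat.Prime.eq_two_or_odd hp with h | h
    · exact absurd h hp2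
    · exact ⟨p / 2, by omega⟩
  obtain ⟨k, hk⟩ := hodd
  have hpow : (g : ↥G275) ^ (2 * k + 1) = 1 := by
    rw [← hk, ← hg']
    exact pow_orderOf_eq_one _
  obtain ⟨f1, f96⟩ := N2_odd_fix g.2 k hpow
  have hgF : (g : ↥G275) ∈ F3 := mem_F3 _ (N2_fix0 g.2) f1 f96
  -- the order is three
  have hp3 : p = 3 := by
    have hd : p ∣ 192 := by
      rw [← card_F3, ← hg']
      have := orderOf_dvd_natCard (⟨(g : ↥G275), hgF⟩ : ↥F3)
      rwa [Subgroup.orderOf_mk] at this
    have h192 : (192 : ℕ) = 2 ^ 6 * 3 := by norm_num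
    rw [h192] at hd
    rcases (Nat.Prime.dvd_mul hp).1 hd with h | h
    · exact absurd ((Nat.prime_dvd_prime_iff_eq hp Nat.prime_two).1 (hp.dvd_of_dvd_pow h)) hp2
    · exact (Nat.prime_dvd_prime_iff_eq hp Nat.prime_three).1 h
  -- the intersection of the normalizer with the stabilizer is the whole stabilizer
  obtain ⟨Q, hQle, hQ64⟩ := card_stab_dvd
  have hQM : Q ≤ N2 ⊓ F3 := fun x hx => ⟨S2_le_N2 (hQle hx).1, (hQle hx).2⟩
  have h64 : 64 ∣ Nat.card ↥(N2 ⊓ F3 : Subgroup ↥G275) := hQ64.trans (Subgroup.card_dvd_of_le hQM)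
  have h3 : 3 ∣ Nat.card ↥(N2 ⊓ F3 : Subgroup ↥G275) := by
    have hmem : (g : ↥G275) ∈ N2 ⊓ F3 := ⟨g.2, hgF⟩
    have := orderOf_dvd_natCard (⟨(g : ↥G275), hmem⟩ : ↥(N2 ⊓ F3 : Subgroup ↥G275))
    rwa [Subgroup.orderOf_mk, hg', hp3] at this
  have h192 : 192 ∣ Nat.card ↥(N2 ⊓ F3 : Subgroup ↥G275) := by
    have hco : Nat.Coprime 64 3 := by norm_num
    have := hco.mul_dvd_of_dvd_of_dvd h64 h3
    norm_num at this
    exact this
  have hMF : N2 ⊓ F3 = F3 := by
    apply Subgroup.eq_of_le_of_card_ge inf_le_right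
    rw [card_F3]
    exact Nat.le_of_dvd Nat.card_pos h192
  have : fE ∈ N2 ⊓ F3 := by rw [hMF]; exact fE_mem_F3
  exact fE_not_mem_N2 this.1

theorem autGen_S2 : AutGen 2 S2 := by
  intro x hx
  apply Subgroup.subset_closure
  left
  exact N2_le_S2 hx

/-! ### The fusion system -/

theorem card_S2' : Nat.card S2 = 2 ^ (Nat.card ↥G275).factorization 2 := by
  rw [card_S2, card_G275]
  have h : (898128000 : ℕ) = 2 ^ 7 * 7016625 := by norm_num
  have h2 : (898128000 : ℕ).factorization 2 = 7 := by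
    rw [h, Nat.factorization_mul (by norm_num) (by norm_num), Nat.Prime.factorization_pow
      Nat.prime_two]
    have : (7016625 : ℕ).factorization 2 = 0 := Nat.factorization_eq_zero_of_not_dvd (by norm_num)
    simp [this]
  rw [h2]
  norm_num

theorem S2_ne_bot : S2 ≠ ⊥ := by
  intro h
  have := card_S2
  rw [h, Subgroup.card_bot] at this
  omega

/-- **The 2-fusion system of any group isomorphic to the McLaughlin group is simple.** -/
theorem fusion_simple {Γ : Type*} [Group Γ] [Finite Γ] (e : Γ ≃* ↥Spor.McL) (S : Sylow 2 Γ) :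
    (groupFusionSystem (S : Subgroup Γ)).IsSimple 2 := by
  have : Fact (Nat.Prime 2) := ⟨Nat.prime_two⟩
  obtain ⟨e0⟩ := iso_McL
  let e' : ↥G275 ≃* Γ := e0.trans e.symm
  let P : Sylow 2 ↥G275 := Sylow.ofCard S2 card_S2'
  have hP : (P : Subgroup ↥G275) = S2 := Sylow.coe_ofCard _ _
  have hsurj : Function.Surjective e'.toMonoidHom := e'.surjective
  let P2 : Sylow 2 Γ := P.mapSurjective hsurj
  have hP2 : (P2 : Subgroup Γ) = S2.map e'.toMonoidHom := by
    show (P : Subgroup ↥G275).map e'.toMonoidHom = _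
    rw [hP]
  apply isSimple_of_data 2 P2
  · rw [hP2]
    intro h
    exact S2_ne_bot ((Subgroup.map_eq_bot_iff_of_injective _ e'.injective).mp h)
  · rw [hP2]; exact NoClosed.map e' noClosed_S2
  · rw [hP2]; exact AutGen.map e' autGen_S2

end Cfsg.Agent.Helper29.McLF
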