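import Mathlib
import Cfsg.Agent.Lib.Helper29.McLOutB

set_option autoImplicit false
open Cfsg

/-! The outer automorphism group of the McLaughlin group has order two. -/

namespace Cfsg.Agent.Helper29.McLX

open Cfsg.Agent.Helper29.HSP (tg force force_eq allBelow allBelow_iff)
open Cfsg.Agent.Helper29.PN Cfsg.Agent.Helper29.McLD Cfsg.Agent.Helper29.McLM
open Cfsg.Agent.Helper29.McLXD Cfsg.Agent.Helper29.McLT Cfsg.Agent.Helper29.DedCheck
open Cfsg.Agent.Helper29.HSXG Cfsg.Agent.Helper29.McLXG Cfsg.Agent.Helper26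

/-! ### The outer automorphism is not inner -/

theorem fix_of_comm (c h : Pm) (p : Fin 275) (hc : c * h = h * c) (hp : h p = p) :
    h (c p) = c p := by
  have h2 : (c * h) p = (h * c) p := by rw [hc]
  rw [Equiv.Perm.mul_apply, Equiv.Perm.mul_apply, hp] at h2
  exact h2.symm

theorem fix_of_comm_trans (c g : Pm) (p u : Fin 275) (hc : c * g = g * c) (hg : g p = u)
    (hcp : c p = p) : c u = u := by
  have h2 : (c * g) p = (g * c) p := by rw [hc]
  rw [Equiv.Perm.mul_apply, Equiv.Perm.mul_apply, hg, hcp, hg] at h2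
  exact h2

/-- a permutation commuting with the whole group is trivial -/
theorem centralizer_trivial (c : Pm) (hc : ∀ h : ↥G275, c * h.val = h.val * c) : c = 1 := by
  have hcp : c 0 = 0 := by
    apply Fin.ext
    apply fix_chk.2 _ (c 0).2
    intro k hk
    have hfix : (xg k).val 0 = 0 := by
      apply Fin.ext
      rw [acts_xg k hk]
      exact fix_chk.1 k hk
    have h1 : (xg k).val (c 0) = c 0 := fix_of_comm c (xg k).val 0 (hc (xg k)) hfix
    have h2 := acts_xg k hk (c 0)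
    rw [h1] at h2
    exact h2.symm
  apply Equiv.ext
  intro u
  obtain ⟨hw, hq, _⟩ := tw_chk 0 (by norm_num) u.val u.2 (om0_chk u.val u.2)
  have hgu : (evalW (TW 0 u.val)) 0 = u := by
    apply Fin.ext
    rw [evalW_apply _ hw]
    exact hq
  exact fix_of_comm_trans c (evalW (TW 0 u.val)) 0 u (hc ⟨evalW (TW 0 u.val), evalW_mem _ hw⟩)
    hgu hcp

theorem pi0_not_mem : pi0 ∉ G275 := by
  intro hmem
  have h2 : (⟨pi0, hmem⟩ : ↥G275) * ⟨pi0, hmem⟩ = 1 := Subtype.ext pi0_sq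
  have h1 : (⟨pi0, hmem⟩ : ↥G275) ≠ 1 := fun h => pi0_ne_one (congrArg Subtype.val h)
  obtain ⟨i, hi, hact⟩ := inL_of_invol ⟨pi0, hmem⟩ h2 h1
  have hf := notpi_chk i hi
  unfold notPi at hf
  rw [force_eq, Bool.not_eq_true'] at hf
  have : (allBelow 275 fun y => Nat.beq (tg (Lc i) 9 y) (tg PC0 9 y)) = true := by
    rw [allBelow_iff]
    intro y hy
    have e1 := hact ⟨y, hy⟩
    have e2 := acts_pi0 ⟨y, hy⟩
    have e3 : tg (Lc i) 9 y = tg PC0 9 y := e1.symm.trans e2
    rw [e3]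
    exact Nat.beq_refl _
  rw [this] at hf
  exact Bool.noConfusion hf

theorem tau0_not_inner : ¬ ∃ g : ↥G275, tau0 = MulAut.conj g := by
  rintro ⟨g, hg⟩
  obtain ⟨c, hcdef⟩ : ∃ c : Pm, c = g.val⁻¹ * pi0 := ⟨_, rfl⟩
  have hc : ∀ h : ↥G275, c * h.val = h.val * c := by
    intro h
    have e := congrArg Subtype.val (DFunLike.congr_fun hg h)
    rw [tau0_val, MulAut.conj_apply, Subgroup.coe_mul, Subgroup.coe_mul, Subgroup.coe_inv] at e
    have e2 : pi0 * h.val = g.val * h.val * g.val⁻¹ * pi0 := by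
      rw [← e, mul_assoc _ pi0 pi0, pi0_sq, mul_one]
    rw [hcdef]
    calc g.val⁻¹ * pi0 * h.val = g.val⁻¹ * (pi0 * h.val) := by group
      _ = g.val⁻¹ * (g.val * h.val * g.val⁻¹ * pi0) := by rw [e2]
      _ = h.val * (g.val⁻¹ * pi0) := by group
  have hc1 : c = 1 := centralizer_trivial c hc
  have hpg : pi0 = g.val := by
    have : g.val * c = pi0 := by rw [hcdef]; group
    rw [← this, hc1, mul_one]
  apply pi0_not_mem
  rw [hpg]
  exact g.2

/-! ### Every automorphism is inner or inner times the outer automorphism -/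

theorem aut_cases (φ : MulAut ↥G275) :
    (∃ g : ↥G275, φ = MulAut.conj g) ∨ ∃ g : ↥G275, φ * tau0⁻¹ = MulAut.conj g := by
  obtain ⟨g1, hx⟩ := stepA φ
  obtain ⟨ψ, hψ⟩ : ∃ ψ : MulAut ↥G275, ψ = MulAut.conj g1 * φ := ⟨_, rfl⟩
  rw [← hψ] at hx
  rcases hx with hx | hx
  swap
  · exact (no_inverting ψ hx).elim
  have hφ : φ = MulAut.conj g1⁻¹ * ψ := by
    rw [hψ, map_inv]
    group
  obtain ⟨k, hk, hact⟩ := image_index ψ hx
  rcases Nat.lt_or_ge k 11 with h7 | h7
  · left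
    have hy : ψ yE = xE ^ k * yE * (xE ^ k)⁻¹ := Subtype.ext (eq_of_acts hact (acts_EA k h7))
    have hψ2 : ψ = MulAut.conj (xE ^ k) := by
      apply aut_ext
      · rw [hx, MulAut.conj_apply]
        group
      · rw [hy, MulAut.conj_apply]
    exact ⟨g1⁻¹ * xE ^ k, by rw [hφ, hψ2, map_mul]⟩
  · right
    obtain ⟨j, rfl⟩ : ∃ j, k = 11 + j := ⟨k - 11, by omega⟩
    have hj : j < 11 := by omega
    have hy : ψ yE = xE ^ j * tau0 yE * (xE ^ j)⁻¹ :=
      Subtype.ext (eq_of_acts hact (acts_EB j hj))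
    have hψ2 : ψ = MulAut.conj (xE ^ j) * tau0 := by
      apply aut_ext
      · rw [hx, MulAut.mul_apply, tau0_xE, MulAut.conj_apply]
        group
      · rw [hy, MulAut.mul_apply, MulAut.conj_apply]
    refine ⟨g1⁻¹ * xE ^ j, ?_⟩
    rw [hφ, hψ2, map_mul]
    group

theorem card_Out_G275 : Nat.card (Cfsg.Out ↥G275) = 2 := by
  apply AutOuter.card_Out_eq_two tau0⁻¹
  · rintro ⟨g, hg⟩
    apply tau0_not_inner
    refine ⟨g⁻¹, ?_⟩
    rw [map_inv, ← hg, inv_inv]
  · exact aut_cases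

/-! ### Transport to the McLaughlin group -/

theorem card_Out_congr_McL {Γ Δ : Type*} [Group Γ] [Group Δ] (e : Γ ≃* Δ) :
    Nat.card (Cfsg.Out Γ) = Nat.card (Cfsg.Out Δ) := by
  have hmap : (Cfsg.Inn Γ).map (MulAut.congr e).toMonoidHom = Cfsg.Inn Δ := by
    ext ψ
    constructor
    · rintro ⟨φ, ⟨g, rfl⟩, rfl⟩
      refine ⟨e g, ?_⟩
      ext x
      simp [MulAut.congr, MulAut.conj_apply]
    · rintro ⟨d, rfl⟩
      refine ⟨MulAut.conj (e.symm d), ⟨e.symm d, rfl⟩, ?_⟩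
      ext x
      simp [MulAut.congr, MulAut.conj_apply]
  exact Nat.card_congr
    (QuotientGroup.congr (Cfsg.Inn Γ) (Cfsg.Inn Δ) (MulAut.congr e) hmap).toEquiv

/-- **The outer automorphism group of the McLaughlin group has order two.** -/
theorem card_Out_McL : Nat.card (Cfsg.Out ↥Cfsg.Spor.McL) = 2 := by
  obtain ⟨e⟩ := iso_McL
  rw [← card_Out_congr_McL e]
  exact card_Out_G275

end Cfsg.Agent.Helper29.McLX
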