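import Mathlib

set_option autoImplicit false

namespace Cfsg.Agent.Helper29

/-- `H.subgroupOf K` is a coatom of the lattice of subgroups of `K` iff `H` is a maximal proper
subgroup of `K` (for `H ≤ K`). -/
theorem isCoatom_subgroupOf_iff {G : Type*} [Group G] {H K : Subgroup G} (hHK : H ≤ K) :
    IsCoatom (H.subgroupOf K) ↔
      (H ≠ K ∧ ∀ L : Subgroup G, H ≤ L → L ≤ K → L = H ∨ L = K) := by
  constructor
  · intro hc
    refine ⟨?_, ?_⟩
    · intro h
      apply hc.1
      rw [Subgroup.subgroupOf_eq_top, h]
    · intro L hHL hLK
      have hle : H.subgroupOf K ≤ L.subgroupOf K := Subgroup.subgroupOf_mono K hHL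
      rcases hc.le_iff.mp hle with h | h
      · right
        rw [Subgroup.subgroupOf_eq_top] at h
        exact le_antisymm hLK h
      · left
        rw [Subgroup.subgroupOf_inj, inf_eq_left.mpr hLK, inf_eq_left.mpr hHK] at h
        exact h
  · rintro ⟨hne, hmax⟩
    refine ⟨?_, ?_⟩
    · intro h
      rw [Subgroup.subgroupOf_eq_top] at h
      exact hne (le_antisymm hHK h)
    · intro B hB
      have h1 : H ≤ B.map K.subtype := by
        rw [← Subgroup.map_subgroupOf_eq_of_le hHK]
        exact Subgroup.map_mono hB.le
      rcases hmax (B.map K.subtype) h1 (Subgroup.map_subtype_le B) with h | h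
      · exfalso
        rw [← Subgroup.map_subgroupOf_eq_of_le hHK] at h
        have := Subgroup.map_injective K.subtype_injective h
        exact hB.ne this.symm
      · have h2 : B.map K.subtype = (⊤ : Subgroup K).map K.subtype := by
          rw [h, ← MonoidHom.range_eq_map, Subgroup.range_subtype]
        exact Subgroup.map_injective K.subtype_injective h2

end Cfsg.Agent.Helper29
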