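import Mathlib
import Cfsg.Agent.Lib.Helper29.RelCoatom

set_option autoImplicit false

/-! Maximality, inside a point stabilizer of `Perm α`, of the stabilizer of a set through the point. -/

namespace Cfsg.Agent.Helper29

open MulAction
open scoped Pointwise

variable {α : Type*} [Fintype α] [DecidableEq α]

theorem range_ofSubtype_ne (z : α) :
    (Equiv.Perm.ofSubtype : Equiv.Perm {x : α // x ≠ z} →* Equiv.Perm α).range =
      stabilizer (Equiv.Perm α) z := by
  ext g
  rw [Equiv.Perm.mem_range_ofSubtype_iff, mem_stabilizer_iff]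
  constructor
  · intro h
    by_contra hz
    have : z ∈ (g.support : Set α) := by
      simp only [Finset.mem_coe, Equiv.Perm.mem_support]
      exact hz
    exact (h this) rfl
  · intro h x hx
    simp only [Finset.mem_coe, Equiv.Perm.mem_support] at hx
    intro hxz
    apply hx
    rw [show x = z from hxz]
    exact h

theorem isCoatom_stabilizer_inf_subgroupOf (z : α) (s : Set α)
    (hs' : (Subtype.val ⁻¹' s : Set {x : α // x ≠ z}).Nonempty)
    (hsc' : (Subtype.val ⁻¹' s : Set {x : α // x ≠ z})ᶜ.Nonempty)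
    (hcard : Nat.card {x : α // x ≠ z} ≠ 2 * (Subtype.val ⁻¹' s : Set {x : α // x ≠ z}).ncard) :
    IsCoatom ((stabilizer (Equiv.Perm α) z ⊓ stabilizer (Equiv.Perm α) s).subgroupOf
      (stabilizer (Equiv.Perm α) z)) := by
  set Φ : Equiv.Perm {x : α // x ≠ z} →* Equiv.Perm α := Equiv.Perm.ofSubtype with hΦ
  set s' : Set {x : α // x ≠ z} := Subtype.val ⁻¹' s with hs'def
  have hrange : Φ.range = stabilizer (Equiv.Perm α) z := range_ofSubtype_ne z
  have hco : IsCoatom (stabilizer (Equiv.Perm {x : α // x ≠ z}) s') :=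
    Equiv.Perm.isCoatom_stabilizer hs' hsc' hcard
  set H := stabilizer (Equiv.Perm α) z ⊓ stabilizer (Equiv.Perm α) s with hH
  have hHK : H ≤ stabilizer (Equiv.Perm α) z := inf_le_left
  have hcomap : H.comap Φ = stabilizer (Equiv.Perm {x : α // x ≠ z}) s' := by
    ext g'
    rw [Subgroup.mem_comap, hH, Subgroup.mem_inf]
    have h1 : Φ g' ∈ stabilizer (Equiv.Perm α) z := by
      rw [← hrange]; exact ⟨g', rfl⟩
    rw [mem_stabilizer_set, mem_stabilizer_set]
    constructor
    · rintro ⟨-, h2⟩ x
      have := h2 x.1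
      rw [Equiv.Perm.smul_def, Equiv.Perm.ofSubtype_apply_coe] at this
      exact this
    · intro h2
      refine ⟨h1, fun x => ?_⟩
      by_cases hx : x = z
      · rw [hx]
        have : Φ g' • z = z := h1
        rw [this]
      · have := h2 ⟨x, hx⟩
        rw [Equiv.Perm.smul_def, Equiv.Perm.ofSubtype_apply_of_mem g' hx]
        exact this
  have hmapcomap : ∀ L : Subgroup (Equiv.Perm α), L ≤ stabilizer (Equiv.Perm α) z →
      (L.comap Φ).map Φ = L := by
    intro L hL
    apply Subgroup.map_comap_eq_self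
    rw [hrange]; exact hL
  rw [isCoatom_subgroupOf_iff hHK]
  refine ⟨?_, ?_⟩
  · intro heq
    apply hco.1
    rw [← hcomap, heq, eq_top_iff]
    intro g' _
    rw [Subgroup.mem_comap, ← hrange]
    exact ⟨g', rfl⟩
  · intro L hHL hLK
    have hle : stabilizer (Equiv.Perm {x : α // x ≠ z}) s' ≤ L.comap Φ := by
      rw [← hcomap]; exact Subgroup.comap_mono hHL
    rcases hco.le_iff.mp hle with h | h
    · right
      rw [← hmapcomap L hLK, h, ← MonoidHom.range_eq_map, hrange]
    · left
      rw [← hmapcomap L hLK, h, ← hcomap, hmapcomap H hHK]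

end Cfsg.Agent.Helper29
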