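import Mathlib

set_option autoImplicit false
set_option linter.unusedSectionVars false

/-! Scott's lemma for three operators with product one, and the resulting inequality of Ree for
three permutations: the numbers of cycles of `x`, `y`, `x * y` add up to at most the number of
points plus twice the number of orbits of the group generated. Everything is expressed through
dimensions of spaces of invariant rational functions. -/

namespace Cfsg.Agent.Helper29.Ree

open Module

section Scott

variable {K V : Type*} [Field K] [AddCommGroup V] [Module K V] [FiniteDimensional K V]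

/-- Scott's lemma for three operators with product one. -/
theorem scott (A₁ A₂ A₃ : V →ₗ[K] V) (h : ∀ v, A₁ (A₂ (A₃ v)) = v) :
    finrank K V + finrank K ↥(LinearMap.range (LinearMap.id - A₁) ⊔
        LinearMap.range (LinearMap.id - A₂) ⊔ LinearMap.range (LinearMap.id - A₃)) ≤
      finrank K ↥(LinearMap.range (LinearMap.id - A₁)) +
        finrank K ↥(LinearMap.range (LinearMap.id - A₂)) +
        finrank K ↥(LinearMap.range (LinearMap.id - A₃)) +
        finrank K ↥(LinearMap.ker (LinearMap.id - A₁) ⊓ LinearMap.ker (LinearMap.id - A₂) ⊓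
          LinearMap.ker (LinearMap.id - A₃)) := by
  set D₁ : V →ₗ[K] V := LinearMap.id - A₁ with hD₁
  set D₂ : V →ₗ[K] V := LinearMap.id - A₂ with hD₂
  set D₃ : V →ₗ[K] V := LinearMap.id - A₃ with hD₃
  set R₁ := LinearMap.range D₁ with hR₁
  set R₂ := LinearMap.range D₂ with hR₂
  set R₃ := LinearMap.range D₃ with hR₃
  let β : V →ₗ[K] (↥R₁ × ↥R₂ × ↥R₃) :=
    D₁.rangeRestrict.prod (D₂.rangeRestrict.prod D₃.rangeRestrict)
  let δ : (↥R₁ × ↥R₂ × ↥R₃) →ₗ[K] V :=
    R₁.subtype.coprod ((A₁ ∘ₗ R₂.subtype).coprod ((A₁ ∘ₗ A₂) ∘ₗ R₃.subtype))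
  have hδ : ∀ (u : ↥R₁) (v : ↥R₂) (w : ↥R₃), δ (u, v, w) = u.1 + (A₁ v.1 + A₁ (A₂ w.1)) := by
    intro u v w
    simp [δ, LinearMap.coprod_apply]
  have hβ : ∀ v, β v = (⟨D₁ v, LinearMap.mem_range_self _ _⟩, ⟨D₂ v, LinearMap.mem_range_self _ _⟩,
      ⟨D₃ v, LinearMap.mem_range_self _ _⟩) := by
    intro v
    rfl
  have hD₁v : ∀ v, D₁ v = v - A₁ v := fun v => by simp [hD₁]
  have hD₂v : ∀ v, D₂ v = v - A₂ v := fun v => by simp [hD₂]
  have hD₃v : ∀ v, D₃ v = v - A₃ v := fun v => by simp [hD₃]
  have hδβ : ∀ v, δ (β v) = 0 := by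
    intro v
    rw [hβ, hδ]
    simp only [hD₁v, hD₂v, hD₃v, map_sub, h]
    abel
  have h1 := LinearMap.finrank_range_add_finrank_ker δ
  have h2 : finrank K (↥R₁ × ↥R₂ × ↥R₃) = finrank K ↥R₁ + (finrank K ↥R₂ + finrank K ↥R₃) := by
    rw [Module.finrank_prod, Module.finrank_prod]
  have h3 := LinearMap.finrank_range_add_finrank_ker β
  have h4 : finrank K ↥(LinearMap.range β) ≤ finrank K ↥(LinearMap.ker δ) := by
    apply Submodule.finrank_mono
    rintro _ ⟨v, rfl⟩
    exact LinearMap.mem_ker.2 (hδβ v)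
  have h5 : LinearMap.ker β = LinearMap.ker D₁ ⊓ LinearMap.ker D₂ ⊓ LinearMap.ker D₃ := by
    ext v
    simp only [LinearMap.mem_ker, Submodule.mem_inf, hβ, Prod.mk_eq_zero, Submodule.mk_eq_zero]
    tauto
  have h6 : finrank K ↥(R₁ ⊔ R₂ ⊔ R₃) ≤ finrank K ↥(LinearMap.range δ) := by
    apply Submodule.finrank_mono
    refine sup_le (sup_le ?_ ?_) ?_
    · rintro _ ⟨v, rfl⟩
      refine ⟨(⟨D₁ v, LinearMap.mem_range_self _ _⟩, 0, 0), ?_⟩
      rw [hδ]
      simp
    · rintro _ ⟨v, rfl⟩
      refine ⟨(⟨D₁ (D₂ v), LinearMap.mem_range_self _ _⟩, ⟨D₂ v, LinearMap.mem_range_self _ _⟩,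
        0), ?_⟩
      rw [hδ]
      simp only [hD₁v, ZeroMemClass.coe_zero, map_zero, add_zero]
      abel
    · rintro _ ⟨v, rfl⟩
      refine ⟨(⟨D₁ (D₃ v), LinearMap.mem_range_self _ _⟩,
        ⟨D₂ (D₃ v), LinearMap.mem_range_self _ _⟩, ⟨D₃ v, LinearMap.mem_range_self _ _⟩), ?_⟩
      rw [hδ]
      simp only [hD₁v, hD₂v, map_sub]
      abel
  rw [h5] at h3
  omega

end Scott

section Perm

variable {α : Type*} [Fintype α] [DecidableEq α]

/-- the operator of a permutation on rational functions -/
def T (σ : Equiv.Perm α) : (α → ℚ) →ₗ[ℚ] (α → ℚ) := LinearMap.funLeft ℚ ℚ σ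

theorem T_apply (σ : Equiv.Perm α) (f : α → ℚ) (a : α) : T σ f a = f (σ a) := rfl

/-- the invariant functions of a permutation -/
def inv (σ : Equiv.Perm α) : Submodule ℚ (α → ℚ) := LinearMap.ker (LinearMap.id - T σ)

theorem mem_inv (σ : Equiv.Perm α) (f : α → ℚ) : f ∈ inv σ ↔ ∀ a, f (σ a) = f a := by
  unfold inv
  rw [LinearMap.mem_ker, LinearMap.sub_apply, LinearMap.id_apply, sub_eq_zero]
  constructor
  · intro h a
    have := congrFun h a
    rw [T_apply] at this
    exact this.symm
  · intro h
    funext a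
    rw [T_apply]
    exact (h a).symm

theorem inv_inv_eq (σ : Equiv.Perm α) : inv σ⁻¹ = inv σ := by
  ext f
  rw [mem_inv, mem_inv]
  constructor
  · intro h a
    have := h (σ a)
    rw [Equiv.Perm.inv_def, Equiv.symm_apply_apply] at this
    exact this.symm
  · intro h a
    have := h (σ⁻¹ a)
    rw [Equiv.Perm.inv_def, Equiv.apply_symm_apply] at this
    exact this.symm

theorem finrank_range_inv (σ : Equiv.Perm α) :
    finrank ℚ ↥(LinearMap.range (LinearMap.id - T σ)) + finrank ℚ ↥(inv σ) = Fintype.card α := by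
  have := LinearMap.finrank_range_add_finrank_ker (LinearMap.id - T σ)
  rw [Module.finrank_fintype_fun_eq_card] at this
  exact this

/-- a functional vanishing on the ranges gives an invariant function -/
theorem dual_bound (S : Finset (Equiv.Perm α)) (W : Submodule ℚ (α → ℚ))
    (hW : ∀ σ ∈ S, LinearMap.range (LinearMap.id - T σ) ≤ W) (I : Submodule ℚ (α → ℚ))
    (hI : ∀ f : α → ℚ, (∀ σ ∈ S, f ∈ inv σ) → f ∈ I) :
    Fintype.card α ≤ finrank ℚ ↥W + finrank ℚ ↥I := by
  have h1 := Subspace.finrank_add_finrank_dualAnnihilator_eq W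
  rw [Module.finrank_fintype_fun_eq_card] at h1
  let Φ : ↥W.dualAnnihilator →ₗ[ℚ] ↥I :=
    { toFun := fun φ => ⟨fun a => φ.1 (Pi.single a 1), by
        apply hI
        intro σ hσ
        rw [mem_inv]
        intro a
        have hmem : ((LinearMap.id : (α → ℚ) →ₗ[ℚ] (α → ℚ)) - T σ) (Pi.single (σ a) 1) ∈ W :=
          hW σ hσ (LinearMap.mem_range_self _ _)
        have h0 := (Submodule.mem_dualAnnihilator φ.1).1 φ.2 _ hmem
        have hT : T σ (Pi.single (σ a) (1 : ℚ)) = Pi.single a 1 := by
          funext b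
          rw [T_apply]
          by_cases hb : b = a
          · subst hb
            simp
          · rw [Pi.single_eq_of_ne hb, Pi.single_eq_of_ne]
            intro hc
            exact hb (σ.injective hc)
        rw [LinearMap.sub_apply, LinearMap.id_apply, hT, map_sub, sub_eq_zero] at h0
        exact h0⟩
      map_add' := by
        intro φ ψ
        apply Subtype.ext
        funext a
        simp
      map_smul' := by
        intro c φ
        apply Subtype.ext
        funext a
        simp }
  have hinj : Function.Injective Φ := by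
    intro φ ψ hφψ
    apply Subtype.ext
    apply LinearMap.pi_ext'
    intro a
    apply LinearMap.ext_ring
    have := congrFun (congrArg Subtype.val hφψ) a
    simpa [Φ] using this
  have h2 := LinearMap.finrank_le_finrank_of_injective hinj
  omega

/-- the inequality of Ree for three permutations with product one, through dimensions of
spaces of invariant functions -/
theorem ree_three (x y : Equiv.Perm α) :
    finrank ℚ ↥(inv x) + finrank ℚ ↥(inv y) + finrank ℚ ↥(inv (x * y)) ≤
      Fintype.card α + 2 * finrank ℚ ↥(inv x ⊓ inv y) := by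
  have hs := scott (T (x * y)⁻¹) (T y) (T x) (by
    intro f
    funext a
    rw [T_apply, T_apply, T_apply]
    congr 1
    simp)
  rw [Module.finrank_fintype_fun_eq_card] at hs
  have h1 := finrank_range_inv (x * y)⁻¹
  have h2 := finrank_range_inv y
  have h3 := finrank_range_inv x
  rw [inv_inv_eq] at h1
  have hK : finrank ℚ ↥(LinearMap.ker (LinearMap.id - T (x * y)⁻¹) ⊓
      LinearMap.ker (LinearMap.id - T y) ⊓ LinearMap.ker (LinearMap.id - T x)) ≤
      finrank ℚ ↥(inv x ⊓ inv y) := by
    apply Submodule.finrank_mono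
    intro f hf
    exact ⟨hf.2, hf.1.2⟩
  have hd := dual_bound ({(x * y)⁻¹, y, x} : Finset (Equiv.Perm α))
    (LinearMap.range (LinearMap.id - T (x * y)⁻¹) ⊔ LinearMap.range (LinearMap.id - T y) ⊔
      LinearMap.range (LinearMap.id - T x))
    (by
      intro σ hσ
      simp only [Finset.mem_insert, Finset.mem_singleton] at hσ
      rcases hσ with rfl | rfl | rfl
      · exact le_sup_of_le_left le_sup_left
      · exact le_sup_of_le_left le_sup_right
      · exact le_sup_right)
    (inv x ⊓ inv y)
    (by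
      intro f hf
      exact ⟨hf x (by simp), hf y (by simp)⟩)
  omega

end Perm

end Cfsg.Agent.Helper29.Ree
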