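import Mathlib
import Cfsg.Agent.Lib.Helper29.ReeScott

set_option autoImplicit false

namespace Cfsg.Agent.Helper29.Ree

open Module

variable {α : Type*} [Fintype α] [DecidableEq α]

open Classical in
/-- the number of cycles is at most the dimension of the space of invariant functions -/
theorem card_orbits_le (σ : Equiv.Perm α) :
    Fintype.card (Quotient (MulAction.orbitRel ↥(Subgroup.zpowers σ) α)) ≤
      finrank ℚ ↥(inv σ) := by
  let Q := Quotient (MulAction.orbitRel ↥(Subgroup.zpowers σ) α)
  let Φ : (Q → ℚ) →ₗ[ℚ] ↥(inv σ) :=
    { toFun := fun g => ⟨fun a => g (Quotient.mk'' a), by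
        rw [mem_inv]
        intro a
        have : (Quotient.mk'' (σ a) : Q) = Quotient.mk'' a := by
          apply Quotient.sound'
          exact ⟨⟨σ, Subgroup.mem_zpowers σ⟩, rfl⟩
        show g (Quotient.mk'' (σ a)) = g (Quotient.mk'' a)
        rw [this]⟩
      map_add' := by
        intro g h
        rfl
      map_smul' := by
        intro c g
        rfl }
  have hinj : Function.Injective Φ := by
    intro g h hgh
    funext q
    induction q using Quotient.inductionOn' with
    | h a => exact congrFun (congrArg Subtype.val hgh) a
  have := LinearMap.finrank_le_finrank_of_injective hinj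
  rw [Module.finrank_fintype_fun_eq_card] at this
  exact this

open Classical in
/-- the number of cycles of a permutation of prime order, bounded through fixed points -/
theorem prime_order_bound (σ : Equiv.Perm α) (p F : ℕ) (hσ : orderOf σ = p)
    (hF : ∀ g ∈ Subgroup.zpowers σ, g ≠ 1 → F ≤ (Finset.univ.filter fun a => g a = a).card) :
    Fintype.card α + (p - 1) * F ≤ p * finrank ℚ ↥(inv σ) := by
  have hB := MulAction.sum_card_fixedBy_eq_card_orbits_mul_card_group ↥(Subgroup.zpowers σ) α
  have hG : Fintype.card ↥(Subgroup.zpowers σ) = p := by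
    rw [Fintype.card_zpowers, hσ]
  have hfix : ∀ g : ↥(Subgroup.zpowers σ), Fintype.card ↥(MulAction.fixedBy α g) =
      (Finset.univ.filter fun a => g.1 a = a).card := by
    intro g
    rw [Fintype.card_subtype]
    rfl
  have hsum : Fintype.card α + (p - 1) * F ≤
      ∑ g : ↥(Subgroup.zpowers σ), Fintype.card ↥(MulAction.fixedBy α g) := by
    rw [← Finset.add_sum_erase Finset.univ _ (Finset.mem_univ (1 : ↥(Subgroup.zpowers σ)))]
    apply add_le_add
    · rw [hfix]
      simp
    · have hc : (Finset.univ.erase (1 : ↥(Subgroup.zpowers σ))).card = p - 1 := by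
        rw [Finset.card_erase_of_mem (Finset.mem_univ _), Finset.card_univ, hG]
      calc (p - 1) * F = ∑ _g ∈ Finset.univ.erase (1 : ↥(Subgroup.zpowers σ)), F := by
            rw [Finset.sum_const, hc, smul_eq_mul]
        _ ≤ _ := by
            apply Finset.sum_le_sum
            intro g hg
            rw [hfix]
            apply hF g.1 g.2
            intro h1
            exact (Finset.mem_erase.1 hg).1 (Subtype.ext h1)
  have hQ := card_orbits_le σ
  rw [hG] at hB
  calc Fintype.card α + (p - 1) * F ≤ _ := hsum
    _ = _ := hB
    _ ≤ p * finrank ℚ ↥(inv σ) := by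
        rw [mul_comm]
        exact Nat.mul_le_mul_left p hQ

end Cfsg.Agent.Helper29.Ree
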