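import Mathlib
import Cfsg.Agent.Lib.Helper29.ReeCount
import Cfsg.Agent.Lib.Helper29.IdxTools
import Cfsg.Agent.Lib.Helper29.SchurM23
import Cfsg.Agent.Lib.Helper29.HSOutGen

set_option autoImplicit false
open Cfsg

/-! The inequality of Ree applied to the Mathieu group of degree 23 acting on the 24 points:
triples of prime orders that cannot generate. -/

namespace Cfsg.Agent.Helper29.ReeM23

open Cfsg.Agent.Helper29.M24 Cfsg.Agent.Helper29 Cfsg.Agent.Helper27 Cfsg.Agent.Helper29.Ree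
open Cfsg.Agent.Helper29.IdxTools
open Cfsg.Agent.S0358 (idx)
open Module
open scoped Pointwise

/-- the number of fixed points -/
abbrev fixN (g : Equiv.Perm GolayPt) : ℕ := (Finset.univ.filter fun a => g a = a).card

theorem mem_M24 {g : Equiv.Perm GolayPt} (hg : g ∈ Cfsg.Spor.M23) : g ∈ Cfsg.M24 :=
  (Subgroup.mem_inf.1 hg).1

theorem fix_none {g : Equiv.Perm GolayPt} (hg : g ∈ Cfsg.Spor.M23) : g none = none :=
  MulAction.mem_stabilizer_iff.1 (Subgroup.mem_inf.1 hg).2

theorem fix2 (g : Equiv.Perm GolayPt) (hg : g ∈ Cfsg.Spor.M23) (h : orderOf g = 2) :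
    fixN g = 8 := by
  rcases invol_fixed g (mem_M24 hg) h with ⟨h1, _⟩ | ⟨h1, _⟩
  · exact h1.2
  · exact absurd (fix_none hg) (h1 none)

theorem fix3 (g : Equiv.Perm GolayPt) (hg : g ∈ Cfsg.Spor.M23) (h : orderOf g = 3) :
    fixN g = 6 := by
  rcases ord3_fixed g (mem_M24 hg) h with ⟨h1, _⟩ | ⟨h1, _⟩
  · exact h1
  · exact absurd (fix_none hg) (h1 none)

theorem fix7 (g : Equiv.Perm GolayPt) (hg : g ∈ Cfsg.Spor.M23) (h : orderOf g = 7) :
    fixN g = 3 := ord7_fixed_card g (mem_M24 hg) h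

/-! ### Elements of order five -/

def s5 : Equiv.Perm GolayPt := evalW [2]

theorem s5_mem : s5 ∈ Cfsg.Spor.M23 :=
  SchurM23.mem_of [2] (gcode 2) (by decide +kernel)

theorem z5_fix : ∀ x < 24, (appW [2] x = x ↔ (8421385 : ℕ).testBit x = true) := by
  decide +kernel

theorem fixed_s5 : (Finset.univ.filter fun p => s5 p = p) = maskSet 8421385 := by
  ext p
  unfold s5
  rw [Finset.mem_filter, mem_maskSet, evalW_apply_eq_iff [2] (by decide)]
  simp only [Finset.mem_univ, true_and]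
  exact z5_fix _ (M24.idx_lt p)

theorem fixed_s5_card : fixN s5 = 4 := by
  unfold fixN
  rw [fixed_s5, card_maskSet]
  decide +kernel

theorem s5_pow : s5 ^ 5 = 1 := by
  have h : evalW ([2] ++ ([2] ++ ([2] ++ ([2] ++ [2])))) = evalW [] :=
    evalW_eq_of_appW _ _ (by decide) (by decide) (by decide +kernel)
  rw [evalW_append, evalW_append, evalW_append, evalW_append, evalW_nil] at h
  unfold s5
  calc evalW [2] ^ 5 = evalW [2] * (evalW [2] * (evalW [2] * (evalW [2] * evalW [2]))) := by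
        simp only [pow_succ, pow_zero, one_mul, mul_assoc]
    _ = 1 := h

theorem s5_ne : s5 ≠ 1 := by
  intro h
  have := fixed_s5_card
  rw [h] at this
  revert this
  decide

theorem s5_order : orderOf s5 = 5 := by
  have : Fact (Nat.Prime 5) := ⟨by norm_num⟩
  exact orderOf_eq_prime s5_pow s5_ne

theorem fix5 (t : Equiv.Perm GolayPt) (ht : t ∈ Cfsg.Spor.M23) (h5 : orderOf t = 5) :
    fixN t = 4 := by
  have : Fact (Nat.Prime 5) := ⟨by norm_num⟩
  let s' : ↥Cfsg.Spor.M23 := ⟨s5, s5_mem⟩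
  let t' : ↥Cfsg.Spor.M23 := ⟨t, ht⟩
  have hs' : orderOf s' = 5 := by
    rw [← s5_order]
    exact Subgroup.orderOf_mk s5 s5_mem
  have ht' : orderOf t' = 5 := by
    rw [← h5]
    exact Subgroup.orderOf_mk t ht
  have hcs : Nat.card ↥(Subgroup.zpowers s') = 5 ^ 1 := by rw [Nat.card_zpowers, hs', pow_one]
  have hct : Nat.card ↥(Subgroup.zpowers t') = 5 ^ 1 := by rw [Nat.card_zpowers, ht', pow_one]
  obtain ⟨P, hP⟩ := (IsPGroup.of_card hcs).exists_le_sylow
  obtain ⟨n, hn⟩ := IsPGroup.iff_card.1 P.isPGroup'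
  have hn1 : n = 1 := by
    have hd : 5 ^ n ∣ 10200960 := by
      rw [← hn, ← SchurM23.card_M23]
      exact Subgroup.card_subgroup_dvd_card _
    have hle : 5 ^ 1 ≤ 5 ^ n := by
      rw [← hcs, ← hn]
      exact Nat.card_le_card_of_injective _ (Subgroup.inclusion_injective hP)
    have h1 : 1 ≤ n := (Nat.pow_le_pow_iff_right (by norm_num)).1 hle
    have h2 : n < 2 := by
      by_contra hcon
      have : 5 ^ 2 ∣ 10200960 := (pow_dvd_pow 5 (not_lt.1 hcon)).trans hd
      revert this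
      decide
    omega
  have hPS : (P : Subgroup ↥Cfsg.Spor.M23) = Subgroup.zpowers s' := by
    symm
    apply Subgroup.eq_of_le_of_card_ge hP
    rw [hn, hn1, hcs]
  obtain ⟨g, hg⟩ := HSXG.exists_conj_le 5 P (Subgroup.zpowers t') (IsPGroup.of_card hct)
  have h1 : g * t' * g⁻¹ ∈ Subgroup.zpowers s' := by
    rw [← hPS]
    exact hg t' (Subgroup.mem_zpowers _)
  have ho : orderOf (g * t' * g⁻¹) = 5 := by
    have := MulEquiv.orderOf_eq (MulAut.conj g) t'
    rw [MulAut.conj_apply] at this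
    rw [this, ht']
  have h2 : Subgroup.zpowers (g * t' * g⁻¹) = Subgroup.zpowers s' := by
    apply Subgroup.eq_of_le_of_card_ge (Subgroup.zpowers_le.2 h1)
    rw [Nat.card_zpowers, Nat.card_zpowers, ho, hs']
  have h3 : s' ∈ Subgroup.zpowers (g * t' * g⁻¹) := by
    rw [h2]
    exact Subgroup.mem_zpowers _
  obtain ⟨k, hk⟩ := Subgroup.mem_zpowers_iff.1 h1
  obtain ⟨l, hl⟩ := Subgroup.mem_zpowers_iff.1 h3
  have hk' : s5 ^ k = (g : Equiv.Perm GolayPt) * t * (g : Equiv.Perm GolayPt)⁻¹ := by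
    have := congrArg (Subtype.val : ↥Cfsg.Spor.M23 → Equiv.Perm GolayPt) hk
    simpa [s', t'] using this
  have hl' : ((g : Equiv.Perm GolayPt) * t * (g : Equiv.Perm GolayPt)⁻¹) ^ l = s5 := by
    have := congrArg (Subtype.val : ↥Cfsg.Spor.M23 → Equiv.Perm GolayPt) hl
    simpa [s', t'] using this
  have e : (Finset.univ.filter fun p => s5 p = p) =
      (Finset.univ.filter fun p =>
        ((g : Equiv.Perm GolayPt) * t * (g : Equiv.Perm GolayPt)⁻¹) p = p) := by
    ext p
    simp only [Finset.mem_filter, Finset.mem_univ, true_and]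
    constructor
    · intro h
      rw [← hk']
      exact Equiv.Perm.zpow_apply_eq_self_of_apply_eq_self h k
    · intro h
      rw [← hl']
      exact Equiv.Perm.zpow_apply_eq_self_of_apply_eq_self h l
  have h4 := fixed_s5_card
  unfold fixN at h4 ⊢
  rw [e, fixed_conj, Finset.card_smul_finset] at h4
  exact h4

/-! ### Lower bounds for the number of cycles -/

theorem card_pt : Fintype.card GolayPt = 24 := by decide

theorem cyc_bound (σ : Equiv.Perm GolayPt) (hσ : σ ∈ Cfsg.Spor.M23) (p F : ℕ) (hp : p.Prime)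
    (ho : orderOf σ = p) (hF : ∀ g ∈ Cfsg.Spor.M23, orderOf g = p → F ≤ fixN g) :
    24 + (p - 1) * F ≤ p * finrank ℚ ↥(inv σ) := by
  have h := prime_order_bound σ p F ho (by
    intro g hg h1
    have hgm : g ∈ Cfsg.Spor.M23 := by
      obtain ⟨k, rfl⟩ := Subgroup.mem_zpowers_iff.1 hg
      exact Subgroup.zpow_mem _ hσ k
    have hgo : orderOf g = p := by
      have hd : orderOf g ∣ p := by
        rw [← ho]
        exact orderOf_dvd_of_mem_zpowers hg
      rcases (Nat.dvd_prime hp).1 hd with h | h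
      · exact absurd (orderOf_eq_one_iff.1 h) h1
      · exact h
    have := hF g hgm hgo
    unfold fixN at this
    convert this)
  rw [card_pt] at h
  exact h

/-! ### The invariant functions of a generating pair -/

theorem gP0_mem : gP 0 ∈ Cfsg.Spor.M23 := by
  have := SchurM23.mem_of [0] (gcode 0) (by decide +kernel)
  rwa [SchurM23.evalW_single] at this

theorem finrank_inv_le_two (x y : ↥Cfsg.Spor.M23) (h : Subgroup.closure {x, y} = ⊤) :
    finrank ℚ ↥(inv x.1 ⊓ inv y.1) ≤ 2 := by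
  have hinv : ∀ f ∈ inv x.1 ⊓ inv y.1, ∀ g : ↥Cfsg.Spor.M23, ∀ a, f (g.1 a) = f a := by
    intro f hf g
    have hg : g ∈ Subgroup.closure {x, y} := by rw [h]; exact Subgroup.mem_top g
    induction hg using Subgroup.closure_induction with
    | mem u hu =>
      rcases hu with rfl | rfl
      · exact (mem_inv _ f).1 hf.1
      · exact (mem_inv _ f).1 hf.2
    | one => intro a; rfl
    | mul u v _ _ hu hv =>
      intro a
      rw [Subgroup.coe_mul, Equiv.Perm.mul_apply, hu, hv]
    | inv u _ hu =>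
      intro a
      have := hu ((u⁻¹ : ↥Cfsg.Spor.M23).1 a)
      rw [Subgroup.coe_inv, perm_apply_inv] at this
      rw [Subgroup.coe_inv]
      exact this.symm
  have hconst : ∀ f ∈ inv x.1 ⊓ inv y.1, ∀ n : ℕ,
      f (some ((n : ℕ) : ZMod 23)) = f (some 0) := by
    intro f hf n
    induction n with
    | zero => simp
    | succ n ih =>
      have := hinv f hf ⟨gP 0, gP0_mem⟩ (some ((n : ℕ) : ZMod 23))
      rw [← ih, ← this]
      congr 1
      show some (((n + 1 : ℕ) : ZMod 23)) = gP 0 (some ((n : ℕ) : ZMod 23))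
      rw [gP0]
      simp
  let Φ : ↥(inv x.1 ⊓ inv y.1) →ₗ[ℚ] (Fin 2 → ℚ) :=
    { toFun := fun f => ![f.1 none, f.1 (some 0)]
      map_add' := by
        intro f g
        ext i
        fin_cases i <;> simp
      map_smul' := by
        intro c f
        ext i
        fin_cases i <;> simp }
  have hinj : Function.Injective Φ := by
    intro f g hfg
    apply Subtype.ext
    funext a
    have h0 : f.1 none = g.1 none := by
      have := congrFun hfg 0
      simpa [Φ] using this
    have h1 : f.1 (some 0) = g.1 (some 0) := by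
      have := congrFun hfg 1
      simpa [Φ] using this
    cases a with
    | none => exact h0
    | some k =>
      have hk : k = ((k.val : ℕ) : ZMod 23) := by simp
      rw [hk, hconst f.1 f.2, hconst g.1 g.2, h1]
  have := LinearMap.finrank_le_finrank_of_injective hinj
  rw [Module.finrank_fintype_fun_eq_card, Fintype.card_fin] at this
  exact this

/-! ### The triples that do not generate -/

theorem c2 (σ : Equiv.Perm GolayPt) (hσ : σ ∈ Cfsg.Spor.M23) (h : orderOf σ = 2) :
    16 ≤ finrank ℚ ↥(inv σ) := by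
  have := cyc_bound σ hσ 2 8 Nat.prime_two h (fun g hg hgo => (fix2 g hg hgo).ge)
  omega

theorem c3 (σ : Equiv.Perm GolayPt) (hσ : σ ∈ Cfsg.Spor.M23) (h : orderOf σ = 3) :
    12 ≤ finrank ℚ ↥(inv σ) := by
  have := cyc_bound σ hσ 3 6 Nat.prime_three h (fun g hg hgo => (fix3 g hg hgo).ge)
  omega

theorem c5 (σ : Equiv.Perm GolayPt) (hσ : σ ∈ Cfsg.Spor.M23) (h : orderOf σ = 5) :
    8 ≤ finrank ℚ ↥(inv σ) := by
  have := cyc_bound σ hσ 5 4 (by norm_num) h (fun g hg hgo => (fix5 g hg hgo).ge)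
  omega

theorem c7 (σ : Equiv.Perm GolayPt) (hσ : σ ∈ Cfsg.Spor.M23) (h : orderOf σ = 7) :
    6 ≤ finrank ℚ ↥(inv σ) := by
  have := cyc_bound σ hσ 7 3 (by norm_num) h (fun g hg hgo => (fix7 g hg hgo).ge)
  omega

theorem c1 (σ : Equiv.Perm GolayPt) (hσ : σ ∈ Cfsg.Spor.M23) (r : ℕ) (hr : r.Prime)
    (h : orderOf σ = r) : 1 ≤ finrank ℚ ↥(inv σ) := by
  have := cyc_bound σ hσ r 0 hr h (fun g _ _ => Nat.zero_le _)
  by_contra hcon
  have h0 : finrank ℚ ↥(inv σ) = 0 := by omega
  rw [h0] at this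
  omega

/-- the triples of prime orders excluded by the inequality of Ree -/
theorem neg_main (x y : ↥Cfsg.Spor.M23) (p q r : ℕ) (hr : r.Prime) (hqr : q ≤ r)
    (hx : orderOf x = p) (hy : orderOf y = q) (hxy : orderOf (x * y) = r)
    (hgen : Subgroup.closure {x, y} = ⊤)
    (hcase : (p = 2 ∧ q = 3) ∨ (p = 2 ∧ q = 5 ∧ r = 5) ∨ (p = 2 ∧ q = 5 ∧ r = 7) ∨
      (p = 3 ∧ q = 3 ∧ r ≤ 7)) : False := by
  have hR := ree_three x.1 y.1
  rw [card_pt] at hR
  have ht := finrank_inv_le_two x y hgen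
  have hxo : orderOf x.1 = p := by rw [Subgroup.orderOf_coe]; exact hx
  have hyo : orderOf y.1 = q := by rw [Subgroup.orderOf_coe]; exact hy
  have hxyo : orderOf (x.1 * y.1) = r := by
    rw [← Subgroup.coe_mul, Subgroup.orderOf_coe]; exact hxy
  have hxym : x.1 * y.1 ∈ Cfsg.Spor.M23 := Subgroup.mul_mem _ x.2 y.2
  rcases hcase with ⟨rfl, rfl⟩ | ⟨rfl, rfl, rfl⟩ | ⟨rfl, rfl, rfl⟩ | ⟨rfl, rfl, hr7⟩
  · have h1 := c2 x.1 x.2 hxo
    have h2 := c3 y.1 y.2 hyo
    have h3 := c1 (x.1 * y.1) hxym r hr hxyo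
    omega
  · have h1 := c2 x.1 x.2 hxo
    have h2 := c5 y.1 y.2 hyo
    have h3 := c5 (x.1 * y.1) hxym hxyo
    omega
  · have h1 := c2 x.1 x.2 hxo
    have h2 := c5 y.1 y.2 hyo
    have h3 := c7 (x.1 * y.1) hxym hxyo
    omega
  · have h1 := c3 x.1 x.2 hxo
    have h2 := c3 y.1 y.2 hyo
    have hr3 : 3 ≤ r := hqr
    interval_cases r
    · have h3 := c3 (x.1 * y.1) hxym hxyo
      omega
    · exact absurd hr (by decide)
    · have h3 := c5 (x.1 * y.1) hxym hxyo
      omega
    · exact absurd hr (by decide)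
    · have h3 := c7 (x.1 * y.1) hxym hxyo
      omega

end Cfsg.Agent.Helper29.ReeM23
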