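import Mathlib
import Cfsg.Prelude.Def_KGroupFacts
import Cfsg.Agent.Lib.Helper29.StemSylow

set_option autoImplicit false

/-! A stem extension with kernel of order three from a pullback: if `S` is perfect,
`ψ : S → B` is onto with kernel of exponent two, `π : E → L` has central kernel of order three,
`B ≃* A ≤ range π` and two elements of `E` lying over `A` have a non-trivial commutator in the
kernel of `π`, then the derived subgroup of the fibre product is a stem extension of `S` whose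
kernel is cyclic of order three. -/

namespace Cfsg.Agent.Helper29.StemPull

open scoped commutatorElement

universe u v w w'

variable {S : Type u} [Group S] {B : Type v} [Group B] {E : Type w} [Group E] {L : Type w'} [Group L]

/-- the fibre product -/
def fib (ψ : S →* B) (π : E →* L) (A : Subgroup L) (θ : B ≃* A) : Subgroup (S × E) where
  carrier := {g | ((θ (ψ g.1) : A) : L) = π g.2}
  one_mem' := by simp
  mul_mem' := by
    intro a b ha hb
    simp only [Set.mem_ofPred_eq] at ha hb ⊢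
    simp only [Prod.fst_mul, Prod.snd_mul, map_mul, Subgroup.coe_mul, ha, hb]
  inv_mem' := by
    intro a ha
    simp only [Set.mem_ofPred_eq] at ha ⊢
    simp only [Prod.fst_inv, Prod.snd_inv, map_inv, Subgroup.coe_inv, ha]

theorem mem_fib (ψ : S →* B) (π : E →* L) (A : Subgroup L) (θ : B ≃* A) (g : S × E) :
    g ∈ fib ψ π A θ ↔ ((θ (ψ g.1) : A) : L) = π g.2 := Iff.rfl

/-- the derived subgroup of the fibre product -/
def der (ψ : S →* B) (π : E →* L) (A : Subgroup L) (θ : B ≃* A) : Subgroup (S × E) :=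
  ⁅fib ψ π A θ, fib ψ π A θ⁆

theorem der_le (ψ : S →* B) (π : E →* L) (A : Subgroup L) (θ : B ≃* A) :
    der ψ π A θ ≤ fib ψ π A θ := by
  unfold der
  rw [Subgroup.commutator_le]
  intro g₁ h₁ g₂ h₂
  rw [commutatorElement_def]
  exact Subgroup.mul_mem _ (Subgroup.mul_mem _ (Subgroup.mul_mem _ h₁ h₂) (Subgroup.inv_mem _ h₁))
    (Subgroup.inv_mem _ h₂)

theorem map_fst_fib (ψ : S →* B) (π : E →* L) (A : Subgroup L) (hA : A ≤ π.range) (θ : B ≃* A) :
    (fib ψ π A θ).map (MonoidHom.fst S E) = ⊤ := by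
  rw [eq_top_iff]
  intro s _
  obtain ⟨e, he⟩ := hA (θ (ψ s)).2
  exact ⟨(s, e), he.symm, rfl⟩

theorem map_fst_der (hS : commutator S = ⊤) (ψ : S →* B) (π : E →* L) (A : Subgroup L)
    (hA : A ≤ π.range) (θ : B ≃* A) : (der ψ π A θ).map (MonoidHom.fst S E) = ⊤ := by
  unfold der
  rw [Subgroup.map_commutator, map_fst_fib ψ π A hA θ, ← commutator_def]
  exact hS

/-- the projection of the derived subgroup of the fibre product onto `S` -/
def proj (ψ : S →* B) (π : E →* L) (A : Subgroup L) (θ : B ≃* A) : der ψ π A θ →* S :=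
  (MonoidHom.fst S E).comp (der ψ π A θ).subtype

theorem proj_surjective (hS : commutator S = ⊤) (ψ : S →* B) (π : E →* L) (A : Subgroup L)
    (hA : A ≤ π.range) (θ : B ≃* A) : Function.Surjective (proj ψ π A θ) := by
  intro s
  have h : s ∈ (der ψ π A θ).map (MonoidHom.fst S E) := by
    rw [map_fst_der hS ψ π A hA θ]; trivial
  obtain ⟨g, hg, rfl⟩ := h
  exact ⟨⟨g, hg⟩, rfl⟩

theorem snd_mem_ker (ψ : S →* B) (π : E →* L) (A : Subgroup L) (θ : B ≃* A)
    (g : der ψ π A θ) (hg : g ∈ (proj ψ π A θ).ker) : (g : S × E).2 ∈ π.ker := by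
  have h1 : (g : S × E).1 = 1 := hg
  have h2 := (mem_fib ψ π A θ g.1).1 (der_le ψ π A θ g.2)
  rw [h1, map_one, map_one] at h2
  rw [MonoidHom.mem_ker, ← h2]
  rfl

theorem ker_le_center (ψ : S →* B) (π : E →* L) (hπc : π.ker ≤ Subgroup.center E)
    (A : Subgroup L) (θ : B ≃* A) : (proj ψ π A θ).ker ≤ Subgroup.center (der ψ π A θ) := by
  intro g hg
  have h1 : (g : S × E).1 = 1 := hg
  have h2 := hπc (snd_mem_ker ψ π A θ g hg)
  rw [Subgroup.mem_center_iff]
  intro h
  apply Subtype.ext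
  apply Prod.ext
  · simp [h1]
  · simpa using Subgroup.mem_center_iff.1 h2 (h : S × E).2

/-- the kernel of the projection embeds in the kernel of `π` -/
def kerHom (ψ : S →* B) (π : E →* L) (A : Subgroup L) (θ : B ≃* A) :
    (proj ψ π A θ).ker →* π.ker where
  toFun g := ⟨((g : der ψ π A θ) : S × E).2, snd_mem_ker ψ π A θ g.1 g.2⟩
  map_one' := rfl
  map_mul' _ _ := rfl

theorem kerHom_injective (ψ : S →* B) (π : E →* L) (A : Subgroup L) (θ : B ≃* A) :
    Function.Injective (kerHom ψ π A θ) := by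
  intro g h e
  have e2 : ((g : der ψ π A θ) : S × E).2 = ((h : der ψ π A θ) : S × E).2 :=
    congrArg Subtype.val e
  have g1 : ((g : der ψ π A θ) : S × E).1 = 1 := g.2
  have h1 : ((h : der ψ π A θ) : S × E).1 = 1 := h.2
  apply Subtype.ext
  apply Subtype.ext
  exact Prod.ext (g1.trans h1.symm) e2

theorem exists_stem [Finite S] [Finite E] (hS : commutator S = ⊤) (ψ : S →* B)
    (hψs : Function.Surjective ψ) (hψk : ∀ s ∈ ψ.ker, s * s = 1)
    (π : E →* L) (hπc : π.ker ≤ Subgroup.center E) (hπ3 : Nat.card π.ker = 3)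
    (A : Subgroup L) (hA : A ≤ π.range) (θ : B ≃* A)
    (x y : E) (hx : π x ∈ A) (hy : π y ∈ A) (hc : ⁅x, y⁆ ∈ π.ker) (hc1 : ⁅x, y⁆ ≠ 1) :
    ∃ (Γ : Type (max u w)) (_ : Group Γ) (_ : Finite Γ) (σ : Γ →* S),
      Cfsg.IsStemExtension σ ∧ Nonempty (σ.ker ≃* Multiplicative (ZMod 3)) := by
  have hsur := proj_surjective hS ψ π A hA θ
  -- lifts of `x` and `y`
  obtain ⟨sx, hsx⟩ := hψs (θ.symm ⟨π x, hx⟩)
  obtain ⟨sy, hsy⟩ := hψs (θ.symm ⟨π y, hy⟩)
  obtain ⟨γx, hγx⟩ := hsur sx
  obtain ⟨γy, hγy⟩ := hsur sy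
  have hγx1 : (γx : S × E).1 = sx := hγx
  have hγy1 : (γy : S × E).1 = sy := hγy
  have hγx2 : π (γx : S × E).2 = π x := by
    have := (mem_fib ψ π A θ γx.1).1 (der_le ψ π A θ γx.2)
    rw [hγx1, hsx, MulEquiv.apply_symm_apply] at this
    exact this.symm
  have hγy2 : π (γy : S × E).2 = π y := by
    have := (mem_fib ψ π A θ γy.1).1 (der_le ψ π A θ γy.2)
    rw [hγy1, hsy, MulEquiv.apply_symm_apply] at this
    exact this.symm
  obtain ⟨κ, hκ, ex⟩ := StemSylow.exists_ker_mul π _ _ hγx2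
  obtain ⟨μ, hμ, ey⟩ := StemSylow.exists_ker_mul π _ _ hγy2
  have cκ := StemSylow.central_comm π hπc hκ
  have cμ := StemSylow.central_comm π hπc hμ
  have hcomm2 : ⁅(γx : S × E).2, (γy : S × E).2⁆ = ⁅x, y⁆ := by
    rw [ex, ey, StemSylow.comm_central_left cκ, StemSylow.comm_central_right cμ]
  -- the first component of the commutator lies in the kernel of `ψ`
  have ht : ⁅sx, sy⁆ ∈ ψ.ker := by
    rw [MonoidHom.mem_ker]
    apply θ.injective
    apply Subtype.ext
    rw [map_commutatorElement, map_commutatorElement, hsx, hsy, MulEquiv.apply_symm_apply,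
      MulEquiv.apply_symm_apply, map_one]
    show (⁅(⟨π x, hx⟩ : A), ⟨π y, hy⟩⁆ : A).1 = 1
    rw [commutatorElement_def]
    simp only [Subgroup.coe_mul, Subgroup.coe_inv]
    rw [← map_inv, ← map_inv, ← map_mul, ← map_mul, ← map_mul, ← commutatorElement_def]
    exact hc
  have ht2 := hψk _ ht
  -- the commutator of the lifts
  obtain ⟨ω, hω⟩ : ∃ ω : der ψ π A θ, ω = ⁅γx, γy⁆ := ⟨_, rfl⟩
  have hω1 : (ω : S × E).1 = ⁅sx, sy⁆ := by
    rw [hω]
    simp [commutatorElement_def, hγx1, hγy1]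
  have hω2 : (ω : S × E).2 = ⁅x, y⁆ := by
    rw [hω, ← hcomm2]
    simp [commutatorElement_def]
  have hc3 : ⁅x, y⁆ ^ 3 = 1 := by
    have h := pow_card_eq_one' (G := π.ker) (x := ⟨⁅x, y⁆, hc⟩)
    rw [hπ3] at h
    exact congrArg Subtype.val h
  have hcc : ⁅x, y⁆ * ⁅x, y⁆ ≠ 1 := by
    intro h
    apply hc1
    generalize ⁅x, y⁆ = c at h hc3
    calc c = c ^ 3 * (c * c)⁻¹ := by group
      _ = 1 := by rw [hc3, h]; group
  have hωωK : ω * ω ∈ (proj ψ π A θ).ker := by
    rw [MonoidHom.mem_ker]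
    show ((ω * ω : der ψ π A θ) : S × E).1 = 1
    simp only [Subgroup.coe_mul, Prod.fst_mul, hω1]
    exact ht2
  have hωω1 : ω * ω ≠ 1 := by
    intro h
    apply hcc
    have h2 : ((ω * ω : der ψ π A θ) : S × E).2 = 1 := by rw [h]; rfl
    simpa only [Subgroup.coe_mul, Prod.snd_mul, hω2] using h2
  -- the kernel has order three
  have hcardle : Nat.card (proj ψ π A θ).ker ∣ 3 := by
    rw [← hπ3]
    exact Subgroup.card_dvd_of_injective _ (kerHom_injective ψ π A θ)
  have hcard : Nat.card (proj ψ π A θ).ker = 3 := by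
    rcases (Nat.dvd_prime Nat.prime_three).1 hcardle with h | h
    · exfalso
      apply hωω1
      have := (Subgroup.card_eq_one.1 h)
      rw [this, Subgroup.mem_bot] at hωωK
      exact hωωK
    · exact h
  have : Fact (Nat.Prime 3) := ⟨Nat.prime_three⟩
  have hz : Subgroup.zpowers (⟨ω * ω, hωωK⟩ : (proj ψ π A θ).ker) = ⊤ := by
    apply zpowers_eq_top_of_prime_card hcard
    intro h
    exact hωω1 (congrArg Subtype.val h)
  refine ⟨der ψ π A θ, inferInstance, inferInstance, proj ψ π A θ, ⟨hsur, ker_le_center ψ π hπc A θ, ?_⟩, ?_⟩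
  · intro g hg
    have hg' : (⟨g, hg⟩ : (proj ψ π A θ).ker) ∈ Subgroup.zpowers (⟨ω * ω, hωωK⟩ : (proj ψ π A θ).ker) := by
      rw [hz]; trivial
    obtain ⟨k, hk⟩ := Subgroup.mem_zpowers_iff.1 hg'
    have hk' : (ω * ω) ^ k = g := by
      have := congrArg Subtype.val hk
      simpa using this
    rw [← hk']
    apply Subgroup.zpow_mem
    apply Subgroup.mul_mem <;>
    · rw [hω]
      exact Subgroup.commutator_mem_commutator (Subgroup.mem_top _) (Subgroup.mem_top _)
  · have hcyc : IsCyclic (proj ψ π A θ).ker := isCyclic_of_prime_card hcard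
    have e := zmodCyclicMulEquiv hcyc
    rw [hcard] at e
    exact ⟨e.symm⟩

end Cfsg.Agent.Helper29.StemPull
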