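import Mathlib
import Cfsg.Agent.Lib.Helper26.PSL34c
import Cfsg.Agent.Lib.Helper29.AltSixM21
import Cfsg.Agent.Lib.Helper29.StemPull
import Cfsg.Agent.Lib.Helper2.CardSL

set_option autoImplicit false
open Cfsg

/-! The hyperoval stabilizer `A₆` in `L₃(4)` lifts to a non-split extension `3·A₆` in `SL₃(4)`;
consequence: a perfect group with a central quotient (by a group of exponent two) isomorphic
to `A₆` has a stem extension with kernel cyclic of order three. -/

namespace Cfsg.Agent.Helper29.SL34Pull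

open Cfsg.Agent.Helper26 Cfsg.Agent.Helper26.PSL34
open Cfsg.Agent.Helper27 Cfsg.Agent.Helper29 Cfsg.Agent.Helper29.M24 Cfsg.Agent.Helper29.AltSixM21
open Cfsg.Agent.S0358 (idx)
open scoped Pointwise commutatorElement

def xm : Matrix (Fin 3) (Fin 3) F4 := matOf [1, 0, 0, 0, 2, 0, 0, 0, 3]

def ym : Matrix (Fin 3) (Fin 3) F4 := matOf [0, 0, 1, 1, 0, 0, 0, 1, 0]

def zm : Matrix (Fin 3) (Fin 3) F4 := matOf [2, 0, 0, 0, 2, 0, 0, 0, 2]

theorem det_xyz : det3 xm = 1 ∧ det3 ym = 1 ∧ det3 zm = 1 := by decide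

def X : SL34 := ⟨xm, by rw [Matrix.det_fin_three]; exact det_xyz.1⟩

def Y : SL34 := ⟨ym, by rw [Matrix.det_fin_three]; exact det_xyz.2.1⟩

def Z : SL34 := ⟨zm, by rw [Matrix.det_fin_three]; exact det_xyz.2.2⟩

theorem rel_mat : xm * ym = zm * (ym * xm) ∧ (∀ m : Matrix (Fin 3) (Fin 3) F4, zm * m = m * zm) := by
  constructor
  · decide
  · intro m
    have h0 : ofCode 0 = (0 : F4) := by decide
    ext i j
    fin_cases i <;> fin_cases j <;>
      simp [zm, matOf, Matrix.mul_apply, Fin.sum_univ_three, mul_comm, h0]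

theorem rel : X * Y = Z * (Y * X) := Subtype.ext rel_mat.1

theorem Z_central (g : SL34) : g * Z = Z * g := Subtype.ext (rel_mat.2 g.1).symm

theorem Z_ne_one : Z ≠ 1 := by
  intro h
  have := congrFun (congrFun (congrArg Subtype.val h) 0) 0
  revert this
  decide

theorem comm_XY : ⁅X, Y⁆ = Z := by
  rw [commutatorElement_def, rel]
  group

theorem Z_mem_ker : Z ∈ toPermHom.ker := by
  rw [ker_eq_center, Subgroup.mem_center_iff]
  exact Z_central

theorem ker_le_center : toPermHom.ker ≤ Subgroup.center SL34 := by rw [ker_eq_center]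

theorem card_ker : Nat.card toPermHom.ker = 3 := by
  rw [ker_eq_center, Cfsg.Agent.Helper2.card_center_SL 3 (by norm_num), F4.card_F4]
  decide

/-- a matrix preserving the hyperoval induces an element of the hyperoval stabilizer -/
theorem mem_A6sub_of_check (M : SL34)
    (h : ∀ i < 24, hoMask.testBit (actIdx M.1 i) = hoMask.testBit i) : toPermHom M ∈ A6sub := by
  have hfix : ∀ k < 3, toPermHom M (bp k) = bp k := by
    intro k hk
    apply M24.idx_injective
    unfold bp
    rw [idx_toPermHom, idx_dec_bpt k (by omega)]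
    apply actIdx_fixed
    have : k = 0 ∨ k = 1 ∨ k = 2 := by omega
    rcases this with rfl | rfl | rfl <;> decide
  rw [mem_A6sub, mem_octC, mem_octK]
  refine ⟨⟨⟨grp_le_M24 3 (range_le M), ?_⟩, hfix 0 (by norm_num)⟩, hfix 1 (by norm_num),
    hfix 2 (by norm_num)⟩
  rw [smul_eq_iff_forall]
  intro q
  unfold ho
  rw [mem_maskSet, mem_maskSet, idx_toPermHom, h _ (M24.idx_lt q)]

theorem check_XY : (∀ i < 24, hoMask.testBit (actIdx xm i) = hoMask.testBit i) ∧
    (∀ i < 24, hoMask.testBit (actIdx ym i) = hoMask.testBit i) := by decide +kernel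

theorem X_mem : toPermHom X ∈ A6sub := mem_A6sub_of_check X check_XY.1

theorem Y_mem : toPermHom Y ∈ A6sub := mem_A6sub_of_check Y check_XY.2

universe u v

/-- a finite perfect group with a quotient isomorphic to `A₆` by a subgroup of exponent two has a
stem extension with kernel cyclic of order three -/
theorem exists_stem {S : Type u} [Group S] [Finite S] (hS : commutator S = ⊤)
    {B : Type v} [Group B] (ψ : S →* B) (hψs : Function.Surjective ψ)
    (hψk : ∀ s ∈ ψ.ker, s * s = 1) (e : B ≃* alternatingGroup (Fin 6)) :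
    ∃ (Γ : Type u) (_ : Group Γ) (_ : Finite Γ) (σ : Γ →* S),
      Cfsg.IsStemExtension σ ∧ Nonempty (σ.ker ≃* Multiplicative (ZMod 3)) := by
  obtain ⟨f⟩ := A6sub_iso
  have hA : A6sub ≤ toPermHom.range := by
    rw [range_eq]
    exact A6sub_le_grp3
  have : Finite SL34 := inferInstance
  exact StemPull.exists_stem hS ψ hψs hψk toPermHom ker_le_center card_ker A6sub hA
    (e.trans f.symm) X Y X_mem Y_mem (by rw [comm_XY]; exact Z_mem_ker)
    (by rw [comm_XY]; exact Z_ne_one)

end Cfsg.Agent.Helper29.SL34Pull
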