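import Mathlib
import Cfsg.Agent.Lib.Helper29.J2SchChk
import Cfsg.Agent.Lib.Helper29.StemOdd
import Cfsg.Agent.Lib.Helper29.StemQuot
import Cfsg.Agent.Lib.Helper29.J2LFus

/-!
# The kernel of a stem extension of the Hall-Janko group has order at most two
-/

set_option autoImplicit false

namespace Cfsg.Agent.Helper29.SchurJ2

open Cfsg Cfsg.Spor
open scoped commutatorElement
open Cfsg.Agent.Helper29.StemSylow Cfsg.Agent.Helper29.StemSplit Cfsg.Agent.Helper29.StemRank
  Cfsg.Agent.Helper29.StemTwo Cfsg.Agent.Helper29.StemOdd Cfsg.Agent.Helper29.J2G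
  Cfsg.Agent.Helper29.J2Sch Cfsg.Agent.Helper29.PP9 Cfsg.Agent.Helper29.J2C
  Cfsg.Agent.Helper29.J2D Cfsg.Agent.Helper29.J2L

/-! ### Translation of the relations -/

theorem conj_of_rel {g a b : A} (h : g * a = b * g) : g * a * g⁻¹ = b := by
  rw [h]; group

theorem comm_of_rel {a b v : A} (h : a * b = v * (b * a)) : ⁅a, b⁆ = v := by
  rw [commutatorElement_def, h]; group

theorem inv_of_rel {a n : A} (h : a * (n * a) = n) : n * a * n⁻¹ = a⁻¹ := by
  have : n * a = a⁻¹ * n := by rw [eq_inv_mul_iff_mul_eq]; exact h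
  rw [this]; group

theorem h_th3 : el p_th * el p_th * el p_th = 1 := by
  have := wd_eq r_th3
  simpa only [wd_cons, wd_nil, mul_one, mul_assoc] using this

theorem h_w2 : el p_w * el p_w = 1 := by
  have := wd_eq r_w2
  simpa only [wd_cons, wd_nil, mul_one] using this

theorem h_thw : el p_th * el p_w = el p_w * el p_th := by
  have := wd_eq r_thw
  simpa only [wd_cons, wd_nil, mul_one] using this

theorem h_a2 : el p_th * el p_a1 * (el p_th)⁻¹ = el p_a2 := by
  have := wd_eq r_tha1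
  simp only [wd_cons, wd_nil, mul_one] at this
  exact conj_of_rel this

theorem h_a3 : el p_th * el p_a2 * (el p_th)⁻¹ = el p_a3 := by
  have := wd_eq r_tha2
  simp only [wd_cons, wd_nil, mul_one] at this
  exact conj_of_rel this

theorem h_b1 : el p_w * el p_a1 * (el p_w)⁻¹ = el p_b1 := by
  have := wd_eq r_wa1
  simp only [wd_cons, wd_nil, mul_one] at this
  exact conj_of_rel this

theorem h_b2 : el p_w * el p_a2 * (el p_w)⁻¹ = el p_b2 := by
  have := wd_eq r_wa2
  simp only [wd_cons, wd_nil, mul_one] at this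
  exact conj_of_rel this

theorem h_b3 : el p_w * el p_a3 * (el p_w)⁻¹ = el p_b3 := by
  have := wd_eq r_wa3
  simp only [wd_cons, wd_nil, mul_one] at this
  exact conj_of_rel this

theorem h_a11 : el p_a1 * el p_a1 = 1 := by
  have := wd_eq r_a1sq
  simpa only [wd_cons, wd_nil, mul_one] using this

theorem h_a23 : el p_a2 * (el p_a3)⁻¹ = el p_a1 := by
  have := wd_eq r_a2eq
  simp only [wd_cons, wd_nil, mul_one] at this
  rw [this]; group

theorem h_c0 : ⁅el p_a1, el p_b1⁆ = el p_v0 := by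
  have := wd_eq r_com0
  simp only [wd_cons, wd_nil, mul_one] at this
  exact comm_of_rel this

theorem h_c1 : ⁅el p_a2, el p_b1⁆ = el p_v1 := by
  have := wd_eq r_com1
  simp only [wd_cons, wd_nil, mul_one] at this
  exact comm_of_rel this

theorem h_c2 : ⁅el p_a3, el p_b1⁆ = el p_v2 := by
  have := wd_eq r_com2
  simp only [wd_cons, wd_nil, mul_one] at this
  exact comm_of_rel this

theorem h_cen : ∀ a ∈ ({el p_a1, el p_a2, el p_a3} : Set A),
    ∀ g ∈ ({el p_a1, el p_a2, el p_a3, el p_b1, el p_b2, el p_b3, el p_th} : Set A),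
      ⁅a, el p_b1⁆ * g = g * ⁅a, el p_b1⁆ := by
  intro a ha g hg
  simp only [Set.mem_insert_iff, Set.mem_singleton_iff] at ha hg
  rcases ha with rfl | rfl | rfl
  · rw [h_c0]
    rcases hg with rfl | rfl | rfl | rfl | rfl | rfl | rfl
    · have := wd_eq r_cen_v0_a1
      simpa only [wd_cons, wd_nil, mul_one] using this
    · have := wd_eq r_cen_v0_a2
      simpa only [wd_cons, wd_nil, mul_one] using this
    · have := wd_eq r_cen_v0_a3
      simpa only [wd_cons, wd_nil, mul_one] using this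
    · have := wd_eq r_cen_v0_b1
      simpa only [wd_cons, wd_nil, mul_one] using this
    · have := wd_eq r_cen_v0_b2
      simpa only [wd_cons, wd_nil, mul_one] using this
    · have := wd_eq r_cen_v0_b3
      simpa only [wd_cons, wd_nil, mul_one] using this
    · have := wd_eq r_cen_v0_th
      simpa only [wd_cons, wd_nil, mul_one] using this
  · rw [h_c1]
    rcases hg with rfl | rfl | rfl | rfl | rfl | rfl | rfl
    · have := wd_eq r_cen_v1_a1
      simpa only [wd_cons, wd_nil, mul_one] using this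
    · have := wd_eq r_cen_v1_a2
      simpa only [wd_cons, wd_nil, mul_one] using this
    · have := wd_eq r_cen_v1_a3
      simpa only [wd_cons, wd_nil, mul_one] using this
    · have := wd_eq r_cen_v1_b1
      simpa only [wd_cons, wd_nil, mul_one] using this
    · have := wd_eq r_cen_v1_b2
      simpa only [wd_cons, wd_nil, mul_one] using this
    · have := wd_eq r_cen_v1_b3
      simpa only [wd_cons, wd_nil, mul_one] using this
    · have := wd_eq r_cen_v1_th
      simpa only [wd_cons, wd_nil, mul_one] using this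
  · rw [h_c2]
    rcases hg with rfl | rfl | rfl | rfl | rfl | rfl | rfl
    · have := wd_eq r_cen_v2_a1
      simpa only [wd_cons, wd_nil, mul_one] using this
    · have := wd_eq r_cen_v2_a2
      simpa only [wd_cons, wd_nil, mul_one] using this
    · have := wd_eq r_cen_v2_a3
      simpa only [wd_cons, wd_nil, mul_one] using this
    · have := wd_eq r_cen_v2_b1
      simpa only [wd_cons, wd_nil, mul_one] using this
    · have := wd_eq r_cen_v2_b2
      simpa only [wd_cons, wd_nil, mul_one] using this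
    · have := wd_eq r_cen_v2_b3
      simpa only [wd_cons, wd_nil, mul_one] using this
    · have := wd_eq r_cen_v2_th
      simpa only [wd_cons, wd_nil, mul_one] using this

theorem wc_nil : wc ([] : List (ℕ × ℕ)) = pid 315 := by rw [wc]

theorem wd_cond (e : Bool) (p : ℕ × ℕ) : wd (cond e [p] []) = cond e (el p) 1 := by
  cases e
  · exact wd_nil
  · exact wd_single p

theorem h_inj : ∀ e1 e2 e3 e4 e5 e6 : Bool, (cond e1 (el p_a1) 1) * ((cond e2 (el p_a2) 1) *
    ((cond e3 (el p_b1) 1) * ((cond e4 (el p_b2) 1) * ((cond e5 ⁅el p_a1, el p_b1⁆ 1) *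
      (cond e6 ⁅el p_a2, el p_b1⁆ 1))))) = 1 →
      e1 = false ∧ e2 = false ∧ e3 = false ∧ e4 = false ∧ e5 = false ∧ e6 = false := by
  intro e1 e2 e3 e4 e5 e6 h
  rw [h_c0, h_c1] at h
  have hw : wd (nfW e1 e2 e3 e4 e5 e6) = wd [] := by
    unfold nfW
    simp only [wd_append, wd_cond]
    rw [h, wd_nil]
  have hi := inj_all e1 e2 e3 e4 e5 e6
  unfold injOK at hi
  rw [Bool.and_eq_true] at hi
  obtain ⟨hok, hi⟩ := hi
  have hc := wc_eq_of_wd_eq hok (by rfl) hw
  have hc' : Nat.beq (wc (nfW e1 e2 e3 e4 e5 e6)) (pid 315) = true := by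
    rw [hc, wc_nil]
    exact Nat.beq_refl _
  rw [hc'] at hi
  simp only [Bool.not_true, Bool.false_or, Bool.and_eq_true, Bool.not_eq_true'] at hi
  obtain ⟨⟨⟨⟨⟨r1, r2⟩, r3⟩, r4⟩, r5⟩, r6⟩ := hi
  exact ⟨r1, r2, r3, r4, r5, r6⟩

/-- the local subgroup of order 384 -/
def H2 : Subgroup A := Subgroup.closure {el p_a1, el p_th, el p_w}

theorem a1_mem : el p_a1 ∈ H2 := Subgroup.subset_closure (by simp)
theorem th_mem : el p_th ∈ H2 := Subgroup.subset_closure (by simp)
theorem w_mem : el p_w ∈ H2 := Subgroup.subset_closure (by simp)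

theorem el_zero (k : ℕ) : el (0, k) = U k := by
  unfold el
  rw [E_zero, one_mul]

theorem S0_le_H2 : S0 ≤ H2 := by
  unfold S0
  rw [Subgroup.closure_le]
  intro g hg
  simp only [SS, Set.mem_insert_iff, Set.mem_singleton_iff] at hg
  rcases hg with rfl | rfl | rfl
  · have e : U sgA = wd [p_sA] := by rw [wd_single]; exact (el_zero _).symm
    rw [show (U sgA ∈ (H2 : Set A)) = (U sgA ∈ H2) from rfl, e, wd_eq r_sA]
    simp only [wd_cons, wd_nil, mul_one]
    exact Subgroup.mul_mem _ th_mem (Subgroup.mul_mem _ th_mem (Subgroup.mul_mem _ w_mem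
      (Subgroup.mul_mem _ a1_mem (Subgroup.mul_mem _ w_mem (Subgroup.mul_mem _ a1_mem
        (Subgroup.mul_mem _ th_mem w_mem))))))
  · have e : U sgB1 = wd [p_sB1] := by rw [wd_single]; exact (el_zero _).symm
    rw [show (U sgB1 ∈ (H2 : Set A)) = (U sgB1 ∈ H2) from rfl, e, wd_eq r_sB1]
    simp only [wd_cons, wd_nil, mul_one]
    exact Subgroup.mul_mem _ w_mem (Subgroup.mul_mem _ a1_mem (Subgroup.mul_mem _ th_mem
      (Subgroup.mul_mem _ th_mem (Subgroup.mul_mem _ w_mem (Subgroup.mul_mem _ a1_mem th_mem)))))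
  · have e : U sgB2 = wd [p_sB2] := by rw [wd_single]; exact (el_zero _).symm
    rw [show (U sgB2 ∈ (H2 : Set A)) = (U sgB2 ∈ H2) from rfl, e, wd_eq r_sB2]
    simp only [wd_cons, wd_nil, mul_one]
    exact Subgroup.mul_mem _ th_mem (Subgroup.mul_mem _ a1_mem (Subgroup.mul_mem _ w_mem
      (Subgroup.mul_mem _ a1_mem (Subgroup.mul_mem _ th_mem (Subgroup.mul_mem _ th_mem
        (Subgroup.mul_mem _ w_mem a1_mem))))))

theorem not_dvd_index_H2 : ¬ 2 ∣ (H2.subgroupOf G).index := by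
  have hle : S0G ≤ H2.subgroupOf G := by
    intro y hy
    rw [Subgroup.mem_subgroupOf]
    exact S0_le_H2 ((mem_S0G y).1 hy)
  have h1 : (H2.subgroupOf G).index ∣ S0G.index := Subgroup.index_dvd_of_le hle
  have h2 : S0G.index = 4725 := by
    have := Subgroup.card_mul_index S0G
    rw [card_S0G, card_G] at this
    omega
  rw [h2] at h1
  intro h
  have := h.trans h1
  revert this
  decide

/-- the two elements with commuting lifts -/
noncomputable def a1G : ↥G := ⟨el p_a1, el_mem _⟩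
noncomputable def a2G : ↥G := ⟨el p_a2, el_mem _⟩

theorem local2 (Γ : Type) [Group Γ] [Finite Γ] (σ : Γ →* ↥G)
    (hs : Function.Surjective σ) (hK : σ.ker ≤ Subgroup.center Γ)
    (hc : ∃ a b : Γ, σ a = a1G ∧ σ b = a2G ∧ a * b = b * a) :
    ∀ k ∈ ⁅(H2.subgroupOf G).comap σ, (H2.subgroupOf G).comap σ⁆, k ∈ σ.ker → k = 1 := by
  obtain ⟨τ, hτ⟩ : ∃ τ : Γ →* A, τ = (Subgroup.subtype _).comp σ := ⟨_, rfl⟩
  have hτa : ∀ a, τ a = (σ a : A) := by
    intro a
    rw [hτ]
    rfl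
  have hker : τ.ker = σ.ker := by
    ext a
    rw [MonoidHom.mem_ker, MonoidHom.mem_ker, hτa]
    constructor
    · intro h
      exact Subtype.ext h
    · intro h
      rw [h]
      rfl
  have hKτ : τ.ker ≤ Subgroup.center Γ := hker ▸ hK
  have hlift : ∀ g ∈ G, ∃ a, τ a = g := by
    intro g hg
    obtain ⟨a, ha⟩ := hs ⟨g, hg⟩
    exact ⟨a, by rw [hτa, ha]⟩
  have hcomap : (H2.subgroupOf G).comap σ = H2.comap τ := by
    ext a
    rw [Subgroup.mem_comap, Subgroup.mem_comap, Subgroup.mem_subgroupOf, hτa]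
  rw [hcomap, ← hker]
  obtain ⟨a, b, ha, hb, hab⟩ := hc
  exact local_H τ hKτ (el p_th) (el p_w) (el p_a1) (el p_a2) (el p_a3) (el p_b1) (el p_b2)
    (el p_b3) h_th3 h_w2 h_thw h_a2 h_a3 h_b1 h_b2 h_b3 h_a11 h_a23 h_cen h_inj
    (hlift _ (el_mem _)) (hlift _ (el_mem _))
    ⟨a, b, by rw [hτa, ha]; rfl, by rw [hτa, hb]; rfl, hab⟩

/-! ### The prime five -/

noncomputable def x5G : ↥G := ⟨el p_x5, el_mem _⟩
noncomputable def y5G : ↥G := ⟨el p_y5, el_mem _⟩
noncomputable def n5G : ↥G := ⟨el p_n5, el_mem _⟩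

theorem x5_pow : x5G ^ 5 = 1 := by
  apply Subtype.ext
  have := wd_eq r_x5p
  simp only [wd_cons, wd_nil, mul_one] at this
  show el p_x5 ^ 5 = 1
  simp only [pow_succ', pow_zero, mul_one]
  exact this

theorem y5_pow : y5G ^ 5 = 1 := by
  apply Subtype.ext
  have := wd_eq r_y5p
  simp only [wd_cons, wd_nil, mul_one] at this
  show el p_y5 ^ 5 = 1
  simp only [pow_succ', pow_zero, mul_one]
  exact this

theorem xy5 : Commute y5G x5G := by
  apply Subtype.ext
  have := wd_eq r_xy5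
  simp only [wd_cons, wd_nil, mul_one] at this
  exact this.symm

theorem ny5 : n5G * y5G * n5G⁻¹ = y5G := by
  apply Subtype.ext
  have := wd_eq r_ny5
  simp only [wd_cons, wd_nil, mul_one] at this
  exact conj_of_rel this

theorem nx5 : n5G * x5G * n5G⁻¹ = x5G⁻¹ := by
  apply Subtype.ext
  have := wd_eq r_nx5
  simp only [wd_cons, wd_nil, mul_one] at this
  exact inv_of_rel this

theorem x5_ne : x5G ≠ 1 := by
  intro h
  have h1 : el p_x5 = 1 := congrArg Subtype.val h
  have := wd_ne n_x5_1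
  rw [wd_single, wd_nil] at this
  exact this h1

theorem y5_ne : y5G ≠ 1 := by
  intro h
  have h1 : el p_y5 = 1 := congrArg Subtype.val h
  have := wd_ne n_y5_1
  rw [wd_single, wd_nil] at this
  exact this h1

theorem x5_not_mem : x5G ∉ Subgroup.zpowers y5G := by
  intro h
  obtain ⟨i, hi⟩ := Subgroup.mem_zpowers_iff.1 h
  have hc : n5G * x5G * n5G⁻¹ = x5G := by
    rw [← hi, ← conj_zpow, ny5]
  rw [nx5] at hc
  have h2 : x5G * x5G = 1 := by
    calc x5G * x5G = x5G * x5G⁻¹ := by rw [hc]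
      _ = 1 := mul_inv_cancel _
  apply x5_ne
  have h5 := x5_pow
  calc x5G = x5G ^ 5 * ((x5G * x5G) * (x5G * x5G))⁻¹ := by group
    _ = 1 := by rw [h5, h2]; group

/-- the Sylow 5-subgroup -/
noncomputable def Q5 : Subgroup ↥G := pairSubgroup y5G x5G xy5

theorem local5 (Γ : Type) [Group Γ] [Finite Γ] (σ : Γ →* ↥G)
    (hs : Function.Surjective σ) (hK : σ.ker ≤ Subgroup.center Γ) :
    ∃ Q : Subgroup ↥G, ¬ 5 ∣ Q.index ∧
      ∀ k ∈ ⁅Q.comap σ, Q.comap σ⁆, k ∈ σ.ker → k = 1 := by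
  have : Fact (Nat.Prime 5) := ⟨by norm_num⟩
  refine ⟨Q5, ?_, ?_⟩
  · apply not_dvd_index_pair' 5 y5G x5G xy5 y5_pow x5_pow y5_ne x5_not_mem
    rw [card_G]
    decide
  · obtain ⟨x, hx⟩ := hs x5G
    obtain ⟨y, hy⟩ := hs y5G
    obtain ⟨n, hn⟩ := hs n5G
    have hb := comm_eq_bot_of_odd σ hK (Q5.comap σ) y x n 5 (by decide)
      (by rw [hy]; exact y5_pow)
      (by rw [hx, hy]; exact xy5.eq)
      (by rw [hy, hn]; exact ny5)
      (by rw [hx, hn]; exact nx5)
      (by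
        intro u hu
        obtain ⟨i, j, hij⟩ := (mem_pairSubgroup y5G x5G xy5 (σ u)).1 hu
        exact ⟨i, j, by rw [hx, hy]; exact hij⟩)
    intro k hk _
    rw [hb] at hk
    exact Subgroup.mem_bot.1 hk

/-! ### The prime three -/

noncomputable def x3G : ↥G := ⟨el p_x3, el_mem _⟩
noncomputable def y3G : ↥G := ⟨el p_y3, el_mem _⟩
noncomputable def j3G : ↥G := ⟨el p_j3, el_mem _⟩
noncomputable def c3G : ↥G := ⟨el p_c3, el_mem _⟩

theorem pow3_of_rel {p : ℕ × ℕ} (h : relOK [p, p, p] [] = true) : el p ^ 3 = 1 := by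
  have := wd_eq h
  simp only [wd_cons, wd_nil, mul_one] at this
  simp only [pow_succ', pow_zero, mul_one]
  exact this

theorem x3_pow : x3G ^ 3 = 1 := Subtype.ext (pow3_of_rel r_x3c)
theorem y3_pow : y3G ^ 3 = 1 := Subtype.ext (pow3_of_rel r_y3c)
theorem c3_pow : c3G ^ 3 = 1 := Subtype.ext (pow3_of_rel r_c3c)

theorem xy3 : ⁅x3G, y3G⁆ = c3G := by
  apply Subtype.ext
  have := wd_eq r_xy3
  simp only [wd_cons, wd_nil, mul_one] at this
  exact comm_of_rel this

theorem xc3 : Commute x3G c3G := by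
  apply Subtype.ext
  have := wd_eq r_xc3
  simp only [wd_cons, wd_nil, mul_one] at this
  exact this

theorem yc3 : Commute y3G c3G := by
  apply Subtype.ext
  have := wd_eq r_yc3
  simp only [wd_cons, wd_nil, mul_one] at this
  exact this

theorem jx3 : j3G * x3G * j3G⁻¹ = x3G⁻¹ := by
  apply Subtype.ext
  have := wd_eq r_jx3
  simp only [wd_cons, wd_nil, mul_one] at this
  exact inv_of_rel this

theorem jy3 : j3G * y3G * j3G⁻¹ = y3G⁻¹ := by
  apply Subtype.ext
  have := wd_eq r_jy3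
  simp only [wd_cons, wd_nil, mul_one] at this
  exact inv_of_rel this

theorem c3_ne : c3G ≠ 1 := by
  intro h
  have h1 : el p_c3 = 1 := congrArg Subtype.val h
  have := wd_ne n_c3_1
  rw [wd_single, wd_nil] at this
  exact this h1

theorem x3_ne : x3G ≠ 1 := by
  intro h
  have h1 : el p_x3 = 1 := congrArg Subtype.val h
  have := wd_ne n_x3_1
  rw [wd_single, wd_nil] at this
  exact this h1

theorem c3_ne_x : c3G ≠ x3G := by
  intro h
  have h1 : el p_c3 = el p_x3 := congrArg Subtype.val h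
  have := wd_ne n_c3_x
  rw [wd_single, wd_single] at this
  exact this h1

theorem c3_ne_xx : c3G ≠ x3G ^ 2 := by
  intro h
  have h1 : el p_c3 = el p_x3 ^ 2 := congrArg Subtype.val h
  have := wd_ne n_c3_xx
  simp only [wd_cons, wd_nil, mul_one] at this
  apply this
  rw [h1, pow_two]

/-- the elementary abelian subgroup of order nine -/
noncomputable def E3 : Subgroup ↥G := pairSubgroup x3G c3G xc3

/-- the cyclic complement -/
noncomputable def D3 : Subgroup ↥G := Subgroup.zpowers y3G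

theorem E3_pgroup : IsPGroup 3 E3 ∧ 3 ^ 2 ∣ Nat.card E3 :=
  nine_dvd_card_pair x3G c3G xc3 x3_pow c3_pow x3_ne c3_ne c3_ne_x c3_ne_xx

theorem D3_pgroup : IsPGroup 3 D3 := by
  intro g
  refine ⟨1, ?_⟩
  obtain ⟨i, hi⟩ := Subgroup.mem_zpowers_iff.1 g.2
  apply Subtype.ext
  rw [pow_one, Subgroup.coe_pow, ← hi, ← zpow_natCast, ← zpow_mul, mul_comm, zpow_mul,
    zpow_natCast, y3_pow, one_zpow]
  rfl

theorem conj_pair {G' : Type*} [Group G'] (g x y : G') (i j : ℤ) :
    g * (x ^ i * y ^ j) * g⁻¹ = (g * x * g⁻¹) ^ i * (g * y * g⁻¹) ^ j := by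
  rw [conj_zpow, conj_zpow]
  group

theorem conj3 {G' : Type*} [Group G'] (g w : G') :
    g * (g * (g * w * g⁻¹) * g⁻¹) * g⁻¹ = g ^ 3 * w * (g ^ 3)⁻¹ := by
  simp only [pow_succ, pow_zero, one_mul, mul_inv_rev, mul_assoc]

theorem y3_x3 : y3G * x3G * y3G⁻¹ = x3G * c3G⁻¹ := by
  have h := xy3
  rw [commutatorElement_def] at h
  have e : y3G * x3G * y3G⁻¹ = c3G⁻¹ * x3G := by
    rw [← h]
    group
  rw [e, (xc3.inv_right).eq]

theorem y3_c3 : y3G * c3G * y3G⁻¹ = c3G := by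
  rw [yc3.eq]; group

theorem y3_conj (w : ↥G) (hw : w ∈ E3) : y3G * w * y3G⁻¹ ∈ E3 := by
  obtain ⟨i, j, rfl⟩ := hw
  refine ⟨i, -i + j, ?_⟩
  rw [conj_pair, y3_x3, y3_c3, (xc3.inv_right).mul_zpow, zpow_add, inv_zpow, zpow_neg, mul_assoc]

theorem y3_normalizer : y3G ∈ Subgroup.normalizer (E3 : Set ↥G) := by
  rw [Subgroup.mem_normalizer_iff]
  intro w
  constructor
  · exact y3_conj w
  · intro h
    have h2 := y3_conj _ (y3_conj _ h)
    rw [conj3, y3_pow, one_mul, inv_one, mul_one] at h2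
    exact h2

theorem D3_le : D3 ≤ Subgroup.normalizer (E3 : Set ↥G) := by
  unfold D3
  rw [Subgroup.zpowers_le]
  exact y3_normalizer

theorem y3_not_mem : y3G ∉ E3 := by
  rintro ⟨i, j, h⟩
  have hc : Commute x3G y3G := by
    rw [h]
    exact ((Commute.refl x3G).zpow_right i).mul_right (xc3.zpow_right j)
  apply c3_ne
  rw [← xy3]
  exact commutatorElement_eq_one_iff_commute.2 hc

theorem not_dvd_card3 : ¬ 3 ^ (2 + 2) ∣ Nat.card ↥G := by
  rw [card_G]
  decide

theorem local3 (Γ : Type) [Group Γ] [Finite Γ] (σ : Γ →* ↥G)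
    (hs : Function.Surjective σ) (hK : σ.ker ≤ Subgroup.center Γ) :
    ∃ Q : Subgroup ↥G, ¬ 3 ∣ Q.index ∧
      ∀ k ∈ ⁅Q.comap σ, Q.comap σ⁆, k ∈ σ.ker → k = 1 := by
  have : Fact (Nat.Prime 3) := ⟨Nat.prime_three⟩
  have hP3 : IsPGroup 3 (E3 ⊔ D3 : Subgroup ↥G) :=
    IsPGroup.to_sup_of_normal_left' E3_pgroup.1 D3_pgroup D3_le
  refine ⟨E3 ⊔ D3, ?_, ?_⟩
  · exact not_dvd_index_of_lt 3 E3 (E3 ⊔ D3) hP3 le_sup_left
      ⟨y3G, Subgroup.mem_sup_right (Subgroup.mem_zpowers y3G), y3_not_mem⟩ 2 E3_pgroup.2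
      not_dvd_card3
  obtain ⟨x, hx⟩ := hs x3G
  obtain ⟨y, hy⟩ := hs y3G
  obtain ⟨n, hn⟩ := hs j3G
  have hxm : x3G ∈ Subgroup.closure ({σ x, σ y} : Set ↥G) :=
    Subgroup.subset_closure (by rw [hx]; simp)
  have hym : y3G ∈ Subgroup.closure ({σ x, σ y} : Set ↥G) :=
    Subgroup.subset_closure (by rw [hy]; simp)
  have hcm : c3G ∈ Subgroup.closure ({σ x, σ y} : Set ↥G) := by
    rw [← xy3]
    exact Ctx.comm_mem hxm hym
  apply comm_inf_ker_of_heis σ hK x y n
  · rw [hx]; exact x3_pow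
  · rw [hy]; exact y3_pow
  · rw [hx, hy, xy3]; exact xc3.eq
  · rw [hx, hy, xy3]; exact yc3.eq
  · rw [hx, hn]; exact jx3
  · rw [hy, hn]; exact jy3
  · rw [hx, hy, xy3]; exact c3_ne
  · apply sup_le
    · rintro _ ⟨i, j, rfl⟩
      exact Subgroup.mul_mem _ (Subgroup.zpow_mem _ hxm i) (Subgroup.zpow_mem _ hcm j)
    · unfold D3
      rw [Subgroup.zpowers_le]
      exact hym

/-! ### The kernel of a stem extension -/

theorem not_sq_dvd (p : ℕ) (hp : p.Prime) (h2 : p ≠ 2) (h3 : p ≠ 3) (h5 : p ≠ 5) :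
    ¬ p ^ 2 ∣ 604800 := by
  intro hd
  have h1 : p ∣ 2 ^ 7 * 3 ^ 3 * 5 ^ 2 * 7 := (dvd_pow_self p (by norm_num)).trans hd
  rcases (Nat.Prime.dvd_mul hp).1 h1 with h | h
  · rcases (Nat.Prime.dvd_mul hp).1 h with h | h
    · rcases (Nat.Prime.dvd_mul hp).1 h with h | h
      · exact h2 ((Nat.prime_dvd_prime_iff_eq hp Nat.prime_two).1 (hp.dvd_of_dvd_pow h))
      · exact h3 ((Nat.prime_dvd_prime_iff_eq hp Nat.prime_three).1 (hp.dvd_of_dvd_pow h))
    · exact h5 ((Nat.prime_dvd_prime_iff_eq hp Nat.prime_five).1 (hp.dvd_of_dvd_pow h))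
  · have := (Nat.prime_dvd_prime_iff_eq hp (by norm_num : Nat.Prime 7)).1 h
    subst this
    revert hd
    decide

/-- a finite stem extension in which lifts of the two elements commute is an isomorphism -/
theorem ker_eq_bot_of_comm (Γ : Type) [Group Γ] [Finite Γ] (σ : Γ →* ↥G)
    (hσ : Cfsg.IsStemExtension σ)
    (hc : ∃ a b : Γ, σ a = a1G ∧ σ b = a2G ∧ a * b = b * a) : σ.ker = ⊥ := by
  obtain ⟨hs, hK, hK'⟩ := hσ
  have hfin : Finite ↥G := Nat.finite_of_card_ne_zero (by rw [card_G]; norm_num)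
  apply ker_eq_bot_of_local σ hs hK hK'
  intro p hp
  by_cases h2 : p = 2
  · subst h2
    exact ⟨H2.subgroupOf G, not_dvd_index_H2, local2 Γ σ hs hK hc⟩
  by_cases h3 : p = 3
  · subst h3
    exact local3 Γ σ hs hK
  by_cases h5 : p = 5
  · subst h5
    exact local5 Γ σ hs hK
  · apply local_of_not_sq_dvd σ hs hK p hp
    rw [card_G]
    exact not_sq_dvd p hp h2 h3 h5

theorem a1G_a2G : a1G * a2G = a2G * a1G := by
  apply Subtype.ext
  have := wd_eq r_a12
  simp only [wd_cons, wd_nil, mul_one] at this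
  exact this

theorem a1G_sq : a1G * a1G = 1 := Subtype.ext h_a11

/-- the kernel of a finite stem extension is generated by an element of order at most two -/
theorem ker_eq_zpowers (Γ : Type) [Group Γ] [Finite Γ] (σ : Γ →* ↥G)
    (hσ : Cfsg.IsStemExtension σ) : ∃ γ : Γ, γ * γ = 1 ∧ σ.ker = Subgroup.zpowers γ := by
  obtain ⟨a, ha⟩ := hσ.1 a1G
  obtain ⟨b, hb⟩ := hσ.1 a2G
  have hab : σ a * σ b = σ b * σ a := by rw [ha, hb]; exact a1G_a2G
  refine ⟨⁅a, b⁆, StemQuot.comm_sq_eq_one σ hσ.2.1 a b hab (by rw [ha]; exact a1G_sq), ?_⟩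
  apply StemQuot.ker_eq_zpowers σ hσ a b hab
  intro Γ' _ _ σ' hσ' hc
  rw [ha, hb] at hc
  exact ker_eq_bot_of_comm Γ' σ' hσ' hc

/-- the same for the group as defined -/
theorem ker_eq_zpowers_J2 (Γ : Type) [Group Γ] [Finite Γ] (σ : Γ →* J2)
    (hσ : Cfsg.IsStemExtension σ) : ∃ γ : Γ, γ * γ = 1 ∧ σ.ker = Subgroup.zpowers γ := by
  obtain ⟨σ', hσ'⟩ : ∃ σ' : Γ →* ↥G, σ' = j2Equiv.toMonoidHom.comp σ := ⟨_, rfl⟩
  have hap : ∀ a, σ' a = j2Equiv (σ a) := by
    intro a
    rw [hσ']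
    rfl
  have hker : σ'.ker = σ.ker := by
    ext a
    rw [MonoidHom.mem_ker, MonoidHom.mem_ker, hap]
    exact j2Equiv.map_eq_one_iff
  have h' : Cfsg.IsStemExtension σ' := by
    refine ⟨?_, hker ▸ hσ.2.1, hker ▸ hσ.2.2⟩
    intro g
    obtain ⟨a, ha⟩ := hσ.1 (j2Equiv.symm g)
    exact ⟨a, by rw [hap, ha, MulEquiv.apply_symm_apply]⟩
  obtain ⟨γ, h1, h2⟩ := ker_eq_zpowers Γ σ' h'
  exact ⟨γ, h1, by rw [← hker]; exact h2⟩

end Cfsg.Agent.Helper29.SchurJ2
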