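import Mathlib
import Cfsg.Agent.Lib.Helper29.StemSylow

set_option autoImplicit false

/-! The generalized quaternion case: the commutator subgroup of the preimage (in a central
extension) of a generalized quaternion group of order 16 meets the kernel trivially. -/

namespace Cfsg.Agent.Helper29.StemSylow

open scoped commutatorElement

variable {Γ : Type*} [Group Γ] {G : Type*} [Group G]

theorem comm_inf_ker_of_quat (σ : Γ →* G) (hK : σ.ker ≤ Subgroup.center Γ) (H : Subgroup Γ)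
    (a b : Γ) (ha8 : σ a ^ 8 = 1) (ha4 : σ a ^ 4 ≠ 1) (hb2 : σ b * σ b = σ a ^ 4)
    (hba : σ b * σ a * (σ b)⁻¹ = (σ a)⁻¹)
    (hh : ∀ u ∈ H, ∃ i : ℤ, σ u = σ a ^ i ∨ σ u = σ a ^ i * σ b) :
    ∀ k ∈ ⁅H, H⁆, k ∈ σ.ker → k = 1 := by
  obtain ⟨c, hc⟩ : ∃ c, c = ⁅b, a⁆ := ⟨_, rfl⟩
  have hbab : b * a * b⁻¹ = c * a := by rw [hc, commutatorElement_def]; group
  have hσc : σ c = σ a ^ (-2 : ℤ) := by
    rw [hc, map_commutatorElement, commutatorElement_def, hba]; group
  obtain ⟨κ₁, hκ₁, e1⟩ := exists_ker_mul σ c (a ^ (-2 : ℤ)) (by rw [hσc, map_zpow])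
  have k1 := central_comm σ hK hκ₁
  have hca : Commute c a := by
    show c * a = a * c
    rw [e1, mul_assoc, ← k1 a, ← mul_assoc, ← mul_assoc]
    congr 1
    group
  -- conjugation of `c` by `b`
  have hbc : b * c * b⁻¹ = c⁻¹ := by
    calc b * c * b⁻¹ = b * a ^ (-2 : ℤ) * (κ₁ * b⁻¹) := by rw [e1]; group
      _ = b * a ^ (-2 : ℤ) * (b⁻¹ * κ₁) := by rw [k1 b⁻¹]
      _ = (b * a * b⁻¹) ^ (-2 : ℤ) * κ₁ := by rw [conj_zpow]; group
      _ = (c * a) ^ (-2 : ℤ) * κ₁ := by rw [hbab]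
      _ = c ^ (-2 : ℤ) * a ^ (-2 : ℤ) * κ₁ := by rw [hca.mul_zpow]
      _ = c ^ (-2 : ℤ) * c := by rw [e1]; group
      _ = c⁻¹ := by group
  -- `b * b` differs from `a ^ 4` by a central element
  obtain ⟨μ, hμ, e2⟩ := exists_ker_mul σ (b * b) (a ^ 4) (by rw [map_mul, hb2, map_pow])
  have kμ := central_comm σ hK hμ
  have hconj : ∀ z : ℤ, b * a ^ z * b⁻¹ = c ^ z * a ^ z := by
    intro z
    rw [← conj_zpow, hbab, hca.mul_zpow]
  have hc4 : c ^ 4 = 1 := by
    have e3 : b * a ^ 4 * b⁻¹ = c ^ 4 * a ^ 4 := by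
      have := hconj 4
      simpa only [zpow_ofNat] using this
    have e4 : b * a ^ 4 * b⁻¹ = a ^ 4 := by
      have h5 : a ^ 4 = b * b * μ⁻¹ := by rw [e2]; group
      have kμ' : b * μ⁻¹ = μ⁻¹ * b := by
        have := kμ b
        calc b * μ⁻¹ = μ⁻¹ * (μ * b) * μ⁻¹ := by group
          _ = μ⁻¹ * (b * μ) * μ⁻¹ := by rw [this]
          _ = μ⁻¹ * b := by group
      calc b * a ^ 4 * b⁻¹ = b * (b * b * μ⁻¹) * b⁻¹ := by rw [h5]
        _ = b * b * (b * μ⁻¹) * b⁻¹ := by group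
        _ = b * b * (μ⁻¹ * b) * b⁻¹ := by rw [kμ']
        _ = b * b * μ⁻¹ := by group
        _ = a ^ 4 := h5.symm
    rw [e4] at e3
    exact (mul_eq_right.1 e3.symm)
  -- all commutators lie in the cyclic group generated by `c`
  have hle : ⁅H, H⁆ ≤ Subgroup.zpowers c := by
    rw [Subgroup.commutator_le]
    intro u hu v hv
    obtain ⟨i, hi⟩ := hh u hu
    obtain ⟨m, hm⟩ := hh v hv
    simp only [← map_zpow, ← map_mul] at hi hm
    rcases hi with hi | hi <;> rcases hm with hm | hm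
    · obtain ⟨κ, hκ, rfl⟩ := exists_ker_mul σ u _ hi
      obtain ⟨ν, hν, rfl⟩ := exists_ker_mul σ v _ hm
      rw [comm_central_left (central_comm σ hK hκ), comm_central_right (central_comm σ hK hν)]
      have : ⁅a ^ i, a ^ m⁆ = 1 := by
        rw [commutatorElement_eq_one_iff_commute]
        exact Commute.zpow_zpow_self a i m
      rw [this]
      exact Subgroup.one_mem _
    · obtain ⟨κ, hκ, rfl⟩ := exists_ker_mul σ u _ hi
      obtain ⟨ν, hν, rfl⟩ := exists_ker_mul σ v _ hm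
      rw [comm_central_left (central_comm σ hK hκ), comm_central_right (central_comm σ hK hν),
        ← commutatorElement_inv, comm_twist a b c hca hconj]
      exact Subgroup.inv_mem _ (Subgroup.zpow_mem_zpowers c i)
    · obtain ⟨κ, hκ, rfl⟩ := exists_ker_mul σ u _ hi
      obtain ⟨ν, hν, rfl⟩ := exists_ker_mul σ v _ hm
      rw [comm_central_left (central_comm σ hK hκ), comm_central_right (central_comm σ hK hν),
        comm_twist a b c hca hconj]
      exact Subgroup.zpow_mem_zpowers c m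
    · obtain ⟨κ, hκ, rfl⟩ := exists_ker_mul σ u _ hi
      obtain ⟨ν, hν, rfl⟩ := exists_ker_mul σ v _ hm
      rw [comm_central_left (central_comm σ hK hκ), comm_central_right (central_comm σ hK hν),
        comm_twist' a b c hca hconj]
      exact Subgroup.zpow_mem_zpowers c _
  intro k hk hkK
  obtain ⟨j, rfl⟩ := Subgroup.mem_zpowers_iff.1 (hle hk)
  rw [MonoidHom.mem_ker, map_zpow, hσc, ← zpow_mul] at hkK
  have h8 : orderOf (σ a) = 2 ^ (2 + 1) := by
    have : Fact (Nat.Prime 2) := ⟨Nat.prime_two⟩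
    exact orderOf_eq_prime_pow (by norm_num; exact ha4) (by norm_num; exact ha8)
  have hd := (orderOf_dvd_iff_zpow_eq_one).2 hkK
  rw [h8] at hd
  have h4 : (4 : ℤ) ∣ j := by
    obtain ⟨t, ht⟩ := hd
    refine ⟨-t, ?_⟩
    push_cast at ht
    omega
  obtain ⟨t, rfl⟩ := h4
  rw [zpow_mul, zpow_ofNat, hc4, one_zpow]

end Cfsg.Agent.Helper29.StemSylow
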