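import Mathlib
import Cfsg.Prelude.Def_KGroupFacts
import Cfsg.Agent.Lib.Helper2.PSL29
import Cfsg.Agent.Lib.Helper2.SLMapEquiv
import Cfsg.Agent.Lib.Helper29.StemQuot
import Cfsg.Agent.Lib.Helper29.StemQuat

set_option autoImplicit false

/-! The kernel of a finite stem extension of `SL₂(9)` is generated by an element of order
dividing three. -/

namespace Cfsg.Agent.Helper29.SchurSL29

open Cfsg.Agent.Helper2 Cfsg.Agent.Helper2.P29 Cfsg.Agent.Helper29.StemSylow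
open scoped commutatorElement

/-- an element of order eight: `diag(1 + i, (1 + i)⁻¹)` -/
def aG : SL29 := ⟨!![⟨1, 1⟩, 0; 0, ⟨2, 1⟩], by decide⟩

def bG : SL29 := Wsl

set_option maxRecDepth 100000 in
theorem rels2 : aG ^ 8 = 1 ∧ aG ^ 4 ≠ 1 ∧ bG * bG = aG ^ 4 ∧ bG * aG * bG⁻¹ = aG⁻¹ := by
  decide +kernel

/-- the elements of a generalized quaternion Sylow 2-subgroup -/
def Qlist : List SL29 :=
  (List.range 8).map (fun i => aG ^ i) ++ (List.range 8).map (fun i => aG ^ i * bG)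

set_option maxRecDepth 100000 in
theorem Qlist_closed : (1 : SL29) ∈ Qlist ∧ (∀ g ∈ Qlist, ∀ h ∈ Qlist, g * h ∈ Qlist) ∧
    (∀ g ∈ Qlist, g⁻¹ ∈ Qlist) ∧ Qlist.toFinset.card = 16 := by
  decide +kernel

def Q16 : Subgroup SL29 where
  carrier := {g | g ∈ Qlist}
  one_mem' := Qlist_closed.1
  mul_mem' := fun {a b} ha hb => Qlist_closed.2.1 a ha b hb
  inv_mem' := fun {a} ha => Qlist_closed.2.2.1 a ha

theorem mem_Q16 (g : SL29) : g ∈ Q16 ↔ g ∈ Qlist := Iff.rfl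

theorem Q16_form (g : SL29) (hg : g ∈ Q16) : ∃ i : ℤ, g = aG ^ i ∨ g = aG ^ i * bG := by
  rw [mem_Q16] at hg
  unfold Qlist at hg
  rw [List.mem_append, List.mem_map, List.mem_map] at hg
  rcases hg with ⟨i, -, rfl⟩ | ⟨i, -, rfl⟩
  · exact ⟨i, Or.inl (zpow_natCast aG i).symm⟩
  · exact ⟨i, Or.inr (by rw [zpow_natCast])⟩

theorem card_Q16 : Nat.card Q16 = 16 := by
  classical
  have h : (Q16 : Set SL29) = ↑Qlist.toFinset := by
    ext g
    simp [mem_Q16]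
  rw [← SetLike.coe_sort_coe, Nat.card_coe_set_eq, h, Set.ncard_coe_finset]
  exact Qlist_closed.2.2.2

theorem card_SL29 : Nat.card SL29 = 720 := by
  have h := card_SL_mul (F := F9) 2 (by norm_num)
  rw [F9.card_F9, Fin.prod_univ_two] at h
  have h2 : (9 - 1) * Nat.card SL29 = (9 ^ 2 - 9 ^ 0) * (9 ^ 2 - 9 ^ 1) := h
  omega

theorem index_Q16 : ¬ 2 ∣ Q16.index := by
  have h := Subgroup.card_mul_index Q16
  rw [card_Q16, card_SL29] at h
  have : Q16.index = 45 := by omega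
  rw [this]
  decide

universe u

/-- the local condition at the prime 2 -/
theorem local2 {Γ : Type u} [Group Γ] (σ : Γ →* SL29) (hs : Function.Surjective σ)
    (hK : σ.ker ≤ Subgroup.center Γ) :
    ∃ Q : Subgroup SL29, ¬ 2 ∣ Q.index ∧
      ∀ k ∈ ⁅Q.comap σ, Q.comap σ⁆, k ∈ σ.ker → k = 1 := by
  refine ⟨Q16, index_Q16, ?_⟩
  obtain ⟨a, ha⟩ := hs aG
  obtain ⟨b, hb⟩ := hs bG
  apply comm_inf_ker_of_quat σ hK (Q16.comap σ) a b
  · rw [ha]; exact rels2.1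
  · rw [ha]; exact rels2.2.1
  · rw [ha, hb]; exact rels2.2.2.1
  · rw [ha, hb]; exact rels2.2.2.2
  · intro u hu
    rw [ha, hb]
    exact Q16_form (σ u) hu

set_option maxRecDepth 100000 in
theorem rels3 : U1 * U2 = U2 * U1 ∧ U1 ^ 3 = 1 ∧ U2 ^ 3 = 1 ∧ U1 ≠ 1 ∧ U2 ≠ 1 ∧ U2 ≠ U1 ∧
    U2 ≠ U1 ^ 2 := by
  decide +kernel

theorem hU12 : Commute U1 U2 := rels3.1

/-- the local condition at the prime 3, when the lifts of the two generators commute -/
theorem local3 {Γ : Type u} [Group Γ] (σ : Γ →* SL29)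
    (hK : σ.ker ≤ Subgroup.center Γ) (hc : ∃ x y : Γ, σ x = U1 ∧ σ y = U2 ∧ x * y = y * x) :
    ∃ Q : Subgroup SL29, ¬ 3 ∣ Q.index ∧
      ∀ k ∈ ⁅Q.comap σ, Q.comap σ⁆, k ∈ σ.ker → k = 1 := by
  have : Finite SL29 := inferInstance
  refine ⟨pairSubgroup U1 U2 hU12, ?_, ?_⟩
  · apply not_dvd_index_pair U1 U2 hU12 rels3.2.1 rels3.2.2.1 rels3.2.2.2.1 rels3.2.2.2.2.1
      rels3.2.2.2.2.2.1 rels3.2.2.2.2.2.2
    rw [card_SL29]
    decide
  obtain ⟨x, y, hx, hy, hxy⟩ := hc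
  have hxy' : Commute x y := hxy
  have hbot : ⁅(pairSubgroup U1 U2 hU12).comap σ, (pairSubgroup U1 U2 hU12).comap σ⁆ = ⊥ := by
    rw [eq_bot_iff, Subgroup.commutator_le]
    intro u hu v hv
    obtain ⟨i, j, hij⟩ := (mem_pairSubgroup U1 U2 hU12 (σ u)).1 hu
    obtain ⟨i', j', hij'⟩ := (mem_pairSubgroup U1 U2 hU12 (σ v)).1 hv
    obtain ⟨κ, hκ, rfl⟩ := exists_ker_mul σ u (x ^ i * y ^ j) (by
      rw [hij, map_mul, map_zpow, map_zpow, hx, hy])
    obtain ⟨ν, hν, rfl⟩ := exists_ker_mul σ v (x ^ i' * y ^ j') (by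
      rw [hij', map_mul, map_zpow, map_zpow, hx, hy])
    rw [comm_central_left (central_comm σ hK hκ), comm_central_right (central_comm σ hK hν),
      Subgroup.mem_bot, commutatorElement_eq_one_iff_commute]
    exact Commute.mul_left
      (Commute.mul_right (Commute.zpow_zpow_self x i i') (hxy'.zpow_zpow i j'))
      (Commute.mul_right ((hxy'.zpow_zpow i' j).symm) (Commute.zpow_zpow_self y j j'))
  intro k hk _
  rw [hbot] at hk
  exact Subgroup.mem_bot.1 hk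

theorem not_sq_dvd (p : ℕ) (hp : p.Prime) (h2 : p ≠ 2) (h3 : p ≠ 3) : ¬ p ^ 2 ∣ 720 := by
  intro hd
  have h1 : p ∣ 2 ^ 4 * 3 ^ 2 * 5 := (dvd_pow_self p (by norm_num)).trans hd
  rcases (Nat.Prime.dvd_mul hp).1 h1 with h | h
  · rcases (Nat.Prime.dvd_mul hp).1 h with h | h
    · exact h2 ((Nat.prime_dvd_prime_iff_eq hp Nat.prime_two).1 (hp.dvd_of_dvd_pow h))
    · exact h3 ((Nat.prime_dvd_prime_iff_eq hp Nat.prime_three).1 (hp.dvd_of_dvd_pow h))
  · have := (Nat.prime_dvd_prime_iff_eq hp Nat.prime_five).1 h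
    subst this
    revert hd
    decide

/-- a finite stem extension in which lifts of the two generators of a Sylow 3-subgroup
commute is an isomorphism -/
theorem ker_eq_bot_of_comm {Γ : Type u} [Group Γ] [Finite Γ] (σ : Γ →* SL29)
    (hσ : Cfsg.IsStemExtension σ)
    (hc : ∃ x y : Γ, σ x = U1 ∧ σ y = U2 ∧ x * y = y * x) : σ.ker = ⊥ := by
  obtain ⟨hs, hK, hK'⟩ := hσ
  have : Finite SL29 := inferInstance
  apply ker_eq_bot_of_local σ hs hK hK'
  intro p hp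
  by_cases h2 : p = 2
  · subst h2
    exact local2 σ hs hK
  by_cases h3 : p = 3
  · subst h3
    exact local3 σ hK hc
  · apply local_of_not_sq_dvd σ hs hK p hp
    rw [card_SL29]
    exact not_sq_dvd p hp h2 h3

/-- the kernel of a finite stem extension of `SL₂(9)` is generated by an element of order
dividing three -/
theorem ker_eq_zpowers {Γ : Type u} [Group Γ] [Finite Γ] (σ : Γ →* SL29)
    (hσ : Cfsg.IsStemExtension σ) : ∃ γ : Γ, γ ^ 3 = 1 ∧ σ.ker = Subgroup.zpowers γ := by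
  obtain ⟨x, hx⟩ := hσ.1 U1
  obtain ⟨y, hy⟩ := hσ.1 U2
  have hab : σ x * σ y = σ y * σ x := by rw [hx, hy]; exact rels3.1
  refine ⟨⁅x, y⁆, ?_, ?_⟩
  · have hK := hσ.2.1
    have hγK : ⁅x, y⁆ ∈ σ.ker := by
      rw [MonoidHom.mem_ker, map_commutatorElement, commutatorElement_def, hab]
      group
    have cγ := central_comm σ hK hγK
    have hx3K : x * (x * x) ∈ σ.ker := by
      rw [MonoidHom.mem_ker, map_mul, map_mul, hx, ← pow_two, ← pow_succ']
      exact rels3.2.1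
    have cx3 := central_comm σ hK hx3K
    have e1 : ⁅x * x, y⁆ = ⁅x, y⁆ * ⁅x, y⁆ := comm_mul_left_of_central x x y cγ
    have c2 : ∀ g : Γ, g * ⁅x * x, y⁆ = ⁅x * x, y⁆ * g := by
      intro g
      rw [e1, ← mul_assoc, cγ g, mul_assoc, cγ g, mul_assoc]
    have e2 : ⁅x * (x * x), y⁆ = ⁅x, y⁆ * ⁅x * x, y⁆ := comm_mul_left_of_central x (x * x) y c2
    have e3 : ⁅x * (x * x), y⁆ = 1 := by
      rw [commutatorElement_def, ← cx3 y]
      group
    rw [pow_succ', pow_two, ← e1, ← e2, e3]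
  · apply StemQuot.ker_eq_zpowers σ hσ x y hab
    intro Γ' _ _ σ' hσ' hc
    obtain ⟨a', b', ha', hb', hc'⟩ := hc
    exact ker_eq_bot_of_comm σ' hσ' ⟨a', b', by rw [ha', hx], by rw [hb', hy], hc'⟩

/-- the kernel of a finite stem extension of `SL₂(F)`, `|F| = 9` -/
theorem ker_eq_zpowers' {F : Type u} [Field F] [Fintype F] (hF : Fintype.card F = 9)
    {Γ : Type u} [Group Γ] [Finite Γ] (σ : Γ →* Matrix.SpecialLinearGroup (Fin 2) F)
    (hσ : Cfsg.IsStemExtension σ) : ∃ γ : Γ, γ ^ 3 = 1 ∧ σ.ker = Subgroup.zpowers γ := by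
  have e9 : F ≃+* F9 := FiniteField.ringEquivOfCardEq (by rw [hF, F9.card_F9])
  obtain ⟨ε, hε⟩ : ∃ ε : Matrix.SpecialLinearGroup (Fin 2) F ≃* SL29, ε = slMapEquiv e9 := ⟨_, rfl⟩
  have hker : (ε.toMonoidHom.comp σ).ker = σ.ker := by
    ext g
    rw [MonoidHom.mem_ker, MonoidHom.mem_ker, MonoidHom.comp_apply]
    exact ε.map_eq_one_iff
  have hσ' : Cfsg.IsStemExtension (ε.toMonoidHom.comp σ) := by
    refine ⟨ε.surjective.comp hσ.1, ?_, ?_⟩
    · rw [hker]; exact hσ.2.1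
    · rw [hker]; exact hσ.2.2
  obtain ⟨γ, h3, hk⟩ := ker_eq_zpowers (ε.toMonoidHom.comp σ) hσ'
  exact ⟨γ, h3, by rw [← hker, hk]⟩

end Cfsg.Agent.Helper29.SchurSL29
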