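import Mathlib
import Cfsg.Agent.Lib.Helper29.J2Spec

/-!
# Groups of unbounded order with the spectrum of the Hall-Janko group, part A

The alternating group of degree eight acts on the heart `V` of the permutation module over the
field with two elements (even weight vectors modulo the all-ones vector, realised as the vectors
of even weight vanishing at the last point). Elements of order 7 and 15 act without fixed points.
-/

set_option autoImplicit false

namespace Cfsg.Agent.Helper29.SpecInf

open Cfsg.Agent.Helper29.J2SC Cfsg.Agent.Helper29.J2G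

/-! ### Cycle types in degree eight -/

/-- Every cycle type in degree eight is below this multiset. -/
def M0 : Multiset ℕ := {2, 2, 2, 2, 3, 3, 4, 4, 5, 6, 7, 8}

theorem count_mul_le_sum (m : Multiset ℕ) (a : ℕ) : m.count a * a ≤ m.sum := by
  have h1 : m = m.filter (fun x => a = x) + m.filter (fun x => ¬ a = x) :=
    (Multiset.filter_add_not _ m).symm
  have h2 : m.filter (fun x => a = x) = Multiset.replicate (m.count a) a := Multiset.filter_eq m a
  have h3 : m.sum = (m.filter (fun x => a = x)).sum + (m.filter (fun x => ¬ a = x)).sum := by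
    conv_lhs => rw [h1]
    exact Multiset.sum_add _ _
  rw [h2, Multiset.sum_replicate, smul_eq_mul] at h3
  omega

theorem le_M0 (m : Multiset ℕ) (h2 : ∀ a ∈ m, 2 ≤ a) (hs : m.sum ≤ 8) : m ≤ M0 := by
  rw [Multiset.le_iff_count]
  intro a
  by_cases ha : a ∈ m
  · have h2a := h2 a ha
    have h8 : a ≤ 8 := (Multiset.le_sum_of_mem ha).trans hs
    have hc := count_mul_le_sum m a
    interval_cases a
    · have : Multiset.count 2 M0 = 4 := by decide
      rw [this]; omega
    · have : Multiset.count 3 M0 = 2 := by decide
      rw [this]; omega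
    · have : Multiset.count 4 M0 = 2 := by decide
      rw [this]; omega
    · have : Multiset.count 5 M0 = 1 := by decide
      rw [this]; omega
    · have : Multiset.count 6 M0 = 1 := by decide
      rw [this]; omega
    · have : Multiset.count 7 M0 = 1 := by decide
      rw [this]; omega
    · have : Multiset.count 8 M0 = 1 := by decide
      rw [this]; omega
  · rw [Multiset.count_eq_zero_of_notMem ha]
    exact Nat.zero_le _

/-- The orders of the even permutations: `1, …, 7, 15`. -/
def okA (n : ℕ) : Bool := Nat.testBit 33022 n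

set_option maxRecDepth 100000 in
theorem M0_even : ∀ m ∈ M0.powerset, m.sum ≤ 8 → Even (m.sum + Multiset.card m) →
    okA m.lcm = true := by decide +kernel

set_option maxRecDepth 100000 in
theorem M0_seven : ∀ m ∈ M0.powerset, m.sum ≤ 8 → m.lcm = 7 → m = {7} := by decide +kernel

set_option maxRecDepth 100000 in
theorem M0_fifteen : ∀ m ∈ M0.powerset, m.sum ≤ 8 → m.lcm = 15 → m = {5, 3} := by decide +kernel

theorem cycleType_le (σ : Equiv.Perm (Fin 8)) :
    σ.cycleType ∈ M0.powerset ∧ σ.cycleType.sum ≤ 8 := by
  have hs : σ.cycleType.sum ≤ 8 := by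
    have := Equiv.Perm.sum_cycleType_le σ
    simpa using this
  refine ⟨?_, hs⟩
  rw [Multiset.mem_powerset]
  exact le_M0 _ (fun a ha => Equiv.Perm.two_le_of_mem_cycleType ha) hs

theorem order_alt (σ : Equiv.Perm (Fin 8)) (hσ : σ ∈ alternatingGroup (Fin 8)) :
    okA (orderOf σ) = true := by
  rw [← Equiv.Perm.lcm_cycleType]
  obtain ⟨h1, h2⟩ := cycleType_le σ
  apply M0_even _ h1 h2
  rw [Equiv.Perm.mem_alternatingGroup, Equiv.Perm.sign_of_cycleType] at hσ
  by_contra hodd
  rw [Nat.not_even_iff_odd] at hodd
  rw [hodd.neg_one_pow] at hσ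
  exact absurd hσ (by decide)

theorem cycleType_of_order_seven (σ : Equiv.Perm (Fin 8)) (h : orderOf σ = 7) :
    σ.cycleType = {7} := by
  obtain ⟨h1, h2⟩ := cycleType_le σ
  exact M0_seven _ h1 h2 (by rw [Equiv.Perm.lcm_cycleType, h])

theorem cycleType_of_order_fifteen (σ : Equiv.Perm (Fin 8)) (h : orderOf σ = 15) :
    σ.cycleType = {5, 3} := by
  obtain ⟨h1, h2⟩ := cycleType_le σ
  exact M0_fifteen _ h1 h2 (by rw [Equiv.Perm.lcm_cycleType, h])

end Cfsg.Agent.Helper29.SpecInf
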