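import Mathlib
import Cfsg.Agent.Lib.Helper29.SpecInfA

/-!
# Groups of unbounded order with the spectrum of the Hall-Janko group, part B: the heart
-/

set_option autoImplicit false

namespace Cfsg.Agent.Helper29.SpecInf

/-- The permutation module. -/
abbrev W : Type := Fin 8 → ZMod 2

/-- The twisted permutation action. -/
def act (σ : Equiv.Perm (Fin 8)) (w : W) : W := fun i => w (σ⁻¹ i) + w (σ⁻¹ 7)

theorem zmod2_add_self (x : ZMod 2) : x + x = 0 := CharTwo.add_self_eq_zero x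

theorem act_mul (σ τ : Equiv.Perm (Fin 8)) (w : W) : act (σ * τ) w = act σ (act τ w) := by
  funext i
  unfold act
  simp only [mul_inv_rev, Equiv.Perm.mul_apply]
  have := zmod2_add_self (w (τ⁻¹ 7))
  calc w (τ⁻¹ (σ⁻¹ i)) + w (τ⁻¹ (σ⁻¹ 7))
      = w (τ⁻¹ (σ⁻¹ i)) + w (τ⁻¹ (σ⁻¹ 7)) + (w (τ⁻¹ 7) + w (τ⁻¹ 7)) := by rw [this, add_zero]
    _ = w (τ⁻¹ (σ⁻¹ i)) + w (τ⁻¹ 7) + (w (τ⁻¹ (σ⁻¹ 7)) + w (τ⁻¹ 7)) := by ring

theorem act_add (σ : Equiv.Perm (Fin 8)) (w w' : W) : act σ (w + w') = act σ w + act σ w' := by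
  funext i
  unfold act
  simp only [Pi.add_apply]
  ring

theorem act_zero (σ : Equiv.Perm (Fin 8)) : act σ 0 = 0 := by
  funext i
  unfold act
  simp

/-- The heart of the permutation module. -/
def V : AddSubgroup W where
  carrier := {w | w 7 = 0 ∧ ∑ i, w i = 0}
  zero_mem' := ⟨rfl, by simp⟩
  add_mem' := by
    rintro a b ⟨ha1, ha2⟩ ⟨hb1, hb2⟩
    refine ⟨by simp [ha1, hb1], ?_⟩
    simp only [Pi.add_apply, Finset.sum_add_distrib, ha2, hb2, add_zero]
  neg_mem' := by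
    rintro a ⟨ha1, ha2⟩
    refine ⟨by simp [ha1], ?_⟩
    simp only [Pi.neg_apply, Finset.sum_neg_distrib, ha2, neg_zero]

theorem mem_V (w : W) : w ∈ V ↔ w 7 = 0 ∧ ∑ i, w i = 0 := Iff.rfl

theorem act_mem (σ : Equiv.Perm (Fin 8)) {w : W} (hw : w ∈ V) : act σ w ∈ V := by
  rw [mem_V] at hw ⊢
  refine ⟨zmod2_add_self _, ?_⟩
  unfold act
  rw [Finset.sum_add_distrib, Equiv.sum_comp σ⁻¹ w, hw.2, Finset.sum_const, Finset.card_univ,
    Fintype.card_fin, zero_add]
  have : ((8 : ℕ) : ZMod 2) = 0 := by decide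
  rw [nsmul_eq_mul, this, zero_mul]

theorem act_one {w : W} (hw : w ∈ V) : act 1 w = w := by
  funext i
  unfold act
  simp only [inv_one, Equiv.Perm.one_apply]
  rw [hw.1, add_zero]

instance : DistribMulAction (Equiv.Perm (Fin 8)) V where
  smul σ v := ⟨act σ v.1, act_mem σ v.2⟩
  one_smul v := Subtype.ext (act_one v.2)
  mul_smul σ τ v := Subtype.ext (act_mul σ τ v.1)
  smul_zero σ := Subtype.ext (act_zero σ)
  smul_add σ v v' := Subtype.ext (act_add σ v.1 v'.1)

theorem smul_coe (σ : Equiv.Perm (Fin 8)) (v : V) : ((σ • v : V) : W) = act σ v.1 := rfl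

theorem add_self_V (v : V) : v + v = 0 := by
  apply Subtype.ext
  funext i
  exact zmod2_add_self _

/-! ### Elements of order 7 and 15 have no fixed points -/

/-- A cycle of length seven. -/
def s7 : Equiv.Perm (Fin 8) := List.formPerm [0, 1, 2, 3, 4, 5, 6]

/-- A cycle of length five. -/
def c5 : Equiv.Perm (Fin 8) := List.formPerm [0, 1, 2, 3, 4]

/-- A cycle of length three. -/
def c3 : Equiv.Perm (Fin 8) := List.formPerm [5, 6, 7]

theorem cycleType_s7 : s7.cycleType = {7} := by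
  have hc : s7.IsCycle := List.isCycle_formPerm (by decide) (by decide)
  rw [hc.cycleType]
  congr 1

theorem cycleType_c5 : c5.cycleType = {5} := by
  have hc : c5.IsCycle := List.isCycle_formPerm (by decide) (by decide)
  rw [hc.cycleType]
  congr 1

theorem cycleType_c3 : c3.cycleType = {3} := by
  have hc : c3.IsCycle := List.isCycle_formPerm (by decide) (by decide)
  rw [hc.cycleType]
  congr 1

theorem cycleType_c5c3 : (c5 * c3).cycleType = {5, 3} := by
  have hd : c5.Disjoint c3 :=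
    (List.formPerm_disjoint_iff (by decide) (by decide) (by decide) (by decide)).2
      (by intro a h1 h2; revert a; decide)
  rw [hd.cycleType_mul, cycleType_c5, cycleType_c3]
  rfl

set_option maxRecDepth 100000 in
theorem fpf_s7 : ∀ w : W, w 7 = 0 → ∑ i, w i = 0 → act s7 w = w → w = 0 := by decide +kernel

set_option maxRecDepth 100000 in
theorem fpf_c5c3 : ∀ w : W, w 7 = 0 → ∑ i, w i = 0 → act (c5 * c3) w = w → w = 0 := by
  decide +kernel

theorem fpf_conj (σ0 σ : Equiv.Perm (Fin 8)) (hc : σ.cycleType = σ0.cycleType)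
    (h0 : ∀ w : W, w 7 = 0 → ∑ i, w i = 0 → act σ0 w = w → w = 0) (v : V) (hv : σ • v = v) :
    v = 0 := by
  have hconj : IsConj σ0 σ := Equiv.Perm.isConj_iff_cycleType_eq.2 hc.symm
  obtain ⟨τ, hτ⟩ := isConj_iff.1 hconj
  -- τ * σ0 * τ⁻¹ = σ
  have h1 : σ0 • (τ⁻¹ • v) = τ⁻¹ • v := by
    have : σ0 = τ⁻¹ * σ * τ := by rw [← hτ]; group
    rw [this, mul_smul, mul_smul, smul_inv_smul, hv]
  have h2 : (τ⁻¹ • v : V) = 0 := by
    apply Subtype.ext
    exact h0 _ (τ⁻¹ • v).2.1 (τ⁻¹ • v).2.2 (congrArg Subtype.val h1)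
  exact (smul_eq_zero_iff_eq τ⁻¹).1 h2

theorem fpf_of_order (σ : Equiv.Perm (Fin 8)) (h : orderOf σ = 7 ∨ orderOf σ = 15) (v : V)
    (hv : σ • v = v) : v = 0 := by
  rcases h with h | h
  · exact fpf_conj s7 σ (by rw [cycleType_of_order_seven σ h, cycleType_s7]) fpf_s7 v hv
  · exact fpf_conj (c5 * c3) σ (by rw [cycleType_of_order_fifteen σ h, cycleType_c5c3])
      fpf_c5c3 v hv

end Cfsg.Agent.Helper29.SpecInf
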