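import Mathlib
import Cfsg.Agent.Lib.Helper29.SpecInfB

/-!
# Groups of unbounded order with the spectrum of the Hall-Janko group, part C

The semidirect products `V ^ k ⋊ A₈`.
-/

set_option autoImplicit false

namespace Cfsg.Agent.Helper29.SpecInf

open Cfsg.Agent.Helper29.J2SC Cfsg.Agent.Helper29.J2G

/-- The alternating group of degree eight. -/
abbrev A8 : Type := alternatingGroup (Fin 8)

/-- The module. -/
abbrev Mk (k : ℕ) : Type := Fin k → V

/-- The action as a homomorphism. -/
def phi (k : ℕ) : A8 →* MulAut (Multiplicative (Mk k)) where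
  toFun g :=
    { toFun := fun m => Multiplicative.ofAdd (g • Multiplicative.toAdd m)
      invFun := fun m => Multiplicative.ofAdd (g⁻¹ • Multiplicative.toAdd m)
      left_inv := fun m => by simp
      right_inv := fun m => by simp
      map_mul' := fun m m' => by simp [smul_add] }
  map_one' := by
    ext m
    simp
  map_mul' g h := by
    ext m
    simp [mul_smul]

theorem phi_apply (k : ℕ) (g : A8) (m : Multiplicative (Mk k)) :
    phi k g m = Multiplicative.ofAdd (g • Multiplicative.toAdd m) := rfl

/-- The groups. -/
abbrev Gam (k : ℕ) : Type := SemidirectProduct (Multiplicative (Mk k)) A8 (phi k)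

instance (k : ℕ) : Finite (Gam k) := Finite.of_equiv _ SemidirectProduct.equivProd.symm

variable {k : ℕ}

theorem smul_apply_coe (g : A8) (m : Mk k) (i : Fin k) :
    (g • m) i = (g : Equiv.Perm (Fin 8)) • (m i) := rfl

theorem fixed_of_commute (x y : Gam k) (hy : y.right = 1) (hc : x * y = y * x) :
    phi k x.right y.left = y.left := by
  have h := congrArg SemidirectProduct.left hc
  rw [SemidirectProduct.mul_left, SemidirectProduct.mul_left, hy, map_one, MulAut.one_apply,
    mul_comm y.left] at h
  exact mul_left_cancel h

theorem mul_self_Mk (m : Multiplicative (Mk k)) : m * m = 1 := by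
  have : Multiplicative.toAdd m + Multiplicative.toAdd m = 0 := by
    funext i
    exact add_self_V _
  calc m * m = Multiplicative.ofAdd (Multiplicative.toAdd m + Multiplicative.toAdd m) := rfl
    _ = 1 := by rw [this]; rfl

theorem sq_of_right_one (y : Gam k) (hy : y.right = 1) : y ^ 2 = 1 := by
  rw [pow_two]
  apply SemidirectProduct.ext
  · rw [SemidirectProduct.mul_left, hy, map_one, MulAut.one_apply, SemidirectProduct.one_left]
    exact mul_self_Mk _
  · rw [SemidirectProduct.mul_right, hy, one_mul]
    rfl

theorem pow_right (x : Gam k) (n : ℕ) : (x ^ n).right = x.right ^ n :=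
  map_pow SemidirectProduct.rightHom x n

theorem pow_two_mul (x : Gam k) (m : ℕ) (hm : x.right ^ m = 1) : x ^ (m * 2) = 1 := by
  rw [pow_mul]
  exact sq_of_right_one _ (by rw [pow_right, hm])

theorem pow_eq_one_of_fpf (x : Gam k) (m : ℕ) (hm : x.right ^ m = 1)
    (hfpf : ∀ v : V, (x.right : Equiv.Perm (Fin 8)) • v = v → v = 0) : x ^ m = 1 := by
  have hr : (x ^ m).right = 1 := by rw [pow_right, hm]
  have hc : x * x ^ m = x ^ m * x := (pow_mul_comm' x m).symm
  have hfix := fixed_of_commute x (x ^ m) hr hc
  rw [phi_apply] at hfix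
  have hz : Multiplicative.toAdd (x ^ m).left = 0 := by
    funext i
    apply hfpf
    have := congrArg (fun f : Multiplicative (Mk k) => (Multiplicative.toAdd f : Mk k) i) hfix
    exact this
  apply SemidirectProduct.ext
  · rw [SemidirectProduct.one_left]
    calc (x ^ m).left = Multiplicative.ofAdd (Multiplicative.toAdd (x ^ m).left) := rfl
      _ = 1 := by rw [hz]; rfl
  · rw [hr]; rfl

theorem okA_lt {n : ℕ} (h : okA n = true) : n < 16 := by
  by_contra hn
  have h16 : 16 ≤ n := by omega
  have : (33022 : ℕ) < 2 ^ n :=
    lt_of_lt_of_le (by norm_num) (Nat.pow_le_pow_right (by norm_num) h16)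
  unfold okA at h
  rw [Nat.testBit_lt_two_pow this] at h
  exact Bool.false_ne_true h

/-- The orders of the elements of the groups are admissible. -/
theorem order_ok (x : Gam k) : okN (orderOf x) = true := by
  set m := orderOf x.right with hmdef
  have hm : x.right ^ m = 1 := pow_orderOf_eq_one _
  have hcoe : orderOf (x.right : Equiv.Perm (Fin 8)) = m := Subgroup.orderOf_coe x.right
  have hA : okA m = true := by
    rw [← hcoe]
    exact order_alt _ x.right.2
  have hlt := okA_lt hA
  have h2 : orderOf x ∣ m * 2 := orderOf_dvd_of_pow_eq_one (pow_two_mul x m hm)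
  have hfp : m = 7 ∨ m = 15 → orderOf x ∣ m := by
    intro h
    apply orderOf_dvd_of_pow_eq_one
    apply pow_eq_one_of_fpf x m hm
    intro v hv
    exact fpf_of_order _ (by rw [hcoe]; exact h) v hv
  interval_cases m
  · exact absurd hA (by decide)
  · exact okN_dvd (n := 2) (by decide) h2
  · exact okN_dvd (n := 4) (by decide) h2
  · exact okN_dvd (n := 6) (by decide) h2
  · exact okN_dvd (n := 8) (by decide) h2
  · exact okN_dvd (n := 10) (by decide) h2
  · exact okN_dvd (n := 12) (by decide) h2
  · exact okN_dvd (n := 7) (by decide) (hfp (Or.inl rfl))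
  · exact absurd hA (by decide)
  · exact absurd hA (by decide)
  · exact absurd hA (by decide)
  · exact absurd hA (by decide)
  · exact absurd hA (by decide)
  · exact absurd hA (by decide)
  · exact absurd hA (by decide)
  · exact okN_dvd (n := 15) (by decide) (hfp (Or.inr rfl))

end Cfsg.Agent.Helper29.SpecInf
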