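import Mathlib
import Cfsg.Agent.Lib.Helper29.SpecInfC

/-!
# Groups of unbounded order with the spectrum of the Hall-Janko group, part D

Witnesses for all the orders, the cardinality, and the statement.
-/

set_option autoImplicit false

namespace Cfsg.Agent.Helper29.SpecInf

open Cfsg.Agent.Helper29.J2SC Cfsg.Agent.Helper29.J2G

variable {k : ℕ}

/-! ### Orders of even permutations -/

theorem exists_alt (m : Multiset ℕ) (h1 : m.sum ≤ 8) (h2 : ∀ a ∈ m, 2 ≤ a)
    (h3 : Even (m.sum + Multiset.card m)) : ∃ g : A8, orderOf g = m.lcm := by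
  obtain ⟨σ, hσ⟩ := (Equiv.Perm.exists_with_cycleType_iff (Fin 8)).mpr ⟨by simpa using h1, h2⟩
  have hmem : σ ∈ alternatingGroup (Fin 8) := by
    rw [Equiv.Perm.mem_alternatingGroup, Equiv.Perm.sign_of_cycleType, hσ]
    exact h3.neg_one_pow
  refine ⟨⟨σ, hmem⟩, ?_⟩
  rw [← Subgroup.orderOf_coe, ← Equiv.Perm.lcm_cycleType, hσ]

theorem inr_injective : Function.Injective (SemidirectProduct.inr : A8 →* Gam k) := by
  intro a b h
  have := congrArg SemidirectProduct.right h
  simpa using this

theorem exists_order_alt (m : Multiset ℕ) (h1 : m.sum ≤ 8) (h2 : ∀ a ∈ m, 2 ≤ a)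
    (h3 : Even (m.sum + Multiset.card m)) (s : ℕ) (hs : m.lcm = s) :
    ∃ x : Gam k, orderOf x = s := by
  obtain ⟨g, hg⟩ := exists_alt m h1 h2 h3
  exact ⟨SemidirectProduct.inr g, by rw [orderOf_injective _ inr_injective, hg, hs]⟩

/-! ### The norm formula -/

theorem pow_left (x : Gam k) (n : ℕ) :
    Multiplicative.toAdd (x ^ n).left =
      ∑ j ∈ Finset.range n, (x.right ^ j) • (Multiplicative.toAdd x.left : Mk k) := by
  induction n with
  | zero => rfl
  | succ n ih =>
    rw [pow_succ, SemidirectProduct.mul_left, pow_right, phi_apply, Finset.sum_range_succ, ← ih]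
    rfl

/-- The norm of a vector. -/
def nrm (σ : Equiv.Perm (Fin 8)) (w : W) (n : ℕ) : W := ∑ j ∈ Finset.range n, act (σ ^ j) w

theorem pow_left_const (σ : A8) (v : V) (n : ℕ) (i : Fin k) :
    (((Multiplicative.toAdd ((⟨Multiplicative.ofAdd (fun _ => v), σ⟩ : Gam k) ^ n).left : Mk k) i :
      V) : W) = nrm (σ : Equiv.Perm (Fin 8)) v.1 n := by
  rw [pow_left]
  unfold nrm
  rw [Finset.sum_apply, AddSubgroup.val_finsetSum]
  apply Finset.sum_congr rfl
  intro j _
  rfl

/-! ### Elements of order 8, 10 and 12 -/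

/-- An element of order four. -/
def s4 : Equiv.Perm (Fin 8) := List.formPerm [0, 1, 2, 3] * List.formPerm [4, 5]

/-- An element of order six. -/
def s6 : Equiv.Perm (Fin 8) :=
  List.formPerm [0, 1, 2] * List.formPerm [3, 4] * List.formPerm [5, 6]

theorem s4_mem : s4 ∈ alternatingGroup (Fin 8) := by
  rw [Equiv.Perm.mem_alternatingGroup]; decide
theorem c5_mem : c5 ∈ alternatingGroup (Fin 8) := by
  rw [Equiv.Perm.mem_alternatingGroup]; decide
theorem s6_mem : s6 ∈ alternatingGroup (Fin 8) := by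
  rw [Equiv.Perm.mem_alternatingGroup]; decide

/-- vectors with nonzero norm -/
def w4 : W := ![0, 0, 0, 1, 0, 0, 1, 0]
/-- vectors with nonzero norm -/
def w5 : W := ![0, 0, 0, 0, 0, 1, 1, 0]
/-- vectors with nonzero norm -/
def w6 : W := ![0, 0, 0, 0, 1, 0, 1, 0]

theorem w4_mem : w4 ∈ V := by rw [mem_V]; decide
theorem w5_mem : w5 ∈ V := by rw [mem_V]; decide
theorem w6_mem : w6 ∈ V := by rw [mem_V]; decide

set_option maxRecDepth 100000 in
theorem nrm4 : nrm s4 w4 4 ≠ 0 := by decide +kernel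
set_option maxRecDepth 100000 in
theorem nrm5 : nrm c5 w5 5 ≠ 0 := by decide +kernel
set_option maxRecDepth 100000 in
theorem nrm6 : nrm s6 w6 6 ≠ 0 := by decide +kernel

theorem s4_pow : s4 ^ 4 = 1 := by decide
set_option maxRecDepth 100000 in
theorem c5_pow : c5 ^ 5 = 1 := by decide +kernel
set_option maxRecDepth 100000 in
theorem s6_pow : s6 ^ 6 = 1 := by decide +kernel
theorem c5_sq : c5 ^ 2 ≠ 1 := by decide
theorem s6_four : s6 ^ 4 ≠ 1 := by decide

/-- The witness for a permutation and a vector. -/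
def wit (k : ℕ) (σ : Equiv.Perm (Fin 8)) (hσ : σ ∈ alternatingGroup (Fin 8)) (w : W) (hw : w ∈ V) :
    Gam k :=
  ⟨Multiplicative.ofAdd (fun _ => ⟨w, hw⟩), ⟨σ, hσ⟩⟩

theorem wit_pow_ne (hk : 0 < k) (σ : Equiv.Perm (Fin 8)) (hσ : σ ∈ alternatingGroup (Fin 8))
    (w : W) (hw : w ∈ V) (n : ℕ) (h : nrm σ w n ≠ 0) : wit k σ hσ w hw ^ n ≠ 1 := by
  intro h1
  apply h
  have := pow_left_const (k := k) ⟨σ, hσ⟩ ⟨w, hw⟩ n ⟨0, hk⟩
  rw [← this]
  unfold wit at h1
  rw [h1]
  rfl

theorem wit_pow_ne' (σ : Equiv.Perm (Fin 8)) (hσ : σ ∈ alternatingGroup (Fin 8))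
    (w : W) (hw : w ∈ V) (n : ℕ) (h : σ ^ n ≠ 1) : wit k σ hσ w hw ^ n ≠ 1 := by
  intro h1
  apply h
  have := congrArg SemidirectProduct.right h1
  rw [pow_right] at this
  exact congrArg Subtype.val this

theorem wit_pow (σ : Equiv.Perm (Fin 8)) (hσ : σ ∈ alternatingGroup (Fin 8))
    (w : W) (hw : w ∈ V) (m : ℕ) (h : σ ^ m = 1) : wit k σ hσ w hw ^ (m * 2) = 1 := by
  apply pow_two_mul
  exact Subtype.ext h

theorem order_eight (hk : 0 < k) : ∃ x : Gam k, orderOf x = 8 := by
  refine ⟨wit k s4 s4_mem w4 w4_mem, ?_⟩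
  apply orderOf_eq_of_pow_and_pow_div_prime (by norm_num) (wit_pow s4 s4_mem w4 w4_mem 4 s4_pow)
  intro p hp hpd
  have hp2 : p = 2 := by
    have : p ∣ 2 ^ 3 := by norm_num; exact hpd
    exact (Nat.prime_dvd_prime_iff_eq hp Nat.prime_two).1 (hp.dvd_of_dvd_pow this)
  subst hp2
  exact wit_pow_ne hk s4 s4_mem w4 w4_mem 4 nrm4

theorem order_ten (hk : 0 < k) : ∃ x : Gam k, orderOf x = 10 := by
  refine ⟨wit k c5 c5_mem w5 w5_mem, ?_⟩
  apply orderOf_eq_of_pow_and_pow_div_prime (by norm_num) (wit_pow c5 c5_mem w5 w5_mem 5 c5_pow)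
  intro p hp hpd
  have hle : p ≤ 10 := Nat.le_of_dvd (by norm_num) hpd
  have hp' : p = 2 ∨ p = 5 := by
    interval_cases p <;> first
      | exact Or.inl rfl
      | exact Or.inr rfl
      | (exfalso; revert hp; decide)
      | (exfalso; revert hpd; decide)
  rcases hp' with rfl | rfl
  · exact wit_pow_ne hk c5 c5_mem w5 w5_mem 5 nrm5
  · exact wit_pow_ne' c5 c5_mem w5 w5_mem 2 c5_sq

theorem order_twelve (hk : 0 < k) : ∃ x : Gam k, orderOf x = 12 := by
  refine ⟨wit k s6 s6_mem w6 w6_mem, ?_⟩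
  apply orderOf_eq_of_pow_and_pow_div_prime (by norm_num) (wit_pow s6 s6_mem w6 w6_mem 6 s6_pow)
  intro p hp hpd
  have hle : p ≤ 12 := Nat.le_of_dvd (by norm_num) hpd
  have hp' : p = 2 ∨ p = 3 := by
    interval_cases p <;> first
      | exact Or.inl rfl
      | exact Or.inr rfl
      | (exfalso; revert hp; decide)
      | (exfalso; revert hpd; decide)
  rcases hp' with rfl | rfl
  · exact wit_pow_ne hk s6 s6_mem w6 w6_mem 6 nrm6
  · exact wit_pow_ne' s6 s6_mem w6 w6_mem 4 s6_four

theorem exists_order_Gam (hk : 0 < k) {s : ℕ} (hs : okN s = true) :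
    ∃ x : Gam k, orderOf x = s := by
  have hs16 := okN_lt hs
  interval_cases s
  · exact absurd hs (by decide)
  · exact ⟨1, orderOf_one⟩
  · exact exists_order_alt {2, 2} (by decide) (by decide) (by decide) 2 (by decide)
  · exact exists_order_alt {3} (by decide) (by decide) (by decide) 3 (by decide)
  · exact exists_order_alt {4, 2} (by decide) (by decide) (by decide) 4 (by decide)
  · exact exists_order_alt {5} (by decide) (by decide) (by decide) 5 (by decide)
  · exact exists_order_alt {3, 2, 2} (by decide) (by decide) (by decide) 6 (by decide)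
  · exact exists_order_alt {7} (by decide) (by decide) (by decide) 7 (by decide)
  · exact order_eight hk
  · exact absurd hs (by decide)
  · exact order_ten hk
  · exact absurd hs (by decide)
  · exact order_twelve hk
  · exact absurd hs (by decide)
  · exact absurd hs (by decide)
  · exact exists_order_alt {5, 3} (by decide) (by decide) (by decide) 15 (by decide)

theorem range_orderOf_Gam (hk : 0 < k) :
    Set.range (orderOf : Gam k → ℕ) = {n | okN n = true} := by
  ext n
  constructor
  · rintro ⟨x, rfl⟩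
    exact order_ok x
  · intro hn
    exact exists_order_Gam hk hn

/-! ### The cardinality -/

theorem card_Gam_ge (k : ℕ) : 2 ^ k ≤ Nat.card (Gam k) := by
  let f : (Fin k → Bool) → Gam k := fun b =>
    SemidirectProduct.inl (Multiplicative.ofAdd (fun i => if b i then ⟨w4, w4_mem⟩ else 0))
  have hf : Function.Injective f := by
    intro b b' h
    have h1 := congrArg SemidirectProduct.left h
    simp only [f, SemidirectProduct.left_inl] at h1
    funext i
    have h2 := congrFun (Multiplicative.ofAdd.injective h1) i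
    have hne : (⟨w4, w4_mem⟩ : V) ≠ 0 := by
      intro h0
      have := congrFun (congrArg Subtype.val h0) 3
      exact absurd this (by decide)
    cases hb : b i <;> cases hb' : b' i <;> simp_all
  have := Nat.card_le_card_of_injective f hf
  rwa [Nat.card_eq_fintype_card, Fintype.card_fun, Fintype.card_bool, Fintype.card_fin] at this

/-- **Groups of arbitrarily large order with the spectrum of the Hall-Janko group.** -/
theorem exists_large (N : ℕ) : ∃ (H : Type) (_ : Group H) (_ : Fintype H),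
    N < Fintype.card H ∧
      Set.range (orderOf : H → ℕ) = Set.range (orderOf : Cfsg.Spor.J2 → ℕ) := by
  let _ : Fintype (Gam (N + 1)) := Fintype.ofFinite _
  refine ⟨Gam (N + 1), inferInstance, inferInstance, ?_, ?_⟩
  · have h1 := card_Gam_ge (N + 1)
    rw [Nat.card_eq_fintype_card] at h1
    have h2 : N + 1 < 2 ^ (N + 1) := Nat.lt_two_pow_self
    omega
  · rw [range_orderOf_Gam (Nat.succ_pos N), range_orderOf_J2]

end Cfsg.Agent.Helper29.SpecInf
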