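import Mathlib
import Cfsg.Agent.Lib.Helper29.StemRank

set_option autoImplicit false

namespace Cfsg.Agent.Helper29.StemIso

open Cfsg.Agent.Helper29.StemSylow
open scoped commutatorElement

/-! ### Uniqueness of a perfect central extension by a four-group from a bound on kernels -/

universe u1 u2 v

variable {L₁ : Type u1} [Group L₁] {L₂ : Type u2} [Group L₂] {G : Type v} [Group G]

theorem card_eq_ker_mul {Γ : Type*} [Group Γ] [Finite Γ] (σ : Γ →* G)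
    (hs : Function.Surjective σ) : Nat.card Γ = Nat.card σ.ker * Nat.card G := by
  have h1 := Subgroup.card_mul_index σ.ker
  rw [Subgroup.index_ker, MonoidHom.range_eq_top.2 hs, Subgroup.card_top] at h1
  exact h1.symm

/-- the first projection of a subgroup of a product mapping onto the common quotient is onto,
if the first factor is perfect -/
theorem fst_surjective (π₁ : L₁ →* G) (hK₁ : π₁.ker ≤ Subgroup.center L₁)
    (hp₁ : commutator L₁ = ⊤) (P : Subgroup (L₁ × L₂))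
    (hP : ∀ x : L₁, ∃ u ∈ P, π₁ u.1 = π₁ x) :
    Function.Surjective ((MonoidHom.fst L₁ L₂).comp P.subtype) := by
  rw [← MonoidHom.range_eq_top, eq_top_iff, ← hp₁, commutator_def, Subgroup.commutator_le]
  intro x1 _ x2 _
  obtain ⟨u1, hu1, e1⟩ := hP x1
  obtain ⟨u2, hu2, e2⟩ := hP x2
  obtain ⟨κ1, hκ1, rfl⟩ := exists_ker_mul π₁ x1 u1.1 e1.symm
  obtain ⟨κ2, hκ2, rfl⟩ := exists_ker_mul π₁ x2 u2.1 e2.symm
  rw [comm_central_left (central_comm π₁ hK₁ hκ1), comm_central_right (central_comm π₁ hK₁ hκ2)]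
  refine ⟨⁅(⟨u1, hu1⟩ : P), ⟨u2, hu2⟩⁆, ?_⟩
  rw [map_commutatorElement]
  rfl

theorem snd_surjective (π₂ : L₂ →* G) (hK₂ : π₂.ker ≤ Subgroup.center L₂)
    (hp₂ : commutator L₂ = ⊤) (P : Subgroup (L₁ × L₂))
    (hP : ∀ y : L₂, ∃ u ∈ P, π₂ u.2 = π₂ y) :
    Function.Surjective ((MonoidHom.snd L₁ L₂).comp P.subtype) := by
  rw [← MonoidHom.range_eq_top, eq_top_iff, ← hp₂, commutator_def, Subgroup.commutator_le]
  intro x1 _ x2 _
  obtain ⟨u1, hu1, e1⟩ := hP x1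
  obtain ⟨u2, hu2, e2⟩ := hP x2
  obtain ⟨κ1, hκ1, rfl⟩ := exists_ker_mul π₂ x1 u1.2 e1.symm
  obtain ⟨κ2, hκ2, rfl⟩ := exists_ker_mul π₂ x2 u2.2 e2.symm
  rw [comm_central_left (central_comm π₂ hK₂ hκ1), comm_central_right (central_comm π₂ hK₂ hκ2)]
  refine ⟨⁅(⟨u1, hu1⟩ : P), ⟨u2, hu2⟩⁆, ?_⟩
  rw [map_commutatorElement]
  rfl

/-- two perfect central extensions of `G` by groups of order four and exponent two are
isomorphic, if every perfect central extension of `G` by a group of exponent two has kernel of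
order at most four -/
theorem iso_of_bound [Finite L₁] [Finite L₂]
    (π₁ : L₁ →* G) (π₂ : L₂ →* G) (hs₁ : Function.Surjective π₁) (hs₂ : Function.Surjective π₂)
    (hK₁ : π₁.ker ≤ Subgroup.center L₁) (hK₂ : π₂.ker ≤ Subgroup.center L₂)
    (he₁ : ∀ k ∈ π₁.ker, k * k = 1) (he₂ : ∀ k ∈ π₂.ker, k * k = 1)
    (hp₁ : commutator L₁ = ⊤) (hp₂ : commutator L₂ = ⊤)
    (hc₁ : Nat.card π₁.ker = 4) (hc₂ : Nat.card π₂.ker = 4)
    (hbound : ∀ (P : Subgroup (L₁ × L₂)) (σ : ↥P →* G), Function.Surjective σ →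
      σ.ker ≤ Subgroup.center ↥P → (∀ k ∈ σ.ker, k * k = 1) → σ.ker ≤ commutator ↥P →
      Nat.card σ.ker ≤ 4) :
    Nonempty (L₁ ≃* L₂) := by
  obtain ⟨ρ, hρ⟩ : ∃ ρ : L₁ × L₂ →* G, ρ = π₁.comp (MonoidHom.fst L₁ L₂) := ⟨_, rfl⟩
  obtain ⟨ρ', hρ'⟩ : ∃ ρ' : L₁ × L₂ →* G, ρ' = π₂.comp (MonoidHom.snd L₁ L₂) := ⟨_, rfl⟩
  have hρa : ∀ u : L₁ × L₂, ρ u = π₁ u.1 := by intro u; rw [hρ]; rfl
  have hρ'a : ∀ u : L₁ × L₂, ρ' u = π₂ u.2 := by intro u; rw [hρ']; rfl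
  obtain ⟨D, hD⟩ : ∃ D : Subgroup (L₁ × L₂), D = MonoidHom.eqLocus ρ ρ' := ⟨_, rfl⟩
  have hDmem : ∀ u : L₁ × L₂, u ∈ D ↔ π₁ u.1 = π₂ u.2 := by
    intro u
    rw [hD, ← hρa, ← hρ'a]
    exact Iff.rfl
  have hGperf : commutator G = ⊤ := by
    have h := Subgroup.map_commutator (⊤ : Subgroup L₁) ⊤ π₁
    rw [← commutator_def, hp₁, Subgroup.map_top_of_surjective π₁ hs₁] at h
    rw [commutator_def]
    exact h.symm
  let 𝒮 : Set (Subgroup (L₁ × L₂)) := {Q | Q ≤ D ∧ Q.map ρ = ⊤}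
  have hD𝒮 : D ∈ 𝒮 := by
    refine ⟨le_rfl, ?_⟩
    rw [eq_top_iff]
    intro g _
    obtain ⟨x, hx⟩ := hs₁ g
    obtain ⟨y, hy⟩ := hs₂ g
    exact ⟨(x, y), (hDmem _).2 (by rw [hx, hy]), by rw [hρa]; exact hx⟩
  obtain ⟨P, hP𝒮, hmin⟩ := WellFounded.has_min wellFounded_lt 𝒮 ⟨D, hD𝒮⟩
  obtain ⟨hPD, hPtop⟩ := hP𝒮
  have hPP : ⁅P, P⁆ ≤ P := Subgroup.commutator_le.2 (fun a ha b hb =>
    P.mul_mem (P.mul_mem (P.mul_mem ha hb) (P.inv_mem ha)) (P.inv_mem hb))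
  have hPperf : ⁅P, P⁆ = P := by
    have hmem : ⁅P, P⁆ ∈ 𝒮 := by
      refine ⟨hPP.trans hPD, ?_⟩
      rw [Subgroup.map_commutator, hPtop, ← commutator_def, hGperf]
    exact eq_of_le_of_not_lt hPP (hmin _ hmem)
  obtain ⟨σ, hσ⟩ : ∃ σ : ↥P →* G, σ = ρ.comp P.subtype := ⟨_, rfl⟩
  have hσa : ∀ u : ↥P, σ u = π₁ u.1.1 := by intro u; rw [hσ]; exact hρa _
  have hσb : ∀ u : ↥P, σ u = π₂ u.1.2 := by
    intro u
    rw [hσa, (hDmem _).1 (hPD u.2)]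
  have hσs : Function.Surjective σ := by
    intro g
    have : g ∈ P.map ρ := by rw [hPtop]; exact Subgroup.mem_top g
    obtain ⟨u, hu, rfl⟩ := this
    exact ⟨⟨u, hu⟩, by rw [hσ]; rfl⟩
  have hσK : σ.ker ≤ Subgroup.center ↥P := by
    intro k hk
    rw [MonoidHom.mem_ker] at hk
    have h1 : k.1.1 ∈ π₁.ker := by rw [MonoidHom.mem_ker, ← hσa]; exact hk
    have h2 : k.1.2 ∈ π₂.ker := by rw [MonoidHom.mem_ker, ← hσb]; exact hk
    rw [Subgroup.mem_center_iff]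
    intro g
    apply Subtype.ext
    apply Prod.ext
    · exact central_comm π₁ hK₁ h1 g.1.1
    · exact central_comm π₂ hK₂ h2 g.1.2
  have hσe : ∀ k ∈ σ.ker, k * k = 1 := by
    intro k hk
    rw [MonoidHom.mem_ker] at hk
    have h1 : k.1.1 ∈ π₁.ker := by rw [MonoidHom.mem_ker, ← hσa]; exact hk
    have h2 : k.1.2 ∈ π₂.ker := by rw [MonoidHom.mem_ker, ← hσb]; exact hk
    apply Subtype.ext
    apply Prod.ext
    · exact he₁ _ h1
    · exact he₂ _ h2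
  have hσp : commutator ↥P = ⊤ := by
    apply Subgroup.map_injective P.subtype_injective
    rw [commutator_def, Subgroup.map_commutator, ← MonoidHom.range_eq_map, Subgroup.range_subtype]
    exact hPperf
  have hb := hbound P σ hσs hσK hσe (by rw [hσp]; exact le_top)
  have cP := card_eq_ker_mul σ hσs
  have c1 := card_eq_ker_mul π₁ hs₁
  have c2 := card_eq_ker_mul π₂ hs₂
  rw [hc₁] at c1
  rw [hc₂] at c2
  have hP1 : ∀ x : L₁, ∃ u ∈ P, π₁ u.1 = π₁ x := by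
    intro x
    obtain ⟨u, hu⟩ := hσs (π₁ x)
    exact ⟨u.1, u.2, by rw [← hσa]; exact hu⟩
  have hP2 : ∀ y : L₂, ∃ u ∈ P, π₂ u.2 = π₂ y := by
    intro y
    obtain ⟨u, hu⟩ := hσs (π₂ y)
    exact ⟨u.1, u.2, by rw [← hσb]; exact hu⟩
  have s1 := fst_surjective π₁ hK₁ hp₁ P hP1
  have s2 := snd_surjective π₂ hK₂ hp₂ P hP2
  have hle1 : Nat.card ↥P ≤ Nat.card L₁ := by
    rw [cP, c1]; exact Nat.mul_le_mul_right _ hb
  have hle2 : Nat.card ↥P ≤ Nat.card L₂ := by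
    rw [cP, c2]; exact Nat.mul_le_mul_right _ hb
  have b1 := s1.bijective_of_nat_card_le hle1
  have b2 := s2.bijective_of_nat_card_le hle2
  exact ⟨(MulEquiv.ofBijective _ b1).symm.trans (MulEquiv.ofBijective _ b2)⟩

end Cfsg.Agent.Helper29.StemIso
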