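import Mathlib
import Cfsg.Prelude.Def_Spor_Suz
import Cfsg.Agent.Lib.Helper29.PermWSlp
import Cfsg.Agent.Lib.Helper29.SuzData
import Cfsg.Agent.S1694

set_option autoImplicit false
open Cfsg

/-! The sporadic Suzuki group on 1782 points: the seven generators of the presentation act by
explicit permutations, and since the presented group is simple the action is faithful. -/

namespace Cfsg.Agent.Helper29.SuM

open Cfsg.Agent.Helper29.HSP (tg force force_eq allBelow allBelow_iff)
open Cfsg.Agent.Helper29.PW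
open Cfsg.Spor

instance : NeZero 1782 := ⟨by norm_num⟩

/-- the code of the generator `k` -/
def pc (k : ℕ) : ℕ := SuD.PC.getD k 0

set_option maxRecDepth 100000 in
theorem valid_chk : ∀ k < 7, validC 1782 (pc k) (pc k) = true := by decide +kernel

/-- the generators as permutations -/
def gp (k : ℕ) : Equiv.Perm (Fin 1782) := cP 1782 (pc k) (pc k)

theorem acts_gp (k : ℕ) (hk : k < 7) : Acts 1782 (gp k) (pc k) := acts_cP (valid_chk k hk)

theorem acts_gp_inv (k : ℕ) (hk : k < 7) : Acts 1782 (gp k)⁻¹ (pc k) :=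
  acts_cP_inv (valid_chk k hk)

theorem gp_inv (k : ℕ) (hk : k < 7) : (gp k)⁻¹ = gp k :=
  eq_of_acts (acts_gp_inv k hk) (acts_gp k hk)

/-- the explicit group -/
def G1782 : Subgroup (Equiv.Perm (Fin 1782)) := Subgroup.closure {g | ∃ k < 7, gp k = g}

theorem gp_mem (k : ℕ) (hk : k < 7) : gp k ∈ G1782 := Subgroup.subset_closure ⟨k, hk, rfl⟩

theorem PC_length : SuD.PC.length = 7 := by decide

theorem acts_ge : ∀ l < SuD.PC.length, Acts 1782 (gp l) (SuD.PC.getD l 0) := by
  intro l hl
  rw [PC_length] at hl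
  exact acts_gp l hl

/-- the permutation of a word -/
def evalW (w : List ℕ) : Equiv.Perm (Fin 1782) := (w.map gp).prod

theorem evalW_mem (w : List ℕ) (hw : ∀ l ∈ w, l < 7) : evalW w ∈ G1782 := by
  apply Subgroup.list_prod_mem
  intro x hx
  obtain ⟨l, hl, rfl⟩ := List.mem_map.1 hx
  exact gp_mem l (hw l hl)

theorem evalW_apply (w : List ℕ) (hw : ∀ l ∈ w, l < 7) (u : Fin 1782) :
    (evalW w u).val = appL SuD.PC w u.val :=
  prod_apply SuD.PC gp acts_ge w (by rw [PC_length]; exact hw) u

theorem evalW_append (w v : List ℕ) : evalW (w ++ v) = evalW w * evalW v := by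
  unfold evalW
  rw [List.map_append, List.prod_append]

theorem acts_evalW {c : ℕ} {w : List ℕ} (h : reprL 1782 SuD.PC c w = true) :
    Acts 1782 (evalW w) c :=
  acts_of_reprL SuD.PC gp acts_ge h

theorem evalW_eq (w v : List ℕ) (hw : ∀ l ∈ w, l < 7) (hv : ∀ l ∈ v, l < 7)
    (h : weqL 1782 SuD.PC w v = true) : evalW w = evalW v :=
  prod_eq_of_weqL SuD.PC gp w v (fun l hl => acts_gp l (hw l hl)) (fun l hl => acts_gp l (hv l hl)) h

/-! ### The relators -/

/-- the number of a generator -/
def gidx : Suz.Gen → ℕ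
  | .a => 0
  | .b => 1
  | .c => 2
  | .d => 3
  | .e => 4
  | .f => 5
  | .g => 6

theorem gidx_lt (x : Suz.Gen) : gidx x < 7 := by cases x <;> decide

/-- the image of a generator -/
def gmap (x : Suz.Gen) : Equiv.Perm (Fin 1782) := gp (gidx x)

/-- the labels as a table -/
def labT : List ℕ :=
  [1, 5, 2, 2, 2, 2, 2,
   5, 1, 3, 2, 2, 3, 3,
   2, 3, 1, 8, 2, 2, 2,
   2, 2, 8, 1, 3, 2, 2,
   2, 2, 2, 3, 1, 2, 2,
   2, 3, 2, 2, 2, 1, 4,
   2, 3, 2, 2, 2, 4, 1]

theorem lab_eq (x y : Suz.Gen) : coxLabel Suz.edges x y = labT.getD (7 * gidx x + gidx y) 0 := by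
  cases x <;> cases y <;> decide

/-- a word repeated -/
def repW (w : List ℕ) : ℕ → List ℕ
  | 0 => []
  | m + 1 => w ++ repW w m

theorem evalW_repW (w : List ℕ) (m : ℕ) : evalW (repW w m) = evalW w ^ m := by
  induction m with
  | zero => rfl
  | succ m ih =>
    show evalW (w ++ repW w m) = _
    rw [evalW_append, ih, pow_succ']

theorem repW_letters (w : List ℕ) (hw : ∀ l ∈ w, l < 7) (m : ℕ) : ∀ l ∈ repW w m, l < 7 := by
  induction m with
  | zero => intro l hl; cases hl
  | succ m ih =>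
    intro l hl
    change l ∈ w ++ repW w m at hl
    rcases List.mem_append.1 hl with hl | hl
    · exact hw l hl
    · exact ih l hl

theorem evalW_pair (i j : ℕ) : evalW [i, j] = gp i * gp j := by
  simp only [evalW, List.map_cons, List.map_nil, List.prod_cons, List.prod_nil, mul_one]

set_option maxRecDepth 100000 in
theorem cox_chk : ∀ i < 7, ∀ j < 7,
    weqL 1782 SuD.PC (repW [i, j] (labT.getD (7 * i + j) 0)) [] = true := by decide +kernel

theorem cox_rel (x y : Suz.Gen) : (gmap x * gmap y) ^ coxLabel Suz.edges x y = 1 := by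
  rw [lab_eq]
  unfold gmap
  rw [← evalW_pair, ← evalW_repW]
  have h := evalW_eq _ [] (repW_letters [gidx x, gidx y] (by
      intro l hl
      simp only [List.mem_cons, List.not_mem_nil, or_false] at hl
      rcases hl with rfl | rfl
      · exact gidx_lt x
      · exact gidx_lt y) _) (by intro l hl; cases hl)
    (cox_chk _ (gidx_lt x) _ (gidx_lt y))
  rw [h]
  rfl

set_option maxRecDepth 100000 in
theorem extra_chk : weqL 1782 SuD.PC [0] (repW [2, 3] 4) = true ∧
    weqL 1782 SuD.PC [0] (repW [5, 6] 2) = true ∧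
    weqL 1782 SuD.PC (repW [0, 1, 2, 5] 5) [] = true ∧
    weqL 1782 SuD.PC (repW [1, 5, 6] 5) [] = true ∧
    weqL 1782 SuD.PC (repW (repW [1, 2, 3, 2, 3] 5 ++ [4]) 3) [] = true := by
  decide +kernel

theorem evalW_nil : evalW [] = 1 := rfl

theorem evalW_single (i : ℕ) : evalW [i] = gp i := by
  simp only [evalW, List.map_cons, List.map_nil, List.prod_cons, List.prod_nil, mul_one]

theorem extra1 : gp 0 = (gp 2 * gp 3) ^ 4 := by
  have h := evalW_eq [0] (repW [2, 3] 4) (by decide) (repW_letters _ (by decide) _) extra_chk.1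
  rw [evalW_repW, evalW_pair, evalW_single] at h
  exact h

theorem extra2 : gp 0 = (gp 5 * gp 6) ^ 2 := by
  have h := evalW_eq [0] (repW [5, 6] 2) (by decide) (repW_letters _ (by decide) _)
    extra_chk.2.1
  rw [evalW_repW, evalW_pair, evalW_single] at h
  exact h

theorem extra3 : (gp 0 * gp 1 * gp 2 * gp 5) ^ 5 = 1 := by
  have h := evalW_eq (repW [0, 1, 2, 5] 5) [] (repW_letters _ (by decide) _) (by decide)
    extra_chk.2.2.1
  have e : evalW [0, 1, 2, 5] = gp 0 * gp 1 * gp 2 * gp 5 := by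
    simp only [evalW, List.map_cons, List.map_nil, List.prod_cons, List.prod_nil, mul_one,
      mul_assoc]
  rw [evalW_repW, evalW_nil, e] at h
  exact h

theorem extra4 : (gp 1 * gp 5 * gp 6) ^ 5 = 1 := by
  have h := evalW_eq (repW [1, 5, 6] 5) [] (repW_letters _ (by decide) _) (by decide)
    extra_chk.2.2.2.1
  have e : evalW [1, 5, 6] = gp 1 * gp 5 * gp 6 := by
    simp only [evalW, List.map_cons, List.map_nil, List.prod_cons, List.prod_nil, mul_one,
      mul_assoc]
  rw [evalW_repW, evalW_nil, e] at h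
  exact h

theorem extra5 : ((gp 1 * gp 2 * gp 3 * gp 2 * gp 3) ^ 5 * gp 4) ^ 3 = 1 := by
  have hl : ∀ l ∈ repW [1, 2, 3, 2, 3] 5 ++ [4], l < 7 := by
    intro l hl
    rcases List.mem_append.1 hl with hl | hl
    · exact repW_letters _ (by decide) _ l hl
    · rw [List.mem_singleton.1 hl]
      norm_num
  have h := evalW_eq (repW (repW [1, 2, 3, 2, 3] 5 ++ [4]) 3) [] (repW_letters _ hl _)
    (by decide) extra_chk.2.2.2.2
  have e : evalW [1, 2, 3, 2, 3] = gp 1 * gp 2 * gp 3 * gp 2 * gp 3 := by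
    simp only [evalW, List.map_cons, List.map_nil, List.prod_cons, List.prod_nil, mul_one,
      mul_assoc]
  rw [evalW_repW, evalW_nil, evalW_append, evalW_repW, evalW_single, e] at h
  exact h

theorem rels_hold : ∀ r ∈ coxRelators Suz.edges ∪ {r | r ∈ Suz.extra},
    FreeGroup.lift gmap r = 1 := by
  intro r hr
  rcases hr with hr | hr
  · obtain ⟨x, _, y, _, rfl⟩ := hr
    rw [map_pow, map_mul, FreeGroup.lift_apply_of, FreeGroup.lift_apply_of]
    exact cox_rel x y
  · have hr' : r ∈ Suz.extra := hr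
    unfold Suz.extra at hr'
    simp only [List.mem_cons, List.not_mem_nil, or_false] at hr'
    rcases hr' with rfl | rfl | rfl | rfl | rfl
    · simp only [map_mul, map_inv, map_pow, FreeGroup.lift_apply_of]
      show gp 0 * ((gp 2 * gp 3) ^ 4)⁻¹ = 1
      rw [← extra1, mul_inv_cancel]
    · simp only [map_mul, map_inv, map_pow, FreeGroup.lift_apply_of]
      show gp 0 * ((gp 5 * gp 6) ^ 2)⁻¹ = 1
      rw [← extra2, mul_inv_cancel]
    · simp only [map_mul, map_pow, FreeGroup.lift_apply_of]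
      exact extra3
    · simp only [map_mul, map_pow, FreeGroup.lift_apply_of]
      exact extra4
    · simp only [map_mul, map_pow, FreeGroup.lift_apply_of]
      exact extra5

/-- the action of the presented group -/
def rho : Suz →* Equiv.Perm (Fin 1782) := PresentedGroup.toGroup rels_hold

theorem rho_of (x : Suz.Gen) : rho (PresentedGroup.of x) = gmap x := PresentedGroup.toGroup.of _

theorem gp0_ne_one : gp 0 ≠ 1 := by
  intro h
  have h1 := acts_gp 0 (by norm_num) (⟨8, by norm_num⟩ : Fin 1782)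
  rw [h] at h1
  revert h1
  show ¬ ((8 : ℕ) = tg (pc 0) 12 8)
  decide +kernel

theorem rho_injective : Function.Injective rho := by
  have hs : IsSimpleGroup Suz := Cfsg.Agent.S1694.result.1
  rw [← MonoidHom.ker_eq_bot_iff]
  rcases (MonoidHom.normal_ker rho).eq_bot_or_eq_top with h | h
  · exact h
  · exfalso
    have : (PresentedGroup.of Suz.Gen.a : Suz) ∈ rho.ker := by rw [h]; exact Subgroup.mem_top _
    rw [MonoidHom.mem_ker, rho_of] at this
    exact gp0_ne_one this

theorem range_rho : rho.range = G1782 := by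
  rw [MonoidHom.range_eq_map, ← PresentedGroup.closure_range_of, MonoidHom.map_closure]
  unfold G1782
  congr 1
  ext g
  constructor
  · rintro ⟨_, ⟨x, rfl⟩, rfl⟩
    exact ⟨gidx x, gidx_lt x, (rho_of x).symm⟩
  · rintro ⟨k, hk, rfl⟩
    have : ∃ x : Suz.Gen, gidx x = k := by
      interval_cases k
      · exact ⟨.a, rfl⟩
      · exact ⟨.b, rfl⟩
      · exact ⟨.c, rfl⟩
      · exact ⟨.d, rfl⟩
      · exact ⟨.e, rfl⟩
      · exact ⟨.f, rfl⟩
      · exact ⟨.g, rfl⟩
    obtain ⟨x, rfl⟩ := this
    exact ⟨PresentedGroup.of x, ⟨x, rfl⟩, rho_of x⟩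

/-- the explicit group is the Suzuki group -/
theorem iso_Suz : Nonempty (↥G1782 ≃* Suz) := by
  have e1 : Suz ≃* ↥rho.range := MonoidHom.ofInjective rho_injective
  have e2 : ↥rho.range ≃* ↥G1782 := MulEquiv.subgroupCongr range_rho
  exact ⟨(e1.trans e2).symm⟩

theorem card_G1782 : Nat.card ↥G1782 = 448345497600 := by
  obtain ⟨e⟩ := iso_Suz
  rw [Nat.card_congr e.toEquiv]
  exact Cfsg.Agent.S1694.result.2

theorem finite_G1782 : Finite ↥G1782 := inferInstance

end Cfsg.Agent.Helper29.SuM
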