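import Mathlib
import Cfsg.Agent.Lib.Helper29.SuzModel
import Cfsg.Agent.Lib.Helper29.SuAuD
import Cfsg.Agent.Lib.Helper29.SuAuW

set_option autoImplicit false

/-! The central involutions of the sporadic Suzuki group on 1782 points: representatives of the
orbits of an element of order thirteen on the class, given by paths in a tree of conjugations, a
base with its transversal words, a Sylow 2-subgroup by a polycyclic sequence, and the check
functions. -/

namespace Cfsg.Agent.Helper29.SuAu

open Cfsg.Agent.Helper29.HSP (tg force force_eq allBelow allBelow_iff)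
open Cfsg.Agent.Helper29.PW Cfsg.Agent.Helper29.SuM
open Cfsg.Agent.Helper29.SuAuD

/-- the number of representatives -/
def NR : ℕ := 10395
/-- the codes of the powers of the element of order thirteen -/
def XP (k : ℕ) : ℕ := XPL.getD k 0
/-- the code of the involution -/
def YC : ℕ := CL2.getD 1 0
/-- entry `p` of a table packed with `b` bits per entry in chunks of `m` entries -/
def tgl (L : List ℕ) (b m p : ℕ) : ℕ := tg (L.getD (p / m) 0) b (p % m)
/-- the packed path of the representative `r`: the conjugating elements, the last one first -/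
def pathN (r : ℕ) : ℕ := tgl PTHL 50 512 r
/-- the path of the representative `r` as a list -/
def path (r : ℕ) : List ℕ := unpackW 10 5 (pathN r)
/-- the hint for the representative `r` and the exponent `j` -/
def hint (j r : ℕ) : ℕ := tgl (HJL.getD j []) 19 512 r
/-- the base points -/
def bv (k : ℕ) : ℕ := basePts.getD k 0
/-- the transversal words -/
def TW (k q : ℕ) : List ℕ := unpackW 4 12 (tg (transWords.getD k 0) 48 q)
/-- the orbits -/
def OM (k : ℕ) : ℕ := orbMasks.getD k 0

/-- the check of a transversal word -/
def twOK (k q : ℕ) : Bool :=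
  !(Nat.testBit (OM k) q) || (((TW k q).all fun l => Nat.blt l 9) &&
    Nat.beq (appL CL2 (TW k q) (bv k)) q &&
      allBelow k fun j => Nat.beq (appL CL2 (TW k q) (bv j)) (bv j))

/-- the code of `x ^ (-j2) * y * x ^ j` -/
def WC (j j2 : ℕ) : ℕ := WCsel j j2

/-- the check of the codes of the conjugating elements -/
def wcOK (j j2 : ℕ) : Bool :=
  force (WC j j2) fun c => force (XP ((13 - j2) % 13)) fun a => force (XP j) fun b =>
    allBelow 1782 fun p => Nat.beq (tg c 12 p) (tg a 12 (tg YC 12 (tg b 12 p)))

/-- the action of `x ^ (-j2) * y * x ^ j`, for `w = 32 * j + j2` -/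
def wApp (w p : ℕ) : ℕ := tg (WC (w / 32 % 13) (w % 32 % 13)) 12 p

/-- the action of the inverse `x ^ (-j) * y * x ^ j2` -/
def wAppI (w p : ℕ) : ℕ := tg (WC (w % 32 % 13) (w / 32 % 13)) 12 p

/-- the action of the involution of a path -/
def pathApp : List ℕ → ℕ → ℕ
  | [], p => tg YC 12 p
  | w :: t, p => wApp w (pathApp t (wAppI w p))

/-- the action of the involution of a packed path, with fuel -/
def pathAppN (f : ℕ) : ℕ → ℕ → ℕ :=
  Nat.rec (motive := fun _ => ℕ → ℕ → ℕ) (fun _ p => tg YC 12 p)
    (fun _ ih P p => force (Nat.land P (2 ^ 10 - 1)) fun w1 => cond (Nat.beq w1 0) (tg YC 12 p)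
      (force (w1 - 1) fun w => wApp w (ih (Nat.shiftRight P 10) (wAppI w p)))) f

/-- the comparison on the base of the conjugate of the representative `r` with the
representative `r2` -/
def cmpOK (j r j2 r2 : ℕ) : Bool :=
  force (pathN r * 1024 + (j * 32 + j2 + 1)) fun P1 => force (pathN r2) fun P2 =>
    allBelow 4 fun k => Nat.beq (pathAppN 6 P1 (bv k)) (pathAppN 5 P2 (bv k))

/-- the conjugate by the involution of the conjugate by `x ^ j` of the representative `r` is in
the list: a check on the base, or the symmetric entry of the table of hints when that one comes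
earlier -/
def closOK (j r : ℕ) : Bool :=
  force (hint j r) fun h => force (h / 32) fun r2 => force (h % 32) fun j2 =>
    Nat.blt r2 NR && Nat.blt j2 13 &&
      cond (Nat.ble (j * 16384 + r) (j2 * 16384 + r2)) (cmpOK j r j2 r2)
        (Nat.beq (hint j2 r2) (r * 32 + j))

/-- one syllable-word applied to a point: the rightmost syllable first -/
def iterW (f : ℕ → ℕ) : List ℕ → ℕ → ℕ
  | [], v => v
  | e :: E, v => tg (XP e) 12 (f (iterW f E v))

/-- iterate -/
def iterN (f : ℕ → ℕ) (E : List ℕ) (m v : ℕ) : ℕ :=
  Nat.rec (motive := fun _ => ℕ) v (fun _ r => iterW f E r) m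

/-- the power `m` of the syllable-word is the identity -/
def powOK (f : ℕ → ℕ) (E : List ℕ) (m : ℕ) : Bool :=
  allBelow 1782 fun p => Nat.beq (iterN f E m p) p

/-- a list of relations -/
def relsOK (f : ℕ → ℕ) : List (List ℕ × ℕ) → Bool
  | [] => true
  | r :: R => powOK f r.1 r.2 && relsOK f R

/-- a witness `h = 4096 * k + p`: the relation `k` fails at the point `p` for the
representative `i` -/
def witOK (R : List (List ℕ × ℕ)) (i h : ℕ) : Bool :=
  Nat.blt (h / 4096) R.length && Nat.blt (h % 4096) 1782 &&
    !(Nat.beq (iterN (pathApp (path i)) (R.getD (h / 4096) ([], 0)).1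
      (R.getD (h / 4096) ([], 0)).2 (h % 4096)) (h % 4096))

/-- the filter -/
def filtOK (i : ℕ) : Bool := Nat.beq i IY || witOK RL i (tg FHP 14 i)

/-- the code moves some point -/
def moved (c : ℕ) : Bool := !(allBelow 1782 fun p => Nat.beq (tg c 12 p) p)

/-- the table of the powers -/
def xpOK : Bool :=
  (allBelow 1782 fun y => Nat.beq (tg (XP 0) 12 y) y) &&
    (allBelow 12 fun k => allBelow 1782 fun y =>
      Nat.beq (tg (XP (k + 1)) 12 y) (tg (XP 1) 12 (tg (XP k) 12 y))) &&
    (allBelow 1782 fun y => Nat.beq (tg (XP 1) 12 (tg (XP 12) 12 y)) y) && moved (XP 1)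

/-- the involution -/
def yOK : Bool :=
  (allBelow 1782 fun y => Nat.beq (tg YC 12 (tg YC 12 y)) y) && relsOK (pathApp []) RL &&
    moved YC

/-- the normalising element -/
def nOK : Bool :=
  (Wn.all fun l => Nat.blt l 9) &&
    allBelow 4 fun k => Nat.beq (appL CL2 Wn (tg (XP 1) 12 (bv k)))
      (tg (XP 4) 12 (appL CL2 Wn (bv k)))

/-- the second evaluation of the program: the base codes -/
def tauBaseOK : Bool :=
  Nat.beq (CL3.getD 0 0) (XP 2) &&
    allBelow 1782 fun p => Nat.beq (tg (CL3.getD 1 0) 12 p) (pathApp (path RS) p)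

/-- the image of the element of order thirteen -/
def tauXOK : Bool :=
  allBelow 1782 fun p => Nat.beq (appL PCI [1, 2, 3, 2, 4, 5, 1, 6] p) (tg (XP 2) 12 p)

/-! ### The Sylow 2-subgroup -/

/-- the code of the generator `k` of the polycyclic sequence -/
def gc (k : ℕ) : ℕ := GC.getD k 0

/-- the conjugation relation: `g_i g_j = w g_i` with the letters of `w` above `i` -/
def crOK (i j : ℕ) : Bool :=
  Nat.ble j i || (((CRL.getD (13 * i + j) []).all fun l => Nat.blt i l && Nat.blt l 13) &&
    weqL 1782 GC [i, j] (CRL.getD (13 * i + j) [] ++ [i]))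

/-- the power relation: `g_i g_i = w` with the letters of `w` above `i` -/
def prOK (i : ℕ) : Bool :=
  ((PRL.getD i []).all fun l => Nat.blt i l && Nat.blt l 13) &&
    weqL 1782 GC [i, i] (PRL.getD i [])

/-- the action of the normal form element `m`: the factors `12, 11, …, 13 - k` -/
def nfA (k : ℕ) (m p : ℕ) : ℕ :=
  Nat.rec (motive := fun _ => ℕ) p
    (fun k q => cond (Nat.testBit m (12 - k)) (tg (gc (12 - k)) 12 q) q) k

/-- the key of a normal form element -/
def keyOf (m : ℕ) : ℕ := nfA 13 m 2 + 4096 * (nfA 13 m 7 + 4096 * nfA 13 m 0)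

/-- the element at position `k` in the order of the keys -/
def ordN (k : ℕ) : ℕ := tg ordP 13 k

/-- the position of the element `m` in the order of the keys -/
def posN (m : ℕ) : ℕ := tg posP 13 m

/-- the keys increase along the order -/
def keyIncOK (k : ℕ) : Bool :=
  force (ordN k) fun a => force (ordN (k + 1)) fun b =>
    Nat.blt a 8192 && Nat.blt b 8192 && Nat.blt (keyOf a) (keyOf b)

/-- the position is the inverse of the order -/
def posOK (i : ℕ) : Bool := force (posN i) fun k => Nat.blt k 8192 && Nat.beq (ordN k) i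

/-- the check that a normal form element is not central -/
def cenOK (m : ℕ) : Bool :=
  Nat.beq m 0 || Nat.beq m 4096 || force (tg cenP 16 m) fun h => force (h / 4096) fun c =>
    force (h % 4096) fun p => Nat.blt c 13 && Nat.blt p 1782 &&
      force (gc c) fun x => !(Nat.beq (nfA 13 m (tg x 12 p)) (tg x 12 (nfA 13 m p)))

/-- the involution commutes with the generators of the Sylow subgroup -/
def ycomOK (c : ℕ) : Bool :=
  allBelow 1782 fun p => Nat.beq (tg YC 12 (tg (gc c) 12 p)) (tg (gc c) 12 (tg YC 12 p))

/-! ### The outer automorphism as a permutation -/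

/-- the permutation conjugates the generator `k` to its image -/
def piOK (k : ℕ) : Bool :=
  force (pc k) fun a => force (PCI.getD k 0) fun b =>
    allBelow 1782 fun p => Nat.beq (tg PIC 12 (tg a 12 p)) (tg b 12 (tg PIC 12 p))

/-- the point `0` is the only common fixed point of the first six generators -/
def fixOK : Bool :=
  (allBelow 6 fun k => Nat.beq (tg (pc k) 12 0) 0) &&
    allBelow 1782 fun p => Nat.beq p 0 || !(allBelow 6 fun k => Nat.beq (tg (pc k) 12 p) p)

/-- the permutation times a word of the group fixes three base points and moves the fourth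
out of its orbit -/
def kapOK : Bool :=
  (Wk.all fun l => Nat.blt l 9) &&
    (allBelow 3 fun k => Nat.beq (tg PIC 12 (appL CL2 Wk (bv k))) (bv k)) &&
      !(Nat.testBit (OM 3) (tg PIC 12 (appL CL2 Wk (bv 3)))) &&
        Nat.blt (tg PIC 12 (appL CL2 Wk (bv 3))) 1782

end Cfsg.Agent.Helper29.SuAu
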