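import Mathlib
import Cfsg.Agent.Lib.Helper29.SuAuDefs

set_option autoImplicit false

/-! Kernel checks for the outer automorphism group of the sporadic Suzuki group (generated). -/

namespace Cfsg.Agent.Helper29.SuAu

open Cfsg.Agent.Helper29.HSP (tg force force_eq allBelow allBelow_iff cnt card_filter_eq_cnt)
open Cfsg.Agent.Helper29.PW Cfsg.Agent.Helper29.SuM
open Cfsg.Agent.Helper29.SuAuD

set_option maxRecDepth 100000 in
theorem slp2_chk : ∀ j < 7, slpOK 1782 CL2 WL2 2 j = true := by decide +kernel

set_option maxRecDepth 100000 in
theorem slp3_chk : ∀ j < 7, slpOK 1782 CL3 WL2 2 j = true := by decide +kernel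

set_option maxRecDepth 100000 in
theorem x_repr : reprL 1782 SuD.PC (CL2.getD 0 0) [1, 2, 3, 2, 4, 5, 1, 6] = true := by
  decide +kernel

set_option maxRecDepth 100000 in
theorem xp1_eq : XP 1 = CL2.getD 0 0 := by decide +kernel

set_option maxRecDepth 100000 in
theorem yc_eq : YC = pc 0 := by decide +kernel

set_option maxRecDepth 100000 in
theorem wg_chk : ∀ k < 7, reprL 1782 CL2 (pc k) (WG.getD k []) = true := by decide +kernel

set_option maxRecDepth 100000 in
theorem wgi_chk : ∀ k < 7, reprL 1782 CL3 (PCI.getD k 0) (WG.getD k []) = true := by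
  decide +kernel

set_option maxRecDepth 100000 in
theorem tw_chk : allBelow 4 (fun k => allBelow 1782 fun q => twOK k q) = true := by
  decide +kernel

set_option maxRecDepth 100000 in
theorem om_chk : ∀ k < 4, cnt (fun q => Nat.testBit (OM k) q) 1782 = sizes.getD k 0 := by
  decide +kernel

set_option maxRecDepth 100000 in
theorem xp_chk0 : xpOK = true := by decide +kernel

set_option maxRecDepth 100000 in
theorem wc_chk : ∀ j < 13, ∀ j2 < 13, wcOK j j2 = true := by decide +kernel

set_option maxRecDepth 100000 in
theorem y_chk0 : yOK = true := by decide +kernel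

set_option maxRecDepth 100000 in
theorem n_chk0 : nOK = true := by decide +kernel

theorem iy_chk0 : path IY = [] ∧ IY < NR := by decide +kernel

theorem rs_chk0 : RS < NR := by decide +kernel

set_option maxRecDepth 100000 in
theorem tau_base_chk : tauBaseOK = true := by decide +kernel

set_option maxRecDepth 100000 in
theorem tau_x_chk : tauXOK = true := by decide +kernel

set_option maxRecDepth 100000 in
theorem pci0_moved : moved (PCI.getD 0 0) = true := by decide +kernel

set_option maxRecDepth 100000 in
theorem cox_chk2 : ∀ i < 7, ∀ j < 7,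
    weqL 1782 PCI (repW [i, j] (labT.getD (7 * i + j) 0)) [] = true := by decide +kernel

set_option maxRecDepth 100000 in
theorem extra_chk2 : weqL 1782 PCI [0] (repW [2, 3] 4) = true ∧
    weqL 1782 PCI [0] (repW [5, 6] 2) = true ∧
    weqL 1782 PCI (repW [0, 1, 2, 5] 5) [] = true ∧
    weqL 1782 PCI (repW [1, 5, 6] 5) [] = true ∧
    weqL 1782 PCI (repW (repW [1, 2, 3, 2, 3] 5 ++ [4]) 3) [] = true := by
  decide +kernel

/-! ### The Sylow 2-subgroup -/

set_option maxRecDepth 100000 in
theorem gw_chk : ∀ k < 13, reprL 1782 CL2 (gc k) (GW.getD k []) = true := by decide +kernel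

set_option maxRecDepth 100000 in
theorem cr_chk0 : ∀ i < 13, ∀ j < 13, crOK i j = true := by decide +kernel

set_option maxRecDepth 100000 in
theorem pr_chk0 : ∀ i < 13, prOK i = true := by decide +kernel

set_option maxRecDepth 100000 in
theorem ycom_chk0 : ∀ c < 13, ycomOK c = true := by decide +kernel

set_option maxRecDepth 100000 in
theorem gc12_eq : gc 12 = YC := by decide +kernel

/-! ### The outer automorphism as a permutation -/

set_option maxRecDepth 100000 in
theorem pi_valid : validC 1782 PIC PICI = true := by decide +kernel

set_option maxRecDepth 100000 in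
theorem pi_chk0 : ∀ k < 7, piOK k = true := by decide +kernel

set_option maxRecDepth 100000 in
theorem fix_chk0 : fixOK = true := by decide +kernel

set_option maxRecDepth 100000 in
theorem kap_chk0 : kapOK = true := by decide +kernel

end Cfsg.Agent.Helper29.SuAu
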