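import Mathlib
import Cfsg.Agent.Lib.Helper29.SuAuDefs

set_option autoImplicit false

/-! Kernel checks for the outer automorphism group of the sporadic Suzuki group (generated). -/

namespace Cfsg.Agent.Helper29.SuAu

open Cfsg.Agent.Helper29.HSP (tg force force_eq allBelow allBelow_iff cnt card_filter_eq_cnt)
open Cfsg.Agent.Helper29.PW Cfsg.Agent.Helper29.SuM
open Cfsg.Agent.Helper29.SuAuD

set_option maxRecDepth 100000 in
theorem clos_6 : allBelow 10395 (closOK 6) = true := by decide +kernel

set_option maxRecDepth 100000 in
theorem clos_7 : allBelow 10395 (closOK 7) = true := by decide +kernel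

set_option maxRecDepth 100000 in
theorem clos_8 : allBelow 10395 (closOK 8) = true := by decide +kernel

end Cfsg.Agent.Helper29.SuAu
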