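import Mathlib
import Cfsg.Agent.Lib.Helper29.SuAuDefs

set_option autoImplicit false

/-! Kernel checks for the Sylow 2-subgroup of the sporadic Suzuki group (generated). -/

namespace Cfsg.Agent.Helper29.SuAu

open Cfsg.Agent.Helper29.HSP (tg force force_eq allBelow allBelow_iff cnt card_filter_eq_cnt)
open Cfsg.Agent.Helper29.PW Cfsg.Agent.Helper29.SuM
open Cfsg.Agent.Helper29.SuAuD

set_option maxRecDepth 100000 in
theorem key_inc0 : allBelow 8191 keyIncOK = true := by decide +kernel

set_option maxRecDepth 100000 in
theorem pos_chk0 : allBelow 8192 posOK = true := by decide +kernel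

set_option maxRecDepth 100000 in
theorem cen_chk0 : allBelow 8192 cenOK = true := by decide +kernel

set_option maxRecDepth 100000 in
theorem nf0_chk : (allBelow 1782 fun p => Nat.beq (nfA 13 0 p) p) = true := by decide +kernel

set_option maxRecDepth 100000 in
theorem nf4096_chk : (allBelow 1782 fun p => Nat.beq (nfA 13 4096 p) (tg YC 12 p)) = true := by
  decide +kernel

set_option maxRecDepth 100000 in
theorem om0_chk0 : (allBelow 1782 fun q => Nat.testBit (OM 0) q) = true := by decide +kernel

end Cfsg.Agent.Helper29.SuAu
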