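import Mathlib

set_option autoImplicit false

/-! A subgroup generated by a set `X` together with one more element which normalises the
subgroup generated by `X` and whose square lies in it has at most twice the order. -/

namespace Cfsg.Agent.Helper29.SuTG

variable {G : Type*} [Group G]

theorem conj_mem_of_gens (X : Set G) (g : G)
    (hn : ∀ x ∈ X, g * x * g⁻¹ ∈ Subgroup.closure X) :
    ∀ h ∈ Subgroup.closure X, g * h * g⁻¹ ∈ Subgroup.closure X := by
  intro h hh
  induction hh using Subgroup.closure_induction with
  | mem x hx => exact hn x hx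
  | one =>
    have : g * 1 * g⁻¹ = 1 := by group
    rw [this]
    exact Subgroup.one_mem _
  | mul a b _ _ ha hb =>
    have : g * (a * b) * g⁻¹ = (g * a * g⁻¹) * (g * b * g⁻¹) := by group
    rw [this]
    exact Subgroup.mul_mem _ ha hb
  | inv a _ ha =>
    have : g * a⁻¹ * g⁻¹ = (g * a * g⁻¹)⁻¹ := by group
    rw [this]
    exact Subgroup.inv_mem _ ha

theorem closure_insert_subset (X : Set G) (g : G)
    (hn : ∀ x ∈ X, g * x * g⁻¹ ∈ Subgroup.closure X) (hsq : g * g ∈ Subgroup.closure X) :
    ∀ k ∈ Subgroup.closure (insert g X), k ∈ Subgroup.closure X ∨ g⁻¹ * k ∈ Subgroup.closure X := by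
  have h1 := conj_mem_of_gens X g hn
  have h2 : ∀ h ∈ Subgroup.closure X, g⁻¹ * h * g ∈ Subgroup.closure X := by
    intro h hh
    have : g⁻¹ * h * g = (g * g)⁻¹ * (g * h * g⁻¹) * (g * g) := by group
    rw [this]
    exact Subgroup.mul_mem _ (Subgroup.mul_mem _ (Subgroup.inv_mem _ hsq) (h1 h hh)) hsq
  have hH : ∀ k ∈ Subgroup.closure X, ∀ t : G,
      (t ∈ Subgroup.closure X ∨ g⁻¹ * t ∈ Subgroup.closure X) →
        (k * t ∈ Subgroup.closure X ∨ g⁻¹ * (k * t) ∈ Subgroup.closure X) := by
    intro k hk t ht
    rcases ht with ht | ht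
    · exact Or.inl (Subgroup.mul_mem _ hk ht)
    · right
      have : g⁻¹ * (k * t) = (g⁻¹ * k * g) * (g⁻¹ * t) := by group
      rw [this]
      exact Subgroup.mul_mem _ (h2 k hk) ht
  have key : ∀ k ∈ Subgroup.closure (insert g X), ∀ t : G,
      (t ∈ Subgroup.closure X ∨ g⁻¹ * t ∈ Subgroup.closure X) →
        (k * t ∈ Subgroup.closure X ∨ g⁻¹ * (k * t) ∈ Subgroup.closure X) ∧
        (k⁻¹ * t ∈ Subgroup.closure X ∨ g⁻¹ * (k⁻¹ * t) ∈ Subgroup.closure X) := by
    intro k hk
    induction hk using Subgroup.closure_induction with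
    | mem x hx =>
      intro t ht
      rcases hx with rfl | hx
      · constructor
        · rcases ht with ht | ht
          · right
            have : x⁻¹ * (x * t) = t := by group
            rw [this]
            exact ht
          · left
            have : x * t = (x * x) * (x⁻¹ * t) := by group
            rw [this]
            exact Subgroup.mul_mem _ hsq ht
        · rcases ht with ht | ht
          · right
            have : x⁻¹ * (x⁻¹ * t) = (x * x)⁻¹ * t := by group
            rw [this]
            exact Subgroup.mul_mem _ (Subgroup.inv_mem _ hsq) ht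
          · exact Or.inl ht
      · exact ⟨hH x (Subgroup.subset_closure hx) t ht,
          hH x⁻¹ (Subgroup.inv_mem _ (Subgroup.subset_closure hx)) t ht⟩
    | one =>
      intro t ht
      rw [inv_one, one_mul]
      exact ⟨ht, ht⟩
    | mul a b _ _ ha hb =>
      intro t ht
      constructor
      · rw [mul_assoc]
        exact (ha _ (hb t ht).1).1
      · rw [mul_inv_rev, mul_assoc]
        exact (hb _ (ha t ht).2).2
    | inv a _ ha =>
      intro t ht
      rw [inv_inv]
      exact ⟨(ha t ht).2, (ha t ht).1⟩
  intro k hk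
  have := (key k hk 1 (Or.inl (Subgroup.one_mem _))).1
  rwa [mul_one] at this

theorem card_closure_insert_le [Finite G] (X : Set G) (g : G)
    (hn : ∀ x ∈ X, g * x * g⁻¹ ∈ Subgroup.closure X) (hsq : g * g ∈ Subgroup.closure X) :
    Nat.card ↥(Subgroup.closure (insert g X)) ≤ 2 * Nat.card ↥(Subgroup.closure X) := by
  have hsub : ((Subgroup.closure (insert g X) : Subgroup G) : Set G) ⊆
      ((Subgroup.closure X : Subgroup G) : Set G) ∪
        (fun h => g * h) '' ((Subgroup.closure X : Subgroup G) : Set G) := by
    intro k hk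
    rcases closure_insert_subset X g hn hsq k hk with h | h
    · exact Or.inl h
    · right
      exact ⟨g⁻¹ * k, h, by group⟩
  have e1 : Nat.card ↥(Subgroup.closure (insert g X)) =
      ((Subgroup.closure (insert g X) : Subgroup G) : Set G).ncard := Nat.card_coe_set_eq _
  have e2 : Nat.card ↥(Subgroup.closure X) =
      ((Subgroup.closure X : Subgroup G) : Set G).ncard := Nat.card_coe_set_eq _
  rw [e1, e2]
  calc ((Subgroup.closure (insert g X) : Subgroup G) : Set G).ncard
      ≤ (((Subgroup.closure X : Subgroup G) : Set G) ∪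
        (fun h => g * h) '' ((Subgroup.closure X : Subgroup G) : Set G)).ncard :=
        Set.ncard_le_ncard hsub (Set.toFinite _)
    _ ≤ ((Subgroup.closure X : Subgroup G) : Set G).ncard +
        ((fun h => g * h) '' ((Subgroup.closure X : Subgroup G) : Set G)).ncard :=
        Set.ncard_union_le _ _
    _ ≤ ((Subgroup.closure X : Subgroup G) : Set G).ncard +
        ((Subgroup.closure X : Subgroup G) : Set G).ncard :=
        Nat.add_le_add_left (Set.ncard_image_le (Set.toFinite _)) _
    _ = 2 * ((Subgroup.closure X : Subgroup G) : Set G).ncard := by ring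

end Cfsg.Agent.Helper29.SuTG
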