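import Mathlib
import Cfsg.Agent.Lib.Helper29.SuAuBase
import Cfsg.Agent.Lib.Helper29.SuAuChkT
import Cfsg.Agent.Lib.Helper29.SuTwoGen

set_option autoImplicit false
set_option maxRecDepth 8000
open Cfsg

/-! A Sylow 2-subgroup of the sporadic Suzuki group on 1782 points, from a polycyclic sequence of
thirteen elements: the conjugation and power relations bound its order by `2 ^ 13`, and the
`2 ^ 13` normal forms are pairwise distinct. Its centre has order two. -/

namespace Cfsg.Agent.Helper29.SuAu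

open Cfsg.Agent.Helper29.HSP (tg force force_eq allBelow allBelow_iff)
open Cfsg.Agent.Helper29.PW Cfsg.Agent.Helper29.SuM
open Cfsg.Agent.Helper29.SuAuD Cfsg.Agent.Helper29.SuTG

/-! ### The sequence -/

theorem gw_letters (k : ℕ) (hk : k < 13) : ∀ l ∈ GW.getD k [], l < 9 := by
  have hl := letters_of_reprL (gw_chk k hk)
  rwa [CL2_length] at hl

/-- the elements of the polycyclic sequence -/
def gQ (k : ℕ) : Pm := evalW2 (GW.getD k [])

theorem gQ_mem (k : ℕ) (hk : k < 13) : gQ k ∈ G1782 := evalW2_mem _ (gw_letters k hk)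

theorem acts_gQ (k : ℕ) (hk : k < 13) : Acts 1782 (gQ k) (GC.getD k 0) := by
  have h := gw_chk k hk
  intro u
  show (evalW2 (GW.getD k []) u).val = _
  rw [evalW2_apply _ (gw_letters k hk) u]
  unfold reprL at h
  rw [Bool.and_eq_true, allBelow_iff] at h
  exact (Nat.eq_of_beq_eq_true (h.2 u.val u.2)).symm

theorem acts_gQ' (k : ℕ) (hk : k < 13) : Acts 1782 (gQ k) (gc k) := acts_gQ k hk

/-- the product of a word in the sequence -/
def evalQ (w : List ℕ) : Pm := (w.map gQ).prod

theorem cr_spec (i j : ℕ) (hi : i < 13) (hj : j < 13) (hij : i < j) :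
    (∀ l ∈ CRL.getD (13 * i + j) [], i < l ∧ l < 13) ∧
      gQ i * gQ j = evalQ (CRL.getD (13 * i + j) []) * gQ i := by
  have h := cr_chk0 i hi j hj
  unfold crOK at h
  rw [Bool.or_eq_true] at h
  rcases h with h | h
  · have := Nat.le_of_ble_eq_true h
    omega
  · rw [Bool.and_eq_true, List.all_eq_true] at h
    have hl : ∀ l ∈ CRL.getD (13 * i + j) [], i < l ∧ l < 13 := by
      intro l hl
      have := h.1 l hl
      rw [Bool.and_eq_true] at this
      exact ⟨Eq.mp Nat.blt_eq this.1, Eq.mp Nat.blt_eq this.2⟩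
    refine ⟨hl, ?_⟩
    have e := prod_eq_of_weqL GC gQ [i, j] (CRL.getD (13 * i + j) [] ++ [i]) ?_ ?_ h.2
    · simp only [List.map_cons, List.map_nil, List.prod_cons, List.prod_nil, mul_one,
        List.map_append, List.prod_append] at e
      exact e
    · intro l hl'
      simp only [List.mem_cons, List.not_mem_nil, or_false] at hl'
      rcases hl' with rfl | rfl
      · exact acts_gQ _ hi
      · exact acts_gQ _ hj
    · intro l hl'
      rcases List.mem_append.1 hl' with hl' | hl'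
      · exact acts_gQ l (hl l hl').2
      · rw [List.mem_singleton.1 hl']
        exact acts_gQ _ hi

theorem pr_spec (i : ℕ) (hi : i < 13) :
    (∀ l ∈ PRL.getD i [], i < l ∧ l < 13) ∧ gQ i * gQ i = evalQ (PRL.getD i []) := by
  have h := pr_chk0 i hi
  unfold prOK at h
  rw [Bool.and_eq_true, List.all_eq_true] at h
  have hl : ∀ l ∈ PRL.getD i [], i < l ∧ l < 13 := by
    intro l hl
    have := h.1 l hl
    rw [Bool.and_eq_true] at this
    exact ⟨Eq.mp Nat.blt_eq this.1, Eq.mp Nat.blt_eq this.2⟩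
  refine ⟨hl, ?_⟩
  have e := prod_eq_of_weqL GC gQ [i, i] (PRL.getD i []) ?_ ?_ h.2
  · simp only [List.map_cons, List.map_nil, List.prod_cons, List.prod_nil, mul_one] at e
    exact e
  · intro l hl'
    simp only [List.mem_cons, List.not_mem_nil, or_false, or_self] at hl'
    rw [hl']
    exact acts_gQ _ hi
  · intro l hl'
    exact acts_gQ l (hl l hl').2

/-! ### The normal series -/

/-- the generators from `i` on -/
def XS (i : ℕ) : Set Pm := {p | ∃ k, i ≤ k ∧ k < 13 ∧ gQ k = p}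

/-- the terms of the series -/
def SP (i : ℕ) : Subgroup Pm := Subgroup.closure (XS i)

theorem XS_succ (i : ℕ) (hi : i < 13) : XS i = insert (gQ i) (XS (i + 1)) := by
  ext p
  constructor
  · rintro ⟨k, h1, h2, rfl⟩
    rcases Nat.eq_or_lt_of_le h1 with rfl | h
    · exact Or.inl rfl
    · exact Or.inr ⟨k, h, h2, rfl⟩
  · rintro (rfl | ⟨k, h1, h2, rfl⟩)
    · exact ⟨i, le_rfl, hi, rfl⟩
    · exact ⟨k, by omega, h2, rfl⟩

theorem evalQ_mem (i : ℕ) (w : List ℕ) (hw : ∀ l ∈ w, i < l ∧ l < 13) :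
    evalQ w ∈ SP (i + 1) := by
  apply Subgroup.list_prod_mem
  intro x hx
  obtain ⟨l, hl, rfl⟩ := List.mem_map.1 hx
  exact Subgroup.subset_closure ⟨l, (hw l hl).1, (hw l hl).2, rfl⟩

theorem card_SP_step (i : ℕ) (hi : i < 13) : Nat.card ↥(SP i) ≤ 2 * Nat.card ↥(SP (i + 1)) := by
  unfold SP
  rw [XS_succ i hi]
  apply card_closure_insert_le
  · rintro x ⟨j, h1, h2, rfl⟩
    obtain ⟨hl, e⟩ := cr_spec i j hi h2 h1
    have : gQ i * gQ j * (gQ i)⁻¹ = evalQ (CRL.getD (13 * i + j) []) := by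
      rw [e]
      group
    rw [this]
    exact evalQ_mem i _ hl
  · obtain ⟨hl, e⟩ := pr_spec i hi
    rw [e]
    exact evalQ_mem i _ hl

theorem card_SP13 : Nat.card ↥(SP 13) = 1 := by
  have : XS 13 = ∅ := by
    ext p
    constructor
    · rintro ⟨k, h1, h2, _⟩
      omega
    · intro h
      exact h.elim
  unfold SP
  rw [this, Subgroup.closure_empty]
  exact Subgroup.card_bot

theorem card_SP_le (d : ℕ) (hd : d ≤ 13) : Nat.card ↥(SP (13 - d)) ≤ 2 ^ d := by
  induction d with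
  | zero => exact le_of_eq card_SP13
  | succ d ih =>
    have h1 := card_SP_step (13 - (d + 1)) (by omega)
    have e : 13 - (d + 1) + 1 = 13 - d := by omega
    rw [e] at h1
    have h2 := ih (by omega)
    rw [pow_succ]
    omega

theorem card_SP0_le : Nat.card ↥(SP 0) ≤ 8192 := card_SP_le 13 le_rfl

/-! ### The normal forms -/

/-- the factor `i` of the normal form `m` -/
def nfF (m i : ℕ) : Pm := if Nat.testBit m i = true then gQ i else 1

/-- the normal form `m`: the factors `13 - k, …, 12` in increasing order -/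
def nfE (k m : ℕ) : Pm :=
  Nat.rec (motive := fun _ => Pm) 1 (fun k q => nfF m (12 - k) * q) k

theorem nfE_succ (k m : ℕ) : nfE (k + 1) m = nfF m (12 - k) * nfE k m := rfl

theorem nfA_succ (k m p : ℕ) : nfA (k + 1) m p =
    cond (Nat.testBit m (12 - k)) (tg (gc (12 - k)) 12 (nfA k m p)) (nfA k m p) := rfl

theorem gQ_mem_SP0 (k : ℕ) (hk : k < 13) : gQ k ∈ SP 0 :=
  Subgroup.subset_closure ⟨k, Nat.zero_le _, hk, rfl⟩

theorem nfE_mem (k m : ℕ) : nfE k m ∈ SP 0 := by
  induction k with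
  | zero => exact Subgroup.one_mem _
  | succ k ih =>
    rw [nfE_succ]
    refine Subgroup.mul_mem _ ?_ ih
    unfold nfF
    split_ifs
    · exact gQ_mem_SP0 _ (by omega)
    · exact Subgroup.one_mem _

theorem nfE_apply (k m : ℕ) (u : Fin 1782) : (nfE k m u).val = nfA k m u.val := by
  induction k with
  | zero => rfl
  | succ k ih =>
    rw [nfE_succ, nfA_succ, Equiv.Perm.mul_apply]
    unfold nfF
    cases hb : Nat.testBit m (12 - k) with
    | true =>
      rw [if_pos rfl, cond_true, acts_gQ' (12 - k) (by omega), ih]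
    | false =>
      rw [if_neg (by simp), cond_false, Equiv.Perm.one_apply, ih]

theorem key_inc (k : ℕ) (hk : k < 8191) : ordN k < 8192 ∧ ordN (k + 1) < 8192 ∧
    keyOf (ordN k) < keyOf (ordN (k + 1)) := by
  have h := (allBelow_iff _ _).1 key_inc0 k hk
  unfold keyIncOK at h
  rw [force_eq, force_eq, Bool.and_eq_true, Bool.and_eq_true] at h
  exact ⟨Eq.mp Nat.blt_eq h.1.1, Eq.mp Nat.blt_eq h.1.2, Eq.mp Nat.blt_eq h.2⟩

theorem key_strict (a b : ℕ) (hab : a < b) (hb : b < 8192) :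
    keyOf (ordN a) < keyOf (ordN b) := by
  induction b with
  | zero => omega
  | succ b ih =>
    rcases Nat.lt_succ_iff_lt_or_eq.1 hab with h | h
    · exact lt_trans (ih h (by omega)) (key_inc b (by omega)).2.2
    · rw [h]; exact (key_inc b (by omega)).2.2

theorem pos_chk (i : ℕ) (hi : i < 8192) : posN i < 8192 ∧ ordN (posN i) = i := by
  have h := (allBelow_iff _ _).1 pos_chk0 i hi
  unfold posOK at h
  rw [force_eq, Bool.and_eq_true] at h
  exact ⟨Eq.mp Nat.blt_eq h.1, Nat.eq_of_beq_eq_true h.2⟩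

theorem key_chk : ∀ i < 8192, ∀ j < 8192, i ≠ j → keyOf i ≠ keyOf j := by
  intro i hi j hj hne
  obtain ⟨h1, h2⟩ := pos_chk i hi
  obtain ⟨h3, h4⟩ := pos_chk j hj
  have hp : posN i ≠ posN j := by
    intro e
    apply hne
    rw [← h2, ← h4, e]
  rw [← h2, ← h4]
  rcases Nat.lt_or_gt_of_ne hp with h | h
  · exact Nat.ne_of_lt (key_strict _ _ h h3)
  · exact (Nat.ne_of_lt (key_strict _ _ h h1)).symm

theorem nfE_inj (i j : ℕ) (hi : i < 8192) (hj : j < 8192) (h : nfE 13 i = nfE 13 j) :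
    i = j := by
  have key : keyOf i = keyOf j := by
    have e : ∀ y < 1782, nfA 13 i y = nfA 13 j y := by
      intro y hy
      have h1 := nfE_apply 13 i ⟨y, hy⟩
      have h2 := nfE_apply 13 j ⟨y, hy⟩
      rw [h] at h1
      exact h1.symm.trans h2
    unfold keyOf
    rw [e 2 (by norm_num), e 7 (by norm_num), e 0 (by norm_num)]
  by_contra hne
  exact key_chk i hi j hj hne key

theorem nf_bijective : Function.Bijective
    (fun m : Fin 8192 => (⟨nfE 13 m.val, nfE_mem 13 m.val⟩ : ↥(SP 0))) := by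
  apply Function.Injective.bijective_of_nat_card_le
  · intro i j h
    apply Fin.ext
    exact nfE_inj i.val j.val i.2 j.2 (congrArg Subtype.val h)
  · have e : Nat.card (Fin 8192) = 8192 := by simp
    rw [e]
    exact card_SP0_le

theorem card_SP0 : Nat.card ↥(SP 0) = 8192 := by
  rw [← Nat.card_eq_of_bijective _ nf_bijective]
  simp

theorem exists_nf (g : Pm) (hg : g ∈ SP 0) : ∃ m < 8192, g = nfE 13 m := by
  obtain ⟨m, hm⟩ := nf_bijective.2 ⟨g, hg⟩
  exact ⟨m.val, m.2, (congrArg Subtype.val hm).symm⟩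

theorem SP0_le : SP 0 ≤ G1782 := by
  unfold SP
  rw [Subgroup.closure_le]
  rintro p ⟨k, _, hk, rfl⟩
  exact gQ_mem k hk

/-! ### The centre -/

theorem nfE_zero : nfE 13 0 = 1 := by
  apply Equiv.ext
  intro u
  apply Fin.ext
  rw [nfE_apply, Equiv.Perm.one_apply]
  exact Nat.eq_of_beq_eq_true ((allBelow_iff _ _).1 nf0_chk u.val u.2)

theorem nfE_top : nfE 13 4096 = yP := by
  apply Equiv.ext
  intro u
  apply Fin.ext
  rw [nfE_apply, acts_yP]
  exact Nat.eq_of_beq_eq_true ((allBelow_iff _ _).1 nf4096_chk u.val u.2)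

theorem yP_eq_gQ : yP = gQ 12 := by
  apply eq_of_acts acts_yP
  have h := acts_gQ' 12 (by norm_num)
  rwa [gc12_eq] at h

theorem yP_mem_SP0 : yP ∈ SP 0 := by
  rw [yP_eq_gQ]
  exact gQ_mem_SP0 12 (by norm_num)

theorem ycom_chk (c : ℕ) (hc : c < 13) :
    ∀ y < 1782, tg YC 12 (tg (gc c) 12 y) = tg (gc c) 12 (tg YC 12 y) := by
  have h := ycom_chk0 c hc
  unfold ycomOK at h
  rw [allBelow_iff] at h
  exact fun y hy => Nat.eq_of_beq_eq_true (h y hy)

theorem yP_comm : ∀ s ∈ SP 0, yP * s = s * yP := by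
  intro s hs
  unfold SP at hs
  induction hs using Subgroup.closure_induction with
  | mem g hg =>
    obtain ⟨c, _, hc, rfl⟩ := hg
    apply Equiv.ext
    intro u
    apply Fin.ext
    rw [Equiv.Perm.mul_apply, Equiv.Perm.mul_apply, acts_yP, acts_gQ' c hc, acts_gQ' c hc,
      acts_yP, ycom_chk c hc u.val u.2]
  | one => rw [mul_one, one_mul]
  | mul a b _ _ ha hb => rw [← mul_assoc, ha, mul_assoc, hb, mul_assoc]
  | inv a _ ha =>
    have : a⁻¹ * (yP * a) * a⁻¹ = a⁻¹ * (a * yP) * a⁻¹ := by rw [ha]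
    have e1 : a⁻¹ * (yP * a) * a⁻¹ = a⁻¹ * yP := by group
    have e2 : a⁻¹ * (a * yP) * a⁻¹ = yP * a⁻¹ := by group
    rw [e1, e2] at this
    exact this.symm

/-- the centre of the Sylow subgroup has order two -/
theorem center_SP0 (g : Pm) (hg : g ∈ SP 0) (hc : ∀ s ∈ SP 0, g * s = s * g) :
    g = 1 ∨ g = yP := by
  obtain ⟨m, hm, e⟩ := exists_nf g hg
  have h := (allBelow_iff _ _).1 cen_chk0 m hm
  unfold cenOK at h
  rw [Bool.or_eq_true, Bool.or_eq_true] at h
  rcases h with (h | h) | h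
  · left
    rw [e, Nat.eq_of_beq_eq_true h, nfE_zero]
  · right
    rw [e, Nat.eq_of_beq_eq_true h, nfE_top]
  · exfalso
    rw [force_eq, force_eq, force_eq, Bool.and_eq_true, Bool.and_eq_true, force_eq,
      Bool.not_eq_true'] at h
    obtain ⟨⟨h1, h2⟩, h3⟩ := h
    have hc4 : tg cenP 16 m / 4096 < 13 := Eq.mp Nat.blt_eq h1
    have hp : tg cenP 16 m % 4096 < 1782 := Eq.mp Nat.blt_eq h2
    have hcomm := hc (gQ (tg cenP 16 m / 4096)) (gQ_mem_SP0 _ hc4)
    have h4 := congrArg (fun k : Pm => (k ⟨tg cenP 16 m % 4096, hp⟩).val) hcomm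
    have h5 : (g (gQ (tg cenP 16 m / 4096) ⟨tg cenP 16 m % 4096, hp⟩)).val =
        (gQ (tg cenP 16 m / 4096) (g ⟨tg cenP 16 m % 4096, hp⟩)).val := h4
    rw [e, nfE_apply, acts_gQ' _ hc4, acts_gQ' _ hc4, nfE_apply] at h5
    rw [h5, Nat.beq_refl] at h3
    exact Bool.noConfusion h3

/-! ### The Sylow subgroup inside the group -/

/-- the Sylow subgroup -/
def S2 : Subgroup ↥G1782 := (SP 0).subgroupOf G1782

theorem mem_S2 (g : ↥G1782) : g ∈ S2 ↔ g.val ∈ SP 0 := Subgroup.mem_subgroupOf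

theorem card_S2 : Nat.card ↥S2 = 8192 := by
  rw [← card_SP0]
  exact Nat.card_congr (Subgroup.subgroupOfEquivOfLe SP0_le).toEquiv

theorem card_S2_pow : Nat.card ↥S2 = 2 ^ 13 := by
  rw [card_S2]
  norm_num

theorem not_dvd_index_S2 : ¬ 2 ∣ S2.index := by
  have h := Subgroup.card_mul_index S2
  rw [card_S2, card_G1782] at h
  have : S2.index = 54729675 := by omega
  rw [this]
  decide

end Cfsg.Agent.Helper29.SuAu
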