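import Mathlib
import Cfsg.Agent.Lib.Helper29.SuAuB
import Cfsg.Agent.Lib.Helper26.AutOuter

set_option autoImplicit false
set_option maxRecDepth 8000
open Cfsg

/-! The outer automorphism group of the sporadic Suzuki group has order two: an outer
automorphism is obtained from a second family of generators satisfying the relations of the
presentation; it is induced by a permutation of the 1782 points outside the group. -/

namespace Cfsg.Agent.Helper29.SuAu

open Cfsg.Agent.Helper29.HSP (tg force force_eq allBelow allBelow_iff)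
open Cfsg.Agent.Helper29.PW Cfsg.Agent.Helper29.SuM
open Cfsg.Agent.Helper29.SuAuD
open Cfsg.Agent.Helper29.PN (Hst mem_Hst)
open Cfsg.Agent.Helper26
open Cfsg.Spor

/-! ### The second evaluation of the program -/

/-- the image of the involution -/
def tP : Pm := tE RS

theorem tP_mem : tP ∈ G1782 := pathEl_mem _

theorem tau_base : CL3.getD 0 0 = XP 2 ∧
    ∀ p < 1782, tg (CL3.getD 1 0) 12 p = pathApp (path RS) p := by
  have h := tau_base_chk
  unfold tauBaseOK at h
  rw [Bool.and_eq_true, allBelow_iff] at h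
  exact ⟨Nat.eq_of_beq_eq_true h.1, fun p hp => Nat.eq_of_beq_eq_true (h.2 p hp)⟩

theorem acts_tP : Acts 1782 tP (CL3.getD 1 0) := by
  intro u
  show (pathEl (path RS) u).val = _
  rw [pathEl_apply, tau_base.2 u.val u.2]

/-- the two base elements of the second evaluation -/
def base3 (l : ℕ) : Pm := if l = 0 then xP ^ 2 else tP

/-- the elements of the second evaluation -/
def el3 (l : ℕ) : Pm := elF WL2 base3 2 7 l

theorem el3_spec (l : ℕ) (hl : l < 9) : Acts 1782 (el3 l) (CL3.getD l 0) ∧ el3 l ∈ G1782 := by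
  have h0 : ∀ l < 2, Acts 1782 (base3 l) (CL3.getD l 0) ∧ base3 l ∈ G1782 := by
    intro l hl
    interval_cases l
    · refine ⟨?_, xpow_mem 2⟩
      rw [tau_base.1]
      exact acts_xpow 2 (by norm_num)
    · exact ⟨acts_tP, tP_mem⟩
  exact elF_spec G1782 h0 7 slp3_chk 7 le_rfl l (by omega)

/-- the images of the generators -/
def gi (k : ℕ) : Pm := ((WG.getD k []).map el3).prod

theorem gi_mem (k : ℕ) (hk : k < 7) : gi k ∈ G1782 := by
  apply Subgroup.list_prod_mem
  intro x hx
  obtain ⟨l, hl, rfl⟩ := List.mem_map.1 hx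
  exact (el3_spec l (wg_letters k hk l hl)).2

theorem acts_gi (k : ℕ) (hk : k < 7) : Acts 1782 (gi k) (PCI.getD k 0) := by
  have h := wgi_chk k hk
  intro u
  show (((WG.getD k []).map el3).prod u).val = _
  rw [prod_apply_of CL3 el3 _ (fun l hl => (el3_spec l (wg_letters k hk l hl)).1) u]
  unfold reprL at h
  rw [Bool.and_eq_true, allBelow_iff] at h
  exact (Nat.eq_of_beq_eq_true (h.2 u.val u.2)).symm

/-- the permutation of a word in the images -/
def evalWi (w : List ℕ) : Pm := (w.map gi).prod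

theorem evalWi_eq (w v : List ℕ) (hw : ∀ l ∈ w, l < 7) (hv : ∀ l ∈ v, l < 7)
    (h : weqL 1782 PCI w v = true) : evalWi w = evalWi v :=
  prod_eq_of_weqL PCI gi w v (fun l hl => acts_gi l (hw l hl)) (fun l hl => acts_gi l (hv l hl)) h

theorem evalWi_append (w v : List ℕ) : evalWi (w ++ v) = evalWi w * evalWi v := by
  unfold evalWi
  rw [List.map_append, List.prod_append]

theorem evalWi_repW (w : List ℕ) (m : ℕ) : evalWi (repW w m) = evalWi w ^ m := by
  induction m with
  | zero => rfl
  | succ m ih =>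
    show evalWi (w ++ repW w m) = _
    rw [evalWi_append, ih, pow_succ']

theorem evalWi_pair (i j : ℕ) : evalWi [i, j] = gi i * gi j := by
  simp only [evalWi, List.map_cons, List.map_nil, List.prod_cons, List.prod_nil, mul_one]

theorem evalWi_nil : evalWi [] = 1 := rfl

theorem evalWi_single (i : ℕ) : evalWi [i] = gi i := by
  simp only [evalWi, List.map_cons, List.map_nil, List.prod_cons, List.prod_nil, mul_one]

/-! ### The relators -/

/-- the image of a generator -/
def gmap2 (x : Suz.Gen) : Pm := gi (gidx x)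

theorem cox_rel2 (x y : Suz.Gen) : (gmap2 x * gmap2 y) ^ coxLabel Suz.edges x y = 1 := by
  rw [lab_eq]
  unfold gmap2
  rw [← evalWi_pair, ← evalWi_repW]
  have h := evalWi_eq _ [] (repW_letters [gidx x, gidx y] (by
      intro l hl
      simp only [List.mem_cons, List.not_mem_nil, or_false] at hl
      rcases hl with rfl | rfl
      · exact gidx_lt x
      · exact gidx_lt y) _) (by intro l hl; cases hl)
    (cox_chk2 _ (gidx_lt x) _ (gidx_lt y))
  rw [h]
  rfl

theorem extra1b : gi 0 = (gi 2 * gi 3) ^ 4 := by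
  have h := evalWi_eq [0] (repW [2, 3] 4) (by decide) (repW_letters _ (by decide) _) extra_chk2.1
  rw [evalWi_repW, evalWi_pair, evalWi_single] at h
  exact h

theorem extra2b : gi 0 = (gi 5 * gi 6) ^ 2 := by
  have h := evalWi_eq [0] (repW [5, 6] 2) (by decide) (repW_letters _ (by decide) _)
    extra_chk2.2.1
  rw [evalWi_repW, evalWi_pair, evalWi_single] at h
  exact h

theorem extra3b : (gi 0 * gi 1 * gi 2 * gi 5) ^ 5 = 1 := by
  have h := evalWi_eq (repW [0, 1, 2, 5] 5) [] (repW_letters _ (by decide) _) (by decide)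
    extra_chk2.2.2.1
  have e : evalWi [0, 1, 2, 5] = gi 0 * gi 1 * gi 2 * gi 5 := by
    simp only [evalWi, List.map_cons, List.map_nil, List.prod_cons, List.prod_nil, mul_one,
      mul_assoc]
  rw [evalWi_repW, evalWi_nil, e] at h
  exact h

theorem extra4b : (gi 1 * gi 5 * gi 6) ^ 5 = 1 := by
  have h := evalWi_eq (repW [1, 5, 6] 5) [] (repW_letters _ (by decide) _) (by decide)
    extra_chk2.2.2.2.1
  have e : evalWi [1, 5, 6] = gi 1 * gi 5 * gi 6 := by
    simp only [evalWi, List.map_cons, List.map_nil, List.prod_cons, List.prod_nil, mul_one,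
      mul_assoc]
  rw [evalWi_repW, evalWi_nil, e] at h
  exact h

theorem extra5b : ((gi 1 * gi 2 * gi 3 * gi 2 * gi 3) ^ 5 * gi 4) ^ 3 = 1 := by
  have hl : ∀ l ∈ repW [1, 2, 3, 2, 3] 5 ++ [4], l < 7 := by
    intro l hl
    rcases List.mem_append.1 hl with hl | hl
    · exact repW_letters _ (by decide) _ l hl
    · rw [List.mem_singleton.1 hl]
      norm_num
  have h := evalWi_eq (repW (repW [1, 2, 3, 2, 3] 5 ++ [4]) 3) [] (repW_letters _ hl _)
    (by decide) extra_chk2.2.2.2.2
  have e : evalWi [1, 2, 3, 2, 3] = gi 1 * gi 2 * gi 3 * gi 2 * gi 3 := by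
    simp only [evalWi, List.map_cons, List.map_nil, List.prod_cons, List.prod_nil, mul_one,
      mul_assoc]
  rw [evalWi_repW, evalWi_nil, evalWi_append, evalWi_repW, evalWi_single, e] at h
  exact h

theorem rels_hold2 : ∀ r ∈ coxRelators Suz.edges ∪ {r | r ∈ Suz.extra},
    FreeGroup.lift gmap2 r = 1 := by
  intro r hr
  rcases hr with hr | hr
  · obtain ⟨x, _, y, _, rfl⟩ := hr
    rw [map_pow, map_mul, FreeGroup.lift_apply_of, FreeGroup.lift_apply_of]
    exact cox_rel2 x y
  · have hr' : r ∈ Suz.extra := hr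
    unfold Suz.extra at hr'
    simp only [List.mem_cons, List.not_mem_nil, or_false] at hr'
    rcases hr' with rfl | rfl | rfl | rfl | rfl
    · simp only [map_mul, map_inv, map_pow, FreeGroup.lift_apply_of]
      show gi 0 * ((gi 2 * gi 3) ^ 4)⁻¹ = 1
      rw [← extra1b, mul_inv_cancel]
    · simp only [map_mul, map_inv, map_pow, FreeGroup.lift_apply_of]
      show gi 0 * ((gi 5 * gi 6) ^ 2)⁻¹ = 1
      rw [← extra2b, mul_inv_cancel]
    · simp only [map_mul, map_pow, FreeGroup.lift_apply_of]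
      exact extra3b
    · simp only [map_mul, map_pow, FreeGroup.lift_apply_of]
      exact extra4b
    · simp only [map_mul, map_pow, FreeGroup.lift_apply_of]
      exact extra5b

/-- the second action of the presented group -/
def rho2 : Suz →* Pm := PresentedGroup.toGroup rels_hold2

theorem rho2_of (x : Suz.Gen) : rho2 (PresentedGroup.of x) = gmap2 x :=
  PresentedGroup.toGroup.of _

theorem rho2_mem (h : Suz) : rho2 h ∈ G1782 := by
  have hle : rho2.range ≤ G1782 := by
    rw [MonoidHom.range_eq_map, ← PresentedGroup.closure_range_of, MonoidHom.map_closure,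
      Subgroup.closure_le]
    rintro _ ⟨_, ⟨x, rfl⟩, rfl⟩
    rw [SetLike.mem_coe, rho2_of]
    exact gi_mem _ (gidx_lt x)
  exact hle ⟨h, rfl⟩

/-- the second action, into the group -/
def rho2G : Suz →* ↥G1782 := rho2.codRestrict G1782 rho2_mem

/-! ### The outer automorphism -/

/-- the isomorphism of the presented group with the permutation group -/
noncomputable def suzEquiv : Suz ≃* ↥G1782 :=
  (MonoidHom.ofInjective rho_injective).trans (MulEquiv.subgroupCongr range_rho)

theorem suzEquiv_val (h : Suz) : (suzEquiv h).val = rho h := rfl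

/-- the endomorphism -/
noncomputable def tauHom : ↥G1782 →* ↥G1782 := rho2G.comp suzEquiv.symm.toMonoidHom

/-- the generators in the group -/
def gE (k : ℕ) : ↥G1782 := if h : k < 7 then ⟨gp k, gp_mem k h⟩ else 1

/-- the images of the generators in the group -/
def giE (k : ℕ) : ↥G1782 := if h : k < 7 then ⟨gi k, gi_mem k h⟩ else 1

theorem gE_val (k : ℕ) (hk : k < 7) : (gE k).val = gp k := by
  unfold gE
  rw [dif_pos hk]

theorem giE_val (k : ℕ) (hk : k < 7) : (giE k).val = gi k := by
  unfold giE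
  rw [dif_pos hk]

theorem tauHom_gE (k : ℕ) (hk : k < 7) : tauHom (gE k) = giE k := by
  have hx : ∃ x : Suz.Gen, gidx x = k := by
    interval_cases k
    · exact ⟨.a, rfl⟩
    · exact ⟨.b, rfl⟩
    · exact ⟨.c, rfl⟩
    · exact ⟨.d, rfl⟩
    · exact ⟨.e, rfl⟩
    · exact ⟨.f, rfl⟩
    · exact ⟨.g, rfl⟩
  obtain ⟨x, rfl⟩ := hx
  have e : suzEquiv (PresentedGroup.of x) = gE (gidx x) := by
    apply Subtype.ext
    rw [suzEquiv_val, rho_of, gE_val _ hk]
    rfl
  have e2 : suzEquiv.symm (gE (gidx x)) = PresentedGroup.of x := by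
    rw [← e, MulEquiv.symm_apply_apply]
  show rho2G (suzEquiv.symm (gE (gidx x))) = _
  rw [e2]
  apply Subtype.ext
  rw [giE_val _ hk]
  exact rho2_of x

instance simple_G1782 : IsSimpleGroup ↥G1782 :=
  haveI : IsSimpleGroup Suz := Cfsg.Agent.S1694.result.1
  suzEquiv.symm.isSimpleGroup

theorem gi0_ne_one : gi 0 ≠ 1 := ne_one_of_moved (acts_gi 0 (by norm_num)) pci0_moved

theorem tauHom_injective : Function.Injective tauHom := by
  rw [← MonoidHom.ker_eq_bot_iff]
  rcases (MonoidHom.normal_ker tauHom).eq_bot_or_eq_top with h | h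
  · exact h
  · exfalso
    have hm : gE 0 ∈ tauHom.ker := by rw [h]; exact Subgroup.mem_top _
    rw [MonoidHom.mem_ker, tauHom_gE 0 (by norm_num)] at hm
    have := congrArg Subtype.val hm
    rw [giE_val 0 (by norm_num)] at this
    exact gi0_ne_one this

theorem tauHom_bijective : Function.Bijective tauHom :=
  haveI := finite_G1782
  ⟨tauHom_injective, Finite.injective_iff_surjective.1 tauHom_injective⟩

/-- the outer automorphism -/
noncomputable def tau : MulAut ↥G1782 := MulEquiv.ofBijective tauHom tauHom_bijective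

theorem tau_apply (g : ↥G1782) : tau g = tauHom g := rfl

theorem xE_eq : xE = gE 1 * gE 2 * gE 3 * gE 2 * gE 4 * gE 5 * gE 1 * gE 6 := by
  apply Subtype.ext
  simp only [Subgroup.coe_mul]
  rw [gE_val 1 (by norm_num), gE_val 2 (by norm_num), gE_val 3 (by norm_num),
    gE_val 4 (by norm_num), gE_val 5 (by norm_num), gE_val 6 (by norm_num)]
  show evalW [1, 2, 3, 2, 4, 5, 1, 6] = _
  simp only [evalW, List.map_cons, List.map_nil, List.prod_cons, List.prod_nil, mul_one,
    mul_assoc]

theorem tau_xE : tau xE = xE ^ 2 := by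
  rw [tau_apply, xE_eq]
  simp only [map_mul]
  rw [tauHom_gE 1 (by norm_num), tauHom_gE 2 (by norm_num), tauHom_gE 3 (by norm_num),
    tauHom_gE 4 (by norm_num), tauHom_gE 5 (by norm_num), tauHom_gE 6 (by norm_num), ← xE_eq]
  apply Subtype.ext
  simp only [Subgroup.coe_mul]
  rw [giE_val 1 (by norm_num), giE_val 2 (by norm_num), giE_val 3 (by norm_num),
    giE_val 4 (by norm_num), giE_val 5 (by norm_num), giE_val 6 (by norm_num), Subgroup.coe_pow]
  have e : gi 1 * gi 2 * gi 3 * gi 2 * gi 4 * gi 5 * gi 1 * gi 6 =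
      evalWi [1, 2, 3, 2, 4, 5, 1, 6] := by
    simp only [evalWi, List.map_cons, List.map_nil, List.prod_cons, List.prod_nil, mul_one,
      mul_assoc]
  rw [e]
  apply eq_of_acts _ (acts_xpow 2 (by norm_num))
  intro u
  show ((([1, 2, 3, 2, 4, 5, 1, 6] : List ℕ).map gi).prod u).val = _
  rw [prod_apply_of PCI gi _ (fun l hl => acts_gi l (by
    simp only [List.mem_cons, List.not_mem_nil, or_false] at hl
    omega)) u]
  have h := tau_x_chk
  unfold tauXOK at h
  rw [allBelow_iff] at h
  exact Nat.eq_of_beq_eq_true (h u.val u.2)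

/-! ### The outer automorphism is induced by a permutation outside the group -/

/-- the permutation -/
def piP : Pm := cP 1782 PIC PICI

theorem acts_piP : Acts 1782 piP PIC := acts_cP pi_valid

theorem pi_conj (k : ℕ) (hk : k < 7) : piP * gp k = gi k * piP := by
  apply Equiv.ext
  intro u
  apply Fin.ext
  rw [Equiv.Perm.mul_apply, Equiv.Perm.mul_apply, acts_piP, acts_gp k hk, acts_gi k hk, acts_piP]
  have h := pi_chk0 k hk
  unfold piOK at h
  rw [force_eq, force_eq, allBelow_iff] at h
  exact Nat.eq_of_beq_eq_true (h u.val u.2)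

theorem rho2_eq (h : Suz) : rho2 h = piP * rho h * piP⁻¹ := by
  have key : rho2 = (MulAut.conj piP).toMonoidHom.comp rho := by
    apply PresentedGroup.ext
    intro x
    rw [rho2_of, MonoidHom.comp_apply, rho_of, MulEquiv.coe_toMonoidHom, MulAut.conj_apply]
    unfold gmap2 gmap
    rw [pi_conj _ (gidx_lt x)]
    group
  rw [key, MonoidHom.comp_apply, MulEquiv.coe_toMonoidHom, MulAut.conj_apply]

theorem tau_val (g : ↥G1782) : (tau g).val = piP * g.val * piP⁻¹ := by
  have e : (tau g).val = rho2 (suzEquiv.symm g) := rfl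
  rw [e, rho2_eq, ← suzEquiv_val, MulEquiv.apply_symm_apply]

theorem fix_of_comm (c h : Pm) (p : Fin 1782) (hc : c * h = h * c) (hp : h p = p) :
    h (c p) = c p := by
  have h2 : (c * h) p = (h * c) p := by rw [hc]
  rw [Equiv.Perm.mul_apply, Equiv.Perm.mul_apply, hp] at h2
  exact h2.symm

theorem fix_of_comm_trans (c g : Pm) (p u : Fin 1782) (hc : c * g = g * c) (hg : g p = u)
    (hcp : c p = p) : c u = u := by
  have h2 : (c * g) p = (g * c) p := by rw [hc]
  rw [Equiv.Perm.mul_apply, Equiv.Perm.mul_apply, hg, hcp, hg] at h2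
  exact h2

theorem fix_chk : (∀ k < 6, tg (pc k) 12 0 = 0) ∧
    ∀ p < 1782, (∀ k < 6, tg (pc k) 12 p = p) → p = 0 := by
  have h := fix_chk0
  unfold fixOK at h
  rw [Bool.and_eq_true, allBelow_iff, allBelow_iff] at h
  refine ⟨fun k hk => Nat.eq_of_beq_eq_true (h.1 k hk), ?_⟩
  intro p hp hall
  have h2 := h.2 p hp
  rw [Bool.or_eq_true] at h2
  rcases h2 with h2 | h2
  · exact Nat.eq_of_beq_eq_true h2
  · exfalso
    rw [Bool.not_eq_true'] at h2
    have : (allBelow 6 fun k => Nat.beq (tg (pc k) 12 p) p) = true := by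
      rw [allBelow_iff]
      intro k hk
      rw [hall k hk]
      exact Nat.beq_refl p
    rw [this] at h2
    exact Bool.noConfusion h2

theorem bpt_zero : bpt 0 = 0 := by
  apply Fin.ext
  rw [bpt_val 0 (by norm_num)]
  rfl

/-- a permutation commuting with the whole group is trivial -/
theorem centralizer_trivial (c : Pm) (hc : ∀ h : ↥G1782, c * h.val = h.val * c) : c = 1 := by
  have hcp : c 0 = 0 := by
    apply Fin.ext
    apply fix_chk.2 _ (c 0).2
    intro k hk
    have hk7 : k < 7 := by omega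
    have hfix : gp k 0 = 0 := by
      apply Fin.ext
      rw [acts_gp k hk7]
      exact fix_chk.1 k hk
    have h1 : gp k (c 0) = c 0 := fix_of_comm c (gp k) 0 (hc ⟨gp k, gp_mem k hk7⟩) hfix
    have h2 := acts_gp k hk7 (c 0)
    rw [h1] at h2
    exact h2.symm
  apply Equiv.ext
  intro u
  obtain ⟨hw, hq, _⟩ := tw_spec 0 (by norm_num) u.val u.2
    ((allBelow_iff _ _).1 om0_chk0 u.val u.2)
  have hgu : (evalW2 (TW 0 u.val)) 0 = u := by
    apply Fin.ext
    rw [evalW2_apply _ hw]
    exact hq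
  exact fix_of_comm_trans c (evalW2 (TW 0 u.val)) 0 u
    (hc ⟨evalW2 (TW 0 u.val), evalW2_mem _ hw⟩) hgu hcp

theorem kap_chk : (∀ l ∈ Wk, l < 9) ∧
    (∀ k < 3, tg PIC 12 (appL CL2 Wk (bv k)) = bv k) ∧
      Nat.testBit (OM 3) (tg PIC 12 (appL CL2 Wk (bv 3))) = false := by
  have h := kap_chk0
  unfold kapOK at h
  rw [Bool.and_eq_true, Bool.and_eq_true, Bool.and_eq_true, List.all_eq_true, allBelow_iff,
    Bool.not_eq_true'] at h
  exact ⟨fun l hl => Eq.mp Nat.blt_eq (h.1.1.1 l hl),
    fun k hk => Nat.eq_of_beq_eq_true (h.1.1.2 k hk), h.1.2⟩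

theorem piP_not_mem : piP ∉ G1782 := by
  intro hmem
  obtain ⟨hw, hfix, hout⟩ := kap_chk
  have hk : piP * evalW2 Wk ∈ Hst G1782 bpt 3 := by
    rw [mem_Hst]
    refine ⟨G1782.mul_mem hmem (evalW2_mem _ hw), fun j hj => ?_⟩
    apply Fin.ext
    rw [Equiv.Perm.mul_apply, acts_piP, evalW2_apply _ hw, bpt_val j (by omega)]
    exact hfix j hj
  have ho := Hst3_orbit _ hk
  have ho' : Nat.testBit (OM 3) ((piP * evalW2 Wk) (bpt 3)).val = true :=
    (Finset.mem_filter.1 ho).2
  rw [Equiv.Perm.mul_apply, acts_piP, evalW2_apply _ hw, bpt_val 3 (by norm_num), hout] at ho'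
  exact Bool.noConfusion ho'

theorem tau_not_inner : ¬ ∃ g : ↥G1782, tau = MulAut.conj g := by
  rintro ⟨g, hg⟩
  obtain ⟨c, hcdef⟩ : ∃ c : Pm, c = g.val⁻¹ * piP := ⟨_, rfl⟩
  have hc : ∀ h : ↥G1782, c * h.val = h.val * c := by
    intro h
    have e := congrArg Subtype.val (DFunLike.congr_fun hg h)
    rw [tau_val, MulAut.conj_apply, Subgroup.coe_mul, Subgroup.coe_mul, Subgroup.coe_inv] at e
    have e2 : piP * h.val = g.val * h.val * g.val⁻¹ * piP := by
      rw [← e]
      group
    rw [hcdef]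
    calc g.val⁻¹ * piP * h.val = g.val⁻¹ * (piP * h.val) := by group
      _ = g.val⁻¹ * (g.val * h.val * g.val⁻¹ * piP) := by rw [e2]
      _ = h.val * (g.val⁻¹ * piP) := by group
  have hc1 : c = 1 := centralizer_trivial c hc
  have hpg : piP = g.val := by
    have : g.val * c = piP := by rw [hcdef]; group
    rw [← this, hc1, mul_one]
  apply piP_not_mem
  rw [hpg]
  exact g.2

/-! ### Every automorphism is inner or inner times the outer automorphism -/

theorem tau_conj (a : ↥G1782) : tau * MulAut.conj a * tau⁻¹ = MulAut.conj (tau a) := by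
  apply MulEquiv.ext
  intro y
  simp only [MulAut.mul_apply, MulAut.conj_apply, map_mul, map_inv, MulAut.apply_inv_self]

theorem aut_cases (φ : MulAut ↥G1782) :
    (∃ g : ↥G1782, φ = MulAut.conj g) ∨ ∃ g : ↥G1782, φ * tau⁻¹ = MulAut.conj g := by
  obtain ⟨g1, hx⟩ := stepA φ
  obtain ⟨ψ, hψ⟩ : ∃ ψ : MulAut ↥G1782, ψ = MulAut.conj g1 * φ := ⟨_, rfl⟩
  rw [← hψ] at hx
  have hφ : φ = MulAut.conj g1⁻¹ * ψ := by
    rw [hψ, map_inv]
    group
  rcases hx with hx | hx
  · left
    obtain ⟨j, hj⟩ := inner_of_fix ψ hx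
    exact ⟨g1⁻¹ * xE ^ j, by rw [hφ, hj, map_mul]⟩
  · right
    have hx' : (tau⁻¹ * ψ) xE = xE := by
      rw [MulAut.mul_apply, hx, ← tau_xE, MulAut.inv_apply_self]
    obtain ⟨j, hj⟩ := inner_of_fix _ hx'
    have hψ2 : ψ = tau * MulAut.conj (xE ^ j) := by
      rw [← hj]
      group
    refine ⟨g1⁻¹ * tau (xE ^ j), ?_⟩
    rw [hφ, hψ2, map_mul, ← tau_conj]
    group

theorem card_Out_G1782 : Nat.card (Cfsg.Out ↥G1782) = 2 := by
  apply AutOuter.card_Out_eq_two tau⁻¹
  · rintro ⟨g, hg⟩
    apply tau_not_inner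
    refine ⟨g⁻¹, ?_⟩
    rw [map_inv, ← hg, inv_inv]
  · exact aut_cases

/-! ### Transport to the presented group -/

theorem card_Out_congr_Suz {Γ Δ : Type*} [Group Γ] [Group Δ] (e : Γ ≃* Δ) :
    Nat.card (Cfsg.Out Γ) = Nat.card (Cfsg.Out Δ) := by
  have hmap : (Cfsg.Inn Γ).map (MulAut.congr e).toMonoidHom = Cfsg.Inn Δ := by
    ext ψ
    constructor
    · rintro ⟨φ, ⟨g, rfl⟩, rfl⟩
      refine ⟨e g, ?_⟩
      ext x
      simp [MulAut.congr, MulAut.conj_apply]
    · rintro ⟨d, rfl⟩
      refine ⟨MulAut.conj (e.symm d), ⟨e.symm d, rfl⟩, ?_⟩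
      ext x
      simp [MulAut.congr, MulAut.conj_apply]
  exact Nat.card_congr
    (QuotientGroup.congr (Cfsg.Inn Γ) (Cfsg.Inn Δ) (MulAut.congr e) hmap).toEquiv

/-- **The outer automorphism group of the sporadic Suzuki group has order two.** -/
theorem card_Out_Suz : Nat.card (Cfsg.Out Cfsg.Spor.Suz) = 2 := by
  rw [← card_Out_congr_Suz suzEquiv.symm]
  exact card_Out_G1782

end Cfsg.Agent.Helper29.SuAu
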